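import Mathlib

/-!
# Generic flatness over a Noetherian domain (helper24)

`TorTorsion f M`: for every ideal `I` of `A`, the kernel of `M ⊗ I → M ⊗ A` is `f`-power torsion
(i.e. `Tor₁(A/I, M)` is `f`-power torsion; equivalent to `M_f` being flat).

Main results:
* `TorTorsion.of_exact`, `TorTorsion.of_union`, `TorTorsion.of_dvd`, `TorTorsion.of_linearEquiv`;
* `TorTorsion.of_isLocalizedModule_flat`: if `M_f` is flat then `TorTorsion f M`;
* `TorTorsion.flat_of_isLocalizedModule`: if `TorTorsion f M`, `M` is a `B`-module and `M'` is a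
  localization of `M` at a submonoid of `B` containing `f`, then `M'` is `A`-flat;
* `exists_torTorsion`: **generic flatness** (Matsumura 24.1 / EGA IV 6.9.1): `A` Noetherian domain,
  `B` of finite type, `M` a finite `B`-module: there is `f ≠ 0` with `TorTorsion f M`;
* `exists_flat_localization`: the same, in terms of flatness of localizations.
-/

set_option autoImplicit false
universe u
open TensorProduct

namespace Groth.Agent.H24.GenericFlat

variable {A : Type u} [CommRing A]

/-- `Tor₁(A/I, M)` is `f`-power torsion for all ideals `I`. -/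
def TorTorsion (f : A) (M : Type*) [AddCommGroup M] [Module A M] : Prop :=
  ∀ (I : Ideal A) (z : M ⊗[A] I), LinearMap.lTensor M I.subtype z = 0 → ∃ k : ℕ, f ^ k • z = 0

section basic

variable {f : A} {M M₁ M₂ M₃ : Type*} [AddCommGroup M] [Module A M]
  [AddCommGroup M₁] [Module A M₁] [AddCommGroup M₂] [Module A M₂] [AddCommGroup M₃] [Module A M₃]

theorem TorTorsion.of_dvd {f' : A} (h : TorTorsion f M) (hd : f ∣ f') : TorTorsion f' M := by
  obtain ⟨c, rfl⟩ := hd
  intro I z hz
  obtain ⟨k, hk⟩ := h I z hz
  refine ⟨k, ?_⟩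
  rw [mul_pow, mul_comm, mul_smul, hk, smul_zero]

lemma rTensor_lTensor_comm (I : Ideal A) (g : M₁ →ₗ[A] M₂) (z : M₁ ⊗[A] I) :
    LinearMap.lTensor M₂ I.subtype (LinearMap.rTensor I g z) =
      LinearMap.rTensor A g (LinearMap.lTensor M₁ I.subtype z) := by
  rw [← LinearMap.comp_apply, ← LinearMap.comp_apply, LinearMap.lTensor_comp_rTensor,
    LinearMap.rTensor_comp_lTensor]

lemma rTensor_self_injective {g : M₁ →ₗ[A] M₂} (hg : Function.Injective g) :
    Function.Injective (LinearMap.rTensor A g) :=
  Module.Flat.rTensor_preserves_injective_linearMap g hg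

theorem TorTorsion.of_linearEquiv (h : TorTorsion f M₁) (e : M₂ ≃ₗ[A] M₁) : TorTorsion f M₂ := by
  intro I z hz
  have h1 : LinearMap.lTensor M₁ I.subtype (LinearMap.rTensor I e.toLinearMap z) = 0 := by
    rw [rTensor_lTensor_comm, hz, map_zero]
  obtain ⟨k, hk⟩ := h I _ h1
  refine ⟨k, ?_⟩
  have h2 : LinearMap.rTensor I e.toLinearMap (f ^ k • z) = 0 := by rw [map_smul, hk]
  have hinj : Function.Injective (LinearMap.rTensor I e.toLinearMap) :=
    (LinearEquiv.rTensor I e).injective
  exact hinj (by rw [h2, map_zero])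

/-- Extensions. -/
theorem TorTorsion.of_exact (i : M₁ →ₗ[A] M₂) (p : M₂ →ₗ[A] M₃) (hi : Function.Injective i)
    (hp : Function.Surjective p) (hex : Function.Exact i p)
    (h₁ : TorTorsion f M₁) (h₃ : TorTorsion f M₃) : TorTorsion f M₂ := by
  intro I z hz
  have h1 : LinearMap.lTensor M₃ I.subtype (LinearMap.rTensor I p z) = 0 := by
    rw [rTensor_lTensor_comm, hz, map_zero]
  obtain ⟨k, hk⟩ := h₃ I _ h1
  have h2 : LinearMap.rTensor I p (f ^ k • z) = 0 := by rw [map_smul, hk]
  obtain ⟨z₁, hz₁⟩ := (rTensor_exact I hex hp (f ^ k • z)).mp h2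
  have h3 : LinearMap.lTensor M₁ I.subtype z₁ = 0 := by
    apply rTensor_self_injective hi
    rw [← rTensor_lTensor_comm, hz₁, map_smul, hz, smul_zero, map_zero]
  obtain ⟨l, hl⟩ := h₁ I _ h3
  refine ⟨l + k, ?_⟩
  rw [pow_add, mul_smul, ← hz₁, ← map_smul, hl, map_zero]

/-- Exhaustive increasing unions. -/
theorem TorTorsion.of_union (F : ℕ → Submodule A M) (hF : Monotone F) (hex : ∀ m, ∃ i, m ∈ F i)
    (h : ∀ i, TorTorsion f (F i)) : TorTorsion f M := by
  intro I z hz
  have key : ∀ z : M ⊗[A] I,
      ∃ (i : ℕ) (zi : (F i) ⊗[A] I), LinearMap.rTensor I (F i).subtype zi = z := by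
    intro z
    induction z using TensorProduct.induction_on with
    | zero => exact ⟨0, 0, map_zero _⟩
    | tmul m a =>
      obtain ⟨i, hi⟩ := hex m
      exact ⟨i, (⟨m, hi⟩ : F i) ⊗ₜ a, rfl⟩
    | add x y hx hy =>
      obtain ⟨i, xi, rfl⟩ := hx
      obtain ⟨j, yj, rfl⟩ := hy
      refine ⟨max i j, LinearMap.rTensor I (Submodule.inclusion (hF (le_max_left i j))) xi +
        LinearMap.rTensor I (Submodule.inclusion (hF (le_max_right i j))) yj, ?_⟩
      rw [map_add, ← LinearMap.comp_apply, ← LinearMap.comp_apply, ← LinearMap.rTensor_comp,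
        ← LinearMap.rTensor_comp, Submodule.subtype_comp_inclusion, Submodule.subtype_comp_inclusion]
  obtain ⟨i, zi, rfl⟩ := key z
  have h3 : LinearMap.lTensor (F i) I.subtype zi = 0 := by
    apply rTensor_self_injective (F i).injective_subtype
    rw [← rTensor_lTensor_comm, hz, map_zero]
  obtain ⟨k, hk⟩ := h i I zi h3
  exact ⟨k, by rw [← map_smul, hk, map_zero]⟩

end basic

section loc

variable {f : A} {M M' : Type*} [AddCommGroup M] [Module A M] [AddCommGroup M'] [Module A M']

/-- If `M_f` is flat then `TorTorsion f M`. -/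
theorem TorTorsion.of_isLocalizedModule_flat (g : M →ₗ[A] M')
    [IsLocalizedModule (Submonoid.powers f) g] [Module.Flat A M'] : TorTorsion f M := by
  intro I z hz
  have h1 : LinearMap.lTensor M' I.subtype (LinearMap.rTensor I g z) = 0 := by
    rw [rTensor_lTensor_comm, hz, map_zero]
  have h2 : LinearMap.rTensor I g z = 0 :=
    Module.Flat.lTensor_preserves_injective_linearMap I.subtype I.injective_subtype
      (by rw [h1, map_zero])
  have hloc : IsLocalizedModule (Submonoid.powers f) (AlgebraTensorModule.rTensor A I g) :=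
    inferInstance
  have h3 : AlgebraTensorModule.rTensor A I g z = AlgebraTensorModule.rTensor A I g 0 := by
    rw [map_zero]
    exact h2
  obtain ⟨⟨c, k, rfl⟩, hc⟩ := hloc.exists_of_eq h3
  refine ⟨k, ?_⟩
  rw [Submonoid.smul_def, Submonoid.smul_def, smul_zero] at hc
  exact hc

variable {B : Type*} [CommRing B] [Algebra A B] [Module B M] [IsScalarTower A B M]
  [Module B M'] [IsScalarTower A B M']

/-- If `TorTorsion f M`, then every localization of the `B`-module `M` at a submonoid of `B`
containing `f` is flat over `A`. -/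
theorem TorTorsion.flat_of_isLocalizedModule (h : TorTorsion f M) (S : Submonoid B)
    (hfS : algebraMap A B f ∈ S) (g : M →ₗ[B] M') [IsLocalizedModule S g] : Module.Flat A M' := by
  rw [Module.Flat.iff_lTensor_injective']
  intro I
  rw [injective_iff_map_eq_zero]
  intro z hz
  have hlocI : IsLocalizedModule S (AlgebraTensorModule.rTensor A I g) := inferInstance
  have hlocA : IsLocalizedModule S (AlgebraTensorModule.rTensor A A g) := inferInstance
  have hB' : ∀ (b : B) (y : M' ⊗[A] I), LinearMap.lTensor M' I.subtype (b • y) =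
      b • LinearMap.lTensor M' I.subtype y :=
    fun b y => (AlgebraTensorModule.lTensor B M' I.subtype).map_smul b y
  have hB : ∀ (b : B) (y : M ⊗[A] I), LinearMap.lTensor M I.subtype (b • y) =
      b • LinearMap.lTensor M I.subtype y :=
    fun b y => (AlgebraTensorModule.lTensor B M I.subtype).map_smul b y
  obtain ⟨⟨w, s⟩, hw⟩ := hlocI.surj z
  have hw' : (s : B) • z = AlgebraTensorModule.rTensor A I g w := hw
  have hcomm : ∀ y : M ⊗[A] I,
      LinearMap.lTensor M' I.subtype (AlgebraTensorModule.rTensor A I g y) =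
        AlgebraTensorModule.rTensor A A g (LinearMap.lTensor M I.subtype y) :=
    fun y => rTensor_lTensor_comm I (g.restrictScalars A) y
  have h1 : AlgebraTensorModule.rTensor A A g (LinearMap.lTensor M I.subtype w) =
      AlgebraTensorModule.rTensor A A g 0 := by
    rw [map_zero, ← hcomm, ← hw', hB', hz, smul_zero]
  obtain ⟨t, ht⟩ := hlocA.exists_of_eq h1
  rw [smul_zero, Submonoid.smul_def, ← hB] at ht
  obtain ⟨k, hk⟩ := h I _ ht
  have h2 : (algebraMap A B f ^ k * t * s : B) • z = 0 := by
    rw [mul_smul, hw', ← map_smul, mul_smul, ← map_pow, algebraMap_smul, hk, map_zero]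
  have hmem : algebraMap A B f ^ k * t * s ∈ S :=
    S.mul_mem (S.mul_mem (S.pow_mem hfS k) t.2) s.2
  have := IsLocalizedModule.smul_injective (AlgebraTensorModule.rTensor A I g) ⟨_, hmem⟩
  apply this
  change (algebraMap A B f ^ k * t * s : B) • z = (algebraMap A B f ^ k * t * s : B) • 0
  rw [h2, smul_zero]

end loc

section main

variable (A)

/-- Property: every finite `B`-module is generically `A`-flat. -/
def GenFlat (B : Type u) [CommRing B] [Algebra A B] : Prop :=
  ∀ (M : Type u) [AddCommGroup M] [Module A M] [Module B M] [IsScalarTower A B M]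
    [Module.Finite B M], ∃ f : A, f ≠ 0 ∧ TorTorsion f M

/-- Base case: finite modules over a Noetherian domain are generically free. -/
theorem exists_torTorsion_self [IsDomain A] [IsNoetherianRing A] (M : Type u) [AddCommGroup M]
    [Module A M] [Module.Finite A M] : ∃ f : A, f ≠ 0 ∧ TorTorsion f M := by
  have : Module.FinitePresentation A M := Module.finitePresentation_of_finite A M
  obtain ⟨r, hr, hfree, _⟩ := Module.FinitePresentation.exists_free_localizedModule_powers
    (nonZeroDivisors A) (LocalizedModule.mkLinearMap (nonZeroDivisors A) M) (FractionRing A)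
  refine ⟨r, nonZeroDivisors.ne_zero hr, ?_⟩
  have : Module.Free (Localization.Away r) (LocalizedModule (Submonoid.powers r) M) := hfree
  have : Module.Flat A (LocalizedModule (Submonoid.powers r) M) :=
    Module.Flat.trans A (Localization.Away r) _
  exact TorTorsion.of_isLocalizedModule_flat (LocalizedModule.mkLinearMap (Submonoid.powers r) M)

theorem genFlat_self [IsDomain A] [IsNoetherianRing A] : GenFlat A A := by
  intro M _ mA mB hT hfin
  have : mA = mB := Module.ext' _ _ (fun a m => by
    have := hT.smul_assoc a (1 : A) m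
    rw [one_smul] at this
    rw [← this, smul_eq_mul, mul_one])
  subst this
  exact exists_torTorsion_self A M

variable {A}

/-- Transfer along surjective algebra homomorphisms. -/
theorem GenFlat.of_surjective {B B' : Type u} [CommRing B] [CommRing B'] [Algebra A B]
    [Algebra A B'] (φ : B →ₐ[A] B') (hφ : Function.Surjective φ) (h : GenFlat A B) :
    GenFlat A B' := by
  intro M _ _ _ _ _
  let _ : Algebra B B' := φ.toRingHom.toAlgebra
  let _ : Module B M := Module.compHom M (algebraMap B B')
  have : IsScalarTower B B' M := ⟨fun x y z => by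
    change (algebraMap B B' x * y) • z = algebraMap B B' x • (y • z)
    rw [mul_smul]⟩
  have : IsScalarTower A B M := ⟨fun a x m => by
    change φ (a • x) • m = a • (φ x • m)
    rw [map_smul, smul_assoc]⟩
  have : Module.Finite B B' := Module.Finite.of_surjective (Algebra.linearMap B B') hφ
  have : Module.Finite B M := Module.Finite.trans B' M
  exact h M

end main

section step

variable {B' B : Type u} [CommRing B'] [CommRing B] [Algebra A B'] [Algebra A B] [Algebra B' B]
  [IsScalarTower A B' B]

/-- Matsumura's induction step: adjoining one element. -/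
theorem GenFlat.adjoin_singleton [IsDomain A] [IsNoetherianRing B'] (b : B)
    (hb : Algebra.adjoin B' {b} = ⊤) (hP : GenFlat A B') : GenFlat A B := by
  classical
  intro M _ _ _ _ _
  let _ : Module B' M := Module.compHom M (algebraMap B' B)
  have hT1 : IsScalarTower B' B M := ⟨fun x y z => by
    change (x • y) • z = algebraMap B' B x • (y • z)
    rw [Algebra.smul_def, mul_smul]⟩
  have hT2 : IsScalarTower A B' M := ⟨fun a x m => by
    change algebraMap B' B (a • x) • m = a • (algebraMap B' B x • m)
    rw [Algebra.algebraMap_eq_smul_one, smul_assoc a x (1 : B), ← Algebra.algebraMap_eq_smul_one,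
      smul_assoc]⟩
  obtain ⟨s, hs⟩ := (Module.Finite.fg_top : (⊤ : Submodule B M).FG)
  let M' : Submodule B' M := Submodule.span B' (s : Set M)
  let ℓ : M →ₗ[B'] M := DistribSMul.toLinearMap B' M b
  let F : ℕ → Submodule B' M := fun i => Nat.rec (motive := fun _ => Submodule B' M) M'
    (fun j Fj => Fj ⊔ M'.map (ℓ ^ (j + 1))) i
  have hF0 : F 0 = M' := rfl
  have hFs : ∀ i, F (i + 1) = F i ⊔ M'.map (ℓ ^ (i + 1)) := fun i => rfl
  clear_value F
  have hmono : Monotone F := monotone_nat_of_le_succ (fun i => by rw [hFs]; exact le_sup_left)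
  have hℓ : ∀ i, (F i).map ℓ ≤ F (i + 1) := by
    intro i
    induction i with
    | zero =>
      rw [hFs, hF0, zero_add, pow_one]
      exact le_sup_right
    | succ i ih =>
      rw [hFs (i + 1), hFs i, Submodule.map_sup]
      refine sup_le_sup (by rw [← hFs]; exact ih) ?_
      rw [← Submodule.map_comp, pow_succ' ℓ (i + 1)]
      rfl
  have hmemF : ∀ i (m : M'), (ℓ ^ (i + 1)) (m : M) ∈ F (i + 1) := by
    intro i m
    rw [hFs]
    exact Submodule.mem_sup_right (Submodule.mem_map_of_mem m.2)
  let π : ∀ i, M' →ₗ[B'] (F (i + 1) ⧸ (F i).comap (F (i + 1)).subtype) := fun i =>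
    (Submodule.mkQ _) ∘ₗ LinearMap.codRestrict (F (i + 1)) ((ℓ ^ (i + 1)) ∘ₗ M'.subtype)
      (fun m => hmemF i m)
  have hπsurj : ∀ i, Function.Surjective (π i) := by
    intro i x
    obtain ⟨⟨y, hy⟩, rfl⟩ := Submodule.mkQ_surjective _ x
    have hy' := hy
    rw [hFs, Submodule.mem_sup] at hy'
    obtain ⟨y₁, hy₁, y₂, hy₂, hsum⟩ := hy'
    obtain ⟨m, hm, rfl⟩ := hy₂
    refine ⟨⟨m, hm⟩, ?_⟩
    change Submodule.Quotient.mk _ = Submodule.Quotient.mk _
    rw [Submodule.Quotient.eq, Submodule.mem_comap]
    change (ℓ ^ (i + 1)) m - y ∈ F i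
    rw [← hsum]
    simpa using (F i).neg_mem hy₁
  let N : ℕ → Submodule B' M' := fun i => LinearMap.ker (π i)
  have hNmem : ∀ i (m : M'), m ∈ N i ↔ (ℓ ^ (i + 1)) (m : M) ∈ F i := by
    intro i m
    change π i m = 0 ↔ _
    change Submodule.Quotient.mk _ = 0 ↔ _
    rw [Submodule.Quotient.mk_eq_zero, Submodule.mem_comap]
    rfl
  have hNmono : Monotone N := monotone_nat_of_le_succ (fun i m hm => by
    rw [hNmem] at hm ⊢
    have : (ℓ ^ (i + 1 + 1)) (m : M) = ℓ ((ℓ ^ (i + 1)) (m : M)) := by
      rw [pow_succ' ℓ (i + 1)]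
      rfl
    rw [this]
    exact hℓ i (Submodule.mem_map_of_mem hm))
  have hnoeth : IsNoetherian B' M' := isNoetherian_span_of_finite B' s.finite_toSet
  obtain ⟨n₀, hn₀⟩ := monotone_stabilizes_iff_noetherian.mpr hnoeth ⟨N, hNmono⟩
  have hfinM' : Module.Finite B' M' := Module.Finite.span_of_finite B' s.finite_toSet
  obtain ⟨f', hf', hT'⟩ := hP M'
  have hch : ∀ k, ∃ fk : A, fk ≠ 0 ∧ TorTorsion fk (M' ⧸ N k) := fun k => hP (M' ⧸ N k)
  choose fk hfk hTk using hch
  have hfne : f' * ∏ k ∈ Finset.range (n₀ + 1), fk k ≠ 0 :=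
    mul_ne_zero hf' (Finset.prod_ne_zero_iff.mpr fun k _ => hfk k)
  generalize hf : f' * ∏ k ∈ Finset.range (n₀ + 1), fk k = f at hfne
  refine ⟨f, hfne, ?_⟩
  have hTq : ∀ k, TorTorsion f (M' ⧸ N k) := by
    intro k
    by_cases hk : k ≤ n₀
    · refine (hTk k).of_dvd ?_
      rw [← hf]
      exact Dvd.dvd.mul_left
        (Finset.dvd_prod_of_mem fk (Finset.mem_range.mpr (Nat.lt_succ_of_le hk))) f'
    · have h1 : N n₀ = N k := hn₀ k (le_of_not_ge hk)
      have h2 : TorTorsion f (M' ⧸ N n₀) := by
        refine (hTk n₀).of_dvd ?_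
        rw [← hf]
        exact Dvd.dvd.mul_left
          (Finset.dvd_prod_of_mem fk (Finset.mem_range.mpr (Nat.lt_succ_self n₀))) f'
      rw [h1] at h2
      exact h2
  have hTF : ∀ i, TorTorsion f (F i) := by
    intro i
    induction i with
    | zero =>
      rw [hF0]
      refine hT'.of_dvd ?_
      rw [← hf]
      exact dvd_mul_right _ _
    | succ i ih =>
      have hle : F i ≤ F (i + 1) := hmono (Nat.le_succ i)
      let ι : ↥(F i) →ₗ[A] ↥(F (i + 1)) := (Submodule.inclusion hle).restrictScalars A
      let q : ↥(F (i + 1)) →ₗ[A] (↥(F (i + 1)) ⧸ (F i).comap (F (i + 1)).subtype) :=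
        ((F i).comap (F (i + 1)).subtype).mkQ.restrictScalars A
      have hι : Function.Injective ι := Submodule.inclusion_injective hle
      have hq : Function.Surjective q :=
        Submodule.mkQ_surjective ((F i).comap (F (i + 1)).subtype)
      have hex : Function.Exact ι q := by
        change Function.Exact (Submodule.inclusion hle) ((F i).comap (F (i + 1)).subtype).mkQ
        rw [LinearMap.exact_iff, Submodule.ker_mkQ, Submodule.range_inclusion]
      let e : (↥(F (i + 1)) ⧸ (F i).comap (F (i + 1)).subtype) ≃ₗ[A] (↥M' ⧸ N i) :=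
        ((π i).quotKerEquivOfSurjective (hπsurj i)).symm.restrictScalars A
      have h3 : TorTorsion f (↥(F (i + 1)) ⧸ (F i).comap (F (i + 1)).subtype) :=
        (hTq i).of_linearEquiv e
      exact TorTorsion.of_exact ι q hι hq hex ih h3
  have hex : ∀ m : M, ∃ i, m ∈ F i := by
    have hsm : ∀ (x : B) (m : M), (∃ i, m ∈ F i) → ∃ i, x • m ∈ F i := by
      intro x
      have hx : x ∈ Algebra.adjoin B' {b} := by rw [hb]; trivial
      induction hx using Algebra.adjoin_induction with
      | mem x hx =>
        rintro m ⟨i, hi⟩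
        rw [Set.mem_singleton_iff] at hx
        subst hx
        exact ⟨i + 1, hℓ i (Submodule.mem_map_of_mem hi)⟩
      | algebraMap c =>
        rintro m ⟨i, hi⟩
        exact ⟨i, by rw [algebraMap_smul]; exact (F i).smul_mem c hi⟩
      | add x y _ _ hx hy =>
        intro m hm
        obtain ⟨i, hi⟩ := hx m hm
        obtain ⟨j, hj⟩ := hy m hm
        exact ⟨max i j, by
          rw [add_smul]
          exact (F _).add_mem (hmono (le_max_left i j) hi) (hmono (le_max_right i j) hj)⟩
      | mul x y _ _ hx hy =>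
        intro m hm
        rw [mul_smul]
        exact hx _ (hy m hm)
    intro m
    have hm : m ∈ Submodule.span B (s : Set M) := by rw [hs]; trivial
    induction hm using Submodule.span_induction with
    | mem x hx => exact ⟨0, by rw [hF0]; exact Submodule.subset_span hx⟩
    | zero => exact ⟨0, (F 0).zero_mem⟩
    | add x y _ _ hx hy =>
      obtain ⟨i, hi⟩ := hx
      obtain ⟨j, hj⟩ := hy
      exact ⟨max i j, (F _).add_mem (hmono (le_max_left i j) hi) (hmono (le_max_right i j) hj)⟩
    | smul a x _ hx => exact hsm a x hx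
  exact TorTorsion.of_union (fun i => (F i).restrictScalars A) (fun i j hij => hmono hij) hex hTF

end step

section final

variable (A)

theorem genFlat_mvPolynomial [IsDomain A] [IsNoetherianRing A] (n : ℕ) :
    GenFlat A (MvPolynomial (Fin n) A) := by
  induction n with
  | zero =>
    exact (genFlat_self A).of_surjective (MvPolynomial.isEmptyAlgEquiv A (Fin 0)).symm.toAlgHom
      (MvPolynomial.isEmptyAlgEquiv A (Fin 0)).symm.surjective
  | succ n ih =>
    have h1 : GenFlat A (Polynomial (MvPolynomial (Fin n) A)) :=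
      ih.adjoin_singleton Polynomial.X Polynomial.adjoin_X
    exact h1.of_surjective (MvPolynomial.finSuccEquiv A n).symm.toAlgHom
      (MvPolynomial.finSuccEquiv A n).symm.surjective

/-- **Generic flatness** over a Noetherian domain. -/
theorem exists_torTorsion [IsDomain A] [IsNoetherianRing A] (B : Type u) [CommRing B] [Algebra A B]
    [Algebra.FiniteType A B] : GenFlat A B := by
  obtain ⟨n, φ, hφ⟩ := Algebra.FiniteType.iff_quotient_mvPolynomial''.mp
    (inferInstance : Algebra.FiniteType A B)
  exact (genFlat_mvPolynomial A n).of_surjective φ hφ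

/-- **Generic flatness**, in terms of localizations: `A` a Noetherian domain, `B` an `A`-algebra of
finite type, `M` a finite `B`-module.  There is `f ≠ 0` in `A` such that every localization of `M`
at a submonoid of `B` containing (the image of) `f` is flat over `A`. -/
theorem exists_flat_localization [IsDomain A] [IsNoetherianRing A] (B M : Type u) [CommRing B]
    [Algebra A B] [Algebra.FiniteType A B] [AddCommGroup M] [Module A M] [Module B M]
    [IsScalarTower A B M] [Module.Finite B M] :
    ∃ f : A, f ≠ 0 ∧ ∀ (S : Submonoid B), algebraMap A B f ∈ S →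
      ∀ (M' : Type u) [AddCommGroup M'] [Module A M'] [Module B M'] [IsScalarTower A B M']
        (g : M →ₗ[B] M') [IsLocalizedModule S g], Module.Flat A M' := by
  obtain ⟨f, hf, hT⟩ := exists_torTorsion A B M
  exact ⟨f, hf, fun S hfS M' _ _ _ _ g _ => hT.flat_of_isLocalizedModule S hfS g⟩

end final

end Groth.Agent.H24.GenericFlat
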