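import Mathlib

/-!
# Descending a finite presentation along a ring map

If the relations of a finite presentation of an `S`-module `M` have coefficients in the image of
`R → S`, then `M ≃ S ⊗[R] Mi` for a finitely presented `R`-module `Mi`.
-/

set_option autoImplicit false
open TensorProduct

namespace Groth.Agent.H24

theorem exists_equiv_tensor_of_lift {R S : Type*} [CommRing R] [CommRing S] [Algebra R S]
    {M : Type*} [AddCommGroup M] [Module S M] {n : ℕ} (K : Submodule S (Fin n → S))
    (e : M ≃ₗ[S] (Fin n → S) ⧸ K) (s : Finset (Fin n → S)) (hs : Submodule.span S (s : Set _) = K)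
    (ρ : s → Fin n → R) (hρ : ∀ r a, algebraMap R S (ρ r a) = r.1 a) :
    Module.FinitePresentation R
        ((Fin n → R) ⧸ LinearMap.range (Fintype.linearCombination R ρ)) ∧
      Nonempty (M ≃ₗ[S]
        S ⊗[R] ((Fin n → R) ⧸ LinearMap.range (Fintype.linearCombination R ρ))) := by
  classical
  let _ : Module R M := Module.compHom M (algebraMap R S)
  have : IsScalarTower R S M := IsScalarTower.of_algebraMap_smul fun r x => rfl
  let f : (s → R) →ₗ[R] (Fin n → R) := Fintype.linearCombination R ρ
  let g : (Fin n → R) →ₗ[R] (Fin n → R) ⧸ LinearMap.range f := (LinearMap.range f).mkQ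
  let f' : (s → S) →ₗ[S] (Fin n → S) := Fintype.linearCombination S fun r : s => r.1
  let g' : (Fin n → S) →ₗ[S] M := e.symm.toLinearMap ∘ₗ K.mkQ
  let h₁ : (s → R) →ₗ[R] (s → S) := (Algebra.linearMap R S).compLeft s
  let h₂ : (Fin n → R) →ₗ[R] (Fin n → S) := (Algebra.linearMap R S).compLeft (Fin n)
  have hf'range : LinearMap.range f' = K := by
    rw [Fintype.range_linearCombination, ← hs]
    congr 1
    ext x
    simp
  have exact₂ : Function.Exact f' g' := by
    rw [LinearMap.exact_iff]
    rw [hf'range, LinearMap.ker_comp]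
    simp
  have surj₂ : Function.Surjective g' := e.symm.surjective.comp K.mkQ_surjective
  have exact₁ : Function.Exact f g := LinearMap.exact_map_mkQ_range f
  have surj₁ : Function.Surjective g := Submodule.mkQ_surjective _
  have comm₁ : h₂.comp f = (f'.restrictScalars R).comp h₁ := by
    apply LinearMap.ext
    intro x
    ext a
    simp only [LinearMap.coe_comp, Function.comp_apply, LinearMap.coe_restrictScalars, f, f', h₁, h₂,
      Fintype.linearCombination_apply, LinearMap.compLeft_apply, Finset.sum_apply, Pi.smul_apply,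
      smul_eq_mul, Algebra.linearMap_apply, map_sum, map_mul, hρ]
  have hker : LinearMap.range f ≤ LinearMap.ker ((g'.restrictScalars R).comp h₂) := by
    rintro _ ⟨x, rfl⟩
    have := LinearMap.congr_fun comm₁ x
    simp only [LinearMap.coe_comp, Function.comp_apply] at this
    simp only [LinearMap.mem_ker, LinearMap.coe_comp, Function.comp_apply, this,
      LinearMap.coe_restrictScalars]
    exact exact₂.apply_apply_eq_zero _
  let h₃ : (Fin n → R) ⧸ LinearMap.range f →ₗ[R] M :=
    (LinearMap.range f).liftQ ((g'.restrictScalars R).comp h₂) hker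
  have comm₂ : h₃.comp g = (g'.restrictScalars R).comp h₂ := Submodule.liftQ_mkQ _ _ _
  have isb₁ : IsBaseChange S h₁ := IsBaseChange.finitePow s (IsBaseChange.linearMap R S)
  have isb₂ : IsBaseChange S h₂ := IsBaseChange.finitePow (Fin n) (IsBaseChange.linearMap R S)
  have isb₃ : IsBaseChange S h₃ :=
    IsBaseChange.of_right_exact S h₁ h₂ h₃ comm₁ comm₂ isb₁ isb₂ exact₁ surj₁ exact₂ surj₂
  refine ⟨?_, ⟨isb₃.equiv.symm⟩⟩
  refine Module.finitePresentation_of_free_of_surjective g surj₁ ?_
  rw [Submodule.ker_mkQ]
  exact Module.Finite.iff_fg.mp (inferInstance : Module.Finite R (LinearMap.range f))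

end Groth.Agent.H24
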