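import Mathlib.Order.KrullDimension
import Mathlib.Order.RelSeries
import Mathlib.Order.OrderIsoNat
import Mathlib.RingTheory.Ideal.KrullsHeightTheorem
import Mathlib.RingTheory.KrullDimension.NonZeroDivisors

set_option autoImplicit false

namespace Groth.Agent.H24

section Poset

variable {α : Type*} [PartialOrder α]

/-- Series all of whose steps are covering relations ("saturated chains"). -/
abbrev SatSeries (α : Type*) [PartialOrder α] := RelSeries {(a, b) : α × α | a ⋖ b}

/-- A saturated series as a strictly increasing series. -/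
def SatSeries.toLT (t : SatSeries α) : LTSeries α :=
  { length := t.length
    toFun := t
    step := fun i => (t.step i).lt }

@[simp] theorem SatSeries.toLT_length (t : SatSeries α) : t.toLT.length = t.length := rfl
@[simp] theorem SatSeries.toLT_head (t : SatSeries α) : t.toLT.head = t.head := rfl
@[simp] theorem SatSeries.toLT_last (t : SatSeries α) : t.toLT.last = t.last := rfl

theorem SatSeries.toLT_covBy (t : SatSeries α) (i : Fin t.toLT.length) :
    t.toLT i.castSucc ⋖ t.toLT i.succ := t.step i

/-- The catenary condition on a partial order, as it appears in `CAlg.IsCatenary`. -/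
def CatenaryCond (α : Type*) [PartialOrder α] : Prop :=
  ∀ s t : LTSeries α, s.head = t.head → s.last = t.last →
    (∀ i : Fin s.length, s (Fin.castSucc i) ⋖ s (Fin.succ i)) →
    (∀ i : Fin t.length, t (Fin.castSucc i) ⋖ t (Fin.succ i)) →
    s.length = t.length

theorem CatenaryCond.length_eq (h : CatenaryCond α) (s t : SatSeries α) (hh : s.head = t.head)
    (hl : s.last = t.last) : s.length = t.length :=
  h s.toLT t.toLT hh hl s.toLT_covBy t.toLT_covBy

variable [WellFoundedLT α] [WellFoundedGT α]

theorem exists_satSeries_of_le {x y : α} (h : x ≤ y) :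
    ∃ t : SatSeries α, t.head = x ∧ t.last = y := by
  obtain ⟨a, h0, n, hn, hcov⟩ := exists_covBy_seq_of_wellFoundedLT_wellFoundedGT_of_le h
  refine ⟨⟨n, fun i => a i, fun i => ?_⟩, h0, hn⟩
  exact hcov i i.2

theorem exists_satSeries_refine (s : LTSeries α) :
    ∃ t : SatSeries α, t.head = s.head ∧ t.last = s.last ∧ s.length ≤ t.length := by
  obtain ⟨t, i, hti, hi0, hil⟩ := s.exists_relSeries_covBy
  refine ⟨t, ?_, ?_, ?_⟩
  · have := congrFun hti 0
    simp only [Function.comp_apply, hi0] at this
    exact this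
  · have := congrFun hti (Fin.last _)
    simp only [Function.comp_apply, hil] at this
    exact this
  · have := Fintype.card_le_of_embedding i
    simpa using this

/-- In a catenary order with a greatest element `m`, the coheight of the head of a saturated chain
ending at `m` is at most the length of the chain. -/
theorem coheight_head_le_length_of_catenaryCond (hc : CatenaryCond α) (m : α) (hm : ∀ a, a ≤ m)
    (t : SatSeries α) (ht : t.last = m) : Order.coheight t.head ≤ t.length := by
  rw [Order.coheight_le_iff']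
  intro s hs
  have key : ∀ s' : LTSeries α, s'.head = t.head → s'.last = m → s'.length ≤ t.length := by
    intro s' hs' hs'l
    obtain ⟨t', ht'h, ht'l, hlen⟩ := exists_satSeries_refine s'
    have := hc.length_eq t' t (ht'h.trans hs') (ht'l.trans (hs'l.trans ht.symm))
    omega
  by_cases hsl : s.last = m
  · exact_mod_cast key s hs hsl
  · have hlt : s.last < m := lt_of_le_of_ne (hm _) hsl
    have := key (s.snoc m hlt) (by simpa using hs) (by simp)
    simp only [RelSeries.snoc_length] at this
    exact_mod_cast (Nat.le_succ _).trans this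

end Poset

section Ring

variable {A : Type*} [CommRing A]

theorem wellFoundedGT_primeSpectrum [IsNoetherianRing A] : WellFoundedGT (PrimeSpectrum A) :=
  StrictMono.wellFoundedGT (f := PrimeSpectrum.asIdeal) (fun _ _ h => h)

theorem wellFoundedLT_primeSpectrum [IsNoetherianRing A] : WellFoundedLT (PrimeSpectrum A) := by
  refine StrictMono.wellFoundedLT (f := fun p : PrimeSpectrum A => Order.height p) ?_
  intro a b h
  refine Order.height_strictMono h ?_
  rw [← PrimeSpectrum.height_eq_orderHeight]
  exact Ideal.height_lt_top_of_isPrime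

theorem comap_map_mk_of_le {I c : Ideal A} (h : I ≤ c) :
    (c.map (Ideal.Quotient.mk I)).comap (Ideal.Quotient.mk I) = c := by
  rw [Ideal.comap_map_of_surjective _ Ideal.Quotient.mk_surjective,
    ← RingHom.ker_eq_comap_bot, Ideal.mk_ker, sup_eq_left.mpr h]

theorem map_mk_isPrime_of_le {I c : Ideal A} [c.IsPrime] (h : I ≤ c) :
    (c.map (Ideal.Quotient.mk I)).IsPrime :=
  Ideal.map_isPrime_of_surjective Ideal.Quotient.mk_surjective (by rwa [Ideal.mk_ker])

theorem covBy_of_mem_minimalPrimes_sup_span [IsNoetherianRing A] {p : PrimeSpectrum A} {t : A}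
    (ht : t ∉ p.asIdeal) {q : Ideal A} (hq : q ∈ (p.asIdeal ⊔ Ideal.span {t}).minimalPrimes) :
    p ⋖ (⟨q, hq.1.1⟩ : PrimeSpectrum A) := by
  have hpq : p.asIdeal ≤ q := le_sup_left.trans hq.1.2
  have htq : t ∈ q := hq.1.2 (Ideal.mem_sup_right (Ideal.mem_span_singleton_self t))
  have hqprime : q.IsPrime := hq.1.1
  refine ⟨lt_of_le_of_ne hpq (fun h => ht ?_), fun c hpc hcq => ?_⟩
  · have : p.asIdeal = q := congrArg PrimeSpectrum.asIdeal h
    rw [this]; exact htq
  have h1 : (q.map (Ideal.Quotient.mk p.asIdeal)).height ≤ 1 :=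
    Ideal.map_height_le_one_of_mem_minimalPrimes hq
  have : (q.map (Ideal.Quotient.mk p.asIdeal)).IsPrime := map_mk_isPrime_of_le hpq
  have hpc' : p.asIdeal ≤ c.asIdeal := hpc.le
  have hcprime : (c.asIdeal.map (Ideal.Quotient.mk p.asIdeal)).IsPrime := map_mk_isPrime_of_le hpc'
  have hlt : c.asIdeal.map (Ideal.Quotient.mk p.asIdeal) < q.map (Ideal.Quotient.mk p.asIdeal) := by
    refine lt_of_le_of_ne (Ideal.map_mono hcq.le) fun heq => ?_
    have := congrArg (Ideal.comap (Ideal.Quotient.mk p.asIdeal)) heq
    rw [comap_map_mk_of_le hpc', comap_map_mk_of_le hpq] at this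
    exact hcq.ne (PrimeSpectrum.ext this)
  rw [show (1 : ℕ∞) = ((1 : ℕ) : ℕ∞) from rfl, Ideal.height_le_iff] at h1
  have h2 := h1 _ hcprime hlt
  have h3 : (c.asIdeal.map (Ideal.Quotient.mk p.asIdeal)).height = 0 := by
    simpa using h2
  rw [Ideal.height_eq_zero_iff_eq_bot] at h3
  have h4 : c.asIdeal ≤ p.asIdeal := by
    have := congrArg (Ideal.comap (Ideal.Quotient.mk p.asIdeal)) h3
    rw [comap_map_mk_of_le hpc', ← RingHom.ker_eq_comap_bot, Ideal.mk_ker] at this
    exact this.le
  exact absurd hpc (not_lt_of_ge h4)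

end Ring

section Ring2

variable {A : Type*} [CommRing A]

theorem coheight_eq_ringKrullDim_quotient (P : PrimeSpectrum A) :
    ((Order.coheight P : ℕ∞) : WithBot ℕ∞) = ringKrullDim (A ⧸ P.asIdeal) := by
  rw [ringKrullDim_quotient, Order.coheight_eq_krullDim_Ici]
  have : PrimeSpectrum.zeroLocus (P.asIdeal : Set A) = Set.Ici P := by
    ext x
    simp only [PrimeSpectrum.mem_zeroLocus, SetLike.coe_subset_coe, Set.mem_Ici]
    rfl
  rw [this]

theorem ringKrullDim_le_height_add_coheight_of_covBy [IsNoetherianRing A] [IsLocalRing A]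
    (hE : ∀ P ∈ minimalPrimes A, ringKrullDim (A ⧸ P) = ringKrullDim A)
    (hC : CatenaryCond (PrimeSpectrum A)) {p q : PrimeSpectrum A} (hpq : p ⋖ q) :
    ringKrullDim A ≤ ((p.asIdeal.height + 1 + Order.coheight q : ℕ∞) : WithBot ℕ∞) := by
  have := wellFoundedGT_primeSpectrum (A := A)
  have := wellFoundedLT_primeSpectrum (A := A)
  obtain ⟨P0, hP0, hP0p⟩ := Ideal.exists_minimalPrimes_le (bot_le : (⊥ : Ideal A) ≤ p.asIdeal)
  let P0' : PrimeSpectrum A := ⟨P0, hP0.1.1⟩
  have hP0p' : P0' ≤ p := hP0p
  obtain ⟨t1, ht1h, ht1l⟩ := exists_satSeries_of_le hP0p'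
  have hqm : q ≤ IsLocalRing.closedPoint A := IsLocalRing.le_maximalIdeal q.2.ne_top
  obtain ⟨t2, ht2h, ht2l⟩ := exists_satSeries_of_le hqm
  let T : SatSeries (PrimeSpectrum A) :=
    (t1.snoc q (by rw [ht1l]; exact hpq)).smash t2 (by rw [RelSeries.last_snoc, ht2h])
  have hTh : T.head = P0' := by
    simp only [T, RelSeries.head_smash, RelSeries.head_snoc, ht1h]
  have hTl : T.last = IsLocalRing.closedPoint A := by
    simp only [T, RelSeries.last_smash, ht2l]
  have hTlen : T.length = t1.length + 1 + t2.length := by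
    simp only [T, RelSeries.smash_length, RelSeries.snoc_length]
  have h1 := coheight_head_le_length_of_catenaryCond hC (IsLocalRing.closedPoint A)
    (fun a => IsLocalRing.le_maximalIdeal a.2.ne_top) T hTl
  rw [hTh, hTlen] at h1
  have h2 : (t1.length : ℕ∞) ≤ p.asIdeal.height := by
    rw [PrimeSpectrum.height_eq_orderHeight]
    have := Order.length_le_height_last (p := t1.toLT)
    rwa [SatSeries.toLT_last, ht1l] at this
  have h3 : (t2.length : ℕ∞) ≤ Order.coheight q := by
    have := Order.length_le_coheight_head (p := t2.toLT)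
    rwa [SatSeries.toLT_head, ht2h] at this
  rw [← hE P0 hP0, ← coheight_eq_ringKrullDim_quotient P0', WithBot.coe_le_coe]
  refine h1.trans ?_
  push_cast
  gcongr

theorem height_map_add_coheight_le (I : Ideal A) (q : PrimeSpectrum A) (hq : I ≤ q.asIdeal) :
    (((q.asIdeal.map (Ideal.Quotient.mk I)).height + Order.coheight q : ℕ∞) : WithBot ℕ∞) ≤
      ringKrullDim (A ⧸ I) := by
  have hprime : (q.asIdeal.map (Ideal.Quotient.mk I)).IsPrime := map_mk_isPrime_of_le hq
  let q' : PrimeSpectrum (A ⧸ I) := ⟨q.asIdeal.map (Ideal.Quotient.mk I), hprime⟩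
  have hcomap : PrimeSpectrum.comap (Ideal.Quotient.mk I) q' = q :=
    PrimeSpectrum.ext (comap_map_mk_of_le hq)
  have hco : Order.coheight q' = Order.coheight q := by
    rw [← hcomap]
    refine Order.coheight_eq_of_strictMono (PrimeSpectrum.comap (Ideal.Quotient.mk I)) ?_ ?_ q'
    · intro a b hab
      refine lt_of_le_of_ne (Ideal.comap_mono hab.le) fun heq => hab.ne ?_
      exact PrimeSpectrum.comap_injective_of_surjective _ Ideal.Quotient.mk_surjective heq
    · intro a b hab
      have hIb : I ≤ b.asIdeal := by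
        have h1 : I ≤ (PrimeSpectrum.comap (Ideal.Quotient.mk I) a).asIdeal := by
          intro x hx
          rw [PrimeSpectrum.comap_asIdeal, Ideal.mem_comap, Ideal.Quotient.eq_zero_iff_mem.mpr hx]
          exact a.asIdeal.zero_mem
        exact h1.trans hab.le
      have hbprime : (b.asIdeal.map (Ideal.Quotient.mk I)).IsPrime := map_mk_isPrime_of_le hIb
      have hb : PrimeSpectrum.comap (Ideal.Quotient.mk I)
          ⟨b.asIdeal.map (Ideal.Quotient.mk I), hbprime⟩ = b :=
        PrimeSpectrum.ext (comap_map_mk_of_le hIb)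
      refine ⟨⟨b.asIdeal.map (Ideal.Quotient.mk I), hbprime⟩, ?_, hb⟩
      have h2 : a ≤ ⟨b.asIdeal.map (Ideal.Quotient.mk I), hbprime⟩ := by
        intro x hx
        obtain ⟨y, rfl⟩ := Ideal.Quotient.mk_surjective x
        exact Ideal.mem_map_of_mem _ (hab.le hx)
      refine lt_of_le_of_ne h2 fun heq => ?_
      rw [← heq] at hb
      exact hab.ne hb
  have : Nonempty (PrimeSpectrum (A ⧸ I)) := ⟨q'⟩
  rw [ringKrullDim, Order.krullDim_eq_iSup_height_add_coheight_of_nonempty, WithBot.coe_le_coe,
    ← hco, PrimeSpectrum.height_eq_orderHeight q']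
  exact le_iSup (fun a : PrimeSpectrum (A ⧸ I) => Order.height a + Order.coheight a) q'

end Ring2

section Ring3

variable {A : Type*} [CommRing A]

theorem strictMono_comap_mk (I : Ideal A) :
    StrictMono (PrimeSpectrum.comap (Ideal.Quotient.mk I)) := by
  intro a b hab
  refine lt_of_le_of_ne (Ideal.comap_mono hab.le) fun heq => hab.ne ?_
  exact PrimeSpectrum.comap_injective_of_surjective _ Ideal.Quotient.mk_surjective heq

theorem height_map_mk_le (I : Ideal A) (p : PrimeSpectrum A) (h : I ≤ p.asIdeal) :
    (p.asIdeal.map (Ideal.Quotient.mk I)).height ≤ p.asIdeal.height := by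
  have hprime : (p.asIdeal.map (Ideal.Quotient.mk I)).IsPrime := map_mk_isPrime_of_le h
  let p' : PrimeSpectrum (A ⧸ I) := ⟨p.asIdeal.map (Ideal.Quotient.mk I), hprime⟩
  have hcomap : PrimeSpectrum.comap (Ideal.Quotient.mk I) p' = p :=
    PrimeSpectrum.ext (comap_map_mk_of_le h)
  calc (p.asIdeal.map (Ideal.Quotient.mk I)).height = Order.height p' :=
        PrimeSpectrum.height_eq_orderHeight p'
    _ ≤ Order.height (PrimeSpectrum.comap (Ideal.Quotient.mk I) p') :=
        Order.height_le_height_apply_of_strictMono _ (strictMono_comap_mk I) p'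
    _ = Order.height p := by rw [hcomap]
    _ = p.asIdeal.height := (PrimeSpectrum.height_eq_orderHeight p).symm

end Ring3

end Groth.Agent.H24
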