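import Mathlib.AlgebraicGeometry.AffineScheme
import Mathlib.AlgebraicGeometry.Noetherian
import Mathlib.AlgebraicGeometry.Morphisms.Flat
import Mathlib.RingTheory.Ideal.KrullsHeightTheorem
import Mathlib.RingTheory.Ideal.Height
import Mathlib.RingTheory.Ideal.GoingDown

set_option autoImplicit false
universe u

namespace Groth.Agent.H24

open AlgebraicGeometry CategoryTheory

variable {X Y : Scheme.{u}}

/-- The Krull dimension of the stalk at a point of an affine open is the height of its prime.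
(Same as `Groth.Agent.H8.ringKrullDim_stalk_eq_height`.) -/
theorem ringKrullDim_stalk_eq_height {U : X.Opens} (hU : IsAffineOpen U) (x : X) (hx : x ∈ U) :
    ringKrullDim (X.presheaf.stalk x) = (hU.primeIdealOf ⟨x, hx⟩).asIdeal.height := by
  let _ := X.presheaf.algebra_section_stalk ⟨x, hx⟩
  have := hU.isLocalization_stalk ⟨x, hx⟩
  exact IsLocalization.AtPrime.ringKrullDim_eq_height (hU.primeIdealOf ⟨x, hx⟩).asIdeal _

theorem fromSpec_mem {U : X.Opens} (hU : IsAffineOpen U) (q : PrimeSpectrum Γ(X, U)) :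
    hU.fromSpec q ∈ U := by
  have : hU.fromSpec q ∈ Set.range hU.fromSpec := ⟨q, rfl⟩
  rwa [hU.range_fromSpec] at this

theorem primeIdealOf_fromSpec {U : X.Opens} (hU : IsAffineOpen U) (q : PrimeSpectrum Γ(X, U)) :
    hU.primeIdealOf ⟨hU.fromSpec q, fromSpec_mem hU q⟩ = q := by
  apply hU.fromSpec.isOpenEmbedding.injective
  exact hU.fromSpec_primeIdealOf ⟨hU.fromSpec q, fromSpec_mem hU q⟩

theorem primeIdealOf_injective {U : X.Opens} (hU : IsAffineOpen U) {x y : X} (hx : x ∈ U)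
    (hy : y ∈ U) (h : hU.primeIdealOf ⟨x, hx⟩ = hU.primeIdealOf ⟨y, hy⟩) : x = y := by
  have h1 := hU.fromSpec_primeIdealOf ⟨x, hx⟩
  have h2 := hU.fromSpec_primeIdealOf ⟨y, hy⟩
  rw [h] at h1
  exact h1.symm.trans h2

theorem exists_affine_charts (f : X ⟶ Y) (x : X) :
    ∃ (V : Y.Opens) (U : X.Opens), IsAffineOpen V ∧ IsAffineOpen U ∧ x ∈ U ∧ U ≤ f ⁻¹ᵁ V := by
  obtain ⟨_, ⟨V, hV, rfl⟩, hyV, -⟩ :=
    Y.isBasis_affineOpens.exists_subset_of_mem_open (Set.mem_univ (f x)) isOpen_univ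
  have hxV : x ∈ f ⁻¹ᵁ V := hyV
  obtain ⟨_, ⟨U, hU, rfl⟩, hxU, hUV⟩ :=
    X.isBasis_affineOpens.exists_subset_of_mem_open hxV (f ⁻¹ᵁ V).isOpen
  exact ⟨V, U, hV, hU, hxU, hUV⟩

/-- The image of a minimal prime over `I` in the quotient by `I` has height zero. -/
theorem height_map_mk_eq_zero_of_mem_minimalPrimes {S : Type*} [CommRing S] {I Q : Ideal S}
    (hQ : Q ∈ I.minimalPrimes) : (Q.map (Ideal.Quotient.mk I)).height = 0 := by
  have hQprime : Q.IsPrime := hQ.1.1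
  have hIQ : I ≤ Q := hQ.1.2
  have hprime : (Q.map (Ideal.Quotient.mk I)).IsPrime :=
    Ideal.map_isPrime_of_surjective Ideal.Quotient.mk_surjective (by rwa [Ideal.mk_ker])
  rw [Ideal.height_eq_zero_iff]
  refine ⟨⟨hprime, bot_le⟩, ?_⟩
  rintro Q' ⟨hQ'prime, -⟩ hQ'le
  have h1 : Q'.comap (Ideal.Quotient.mk I) ≤ Q := by
    have := Ideal.comap_mono (f := Ideal.Quotient.mk I) hQ'le
    rwa [Ideal.comap_map_of_surjective _ Ideal.Quotient.mk_surjective,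
      ← RingHom.ker_eq_comap_bot, Ideal.mk_ker, sup_eq_left.mpr hIQ] at this
  have h2 : I ≤ Q'.comap (Ideal.Quotient.mk I) := by
    intro a ha
    rw [Ideal.mem_comap, Ideal.Quotient.eq_zero_iff_mem.mpr ha]
    exact Q'.zero_mem
  have h3 : Q ≤ Q'.comap (Ideal.Quotient.mk I) :=
    hQ.2 ⟨Ideal.comap_isPrime _ _, h2⟩ h1
  calc Q.map (Ideal.Quotient.mk I) ≤ (Q'.comap (Ideal.Quotient.mk I)).map (Ideal.Quotient.mk I) :=
        Ideal.map_mono h3
    _ ≤ Q' := Ideal.map_comap_le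

/-- Every fibre of a morphism of locally Noetherian schemes contains, with each of its points, a
point whose local ring has dimension at most that of the local ring of the image. -/
theorem exists_fibre_point_dim_le [IsLocallyNoetherian X] [IsLocallyNoetherian Y] (f : X ⟶ Y)
    (x' : X) :
    ∃ x : X, f x = f x' ∧
      ringKrullDim (X.presheaf.stalk x) ≤ ringKrullDim (Y.presheaf.stalk (f x')) := by
  obtain ⟨V, U, hV, hU, hxU, hUV⟩ := exists_affine_charts f x'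
  have hyV : f x' ∈ V := hUV hxU
  have : IsNoetherianRing Γ(X, U) := IsLocallyNoetherian.component_noetherian ⟨U, hU⟩
  have : IsNoetherianRing Γ(Y, V) := IsLocallyNoetherian.component_noetherian ⟨V, hV⟩
  let φ : Γ(Y, V) →+* Γ(X, U) := (f.appLE V U hUV).hom
  have hcomap : (hU.primeIdealOf ⟨x', hxU⟩).comap φ = hV.primeIdealOf ⟨f x', hyV⟩ :=
    IsAffineOpen.comap_primeIdealOf_appLE V hV U hU hUV hxU
  have hcomap' : (hU.primeIdealOf ⟨x', hxU⟩).asIdeal.comap φ =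
      (hV.primeIdealOf ⟨f x', hyV⟩).asIdeal := congrArg PrimeSpectrum.asIdeal hcomap
  have hle : (hV.primeIdealOf ⟨f x', hyV⟩).asIdeal.map φ ≤
      (hU.primeIdealOf ⟨x', hxU⟩).asIdeal := by
    rw [Ideal.map_le_iff_le_comap, hcomap']
  obtain ⟨𝔮, h𝔮min, h𝔮le⟩ := Ideal.exists_minimalPrimes_le hle
  have h𝔮prime : 𝔮.IsPrime := h𝔮min.1.1
  have hxU' : hU.fromSpec ⟨𝔮, h𝔮prime⟩ ∈ U := fromSpec_mem hU _
  have hq : hU.primeIdealOf ⟨hU.fromSpec ⟨𝔮, h𝔮prime⟩, hxU'⟩ = ⟨𝔮, h𝔮prime⟩ :=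
    primeIdealOf_fromSpec hU _
  have hcomapq : 𝔮.comap φ = (hV.primeIdealOf ⟨f x', hyV⟩).asIdeal := by
    apply le_antisymm
    · calc 𝔮.comap φ ≤ (hU.primeIdealOf ⟨x', hxU⟩).asIdeal.comap φ := Ideal.comap_mono h𝔮le
        _ = (hV.primeIdealOf ⟨f x', hyV⟩).asIdeal := hcomap'
    · rw [← Ideal.map_le_iff_le_comap]
      exact h𝔮min.1.2
  have hfx : f (hU.fromSpec ⟨𝔮, h𝔮prime⟩) = f x' := by
    have h1 : (hU.primeIdealOf ⟨hU.fromSpec ⟨𝔮, h𝔮prime⟩, hxU'⟩).comap φ =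
        hV.primeIdealOf ⟨f (hU.fromSpec ⟨𝔮, h𝔮prime⟩), hUV hxU'⟩ :=
      IsAffineOpen.comap_primeIdealOf_appLE V hV U hU hUV hxU'
    apply primeIdealOf_injective hV (hUV hxU') hyV
    rw [← h1, hq]
    exact PrimeSpectrum.ext hcomapq
  refine ⟨hU.fromSpec ⟨𝔮, h𝔮prime⟩, hfx, ?_⟩
  rw [ringKrullDim_stalk_eq_height hU _ hxU', ringKrullDim_stalk_eq_height hV (f x') hyV, hq]
  change ((𝔮.height : ℕ∞) : WithBot ℕ∞) ≤ _
  rw [WithBot.coe_le_coe]
  let _ := φ.toAlgebra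
  have : 𝔮.LiesOver (hV.primeIdealOf ⟨f x', hyV⟩).asIdeal := ⟨hcomapq.symm⟩
  have h := Ideal.height_le_height_add_of_liesOver (hV.primeIdealOf ⟨f x', hyV⟩).asIdeal 𝔮
  have h0 : (𝔮.map (Ideal.Quotient.mk
      ((hV.primeIdealOf ⟨f x', hyV⟩).asIdeal.map (algebraMap Γ(Y, V) Γ(X, U))))).height = 0 :=
    height_map_mk_eq_zero_of_mem_minimalPrimes h𝔮min
  rwa [h0, add_zero] at h

/-- For a flat morphism of locally Noetherian schemes, local rings do not drop in dimension. -/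
theorem ringKrullDim_stalk_le_of_flat [IsLocallyNoetherian X] [IsLocallyNoetherian Y] (f : X ⟶ Y)
    [Flat f] (x : X) :
    ringKrullDim (Y.presheaf.stalk (f x)) ≤ ringKrullDim (X.presheaf.stalk x) := by
  obtain ⟨V, U, hV, hU, hxU, hUV⟩ := exists_affine_charts f x
  have hyV : f x ∈ V := hUV hxU
  have : IsNoetherianRing Γ(X, U) := IsLocallyNoetherian.component_noetherian ⟨U, hU⟩
  have : IsNoetherianRing Γ(Y, V) := IsLocallyNoetherian.component_noetherian ⟨V, hV⟩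
  let φ : Γ(Y, V) →+* Γ(X, U) := (f.appLE V U hUV).hom
  have hflat : φ.Flat := HasRingHomProperty.appLE @Flat f inferInstance ⟨V, hV⟩ ⟨U, hU⟩ hUV
  have hcomap : (hU.primeIdealOf ⟨x, hxU⟩).comap φ = hV.primeIdealOf ⟨f x, hyV⟩ :=
    IsAffineOpen.comap_primeIdealOf_appLE V hV U hU hUV hxU
  have hcomap' : (hU.primeIdealOf ⟨x, hxU⟩).asIdeal.comap φ =
      (hV.primeIdealOf ⟨f x, hyV⟩).asIdeal := congrArg PrimeSpectrum.asIdeal hcomap
  rw [ringKrullDim_stalk_eq_height hU _ hxU, ringKrullDim_stalk_eq_height hV (f x) hyV]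
  change (((hV.primeIdealOf ⟨f x, hyV⟩).asIdeal.height : ℕ∞) : WithBot ℕ∞) ≤ _
  rw [WithBot.coe_le_coe]
  let _ := φ.toAlgebra
  have : Module.Flat Γ(Y, V) Γ(X, U) := hflat
  have : (hU.primeIdealOf ⟨x, hxU⟩).asIdeal.LiesOver (hV.primeIdealOf ⟨f x, hyV⟩).asIdeal :=
    ⟨hcomap'.symm⟩
  rw [Ideal.height_eq_height_add_of_liesOver_of_hasGoingDown
    (hV.primeIdealOf ⟨f x, hyV⟩).asIdeal (hU.primeIdealOf ⟨x, hxU⟩).asIdeal]
  exact le_self_add

end Groth.Agent.H24
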