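import Groth.Agent.H24.LiftChains
import Groth.Agent.H24.AffineChart
import Mathlib.AlgebraicGeometry.Fiber
import Mathlib.AlgebraicGeometry.Morphisms.FiniteType

set_option autoImplicit false
universe u

namespace Groth.Agent.H24

open AlgebraicGeometry CategoryTheory

/-- A chain of `d` proper specializations in a sober T0 space shows that its dimension is at
least `d`. -/
theorem natCast_le_topologicalKrullDim_of_chain {T : Type*} [TopologicalSpace T] [QuasiSober T]
    [T0Space T] (d : ℕ) (t : Fin (d + 1) → T)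
    (h : ∀ i : Fin d, t i.castSucc ⤳ t i.succ ∧ t i.castSucc ≠ t i.succ) :
    ((d : ℕ∞) : WithBot ℕ∞) ≤ topologicalKrullDim T := by
  rw [topologicalKrullDim_eq_krullDim_specializationOrder]
  let _ := specializationOrder T
  let p : LTSeries T :=
    { length := d
      toFun := fun i => t (Fin.rev i)
      step := fun i => by
        change t (Fin.rev i.castSucc) < t (Fin.rev i.succ)
        rw [Fin.rev_castSucc, Fin.rev_succ]
        obtain ⟨h1, h2⟩ := h (Fin.rev i)
        have hle : t (Fin.rev i).succ ≤ t (Fin.rev i).castSucc := h1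
        exact lt_of_le_of_ne hle (Ne.symm h2) }
  exact Order.LTSeries.length_le_krullDim p

variable {X Y : Scheme.{u}}

theorem map_fromSpec (f : X ⟶ Y) {V : Y.Opens} {U : X.Opens} (hV : IsAffineOpen V)
    (hU : IsAffineOpen U) (hUV : U ≤ f ⁻¹ᵁ V) (Q : PrimeSpectrum Γ(X, U)) :
    f (hU.fromSpec Q) = hV.fromSpec (PrimeSpectrum.comap (f.appLE V U hUV).hom Q) := by
  have h := congr($(IsAffineOpen.SpecMap_appLE_fromSpec f hV hU hUV) Q)
  exact h.symm

/-- The height of a prime of the ring of sections over an affine open is at most the dimension of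
the scheme. -/
theorem height_le_topologicalKrullDim {V : Y.Opens} (hV : IsAffineOpen V)
    (𝔭 : Ideal Γ(Y, V)) [𝔭.IsPrime] [𝔭.FiniteHeight] :
    ((𝔭.height : ℕ∞) : WithBot ℕ∞) ≤ topologicalKrullDim Y := by
  obtain ⟨l, hlast, hlen⟩ := 𝔭.exists_ltSeries_length_eq_height
  rw [← hlen]
  refine natCast_le_topologicalKrullDim_of_chain l.length (fun i => hV.fromSpec (l i)) fun i => ?_
  have hlt : l i.castSucc < l i.succ := l.step i
  constructor
  · exact ((PrimeSpectrum.le_iff_specializes _ _).mp hlt.le).map hV.fromSpec.continuous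
  · intro heq
    exact hlt.ne (hV.fromSpec.isOpenEmbedding.injective heq)

/-- The height of a prime in the fibre ring is at most the dimension of the fibre. -/
theorem height_map_mk_le_topologicalKrullDim_fiber (f : X ⟶ Y) {V : Y.Opens} {U : X.Opens}
    (hV : IsAffineOpen V) (hU : IsAffineOpen U) (hUV : U ≤ f ⁻¹ᵁ V)
    [IsNoetherianRing Γ(X, U)]
    (𝔮 : Ideal Γ(X, U)) [𝔮.IsPrime] :
    (((𝔮.map (Ideal.Quotient.mk ((𝔮.comap (f.appLE V U hUV).hom).map
      (f.appLE V U hUV).hom))).height : ℕ∞) : WithBot ℕ∞) ≤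
      topologicalKrullDim (f.fiber (hV.fromSpec ⟨𝔮.comap (f.appLE V U hUV).hom, inferInstance⟩)) := by
  set φ : Γ(Y, V) →+* Γ(X, U) := (f.appLE V U hUV).hom with hφ
  set 𝔭 : Ideal Γ(Y, V) := 𝔮.comap φ with h𝔭
  set y : Y := hV.fromSpec ⟨𝔭, inferInstance⟩ with hy
  set I : Ideal Γ(X, U) := 𝔭.map φ with hI
  have hIq : I ≤ 𝔮 := Ideal.map_comap_le
  have hprime : (𝔮.map (Ideal.Quotient.mk I)).IsPrime :=
    Ideal.map_isPrime_of_surjective Ideal.Quotient.mk_surjective (by rwa [Ideal.mk_ker])
  have hcomapq : (𝔮.map (Ideal.Quotient.mk I)).comap (Ideal.Quotient.mk I) = 𝔮 := by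
    rw [Ideal.comap_map_of_surjective _ Ideal.Quotient.mk_surjective,
      ← RingHom.ker_eq_comap_bot, Ideal.mk_ker, sup_eq_left.mpr hIq]
  rw [(f.fiberHomeo y).isHomeomorph.topologicalKrullDim_eq]
  have : QuasiSober (f ⁻¹' {y}) := (f.fiberHomeo y).symm.isClosedEmbedding.quasiSober
  obtain ⟨l, hlast, hlen⟩ := (𝔮.map (Ideal.Quotient.mk I)).exists_ltSeries_length_eq_height
  rw [← hlen]
  have hmem : ∀ i, f (hU.fromSpec (PrimeSpectrum.comap (Ideal.Quotient.mk I) (l i))) = y := by
    intro i
    rw [map_fromSpec f hV hU hUV, hy]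
    congr 1
    apply PrimeSpectrum.ext
    change ((l i).asIdeal.comap (Ideal.Quotient.mk I)).comap φ = 𝔭
    apply le_antisymm
    · have h1 : l i ≤ l.last := l.monotone (Fin.le_last i)
      rw [hlast] at h1
      have h2 : (l i).asIdeal ≤ 𝔮.map (Ideal.Quotient.mk I) := h1
      calc ((l i).asIdeal.comap (Ideal.Quotient.mk I)).comap φ
          ≤ ((𝔮.map (Ideal.Quotient.mk I)).comap (Ideal.Quotient.mk I)).comap φ :=
            Ideal.comap_mono (Ideal.comap_mono h2)
        _ = 𝔭 := by rw [hcomapq]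
    · rw [← Ideal.map_le_iff_le_comap]
      intro a ha
      rw [Ideal.mem_comap, Ideal.Quotient.eq_zero_iff_mem.mpr ha]
      exact (l i).asIdeal.zero_mem
  refine natCast_le_topologicalKrullDim_of_chain l.length
    (fun i => (⟨hU.fromSpec (PrimeSpectrum.comap (Ideal.Quotient.mk I) (l i)), hmem i⟩ :
      f ⁻¹' {y})) fun i => ?_
  have hlt : l i.castSucc < l i.succ := l.step i
  constructor
  · rw [subtype_specializes_iff]
    exact (((PrimeSpectrum.le_iff_specializes _ _).mp hlt.le).map
      (PrimeSpectrum.continuous_comap _)).map hU.fromSpec.continuous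
  · intro heq
    have h1 := congrArg Subtype.val heq
    have h2 := hU.fromSpec.isOpenEmbedding.injective h1
    exact hlt.ne (PrimeSpectrum.comap_injective_of_surjective _ Ideal.Quotient.mk_surjective h2)

end Groth.Agent.H24
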