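import Mathlib.Order.KrullDimension
import Mathlib.Topology.KrullDimension
import Mathlib.Topology.NoetherianSpace
import Mathlib.Topology.Sober

set_option autoImplicit false

namespace Groth.Agent.H24

/-- If "going down" holds for a monotone map `f` (every `b < f a` is of the form `f a'` with
`a' ≤ a`), then every chain ending at `f a` lifts to a chain of the same length ending at `a`. -/
theorem exists_ltSeries_last_of_lift {α β : Type*} [Preorder α] [Preorder β] (f : α → β)
    (hmono : Monotone f) (hlift : ∀ (a : α) (b : β), b < f a → ∃ a', a' ≤ a ∧ f a' = b)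
    (p : LTSeries β) : ∀ a : α, f a = p.last → ∃ q : LTSeries α, q.length = p.length ∧ q.last = a := by
  induction p using RelSeries.inductionOn' with
  | singleton y =>
    intro a _
    exact ⟨RelSeries.singleton _ a, rfl, rfl⟩
  | snoc p y hy ih =>
    intro a ha
    rw [RelSeries.last_snoc] at ha
    have hy' : p.last < f a := ha ▸ hy
    obtain ⟨a', ha'le, ha'⟩ := hlift a p.last hy'
    obtain ⟨q', hq'len, hq'last⟩ := ih a' ha'
    have hlt : a' < a := by
      refine lt_of_le_not_ge ha'le fun h => ?_
      have := hmono h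
      rw [ha'] at this
      exact (lt_irrefl _ (lt_of_lt_of_le hy' this))
    refine ⟨q'.snoc a (hq'last ▸ hlt), ?_, ?_⟩
    · simp [hq'len]
    · simp

/-- If "going up" holds for a monotone map `f` (every `b > f a` is of the form `f a'` with
`a ≤ a'`), then every chain starting at `f a` lifts to a chain of the same length starting at
`a`. -/
theorem exists_ltSeries_head_of_lift {α β : Type*} [Preorder α] [Preorder β] (f : α → β)
    (hmono : Monotone f) (hlift : ∀ (a : α) (b : β), f a < b → ∃ a', a ≤ a' ∧ f a' = b)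
    (p : LTSeries β) : ∀ a : α, f a = p.head → ∃ q : LTSeries α, q.length = p.length ∧ q.head = a := by
  induction p using RelSeries.inductionOn with
  | singleton y =>
    intro a _
    exact ⟨RelSeries.singleton _ a, rfl, rfl⟩
  | cons p y hy ih =>
    intro a ha
    rw [RelSeries.head_cons] at ha
    have hy' : f a < p.head := ha ▸ hy
    obtain ⟨a', ha'le, ha'⟩ := hlift a p.head hy'
    obtain ⟨q', hq'len, hq'head⟩ := ih a' ha'
    have hlt : a < a' := by
      refine lt_of_le_not_ge ha'le fun h => ?_
      have := hmono h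
      rw [ha'] at this
      exact (lt_irrefl _ (lt_of_le_of_lt this hy'))
    refine ⟨q'.cons a (hq'head ▸ hlt), ?_, ?_⟩
    · simp [hq'len]
    · simp

theorem krullDim_le_of_forall_exists_ltSeries {α β : Type*} [Preorder α] [Preorder β]
    (h : ∀ p : LTSeries β, ∃ q : LTSeries α, q.length = p.length) :
    Order.krullDim β ≤ Order.krullDim α := by
  unfold Order.krullDim
  refine iSup_le fun p => ?_
  obtain ⟨q, hq⟩ := h p
  rw [← hq]
  exact Order.LTSeries.length_le_krullDim q

theorem krullDim_le_of_surjective_of_lift_last {α β : Type*} [Preorder α] [Preorder β] (f : α → β)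
    (hsurj : Function.Surjective f)
    (hmono : Monotone f) (hlift : ∀ (a : α) (b : β), b < f a → ∃ a', a' ≤ a ∧ f a' = b) :
    Order.krullDim β ≤ Order.krullDim α := by
  refine krullDim_le_of_forall_exists_ltSeries fun p => ?_
  obtain ⟨a, ha⟩ := hsurj p.last
  obtain ⟨q, hq, -⟩ := exists_ltSeries_last_of_lift f hmono hlift p a ha
  exact ⟨q, hq⟩

theorem krullDim_le_of_surjective_of_lift_head {α β : Type*} [Preorder α] [Preorder β] (f : α → β)
    (hsurj : Function.Surjective f)
    (hmono : Monotone f) (hlift : ∀ (a : α) (b : β), f a < b → ∃ a', a ≤ a' ∧ f a' = b) :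
    Order.krullDim β ≤ Order.krullDim α := by
  refine krullDim_le_of_forall_exists_ltSeries fun p => ?_
  obtain ⟨a, ha⟩ := hsurj p.head
  obtain ⟨q, hq, -⟩ := exists_ltSeries_head_of_lift f hmono hlift p a ha
  exact ⟨q, hq⟩

/-- Closed maps lift specializations. -/
theorem exists_specializes_of_isClosedMap {X Y : Type*} [TopologicalSpace X] [TopologicalSpace Y]
    {f : X → Y} (hf : IsClosedMap f) (x : X) (y : Y) (h : f x ⤳ y) :
    ∃ x', x ⤳ x' ∧ f x' = y := by
  have h1 : y ∈ closure (f '' {x}) := by
    rw [Set.image_singleton]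
    exact specializes_iff_mem_closure.mp h
  obtain ⟨x', hx', rfl⟩ := hf.closure_image_subset _ h1
  exact ⟨x', specializes_iff_mem_closure.mpr hx', rfl⟩

open TopologicalSpace in
/-- Open maps out of Noetherian quasi-sober spaces lift generizations (Stacks 0066). -/
theorem exists_specializes_of_isOpenMap {X Y : Type*} [TopologicalSpace X] [TopologicalSpace Y]
    [NoetherianSpace X] [QuasiSober X] [T0Space Y]
    {f : X → Y} (hf : Continuous f) (hopen : IsOpenMap f) (x : X) (y' : Y) (h : y' ⤳ f x) :
    ∃ x', x' ⤳ x ∧ f x' = y' := by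
  have hSclosed : IsClosed (f ⁻¹' closure {y'}) := isClosed_closure.preimage hf
  obtain ⟨Zs, hfin, hcl, hirr, hS⟩ := NoetherianSpace.exists_finite_set_isClosed_irreducible hSclosed
  -- the union of those pieces not containing `x`
  let B : Set X := ⋃ Z ∈ {Z ∈ Zs | x ∉ Z}, Z
  have hBclosed : IsClosed B :=
    Set.Finite.isClosed_biUnion (hfin.subset (Set.sep_subset _ _)) fun Z hZ => hcl Z hZ.1
  have hxB : x ∈ Bᶜ := by
    intro hx
    simp only [B, Set.mem_iUnion, exists_prop] at hx
    obtain ⟨Z, ⟨-, hxZ⟩, hxZ'⟩ := hx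
    exact hxZ hxZ'
  have hopenB : IsOpen (f '' Bᶜ) := hopen _ hBclosed.isOpen_compl
  have hy'mem : y' ∈ f '' Bᶜ := h.mem_open hopenB ⟨x, hxB, rfl⟩
  obtain ⟨x'', hx''B, hx''⟩ := hy'mem
  have hx''S : x'' ∈ f ⁻¹' closure {y'} := by
    change f x'' ∈ closure {y'}
    rw [hx'']
    exact subset_closure (Set.mem_singleton _)
  rw [hS] at hx''S
  obtain ⟨Z, hZ, hx''Z⟩ := hx''S
  have hxZ : x ∈ Z := by
    by_contra hxZ
    apply hx''B
    simp only [B, Set.mem_iUnion, exists_prop]
    exact ⟨Z, ⟨hZ, hxZ⟩, hx''Z⟩
  obtain ⟨ξ, hξ⟩ := QuasiSober.sober (hirr Z hZ) (hcl Z hZ)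
  have hξx : ξ ⤳ x := hξ.specializes hxZ
  have hξx'' : ξ ⤳ x'' := hξ.specializes hx''Z
  have hξS : ξ ∈ f ⁻¹' closure {y'} := by
    rw [hS]
    exact ⟨Z, hZ, hξ.mem⟩
  have h1 : y' ⤳ f ξ := specializes_iff_mem_closure.mpr hξS
  have h2 : f ξ ⤳ y' := hx'' ▸ hξx''.map hf
  exact ⟨ξ, hξx, (h2.antisymm h1).eq⟩

attribute [local instance] specializationOrder in
theorem topologicalKrullDim_eq_krullDim_specializationOrder (T : Type*) [TopologicalSpace T]
    [QuasiSober T] [T0Space T] : topologicalKrullDim T = Order.krullDim T :=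
  Order.krullDim_eq_of_orderIso irreducibleSetEquivPoints

attribute [local instance] specializationOrder in
/-- A continuous map with discrete fibres is strictly monotone for the specialization orders. -/
theorem strictMono_of_isDiscrete_fibres {X Y : Type*} [TopologicalSpace X] [TopologicalSpace Y]
    [T0Space X] [T0Space Y] (g : X → Y) (hg : Continuous g)
    (hd : ∀ y, IsDiscrete (g ⁻¹' {y})) : StrictMono g := by
  intro a b hab
  have hle : a ≤ b := hab.le
  have hspec : b ⤳ a := hle
  have h1 : g a ≤ g b := hspec.map hg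
  refine lt_of_le_of_ne h1 fun heq => ?_
  have := (hd (g b)).to_subtype
  have ha : a ∈ g ⁻¹' {g b} := heq
  have hb : b ∈ g ⁻¹' {g b} := rfl
  have h2 : (⟨b, hb⟩ : g ⁻¹' {g b}) ⤳ ⟨a, ha⟩ := (subtype_specializes_iff _ _).mpr hspec
  have h3 : (⟨b, hb⟩ : g ⁻¹' {g b}) = ⟨a, ha⟩ := h2.eq
  exact hab.ne (congrArg Subtype.val h3).symm

/-- A continuous map with discrete fibres between sober spaces does not lower dimension. -/
theorem topologicalKrullDim_le_of_isDiscrete_fibres {X Y : Type*} [TopologicalSpace X]
    [TopologicalSpace Y] [T0Space X] [T0Space Y] [QuasiSober X] [QuasiSober Y]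
    (g : X → Y) (hg : Continuous g)
    (hd : ∀ y, IsDiscrete (g ⁻¹' {y})) : topologicalKrullDim X ≤ topologicalKrullDim Y := by
  rw [topologicalKrullDim_eq_krullDim_specializationOrder,
    topologicalKrullDim_eq_krullDim_specializationOrder]
  let _ := specializationOrder X
  let _ := specializationOrder Y
  exact Order.krullDim_le_of_strictMono g (strictMono_of_isDiscrete_fibres g hg hd)

/-- A closed surjective continuous map between sober spaces does not raise dimension. -/
theorem topologicalKrullDim_le_of_isClosedMap_of_surjective {X Y : Type*} [TopologicalSpace X]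
    [TopologicalSpace Y] [T0Space X] [T0Space Y] [QuasiSober X] [QuasiSober Y]
    (g : X → Y) (hg : Continuous g) (hcl : IsClosedMap g) (hs : Function.Surjective g) :
    topologicalKrullDim Y ≤ topologicalKrullDim X := by
  rw [topologicalKrullDim_eq_krullDim_specializationOrder,
    topologicalKrullDim_eq_krullDim_specializationOrder]
  let _ := specializationOrder X
  let _ := specializationOrder Y
  have hmono : Monotone g := fun a b hab => Specializes.map hab hg
  refine krullDim_le_of_surjective_of_lift_last g hs hmono ?_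
  intro a b hab
  obtain ⟨a', ha', hfa'⟩ := exists_specializes_of_isClosedMap hcl a b hab.le
  exact ⟨a', ha', hfa'⟩

end Groth.Agent.H24
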