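import Mathlib.RingTheory.KrullDimension.Polynomial
import Mathlib.RingTheory.Polynomial.Quotient
import Mathlib.RingTheory.Localization.Algebra
import Mathlib.RingTheory.PolynomialAlgebra
import Mathlib.RingTheory.Ideal.GoingDown
import Mathlib.RingTheory.Ideal.Over

set_option autoImplicit false
universe u

namespace Groth.Agent.H24

open Polynomial Ideal

variable {R : Type u} [CommRing R]

theorem liesOver_map_C (p : Ideal R) : (p.map (C : R →+* R[X])).LiesOver p := by
  constructor
  ext a
  rw [Ideal.under_def, Ideal.mem_comap, Polynomial.algebraMap_apply, Algebra.algebraMap_self,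
    RingHom.id_apply, Ideal.mem_map_C_iff]
  constructor
  · intro ha n
    rw [coeff_C]
    split_ifs
    · exact ha
    · exact zero_mem _
  · intro h
    simpa using h 0

variable [IsNoetherianRing R]

theorem height_map_C_of_isPrime (p : Ideal R) [p.IsPrime] :
    (p.map (C : R →+* R[X])).height = p.height := by
  have : (p.map (C : R →+* R[X])).LiesOver p := liesOver_map_C p
  rw [Ideal.height_eq_height_add_of_liesOver_of_hasGoingDown p (p.map (C : R →+* R[X]))]
  have h : (p.map (C : R →+* R[X])).map (Ideal.Quotient.mk (p.map (algebraMap R R[X]))) = ⊥ := by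
    rw [Polynomial.algebraMap_eq]
    exact Ideal.map_quotient_self _
  have hnt : Nontrivial (R[X] ⧸ p.map (algebraMap R R[X])) := by
    rw [Polynomial.algebraMap_eq]
    exact Ideal.Quotient.nontrivial_iff.mpr (Ideal.IsPrime.ne_top inferInstance)
  rw [h, Ideal.height_bot, add_zero]

attribute [local instance] Polynomial.algebra Polynomial.isLocalization in
theorem height_eq_add_one_of_ne_map_C (p : Ideal R) [p.IsPrime] (q : Ideal R[X]) [q.IsPrime]
    [q.LiesOver p] (hq : q ≠ p.map (C : R →+* R[X])) : q.height = p.height + 1 := by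
  rw [Ideal.height_eq_height_add_of_liesOver_of_hasGoingDown p q]
  congr 1
  have hIq : p.map (algebraMap R R[X]) ≤ q := by
    rw [Ideal.map_le_iff_le_comap]
    exact (Ideal.LiesOver.over (P := q) (p := p)).le
  set q' := q.map (Ideal.Quotient.mk (p.map (algebraMap R R[X]))) with hq'
  have hq'prime : q'.IsPrime :=
    Ideal.map_isPrime_of_surjective Ideal.Quotient.mk_surjective (by rwa [Ideal.mk_ker])
  let e : (R[X] ⧸ (p.map (algebraMap R R[X]))) ≃+* (R ⧸ p)[X] :=
    (polynomialQuotientEquivQuotientPolynomial p).symm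
  set q'' : Ideal (R ⧸ p)[X] := q'.map e with hq''
  have hq''prime : q''.IsPrime := Ideal.map_isPrime_of_equiv e
  have hq'ne : q' ≠ ⊥ := by
    intro h
    rw [hq', Ideal.map_eq_bot_iff_le_ker, Ideal.mk_ker] at h
    exact hq (le_antisymm (by rwa [Polynomial.algebraMap_eq] at h)
      (by rwa [Polynomial.algebraMap_eq] at hIq))
  have hq''ne : q'' ≠ ⊥ := by
    intro h
    apply hq'ne
    rw [hq'', Ideal.map_eq_bot_iff_le_ker] at h
    rw [RingHom.ker_equiv] at h
    exact le_bot_iff.mp h
  rw [← e.height_map q']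
  change q''.height = 1
  have disj : Disjoint ((Submonoid.map C (nonZeroDivisors (R ⧸ p)) : Submonoid (R ⧸ p)[X]) :
      Set (R ⧸ p)[X]) (q'' : Set (R ⧸ p)[X]) := by
    rw [Set.disjoint_left]
    rintro a ⟨d, hd, rfl⟩ ha
    obtain ⟨r, rfl⟩ := Ideal.Quotient.mk_surjective d
    have h1 : (C (Ideal.Quotient.mk p r) : (R ⧸ p)[X]) =
        e (Ideal.Quotient.mk (p.map (algebraMap R R[X])) (C r)) := by
      simp only [e]
      erw [polynomialQuotientEquivQuotientPolynomial_symm_mk]
      simp
    rw [SetLike.mem_coe, h1, hq''] at ha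
    have h2 : Ideal.Quotient.mk (p.map (algebraMap R R[X])) (C r) ∈ q' := by
      obtain ⟨x, hx, hxe⟩ := (Ideal.mem_map_of_equiv e _).mp ha
      rwa [← e.injective hxe]
    rw [hq', Ideal.mem_quotient_iff_mem hIq] at h2
    have h3 : r ∈ p := by
      rw [Ideal.LiesOver.over (P := q) (p := p), Ideal.under_def, Ideal.mem_comap,
        Polynomial.algebraMap_apply, Algebra.algebraMap_self, RingHom.id_apply]
      exact h2
    have h4 : Ideal.Quotient.mk p r = 0 := Ideal.Quotient.eq_zero_iff_mem.mpr h3
    rw [SetLike.mem_coe, h4] at hd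
    exact zero_notMem_nonZeroDivisors hd
  rw [← IsLocalization.height_map_of_disjoint (S := (FractionRing (R ⧸ p))[X])
    (Submonoid.map C (nonZeroDivisors (R ⧸ p))) q'' disj]
  have hprime : (q''.map (algebraMap (R ⧸ p)[X] (FractionRing (R ⧸ p))[X])).IsPrime :=
    IsLocalization.isPrime_of_isPrime_disjoint _ _ _ hq''prime disj
  have hne : q''.map (algebraMap (R ⧸ p)[X] (FractionRing (R ⧸ p))[X]) ≠ ⊥ := by
    intro h
    apply hq''ne
    rw [Ideal.map_eq_bot_iff_le_ker] at h
    have hinj : Function.Injective (algebraMap (R ⧸ p)[X] (FractionRing (R ⧸ p))[X]) := by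
      rw [Polynomial.algebraMap_def]
      exact Polynomial.map_injective _ (IsFractionRing.injective (R ⧸ p) (FractionRing (R ⧸ p)))
    rw [(RingHom.injective_iff_ker_eq_bot _).mp hinj] at h
    exact le_bot_iff.mp h
  have hmax := IsPrime.to_maximal_ideal hne
  exact IsPrincipalIdealRing.height_eq_one_of_isMaximal _ (Polynomial.not_isField _)

end Groth.Agent.H24
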