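import Mathlib.RingTheory.KrullDimension.Module
import Mathlib.RingTheory.Localization.AtPrime.Basic
import Mathlib.RingTheory.Support
import Mathlib.Algebra.Module.LocalizedModule.Basic

set_option autoImplicit false
universe u v

namespace Groth.Agent.H24

/-- Support of a localized module at a prime, in terms of the support of the module. -/
theorem mem_support_localizedModule_iff {A : Type u} [CommRing A] {M : Type v} [AddCommGroup M]
    [Module A M] (p : Ideal A) [p.IsPrime] (P : PrimeSpectrum (Localization.AtPrime p)) :
    P ∈ Module.support (Localization.AtPrime p) (LocalizedModule p.primeCompl M) ↔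
      P.comap (algebraMap A (Localization.AtPrime p)) ∈ Module.support A M := by
  rw [Module.mem_support_iff', Module.mem_support_iff']
  constructor
  · rintro ⟨y, hy⟩
    induction y using LocalizedModule.induction_on with
    | h m s =>
      refine ⟨m, ?_⟩
      intro a ha ham
      have ha' : algebraMap A (Localization.AtPrime p) a ∉ P.asIdeal := ha
      apply hy _ ha'
      rw [← Localization.mk_one_eq_algebraMap,
        LocalizedModule.mk_smul_mk, ham, LocalizedModule.zero_mk]
  · rintro ⟨m, hm⟩
    refine ⟨LocalizedModule.mk m 1, ?_⟩
    intro r hr hrm
    induction r using Localization.induction_on with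
    | H as =>
    obtain ⟨a, s⟩ := as
    have ha : a ∉ (P.comap (algebraMap A (Localization.AtPrime p))).asIdeal := by
      intro ha
      apply hr
      have ha' : algebraMap A (Localization.AtPrime p) a ∈ P.asIdeal := ha
      rw [Localization.mk_eq_mk']
      rw [← IsLocalization.mk'_spec' (Localization.AtPrime p) a s] at ha'
      exact (Ideal.unit_mul_mem_iff_mem P.asIdeal (IsLocalization.map_units _ s)).mp ha'
    rw [LocalizedModule.mk_smul_mk, ← LocalizedModule.zero_mk (s * 1), LocalizedModule.mk_eq] at hrm
    obtain ⟨u, hu⟩ := hrm
    simp only [smul_zero] at hu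
    have hu' : ((u : A) * ((s * 1 : p.primeCompl) : A) * a) • m = 0 := by
      rw [mul_smul, mul_smul]
      exact hu
    have hup : (u : A) * ((s * 1 : p.primeCompl) : A) ∉
        (P.comap (algebraMap A (Localization.AtPrime p))).asIdeal := by
      intro h
      have h' : algebraMap A (Localization.AtPrime p) ((u : A) * ((s * 1 : p.primeCompl) : A)) ∈
        P.asIdeal := h
      have hunit : IsUnit (algebraMap A (Localization.AtPrime p)
          ((u : A) * ((s * 1 : p.primeCompl) : A))) :=
        IsLocalization.map_units _ (u * (s * 1))
      exact P.isPrime.ne_top (Ideal.eq_top_of_isUnit_mem _ h' hunit)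
    refine hm _ ?_ hu'
    intro h
    rcases (P.comap (algebraMap A (Localization.AtPrime p))).isPrime.mem_or_mem h with h | h
    · exact hup h
    · exact ha h

end Groth.Agent.H24
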