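import Mathlib.RingTheory.Nilpotent.GeometricallyReduced
import Mathlib.RingTheory.LocalRing.ResidueField.Ideal
import Mathlib.RingTheory.LocalRing.ResidueField.Fiber
import Mathlib.RingTheory.Flat.Basic
import Mathlib.RingTheory.Flat.Stability
import Mathlib.LinearAlgebra.TensorProduct.Pi
import Mathlib.RingTheory.Ideal.MinimalPrime.Basic
import Mathlib.FieldTheory.IsAlgClosed.AlgebraicClosure
import Mathlib.RingTheory.IntegralClosure.IsIntegralClosure.Basic
import Mathlib.RingTheory.Localization.FractionRing
import Mathlib.RingTheory.TensorProduct.Maps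

set_option autoImplicit false
universe u

namespace Groth.Agent.H24

open TensorProduct

theorem isReduced_pi {ι : Type*} (M : ι → Type*) [∀ i, MonoidWithZero (M i)]
    [∀ i, IsReduced (M i)] : IsReduced (∀ i, M i) := by
  constructor
  intro x hx
  obtain ⟨n, hn⟩ := hx
  funext i
  have : (x i) ^ n = 0 := congrFun hn i
  exact IsReduced.eq_zero _ ⟨n, this⟩

/-- A flat algebra over a reduced ring with finitely many minimal primes is reduced as soon as its
fibres at the minimal primes are reduced. -/
theorem isReduced_of_flat_of_fibres_minimalPrimes (R T : Type*) [CommRing R] [CommRing T]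
    [Algebra R T] [Module.Flat R T] [IsReduced R] (hfin : (minimalPrimes R).Finite)
    (h : ∀ (Q : Ideal R) (hQ : Q ∈ minimalPrimes R),
      let _ : Q.IsPrime := hQ.1.1
      IsReduced (T ⊗[R] Q.ResidueField)) : IsReduced T := by
  classical
  let ι := {Q : Ideal R // Q ∈ minimalPrimes R}
  have : Finite ι := hfin
  have := Fintype.ofFinite ι
  have hprime : ∀ Q : ι, Q.1.IsPrime := fun Q => Q.2.1.1
  let φ : R →ₗ[R] (∀ Q : ι, Q.1.ResidueField) :=
    LinearMap.pi (fun Q => Algebra.linearMap R Q.1.ResidueField)
  have hφ : Function.Injective φ := by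
    rw [injective_iff_map_eq_zero]
    intro r hr
    have h1 : ∀ Q : ι, r ∈ Q.1 := by
      intro Q
      have := congrFun hr Q
      simpa [φ, Ideal.algebraMap_residueField_eq_zero] using this
    have h2 : r ∈ sInf (minimalPrimes R) := by
      rw [Ideal.mem_sInf]
      intro Q hQ
      exact h1 ⟨Q, hQ⟩
    have h3 : sInf (minimalPrimes R) = (⊥ : Ideal R) := by
      change sInf (⊥ : Ideal R).minimalPrimes = ⊥
      rw [Ideal.sInf_minimalPrimes]
      exact nilradical_eq_zero R
    rw [h3] at h2
    exact h2
  have h1 := Module.Flat.lTensor_preserves_injective_linearMap (M := T) φ hφ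
  let Ψ : T →+* (∀ Q : ι, T ⊗[R] Q.1.ResidueField) :=
    RingHom.pi (fun Q =>
      (Algebra.TensorProduct.includeLeft : T →ₐ[R] T ⊗[R] Q.1.ResidueField).toRingHom)
  have hΨ : ∀ t, Ψ t = TensorProduct.piRight R R T (fun Q : ι => Q.1.ResidueField)
      (LinearMap.lTensor T φ ((TensorProduct.rid R T).symm t)) := by
    intro t
    funext Q
    simp only [Ψ, φ, RingHom.pi_apply, TensorProduct.rid_symm_apply, LinearMap.lTensor_tmul,
      TensorProduct.piRight_apply, TensorProduct.piRightHom_tmul, LinearMap.pi_apply,
      Algebra.linearMap_apply, map_one]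
    rfl
  have hinj : Function.Injective Ψ := by
    intro s t hst
    rw [hΨ, hΨ] at hst
    exact (TensorProduct.rid R T).symm.injective
      (h1 ((TensorProduct.piRight R R T _).injective hst))
  have : ∀ Q : ι, IsReduced (T ⊗[R] Q.1.ResidueField) := fun Q => h Q.1 Q.2
  have := isReduced_pi (fun Q : ι => T ⊗[R] Q.1.ResidueField)
  exact isReduced_of_injective Ψ hinj

/-- Reducedness ascends along a flat map `B → C` whose geometric fibres are reduced, for reduced
`B`-algebras `R` with finitely many minimal primes whose residue fields at minimal primes embed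
into algebraic closures of residue fields of `B`. -/
theorem isReduced_tensor_of_geomReducedFibres (B C R : Type u) [CommRing B] [CommRing C]
    [CommRing R] [Algebra B C] [Algebra B R] [Module.Flat B C]
    (hBC : ∀ (q : Ideal B) [q.IsPrime], IsReduced (AlgebraicClosure q.ResidueField ⊗[B] C))
    [IsReduced R] (hfin : (minimalPrimes R).Finite)
    (halg : ∀ (Q : Ideal R) (hQ : Q ∈ minimalPrimes R),
      let _ : Q.IsPrime := hQ.1.1
      ∃ (q : Ideal B) (_ : q.IsPrime),
        Nonempty (Q.ResidueField →ₐ[B] AlgebraicClosure q.ResidueField)) :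
    IsReduced (R ⊗[B] C) := by
  refine isReduced_of_flat_of_fibres_minimalPrimes R (R ⊗[B] C) hfin ?_
  intro Q hQ
  have hQprime : Q.IsPrime := hQ.1.1
  obtain ⟨q, hq, ⟨f⟩⟩ := halg Q hQ
  have := hBC q
  -- the composite `(R ⊗[B] C) ⊗[R] κ(Q) ≃ κ(Q) ⊗[R] (R ⊗[B] C) ≃ κ(Q) ⊗[B] C → Ω ⊗[B] C`
  let e1 : (R ⊗[B] C) ⊗[R] Q.ResidueField ≃ₐ[R] Q.ResidueField ⊗[R] (R ⊗[B] C) :=
    Algebra.TensorProduct.comm R (R ⊗[B] C) Q.ResidueField
  let e2 : Q.ResidueField ⊗[R] (R ⊗[B] C) ≃ₐ[R] Q.ResidueField ⊗[B] C :=
    Algebra.TensorProduct.cancelBaseChange B R R Q.ResidueField C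
  let g : Q.ResidueField ⊗[B] C →ₐ[B] AlgebraicClosure q.ResidueField ⊗[B] C :=
    Algebra.TensorProduct.map f (AlgHom.id B C)
  have hg : Function.Injective g :=
    Module.Flat.rTensor_preserves_injective_linearMap (M := C) f.toLinearMap f.injective
  let G : (R ⊗[B] C) ⊗[R] Q.ResidueField →+* AlgebraicClosure q.ResidueField ⊗[B] C :=
    g.toRingHom.comp (e2.toRingHom.comp e1.toRingHom)
  have hG : Function.Injective G := by
    intro x y hxy
    exact e1.injective (e2.injective (hg hxy))
  exact isReduced_of_injective G hG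

theorem nonempty_algHom_algebraicClosure (k F : Type u) [Field k] [Field F] [Algebra k F]
    [Algebra.IsAlgebraic k F] : Nonempty (F →ₐ[k] AlgebraicClosure k) := ⟨IsAlgClosed.lift⟩

/-- Residue fields of `B ⊗[A] K`, for `K` integral over the residue field `κ(p)` of a prime of `A`,
are algebraic over residue fields of `B`. -/
theorem exists_algHom_residueField_algebraicClosure (A B : Type u) [CommRing A] [CommRing B]
    [Algebra A B] (p : Ideal A) [p.IsPrime] (K : Type u) [CommRing K] [Algebra p.ResidueField K]
    [Algebra A K] [IsScalarTower A p.ResidueField K] [Algebra.IsIntegral p.ResidueField K]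
    (Q : Ideal (B ⊗[A] K)) [Q.IsPrime] :
    ∃ (q : Ideal B) (_ : q.IsPrime),
      Nonempty (Q.ResidueField →ₐ[B] AlgebraicClosure q.ResidueField) := by
  let R := B ⊗[A] K
  let F := Q.ResidueField
  let q : Ideal B := RingHom.ker (algebraMap B F)
  have hq : q.IsPrime := RingHom.ker_isPrime _
  refine ⟨q, hq, ?_⟩
  have hunits : q.primeCompl ≤ (IsUnit.submonoid F).comap (algebraMap B F) := by
    intro b hb
    change IsUnit (algebraMap B F b)
    rw [isUnit_iff_ne_zero]
    exact hb
  let ψ : q.ResidueField →+* F := Ideal.ResidueField.lift q (algebraMap B F) le_rfl hunits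
  let _ : Algebra q.ResidueField F := ψ.toAlgebra
  have hψ : ∀ b : B, algebraMap q.ResidueField F (algebraMap B q.ResidueField b) =
      algebraMap B F b := fun b => Ideal.ResidueField.lift_algebraMap q _ le_rfl hunits b
  have : IsScalarTower B q.ResidueField F := IsScalarTower.of_algebraMap_eq fun b => (hψ b).symm
  -- the map `K → F`
  let g : K →+* F := (algebraMap R F).comp
    (Algebra.TensorProduct.includeRight : K →ₐ[A] B ⊗[A] K).toRingHom
  -- the composite `κ(p) → K → F` is injective
  have hgk : Function.Injective (g.comp (algebraMap p.ResidueField K)) := RingHom.injective _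
  have hAF : ∀ a : A, algebraMap B F (algebraMap A B a) =
      g (algebraMap p.ResidueField K (algebraMap A p.ResidueField a)) := by
    intro a
    rw [← IsScalarTower.algebraMap_apply A p.ResidueField K]
    change _ = algebraMap R F ((1 : B) ⊗ₜ[A] algebraMap A K a)
    rw [IsScalarTower.algebraMap_apply B R F]
    congr 1
    rw [Algebra.TensorProduct.algebraMap_apply, Algebra.algebraMap_eq_smul_one (R := A) (A := K) a,
      Algebra.algebraMap_eq_smul_one (R := A) (A := B) a, Algebra.algebraMap_self, RingHom.id_apply,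
      TensorProduct.smul_tmul]
  have hpq : p = q.comap (algebraMap A B) := by
    ext a
    rw [Ideal.mem_comap, RingHom.mem_ker, hAF, ← RingHom.comp_apply,
      map_eq_zero_iff _ hgk, Ideal.algebraMap_residueField_eq_zero]
  let φ : p.ResidueField →+* q.ResidueField := Ideal.ResidueField.map p q (algebraMap A B) hpq
  have hcompat : (algebraMap q.ResidueField F).comp φ = g.comp (algebraMap p.ResidueField K) := by
    apply Ideal.ResidueField.ringHom_ext
    ext a
    simp only [RingHom.comp_apply]
    rw [Ideal.ResidueField.map_algebraMap, hψ, hAF]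
  -- all elements of `R` are integral over `κ(q)` in `F`
  have hint : ∀ r : R, IsIntegral q.ResidueField (algebraMap R F r) := by
    intro r
    induction r using TensorProduct.induction_on with
    | zero => rw [map_zero]; exact isIntegral_zero
    | add x y hx hy => rw [map_add]; exact hx.add hy
    | tmul b x =>
      have h1 : (b ⊗ₜ[A] x : R) = algebraMap B R b * (1 : B) ⊗ₜ[A] x := by
        rw [Algebra.TensorProduct.algebraMap_apply, Algebra.TensorProduct.tmul_mul_tmul]
        simp
      rw [h1, map_mul]
      refine IsIntegral.mul ?_ ?_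
      · rw [← IsScalarTower.algebraMap_apply B R F, ← hψ]
        exact isIntegral_algebraMap
      · exact IsIntegral.map_of_comp_eq φ g hcompat (Algebra.IsIntegral.isIntegral x)
  have halg : Algebra.IsAlgebraic q.ResidueField F := by
    refine ⟨fun y => ?_⟩
    rw [isAlgebraic_iff_isIntegral]
    obtain ⟨a, b, -, rfl⟩ := IsFractionRing.div_surjective (A := R ⧸ Q) y
    obtain ⟨a, rfl⟩ := Ideal.Quotient.mk_surjective a
    obtain ⟨b, rfl⟩ := Ideal.Quotient.mk_surjective b
    have ha : algebraMap (R ⧸ Q) F (Ideal.Quotient.mk Q a) = algebraMap R F a :=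
      (IsScalarTower.algebraMap_apply R (R ⧸ Q) F a).symm
    have hb : algebraMap (R ⧸ Q) F (Ideal.Quotient.mk Q b) = algebraMap R F b :=
      (IsScalarTower.algebraMap_apply R (R ⧸ Q) F b).symm
    rw [ha, hb, div_eq_mul_inv]
    exact (hint a).mul (hint b).inv
  obtain ⟨f0⟩ := nonempty_algHom_algebraicClosure q.ResidueField F
  exact ⟨f0.restrictScalars B⟩

end Groth.Agent.H24
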