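import Mathlib

/-!
# Flat monomorphisms of schemes induce isomorphisms on stalks
-/

set_option autoImplicit false
universe u
open CategoryTheory CategoryTheory.Limits AlgebraicGeometry TensorProduct

namespace Groth.Agent.H24

/-- A faithfully flat ring epimorphism is bijective. -/
theorem bijective_algebraMap_of_faithfullyFlat_of_isEpi (R S : Type u) [CommRing R] [CommRing S]
    [Algebra R S] [Module.FaithfullyFlat R S] [Algebra.IsEpi R S] :
    Function.Bijective (algebraMap R S) := by
  refine ⟨FaithfulSMul.algebraMap_injective R S, fun s => ?_⟩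
  have h := Algebra.IsEffective.of_faithfullyFlat R S
  have hs : Algebra.TensorProduct.includeLeftSubRight R S s = 0 := by
    rw [Algebra.TensorProduct.includeLeftSubRight_apply,
      (Algebra.isEpi_iff_forall_one_tmul_eq R S).mp inferInstance s, sub_self]
  obtain ⟨r, hr⟩ := (h s).mp hs
  exact ⟨r, hr⟩

/-- The stalk maps of a monomorphism of schemes are epimorphisms of rings. -/
theorem epi_stalkMap_of_mono {X Y : Scheme.{u}} (f : X ⟶ Y) [Mono f] (x : X) :
    Epi (f.stalkMap x) := by
  constructor
  intro R a b hab
  have h1 : Spec.map a ≫ X.fromSpecStalk x = Spec.map b ≫ X.fromSpecStalk x := by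
    rw [← cancel_mono f]
    simp only [Category.assoc, ← Scheme.SpecMap_stalkMap_fromSpecStalk]
    rw [← Spec.map_comp_assoc, ← Spec.map_comp_assoc, hab]
  have h2 : Spec.map a = Spec.map b := (cancel_mono _).mp h1
  exact Spec.map_injective h2

set_option backward.isDefEq.respectTransparency.types false in
/-- A flat monomorphism of schemes induces isomorphisms on stalks. -/
theorem isIso_stalkMap_of_flat_of_mono {X Y : Scheme.{u}} (f : X ⟶ Y) [Mono f] [Flat f] (x : X) :
    IsIso (f.stalkMap x) := by
  have hepi := epi_stalkMap_of_mono f x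
  algebraize [(f.stalkMap x).hom]
  have hff : Module.FaithfullyFlat (Y.presheaf.stalk (f x)) (X.presheaf.stalk x) :=
    @Module.FaithfullyFlat.of_flat_of_isLocalHom _ _ _ _ _ _ _
      (Flat.stalkMap f x) (f.toLRSHom.prop x)
  have hIsEpi : Algebra.IsEpi (Y.presheaf.stalk (f x)) (X.presheaf.stalk x) :=
    CommRingCat.epi_iff_epi.mp hepi
  have hbij := bijective_algebraMap_of_faithfullyFlat_of_isEpi
    (Y.presheaf.stalk (f x)) (X.presheaf.stalk x)
  exact (ConcreteCategory.isIso_iff_bijective (f.stalkMap x)).mpr hbij

end Groth.Agent.H24
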