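import Mathlib

/-!
# The diagonal of a base change is a base change of the diagonal (helper24)
-/

set_option autoImplicit false
universe v u
open CategoryTheory CategoryTheory.Limits

namespace Groth.Agent.H24

variable {C : Type u} [Category.{v} C] [HasPullbacks C]
  {X' Y' X₀ Y₀ : C} {pX : X' ⟶ X₀} {f' : X' ⟶ Y'} {f₀ : X₀ ⟶ Y₀} {pY : Y' ⟶ Y₀}

/-- The induced map `X' ×_{Y'} X' ⟶ X₀ ×_{Y₀} X₀`. -/
noncomputable abbrev diagMap (h : IsPullback pX f' f₀ pY) : pullback f' f' ⟶ pullback f₀ f₀ :=
  pullback.map f' f' f₀ f₀ pX pX pY h.w.symm h.w.symm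

@[reassoc]
theorem diagMap_fst (h : IsPullback pX f' f₀ pY) :
    diagMap h ≫ pullback.fst f₀ f₀ = pullback.fst f' f' ≫ pX :=
  pullback.lift_fst _ _ _

@[reassoc]
theorem diagMap_snd (h : IsPullback pX f' f₀ pY) :
    diagMap h ≫ pullback.snd f₀ f₀ = pullback.snd f' f' ≫ pX :=
  pullback.lift_snd _ _ _

theorem isPullback_diagMap_fst (h : IsPullback pX f' f₀ pY) :
    IsPullback (diagMap h) (pullback.fst f' f') (pullback.fst f₀ f₀) pX := by
  have h1 : IsPullback (pullback.snd f' f' ≫ pX) (pullback.fst f' f') f₀ (f' ≫ pY) :=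
    (IsPullback.of_hasPullback f' f').flip.paste_horiz h
  have h4 : IsPullback (diagMap h ≫ pullback.snd f₀ f₀) (pullback.fst f' f') f₀ (pX ≫ f₀) := by
    rw [diagMap_snd, h.w]
    exact h1
  exact IsPullback.of_right h4 (diagMap_fst h) (IsPullback.of_hasPullback f₀ f₀).flip

theorem isPullback_diagMap_comp (h : IsPullback pX f' f₀ pY) :
    IsPullback (diagMap h) (pullback.fst f' f' ≫ f') (pullback.fst f₀ f₀ ≫ f₀) pY :=
  (isPullback_diagMap_fst h).paste_vert h

theorem isPullback_diagonal (h : IsPullback pX f' f₀ pY) :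
    IsPullback (pullback.diagonal f') pX (diagMap h) (pullback.diagonal f₀) := by
  have h1 := isPullback_diagMap_fst h
  have hw : pullback.diagonal f' ≫ diagMap h = pX ≫ pullback.diagonal f₀ := by
    apply pullback.hom_ext
    · rw [Category.assoc, diagMap_fst, pullback.diagonal_fst_assoc, Category.assoc,
        pullback.diagonal_fst, Category.comp_id]
    · rw [Category.assoc, diagMap_snd, pullback.diagonal_snd_assoc, Category.assoc,
        pullback.diagonal_snd, Category.comp_id]
  refine IsPullback.of_right ?_ hw h1.flip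
  rw [pullback.diagonal_fst, pullback.diagonal_fst]
  exact IsPullback.of_horiz_isIso ⟨by simp⟩

end Groth.Agent.H24
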