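import Mathlib

/-!
# Base change of a cofiltered limit of schemes along a morphism to one of the stages

Given a cone `c` over `D : I ⥤ Scheme`, an index `i₀` and `g : T ⟶ D.obj i₀`, the pullbacks
`D_j ×_{D_{i₀}} T` (for `j ⟶ i₀`) form a diagram over `Over i₀`, and `c.pt ×_{D_{i₀}} T` is its limit
when `c` is a limit cone (pullbacks commute with connected limits).
-/

set_option autoImplicit false
universe u
open CategoryTheory CategoryTheory.Limits AlgebraicGeometry

namespace Groth.Agent.H24

variable {I : Type u} [Category.{u} I] (D : I ⥤ Scheme.{u}) (c : Cone D) (i₀ : I)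
  {T : Scheme.{u}} (g : T ⟶ D.obj i₀)

set_option backward.isDefEq.respectTransparency false in
/-- The diagram `j ↦ D_j ×_{D_{i₀}} T` indexed by `Over i₀`. -/
noncomputable def pullbackDiagram : Over i₀ ⥤ Scheme.{u} where
  obj φ := pullback (D.map φ.hom) g
  map {φ ψ} f := pullback.map (D.map φ.hom) g (D.map ψ.hom) g (D.map f.left) (𝟙 T) (𝟙 _)
    (by rw [Category.comp_id, ← D.map_comp, Over.w f]) (by simp)
  map_id φ := by
    apply pullback.hom_ext <;> simp [pullback.map]
  map_comp f f' := by
    apply pullback.hom_ext <;> simp [pullback.map]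

set_option backward.isDefEq.respectTransparency false in
/-- The projection to the original diagram. -/
noncomputable def pullbackDiagramι : pullbackDiagram D i₀ g ⟶ Over.forget i₀ ⋙ D where
  app φ := pullback.fst (D.map φ.hom) g
  naturality φ ψ f := by simp [pullbackDiagram, pullback.map]

set_option backward.isDefEq.respectTransparency false in
/-- The cone with point `c.pt ×_{D_{i₀}} T`. -/
noncomputable def pullbackCone : Cone (pullbackDiagram D i₀ g) where
  pt := pullback (c.π.app i₀) g
  π :=
    { app := fun φ => pullback.map (c.π.app i₀) g (D.map φ.hom) g (c.π.app φ.left) (𝟙 T) (𝟙 _)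
        (by simp) (by simp)
      naturality := fun φ ψ f => by
        apply pullback.hom_ext <;> simp [pullbackDiagram, pullback.map] }

set_option backward.isDefEq.respectTransparency false in
@[reassoc]
theorem pullbackDiagram_map_snd {φ ψ : Over i₀} (f : φ ⟶ ψ) :
    (pullbackDiagram D i₀ g).map f ≫ pullback.snd (D.map ψ.hom) g =
      pullback.snd (D.map φ.hom) g := by
  simp [pullbackDiagram, pullback.map]

set_option backward.isDefEq.respectTransparency false in
@[reassoc]
theorem pullbackDiagram_map_fst {φ ψ : Over i₀} (f : φ ⟶ ψ) :
    (pullbackDiagram D i₀ g).map f ≫ pullback.fst (D.map ψ.hom) g =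
      pullback.fst (D.map φ.hom) g ≫ D.map f.left := by
  simp [pullbackDiagram, pullback.map]

set_option backward.isDefEq.respectTransparency false in
@[reassoc]
theorem pullbackCone_π_snd (φ : Over i₀) :
    (pullbackCone D c i₀ g).π.app φ ≫ pullback.snd (D.map φ.hom) g =
      pullback.snd (c.π.app i₀) g := by
  simp [pullbackCone, pullback.map]

set_option backward.isDefEq.respectTransparency false in
@[reassoc]
theorem pullbackCone_π_fst (φ : Over i₀) :
    (pullbackCone D c i₀ g).π.app φ ≫ pullback.fst (D.map φ.hom) g =
      pullback.fst (c.π.app i₀) g ≫ c.π.app φ.left := by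
  simp [pullbackCone, pullback.map]

set_option backward.isDefEq.respectTransparency false in
/-- The projection of the base-changed cone is a base change of the original projection. -/
theorem isPullback_pullbackCone_π (φ : Over i₀) :
    IsPullback ((pullbackCone D c i₀ g).π.app φ) (pullback.fst (c.π.app i₀) g)
      (pullback.fst (D.map φ.hom) g) (c.π.app φ.left) := by
  refine IsPullback.of_right ?_ (pullbackCone_π_fst D c i₀ g φ)
    (IsPullback.of_hasPullback (D.map φ.hom) g).flip
  have h2 : c.π.app φ.left ≫ D.map φ.hom = c.π.app i₀ := by simp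
  rw [pullbackCone_π_snd, h2]
  exact (IsPullback.of_hasPullback (c.π.app i₀) g).flip

set_option backward.isDefEq.respectTransparency false in
/-- The transition maps of the base-changed diagram are base changes of the original ones. -/
theorem isPullback_pullbackDiagram_map {φ ψ : Over i₀} (f : φ ⟶ ψ) :
    IsPullback ((pullbackDiagram D i₀ g).map f) (pullback.fst (D.map φ.hom) g)
      (pullback.fst (D.map ψ.hom) g) (D.map f.left) := by
  refine IsPullback.of_right ?_ (pullbackDiagram_map_fst D i₀ g f)
    (IsPullback.of_hasPullback (D.map ψ.hom) g).flip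
  have h2 : D.map f.left ≫ D.map ψ.hom = D.map φ.hom := by
    rw [← D.map_comp, Over.w f]
  rw [pullbackDiagram_map_snd, h2]
  exact (IsPullback.of_hasPullback (D.map φ.hom) g).flip

attribute [local instance] CategoryTheory.isConnected_of_hasTerminal

set_option backward.isDefEq.respectTransparency false in
/-- `c.pt ×_{D_{i₀}} T` is the limit of the `D_j ×_{D_{i₀}} T`. -/
noncomputable def isLimitPullbackCone [IsCofiltered I] (hc : IsLimit c) :
    IsLimit (pullbackCone D c i₀ g) :=
  isLimitOfIsPullbackOfIsConnected (pullbackDiagramι D i₀ g) _ (c.whisker (Over.forget i₀))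
    { hom := pullback.fst (c.π.app i₀) g
      w := fun φ => by simp [pullbackCone, pullbackDiagramι, pullback.map] }
    (fun φ => by
      refine IsPullback.of_right ?_ ?_ (IsPullback.of_hasPullback (D.map φ.hom) g).flip
      · have h1 : (pullbackCone D c i₀ g).π.app φ ≫ pullback.snd (D.map φ.hom) g =
            pullback.snd (c.π.app i₀) g := by simp [pullbackCone, pullback.map]
        have h2 : (c.whisker (Over.forget i₀)).π.app φ ≫ D.map φ.hom = c.π.app i₀ := by simp
        rw [h1, h2]
        exact (IsPullback.of_hasPullback (c.π.app i₀) g).flip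
      · simp [pullbackCone, pullbackDiagramι, pullback.map])
    ((Functor.Initial.isLimitWhiskerEquiv (Over.forget i₀) c).symm hc)

end Groth.Agent.H24
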