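import Mathlib
import Groth.Agent.H24.LimitBaseChange

/-!
# Open maps and cofiltered limits of schemes with affine transition maps
-/

set_option autoImplicit false
universe u
open CategoryTheory CategoryTheory.Limits AlgebraicGeometry

namespace Groth.Agent.H24

variable {I : Type u} [Category.{u} I] [IsCofiltered I] (D : I ⥤ Scheme.{u}) (c : Cone D)
  [∀ {i j} (f : i ⟶ j), IsAffineHom (D.map f)] (i₀ : I)
  {X₀ Y₀ : Scheme.{u}} (f₀ : X₀ ⟶ Y₀) (g₀ : Y₀ ⟶ D.obj i₀)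

/-- The base change of `f₀` to the stage `ψ`. -/
noncomputable def stageMap (ψ : Over i₀) :
    pullback (D.map ψ.hom) (f₀ ≫ g₀) ⟶ pullback (D.map ψ.hom) g₀ :=
  (IsPullback.of_hasPullback (D.map ψ.hom) g₀).flip.lift
    (pullback.snd (D.map ψ.hom) (f₀ ≫ g₀) ≫ f₀) (pullback.fst (D.map ψ.hom) (f₀ ≫ g₀))
    (by rw [Category.assoc, ← pullback.condition])

omit [IsCofiltered I] [∀ {i j} (f : i ⟶ j), IsAffineHom (D.map f)] in
theorem isPullback_stageMap (ψ : Over i₀) :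
    IsPullback (pullback.snd (D.map ψ.hom) (f₀ ≫ g₀)) (stageMap D i₀ f₀ g₀ ψ) f₀
      (pullback.snd (D.map ψ.hom) g₀) :=
  IsPullback.of_bot' (IsPullback.of_hasPullback (D.map ψ.hom) (f₀ ≫ g₀)).flip
    (IsPullback.of_hasPullback (D.map ψ.hom) g₀).flip

set_option backward.isDefEq.respectTransparency false in
/-- If the stage maps are open for all stages refining some `ψ₀`, the base change to the limit is
open (normalized form on `pullback (c.π.app i₀) (f₀ ≫ g₀)`). -/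
theorem isOpenMap_of_stageMap (hc : IsLimit c) {Y : Scheme.{u}} (g : Y ⟶ c.pt) (qY : Y ⟶ Y₀)
    (hY : IsPullback qY g g₀ (c.π.app i₀))
    (ψ₀ : Over i₀)
    (h : ∀ (ψ : Over i₀) (_ : ψ ⟶ ψ₀), IsOpenMap (stageMap D i₀ f₀ g₀ ψ).base) :
    IsOpenMap (hY.lift (pullback.snd (c.π.app i₀) (f₀ ≫ g₀) ≫ f₀)
      (pullback.fst (c.π.app i₀) (f₀ ≫ g₀)) (by rw [Category.assoc, ← pullback.condition])).base := by
  set f' := hY.lift (pullback.snd (c.π.app i₀) (f₀ ≫ g₀) ≫ f₀)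
    (pullback.fst (c.π.app i₀) (f₀ ≫ g₀)) (by rw [Category.assoc, ← pullback.condition]) with hf'
  have hX' : IsPullback (pullback.snd (c.π.app i₀) (f₀ ≫ g₀)) f' f₀ qY :=
    IsPullback.of_bot' (IsPullback.of_hasPullback (c.π.app i₀) (f₀ ≫ g₀)).flip hY
  let F := pullbackDiagram D i₀ (f₀ ≫ g₀)
  let cF := pullbackCone D c i₀ (f₀ ≫ g₀)
  have hcF : IsLimit cF := isLimitPullbackCone D c i₀ (f₀ ≫ g₀) hc
  have hFaff : ∀ {φ ψ : Over i₀} (f : φ ⟶ ψ), IsAffineHom (F.map f) := fun f =>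
    MorphismProperty.of_isPullback (P := @IsAffineHom)
      (isPullback_pullbackDiagram_map D i₀ (f₀ ≫ g₀) f).flip inferInstance
  have hbasis := isBasis_preimage_isAffineOpen F cF hcF
  intro U hU
  rw [isOpen_iff_mem_nhds]
  rintro _ ⟨x, hxU, rfl⟩
  obtain ⟨_, ⟨ψ₁, V₁, hV₁, rfl⟩, hxV, hVU⟩ :=
    TopologicalSpace.Opens.isBasis_iff_nbhd.mp hbasis (U := ⟨U, hU⟩) hxU
  -- refine the stage so that it lies over `ψ₀`
  let ψ := IsCofiltered.min ψ₁ ψ₀
  let a : ψ ⟶ ψ₁ := IsCofiltered.minToLeft ψ₁ ψ₀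
  let b : ψ ⟶ ψ₀ := IsCofiltered.minToRight ψ₁ ψ₀
  let V : (F.obj ψ).Opens := F.map a ⁻¹ᵁ V₁
  have hVeq : cF.π.app ψ ⁻¹ᵁ V = cF.π.app ψ₁ ⁻¹ᵁ V₁ := by
    rw [← Scheme.Hom.comp_preimage, cF.w]
  -- the map `Y ⟶ Y_ψ`
  let r : Y ⟶ pullback (D.map ψ.hom) g₀ :=
    (IsPullback.of_hasPullback (D.map ψ.hom) g₀).flip.lift qY (g ≫ c.π.app ψ.left)
      (by rw [hY.w, Category.assoc, c.w])
  have hr1 : r ≫ pullback.snd (D.map ψ.hom) g₀ = qY := IsPullback.lift_fst _ _ _ _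
  have hr2 : r ≫ pullback.fst (D.map ψ.hom) g₀ = g ≫ c.π.app ψ.left := IsPullback.lift_snd _ _ _ _
  have hsq : IsPullback (cF.π.app ψ) f' (stageMap D i₀ f₀ g₀ ψ) r := by
    refine IsPullback.of_right ?_ ?_ (isPullback_stageMap D i₀ f₀ g₀ ψ)
    · rw [pullbackCone_π_snd, hr1]
      exact hX'
    · apply (IsPullback.of_hasPullback (D.map ψ.hom) g₀).flip.hom_ext
      · rw [Category.assoc, Category.assoc, hr1, hX'.w.symm,
          (isPullback_stageMap D i₀ f₀ g₀ ψ).w.symm, ← Category.assoc, pullbackCone_π_snd]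
      · have h1 : stageMap D i₀ f₀ g₀ ψ ≫ pullback.fst (D.map ψ.hom) g₀ =
            pullback.fst (D.map ψ.hom) (f₀ ≫ g₀) := IsPullback.lift_snd _ _ _ _
        have h2 : f' ≫ g = pullback.fst (c.π.app i₀) (f₀ ≫ g₀) := hY.lift_snd _ _ _
        rw [Category.assoc, Category.assoc, hr2, h1, pullbackCone_π_fst, ← Category.assoc, h2]
  have himg : f'.base '' ((cF.π.app ψ).base ⁻¹' (V : Set (F.obj ψ))) =
      r.base ⁻¹' ((stageMap D i₀ f₀ g₀ ψ).base '' (V : Set (F.obj ψ))) :=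
    Scheme.image_preimage_eq_of_isPullback hsq _
  have hopen : IsOpen (f'.base '' ((cF.π.app ψ).base ⁻¹' (V : Set (F.obj ψ)))) := by
    rw [himg]
    exact (h ψ b _ V.2).preimage r.continuous
  refine Filter.mem_of_superset (hopen.mem_nhds ?_) ?_
  · refine ⟨x, ?_, rfl⟩
    have : x ∈ cF.π.app ψ ⁻¹ᵁ V := by rw [hVeq]; exact hxV
    exact this
  · apply Set.image_mono
    intro y hy
    have : y ∈ cF.π.app ψ ⁻¹ᵁ V := hy
    rw [hVeq] at this
    exact hVU this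

end Groth.Agent.H24
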