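import Mathlib
import Groth.Agent.H24.LimitOpenMap

/-!
# Affineness descends to a stage of a cofiltered limit (helper24)

Setup: `S = lim S_i` with affine transition maps, `g₀ : Y₀ ⟶ S_{i₀}`, `f₀ : X₀ ⟶ Y₀` with `X₀`, `Y₀`
quasi-compact and quasi-separated; `f : X ⟶ Y` the base change of `f₀` to `S`.  If `f` is affine
then the base change `stageMap D i₀ f₀ g₀ ψ` of `f₀` to some stage is affine.
-/

set_option autoImplicit false
universe u
open CategoryTheory CategoryTheory.Limits AlgebraicGeometry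

namespace Groth.Agent.H24

variable {I : Type u} [Category.{u} I] [IsCofiltered I] (D : I ⥤ Scheme.{u}) (c : Cone D)
  [∀ {i j} (f : i ⟶ j), IsAffineHom (D.map f)] (i₀ : I)
  {X₀ Y₀ : Scheme.{u}} (f₀ : X₀ ⟶ Y₀) (g₀ : Y₀ ⟶ D.obj i₀)

/-- the unique map to the terminal object `𝟙 i₀` of `Over i₀` -/
def toMkId (ψ : Over i₀) : ψ ⟶ Over.mk (𝟙 i₀) := Over.homMk ψ.hom

omit [IsCofiltered I] [∀ {i j} (f : i ⟶ j), IsAffineHom (D.map f)] in
theorem hom_mkId_eq {ψ : Over i₀} (a b : ψ ⟶ Over.mk (𝟙 i₀)) : a = b := by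
  apply Over.OverMorphism.ext
  have ha : a.left = ψ.hom := by simpa using Over.w a
  have hb : b.left = ψ.hom := by simpa using Over.w b
  rw [ha, hb]

/-- The projection `X_ψ ⟶ X₀`, typed on the diagram. -/
noncomputable def stageSnd (ψ : Over i₀) : (pullbackDiagram D i₀ (f₀ ≫ g₀)).obj ψ ⟶ X₀ :=
  pullback.snd (D.map ψ.hom) (f₀ ≫ g₀)

omit [IsCofiltered I] [∀ {i j} (f : i ⟶ j), IsAffineHom (D.map f)] in
@[reassoc]
theorem map_stageSnd {ψ ψ' : Over i₀} (a : ψ ⟶ ψ') :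
    (pullbackDiagram D i₀ (f₀ ≫ g₀)).map a ≫ stageSnd D i₀ f₀ g₀ ψ' = stageSnd D i₀ f₀ g₀ ψ :=
  pullbackDiagram_map_snd D i₀ (f₀ ≫ g₀) a

omit [IsCofiltered I] [∀ {i j} (f : i ⟶ j), IsAffineHom (D.map f)] in
@[reassoc]
theorem cone_stageSnd (ψ : Over i₀) :
    (pullbackCone D c i₀ (f₀ ≫ g₀)).π.app ψ ≫ stageSnd D i₀ f₀ g₀ ψ =
      pullback.snd (c.π.app i₀) (f₀ ≫ g₀) :=
  pullbackCone_π_snd D c i₀ (f₀ ≫ g₀) ψ

/-- The preimage of an open of `X₀` in the stage `X_ψ`. -/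
noncomputable def stageOpen (ψ : Over i₀) (U : X₀.Opens) :
    ((pullbackDiagram D i₀ (f₀ ≫ g₀)).obj ψ).Opens :=
  stageSnd D i₀ f₀ g₀ ψ ⁻¹ᵁ U

omit [IsCofiltered I] [∀ {i j} (f : i ⟶ j), IsAffineHom (D.map f)] in
theorem stageOpen_map {ψ ψ' : Over i₀} (a : ψ ⟶ ψ') (U : X₀.Opens) :
    (pullbackDiagram D i₀ (f₀ ≫ g₀)).map a ⁻¹ᵁ stageOpen D i₀ f₀ g₀ ψ' U =
      stageOpen D i₀ f₀ g₀ ψ U := by
  rw [stageOpen, stageOpen, ← Scheme.Hom.comp_preimage, map_stageSnd]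

omit [IsCofiltered I] in
instance isAffineHom_stageSnd (ψ : Over i₀) : IsAffineHom (stageSnd D i₀ f₀ g₀ ψ) :=
  MorphismProperty.pullback_snd (P := @IsAffineHom) _ _ inferInstance

set_option backward.isDefEq.respectTransparency false in
/-- For a quasi-compact open `U ⊆ X₀` whose preimage in the limit is affine, the preimage in some
stage is affine. -/
theorem exists_isAffineOpen_stageOpen (hc : IsLimit c) [QuasiSeparatedSpace X₀] (U : X₀.Opens)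
    (hU : IsCompact (U : Set X₀))
    (hlim : IsAffineOpen (pullback.snd (c.π.app i₀) (f₀ ≫ g₀) ⁻¹ᵁ U)) :
    ∃ ψ : Over i₀, IsAffineOpen (stageOpen D i₀ f₀ g₀ ψ U) := by
  let F := pullbackDiagram D i₀ (f₀ ≫ g₀)
  let cF := pullbackCone D c i₀ (f₀ ≫ g₀)
  have hcF : IsLimit cF := isLimitPullbackCone D c i₀ (f₀ ≫ g₀) hc
  have hFaff : ∀ {φ ψ : Over i₀} (f : φ ⟶ ψ), IsAffineHom (F.map f) := fun f =>
    MorphismProperty.of_isPullback (P := @IsAffineHom)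
      (isPullback_pullbackDiagram_map D i₀ (f₀ ≫ g₀) f).flip inferInstance
  let φ₀ : Over i₀ := Over.mk (𝟙 i₀)
  let U' : (F.obj φ₀).Opens := stageOpen D i₀ f₀ g₀ φ₀ U
  have hobj : ∀ j : Over φ₀, F.map j.hom ⁻¹ᵁ U' = stageOpen D i₀ f₀ g₀ j.left U :=
    fun j => stageOpen_map D i₀ f₀ g₀ j.hom U
  have hcpt : ∀ j : Over φ₀, CompactSpace ((opensDiagram F φ₀ U').obj j) := by
    intro j
    change CompactSpace ↥(F.map j.hom ⁻¹ᵁ U')
    rw [hobj]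
    exact isCompact_iff_compactSpace.mp ((stageSnd D i₀ f₀ g₀ j.left).isCompact_preimage hU)
  have hqs : ∀ j : Over φ₀, QuasiSeparatedSpace ((opensDiagram F φ₀ U').obj j) := by
    intro j
    have : QuasiSeparatedSpace (F.obj j.left) :=
      quasiSeparatedSpace_of_quasiSeparated (stageSnd D i₀ f₀ g₀ j.left)
    exact QuasiSeparatedSpace.of_isOpenEmbedding (F.map j.hom ⁻¹ᵁ U').ι.isOpenEmbedding
  have haffpt : IsAffine (opensCone F cF φ₀ U').pt := by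
    change IsAffineOpen (cF.π.app φ₀ ⁻¹ᵁ U')
    have : cF.π.app φ₀ ⁻¹ᵁ U' = pullback.snd (c.π.app i₀) (f₀ ≫ g₀) ⁻¹ᵁ U := by
      change cF.π.app φ₀ ⁻¹ᵁ (stageSnd D i₀ f₀ g₀ φ₀ ⁻¹ᵁ U) = _
      rw [← Scheme.Hom.comp_preimage, cone_stageSnd]
    rw [this]
    exact hlim
  obtain ⟨j, hj⟩ := Scheme.exists_isAffine_of_isLimit (opensDiagram F φ₀ U')
    (opensCone F cF φ₀ U') (isLimitOpensCone F cF hcF φ₀ U')
  refine ⟨j.left, ?_⟩
  rw [← hobj]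
  exact hj

set_option backward.isDefEq.respectTransparency false in
/-- **Affineness descends to a stage.** -/
theorem exists_isAffineHom_stageMap (hc : IsLimit c) [CompactSpace X₀] [QuasiSeparatedSpace X₀]
    [CompactSpace Y₀] [QuasiSeparatedSpace Y₀] {X Y : Scheme.{u}} (f : X ⟶ Y) (g : Y ⟶ c.pt)
    (qY : Y ⟶ Y₀) (qX : X ⟶ X₀) (hY : IsPullback qY g g₀ (c.π.app i₀))
    (hX : IsPullback qX f f₀ qY) [IsAffineHom f] :
    ∃ ψ : Over i₀, IsAffineHom (stageMap D i₀ f₀ g₀ ψ) := by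
  classical
  let F := pullbackDiagram D i₀ (f₀ ≫ g₀)
  have hFaff : ∀ {φ ψ : Over i₀} (f : φ ⟶ ψ), IsAffineHom (F.map f) := fun f =>
    MorphismProperty.of_isPullback (P := @IsAffineHom)
      (isPullback_pullbackDiagram_map D i₀ (f₀ ≫ g₀) f).flip inferInstance
  let sc := pullback.snd (c.π.app i₀) (f₀ ≫ g₀)
  let f' := hY.lift (sc ≫ f₀) (pullback.fst (c.π.app i₀) (f₀ ≫ g₀))
    (by rw [Category.assoc, ← pullback.condition])
  have hX' : IsPullback sc f' f₀ qY :=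
    IsPullback.of_bot' (IsPullback.of_hasPullback (c.π.app i₀) (f₀ ≫ g₀)).flip hY
  have hf'aff : IsAffineHom f' := by
    have e : f' = (hX'.isoIsPullback _ _ hX).hom ≫ f :=
      (IsPullback.isoIsPullback_hom_snd _ _ hX' hX).symm
    rw [e]
    infer_instance
  have hπaff : IsAffineHom (c.π.app i₀) := isAffineHom_π_app D c hc i₀
  have hqYaff : IsAffineHom qY := MorphismProperty.of_isPullback (P := @IsAffineHom) hY.flip hπaff
  obtain ⟨s, hs, hcov⟩ := isCompact_iff_finite_and_eq_biUnion_affineOpens.mp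
    (show IsCompact ((⊤ : Y₀.Opens) : Set Y₀) from isCompact_univ)
  have key : ∀ V : s, ∃ ψ : Over i₀, IsAffineOpen (stageOpen D i₀ f₀ g₀ ψ (f₀ ⁻¹ᵁ V.1.1)) := by
    intro V
    refine exists_isAffineOpen_stageOpen D c i₀ f₀ g₀ hc (f₀ ⁻¹ᵁ V.1.1)
      (f₀.isCompact_preimage V.1.2.isCompact) ?_
    have : sc ⁻¹ᵁ (f₀ ⁻¹ᵁ V.1.1) = f' ⁻¹ᵁ (qY ⁻¹ᵁ V.1.1) := by
      rw [← Scheme.Hom.comp_preimage, ← Scheme.Hom.comp_preimage, hX'.w]
    rw [this]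
    exact (V.1.2.preimage qY).preimage f'
  choose ψV hψV using key
  have := hs.fintype
  obtain ⟨ψ, hψ⟩ := IsCofiltered.inf_objs_exists (Finset.univ.image ψV)
  have hall : ∀ V : s, IsAffineOpen (stageOpen D i₀ f₀ g₀ ψ (f₀ ⁻¹ᵁ V.1.1)) := by
    intro V
    let b : ψ ⟶ ψV V := (hψ (Finset.mem_image_of_mem _ (Finset.mem_univ V))).some
    rw [← stageOpen_map D i₀ f₀ g₀ b]
    exact (hψV V).preimage (F.map b)
  refine ⟨ψ, isAffineHom_of_forall_exists_isAffineOpen _ fun y => ?_⟩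
  have hy : (pullback.snd (D.map ψ.hom) g₀).base y ∈ (⊤ : Y₀.Opens) := trivial
  rw [hcov] at hy
  simp only [TopologicalSpace.Opens.mem_iSup] at hy
  obtain ⟨V, hVs, hyV⟩ := hy
  have hsnd : IsAffineHom (pullback.snd (D.map ψ.hom) g₀) :=
    MorphismProperty.pullback_snd (P := @IsAffineHom) _ _ inferInstance
  refine ⟨pullback.snd (D.map ψ.hom) g₀ ⁻¹ᵁ V.1, hyV, V.2.preimage _, ?_⟩
  have : stageMap D i₀ f₀ g₀ ψ ⁻¹ᵁ (pullback.snd (D.map ψ.hom) g₀ ⁻¹ᵁ V.1) =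
      stageOpen D i₀ f₀ g₀ ψ (f₀ ⁻¹ᵁ V.1) := by
    change _ = pullback.snd (D.map ψ.hom) (f₀ ≫ g₀) ⁻¹ᵁ (f₀ ⁻¹ᵁ V.1)
    rw [← Scheme.Hom.comp_preimage, ← Scheme.Hom.comp_preimage,
      (isPullback_stageMap D i₀ f₀ g₀ ψ).w]
  rw [this]
  exact hall ⟨V, hVs⟩

end Groth.Agent.H24
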