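import Mathlib
import Groth.Agent.H24.LimitAffine

/-!
# Isomorphisms descend to a stage of a cofiltered limit (helper24)

Setup: `S = lim S_i` with affine transition maps, `g₀ : Y₀ ⟶ S_{i₀}`, `f₀ : X₀ ⟶ Y₀` locally of finite
presentation with `X₀`, `Y₀` quasi-compact and quasi-separated.  If the base change of `f₀` to the
limit is an isomorphism, so is `stageMap D i₀ f₀ g₀ ψ` for some `ψ`.
-/

set_option autoImplicit false
universe u
open CategoryTheory CategoryTheory.Limits AlgebraicGeometry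

namespace Groth.Agent.H24

variable {I : Type u} [Category.{u} I] (D : I ⥤ Scheme.{u}) (c : Cone D) (i₀ : I)
  {X₀ Y₀ : Scheme.{u}} (f₀ : X₀ ⟶ Y₀) (g₀ : Y₀ ⟶ D.obj i₀)

@[reassoc]
theorem stageMap_snd (ψ : Over i₀) :
    stageMap D i₀ f₀ g₀ ψ ≫ pullback.snd (D.map ψ.hom) g₀ =
      pullback.snd (D.map ψ.hom) (f₀ ≫ g₀) ≫ f₀ :=
  (isPullback_stageMap D i₀ f₀ g₀ ψ).w.symm

@[reassoc]
theorem stageMap_fst (ψ : Over i₀) :
    stageMap D i₀ f₀ g₀ ψ ≫ pullback.fst (D.map ψ.hom) g₀ =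
      pullback.fst (D.map ψ.hom) (f₀ ≫ g₀) :=
  (IsPullback.of_hasPullback (D.map ψ.hom) g₀).flip.lift_snd _ _ _

/-- The base change of `f₀` to the limit, in normalized form. -/
noncomputable def limMap :
    pullback (c.π.app i₀) (f₀ ≫ g₀) ⟶ pullback (c.π.app i₀) g₀ :=
  (IsPullback.of_hasPullback (c.π.app i₀) g₀).flip.lift
    (pullback.snd (c.π.app i₀) (f₀ ≫ g₀) ≫ f₀) (pullback.fst (c.π.app i₀) (f₀ ≫ g₀))
    (by rw [Category.assoc, ← pullback.condition])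

theorem isPullback_limMap :
    IsPullback (pullback.snd (c.π.app i₀) (f₀ ≫ g₀)) (limMap D c i₀ f₀ g₀) f₀
      (pullback.snd (c.π.app i₀) g₀) :=
  IsPullback.of_bot' (IsPullback.of_hasPullback (c.π.app i₀) (f₀ ≫ g₀)).flip
    (IsPullback.of_hasPullback (c.π.app i₀) g₀).flip

@[reassoc]
theorem limMap_snd :
    limMap D c i₀ f₀ g₀ ≫ pullback.snd (c.π.app i₀) g₀ =
      pullback.snd (c.π.app i₀) (f₀ ≫ g₀) ≫ f₀ :=
  (isPullback_limMap D c i₀ f₀ g₀).w.symm

@[reassoc]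
theorem limMap_fst :
    limMap D c i₀ f₀ g₀ ≫ pullback.fst (c.π.app i₀) g₀ =
      pullback.fst (c.π.app i₀) (f₀ ≫ g₀) :=
  (IsPullback.of_hasPullback (c.π.app i₀) g₀).flip.lift_snd _ _ _

set_option backward.isDefEq.respectTransparency false in
/-- Naturality of the stage maps. -/
@[reassoc]
theorem map_stageMap {ψ ψ' : Over i₀} (b : ψ' ⟶ ψ) :
    (pullbackDiagram D i₀ (f₀ ≫ g₀)).map b ≫ stageMap D i₀ f₀ g₀ ψ =
      stageMap D i₀ f₀ g₀ ψ' ≫ (pullbackDiagram D i₀ g₀).map b := by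
  apply pullback.hom_ext
  · rw [Category.assoc, Category.assoc, stageMap_fst, pullbackDiagram_map_fst,
      pullbackDiagram_map_fst, stageMap_fst_assoc]
  · rw [Category.assoc, Category.assoc, stageMap_snd, pullbackDiagram_map_snd,
      pullbackDiagram_map_snd_assoc, stageMap_snd]

set_option backward.isDefEq.respectTransparency false in
/-- Compatibility of the stage maps with the limit map. -/
@[reassoc]
theorem cone_stageMap (ψ : Over i₀) :
    (pullbackCone D c i₀ (f₀ ≫ g₀)).π.app ψ ≫ stageMap D i₀ f₀ g₀ ψ =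
      limMap D c i₀ f₀ g₀ ≫ (pullbackCone D c i₀ g₀).π.app ψ := by
  apply pullback.hom_ext
  · rw [Category.assoc, Category.assoc, stageMap_fst, pullbackCone_π_fst,
      pullbackCone_π_fst, limMap_fst_assoc]
  · rw [Category.assoc, Category.assoc, stageMap_snd, pullbackCone_π_snd,
      pullbackCone_π_snd_assoc, limMap_snd]

/-- The normalized limit map is isomorphic (as an arrow) to any base change `f` of `f₀` to the
limit. -/
theorem exists_iso_limMap {X Y : Scheme.{u}} (f : X ⟶ Y) (g : Y ⟶ c.pt)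
    (qY : Y ⟶ Y₀) (qX : X ⟶ X₀) (hY : IsPullback qY g g₀ (c.π.app i₀))
    (hX : IsPullback qX f f₀ qY) :
    ∃ (e₁ : pullback (c.π.app i₀) (f₀ ≫ g₀) ≅ X) (e₂ : Y ≅ pullback (c.π.app i₀) g₀),
      limMap D c i₀ f₀ g₀ = e₁.hom ≫ f ≫ e₂.hom ∧
      e₁.hom ≫ qX = pullback.snd (c.π.app i₀) (f₀ ≫ g₀) ∧
      e₂.hom ≫ pullback.snd (c.π.app i₀) g₀ = qY := by
  let e₂ := hY.flip.isoPullback
  have he₂s : e₂.hom ≫ pullback.snd (c.π.app i₀) g₀ = qY := hY.flip.isoPullback_hom_snd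
  have he₂f : e₂.hom ≫ pullback.fst (c.π.app i₀) g₀ = g := hY.flip.isoPullback_hom_fst
  have hX2 : IsPullback qX (f ≫ e₂.hom) f₀ (pullback.snd (c.π.app i₀) g₀) := by
    have hX3 : IsPullback qX (f ≫ e₂.hom) f₀ (e₂.inv ≫ qY) := by
      refine IsPullback.of_iso hX (Iso.refl _) (Iso.refl _) e₂ (Iso.refl _) ?_ ?_ ?_ ?_ <;> simp
    have : e₂.inv ≫ qY = pullback.snd (c.π.app i₀) g₀ := by
      rw [Iso.inv_comp_eq, he₂s]
    rwa [this] at hX3
  let e₁ := (isPullback_limMap D c i₀ f₀ g₀).isoIsPullback _ _ hX2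
  refine ⟨e₁, e₂, ?_, ?_, he₂s⟩
  · have := IsPullback.isoIsPullback_hom_snd _ _ (isPullback_limMap D c i₀ f₀ g₀) hX2
    rw [← this]
  · exact IsPullback.isoIsPullback_hom_fst _ _ (isPullback_limMap D c i₀ f₀ g₀) hX2

variable [IsCofiltered I] [∀ {i j} (f : i ⟶ j), IsAffineHom (D.map f)]

set_option backward.isDefEq.respectTransparency false in
/-- **Isomorphisms descend to a stage** (normalized form). -/
theorem exists_isIso_stageMap_of_isIso_limMap (hc : IsLimit c)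
    [CompactSpace X₀] [CompactSpace Y₀] [QuasiSeparatedSpace Y₀]
    [LocallyOfFinitePresentation f₀] (h : IsIso (limMap D c i₀ f₀ g₀)) :
    ∃ ψ : Over i₀, IsIso (stageMap D i₀ f₀ g₀ ψ) := by
  let FY := pullbackDiagram D i₀ g₀
  let cY := pullbackCone D c i₀ g₀
  have hcY : IsLimit cY := isLimitPullbackCone D c i₀ g₀ hc
  let FX := pullbackDiagram D i₀ (f₀ ≫ g₀)
  let cX := pullbackCone D c i₀ (f₀ ≫ g₀)
  have hcX : IsLimit cX := isLimitPullbackCone D c i₀ (f₀ ≫ g₀) hc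
  have hFYaff : ∀ {φ ψ : Over i₀} (f : φ ⟶ ψ), IsAffineHom (FY.map f) := fun f =>
    MorphismProperty.of_isPullback (P := @IsAffineHom)
      (isPullback_pullbackDiagram_map D i₀ g₀ f).flip inferInstance
  have hFXaff : ∀ {φ ψ : Over i₀} (f : φ ⟶ ψ), IsAffineHom (FX.map f) := fun f =>
    MorphismProperty.of_isPullback (P := @IsAffineHom)
      (isPullback_pullbackDiagram_map D i₀ (f₀ ≫ g₀) f).flip inferInstance
  -- structure maps to `Y₀`
  let tY : FY ⟶ (Functor.const (Over i₀)).obj Y₀ :=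
    { app := fun ψ => pullback.snd (D.map ψ.hom) g₀
      naturality := fun φ ψ f => by
        simp only [Functor.const_obj_obj, Functor.const_obj_map, Category.comp_id]
        exact pullbackDiagram_map_snd D i₀ g₀ f }
  let tX : FX ⟶ (Functor.const (Over i₀)).obj Y₀ :=
    { app := fun ψ => stageSnd D i₀ f₀ g₀ ψ ≫ f₀
      naturality := fun φ ψ f => by
        simp only [Functor.const_obj_obj, Functor.const_obj_map, Category.comp_id]
        exact map_stageSnd_assoc D i₀ f₀ g₀ f f₀ }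
  have hYc : ∀ ψ : Over i₀, CompactSpace (FY.obj ψ) := fun ψ =>
    have : IsAffineHom (pullback.snd (D.map ψ.hom) g₀) :=
      MorphismProperty.pullback_snd (P := @IsAffineHom) _ _ inferInstance
    QuasiCompact.compactSpace_of_compactSpace (pullback.snd (D.map ψ.hom) g₀)
  have hYs : ∀ ψ : Over i₀, QuasiSeparatedSpace (FY.obj ψ) := fun ψ =>
    have : IsAffineHom (pullback.snd (D.map ψ.hom) g₀) :=
      MorphismProperty.pullback_snd (P := @IsAffineHom) _ _ inferInstance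
    quasiSeparatedSpace_of_quasiSeparated (pullback.snd (D.map ψ.hom) g₀)
  have hXc : ∀ ψ : Over i₀, CompactSpace (FX.obj ψ) := fun ψ =>
    QuasiCompact.compactSpace_of_compactSpace (stageSnd D i₀ f₀ g₀ ψ)
  let sc := pullback.snd (c.π.app i₀) (f₀ ≫ g₀)
  let a : cY.pt ⟶ X₀ := inv (limMap D c i₀ f₀ g₀) ≫ sc
  have haf : a ≫ f₀ = pullback.snd (c.π.app i₀) g₀ := by
    change (inv (limMap D c i₀ f₀ g₀) ≫ sc) ≫ f₀ = _
    rw [Category.assoc, IsIso.inv_comp_eq, limMap_snd]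
  obtain ⟨ψ, s, hs1, hs2⟩ := Scheme.exists_π_app_comp_eq_of_locallyOfFinitePresentation
    FY tY f₀ cY hcY a (by
      ext ψ : 2
      change cY.π.app ψ ≫ pullback.snd (D.map ψ.hom) g₀ = a ≫ f₀
      rw [haf]
      exact pullbackCone_π_snd D c i₀ g₀ ψ)
  have hs2' : s ≫ f₀ = pullback.snd (D.map ψ.hom) g₀ := hs2
  obtain ⟨ψ', b, hb⟩ := Scheme.exists_hom_comp_eq_comp_of_locallyOfFiniteType FX tX f₀ cX hcX
    (i := ψ) (stageSnd D i₀ f₀ g₀ ψ) (stageMap D i₀ f₀ g₀ ψ ≫ s) rfl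
    (by
      change stageSnd D i₀ f₀ g₀ ψ ≫ f₀ = (stageMap D i₀ f₀ g₀ ψ ≫ s) ≫ f₀
      rw [Category.assoc, hs2', stageMap_snd]
      rfl)
    (by
      rw [cone_stageSnd, cone_stageMap_assoc, hs1]
      change sc = limMap D c i₀ f₀ g₀ ≫ inv (limMap D c i₀ f₀ g₀) ≫ sc
      rw [IsIso.hom_inv_id_assoc])
  refine ⟨ψ', ?_⟩
  let s' : FY.obj ψ' ⟶ X₀ := FY.map b ≫ s
  have hs' : s' ≫ f₀ = 𝟙 _ ≫ pullback.snd (D.map ψ'.hom) g₀ := by
    change (FY.map b ≫ s) ≫ f₀ = _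
    rw [Category.assoc, hs2', Category.id_comp]
    exact pullbackDiagram_map_snd D i₀ g₀ b
  let σ := (isPullback_stageMap D i₀ f₀ g₀ ψ').lift s' (𝟙 _) hs'
  have hσ1 : σ ≫ pullback.snd (D.map ψ'.hom) (f₀ ≫ g₀) = s' :=
    (isPullback_stageMap D i₀ f₀ g₀ ψ').lift_fst _ _ _
  have hσ2 : σ ≫ stageMap D i₀ f₀ g₀ ψ' = 𝟙 _ :=
    (isPullback_stageMap D i₀ f₀ g₀ ψ').lift_snd _ _ _
  refine ⟨σ, ?_, hσ2⟩
  apply (isPullback_stageMap D i₀ f₀ g₀ ψ').hom_ext
  · rw [Category.assoc, hσ1, Category.id_comp]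
    change stageMap D i₀ f₀ g₀ ψ' ≫ FY.map b ≫ s = _
    rw [← map_stageMap_assoc]
    exact hb.symm.trans (map_stageSnd D i₀ f₀ g₀ b)
  · rw [Category.assoc, hσ2]
    exact (Category.comp_id _).trans (Category.id_comp _).symm

end Groth.Agent.H24
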