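import Mathlib
import Groth.Agent.H24.LimitIso
import Groth.Agent.H24.DiagonalBC
import Groth.Agent.H50.LfpCancel

/-!
# Monomorphisms descend to a stage of a cofiltered limit (helper24)
-/

set_option autoImplicit false
universe u
open CategoryTheory CategoryTheory.Limits AlgebraicGeometry

namespace Groth.Agent.H24

/-- Two base changes of `f₀` along morphisms that differ by an isomorphism of the sources are
isomorphic as arrows; in particular an isomorphism-invariant property holds for one iff it holds for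
the other. -/
theorem prop_iff_of_isPullback (P : MorphismProperty Scheme.{u}) [P.RespectsIso]
    {X₀ Y₀ W W' A A' : Scheme.{u}} {f₀ : X₀ ⟶ Y₀} {q : W ⟶ Y₀} {q' : W' ⟶ Y₀}
    {p : A ⟶ X₀} {f : A ⟶ W} {p' : A' ⟶ X₀} {f' : A' ⟶ W'}
    (e : W ≅ W') (he : e.hom ≫ q' = q) (h : IsPullback p f f₀ q) (h' : IsPullback p' f' f₀ q') :
    P f ↔ P f' := by
  have h2 : IsPullback p (f ≫ e.hom) f₀ q' := by
    refine IsPullback.of_iso h (Iso.refl _) (Iso.refl _) e (Iso.refl _) ?_ ?_ ?_ ?_
    · simp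
    · simp
    · simp
    · simp [he]
  have key : (h2.isoIsPullback _ _ h').hom ≫ f' = f ≫ e.hom :=
    IsPullback.isoIsPullback_hom_snd _ _ h2 h'
  rw [← P.cancel_right_of_respectsIso f e.hom, ← key, P.cancel_left_of_respectsIso]

/-- The diagonal of a morphism locally of finite type is locally of finite presentation. -/
theorem locallyOfFinitePresentation_diagonal {X₀ Y₀ : Scheme.{u}} (f₀ : X₀ ⟶ Y₀)
    [LocallyOfFiniteType f₀] : LocallyOfFinitePresentation (pullback.diagonal f₀) := by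
  have hid : pullback.diagonal f₀ ≫ pullback.fst f₀ f₀ = 𝟙 X₀ := pullback.diagonal_fst f₀
  have : LocallyOfFinitePresentation (pullback.diagonal f₀ ≫ pullback.fst f₀ f₀) := by
    rw [hid]; infer_instance
  have h2 : LocallyOfFiniteType (pullback.fst f₀ f₀) :=
    MorphismProperty.pullback_fst (P := @LocallyOfFiniteType) _ _ inferInstance
  exact Groth.Agent.H50.locallyOfFinitePresentation_of_comp (pullback.diagonal f₀)
    (pullback.fst f₀ f₀) this h2

variable {I : Type u} [Category.{u} I] [IsCofiltered I] (D : I ⥤ Scheme.{u}) (c : Cone D)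
  [∀ {i j} (f : i ⟶ j), IsAffineHom (D.map f)] (i₀ : I)
  {X₀ Y₀ : Scheme.{u}} (f₀ : X₀ ⟶ Y₀) (g₀ : Y₀ ⟶ D.obj i₀)

/-- the structure map of `X₀ ×_{Y₀} X₀` -/
noncomputable abbrev diagBase : pullback f₀ f₀ ⟶ D.obj i₀ := pullback.fst f₀ f₀ ≫ f₀ ≫ g₀

omit [IsCofiltered I] [∀ {i j} (f : i ⟶ j), IsAffineHom (D.map f)] in
/-- If `f` is a base change of `f₀` along `π`-base change of `g₀`, then `Δ_f` is isomorphic to the
canonical base change of `Δ_{f₀}` along `π`. -/
theorem prop_diagonal_iff (P : MorphismProperty Scheme.{u}) [P.RespectsIso]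
    {S' : Scheme.{u}} (π : S' ⟶ D.obj i₀)
    {X Y : Scheme.{u}} (f : X ⟶ Y) (g : Y ⟶ S') (qY : Y ⟶ Y₀) (qX : X ⟶ X₀)
    (hY : IsPullback qY g g₀ π) (hX : IsPullback qX f f₀ qY)
    {A : Scheme.{u}} {p : A ⟶ X₀} {h : A ⟶ pullback π (diagBase D i₀ f₀ g₀)}
    (hh : IsPullback p h (pullback.diagonal f₀) (pullback.snd π (diagBase D i₀ f₀ g₀))) :
    P (pullback.diagonal f) ↔ P h := by
  have hY' : IsPullback (diagMap hX) ((pullback.fst f f ≫ f) ≫ g) (diagBase D i₀ f₀ g₀) π := by
    have := (isPullback_diagMap_comp hX).paste_vert hY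
    simpa [diagBase, Category.assoc] using this
  refine prop_iff_of_isPullback P hY'.flip.isoPullback hY'.flip.isoPullback_hom_snd
    (isPullback_diagonal hX).flip hh

set_option backward.isDefEq.respectTransparency false in
/-- **Monomorphisms descend to a stage.** -/
theorem exists_mono_stageMap (hc : IsLimit c) [CompactSpace X₀] [QuasiSeparatedSpace X₀]
    [QuasiSeparatedSpace Y₀] [LocallyOfFiniteType f₀]
    {X Y : Scheme.{u}} (f : X ⟶ Y) (g : Y ⟶ c.pt)
    (qY : Y ⟶ Y₀) (qX : X ⟶ X₀) (hY : IsPullback qY g g₀ (c.π.app i₀))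
    (hX : IsPullback qX f f₀ qY) [Mono f] :
    ∃ ψ : Over i₀, Mono (stageMap D i₀ f₀ g₀ ψ) := by
  have hfp := locallyOfFinitePresentation_diagonal f₀
  have hqc : QuasiCompact f₀ := inferInstance
  have hqs : QuasiSeparated f₀ := inferInstance
  have h1 : QuasiCompact (pullback.fst f₀ f₀) :=
    MorphismProperty.pullback_fst (P := @QuasiCompact) _ _ inferInstance
  have h2 : QuasiSeparated (pullback.fst f₀ f₀) :=
    MorphismProperty.pullback_fst (P := @QuasiSeparated) _ _ inferInstance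
  have hc2 : CompactSpace ↥(pullback f₀ f₀) :=
    QuasiCompact.compactSpace_of_compactSpace (pullback.fst f₀ f₀)
  have hs2 : QuasiSeparatedSpace ↥(pullback f₀ f₀) :=
    quasiSeparatedSpace_of_quasiSeparated (pullback.fst f₀ f₀)
  have hlim : IsIso (limMap D c i₀ (pullback.diagonal f₀) (diagBase D i₀ f₀ g₀)) := by
    have := (prop_diagonal_iff D i₀ f₀ g₀ (MorphismProperty.isomorphisms Scheme.{u})
      (c.π.app i₀) f g qY qX hY hX
      (isPullback_limMap D c i₀ (pullback.diagonal f₀) (diagBase D i₀ f₀ g₀))).mp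
      (inferInstanceAs (IsIso (pullback.diagonal f)))
    exact this
  obtain ⟨ψ, hψ⟩ := exists_isIso_stageMap_of_isIso_limMap D c i₀ (pullback.diagonal f₀)
    (diagBase D i₀ f₀ g₀) hc hlim
  refine ⟨ψ, ?_⟩
  rw [← pullback.isIso_diagonal_iff]
  exact (prop_diagonal_iff D i₀ f₀ g₀ (MorphismProperty.isomorphisms Scheme.{u})
      (D.map ψ.hom) (stageMap D i₀ f₀ g₀ ψ) (pullback.fst (D.map ψ.hom) g₀)
      (pullback.snd (D.map ψ.hom) g₀) (pullback.snd (D.map ψ.hom) (f₀ ≫ g₀))
      (IsPullback.of_hasPullback (D.map ψ.hom) g₀).flip (isPullback_stageMap D i₀ f₀ g₀ ψ)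
      (isPullback_stageMap D i₀ (pullback.diagonal f₀) (diagBase D i₀ f₀ g₀) ψ)).mpr hψ

end Groth.Agent.H24
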