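import Mathlib
import Groth.Agent.H24.LimitMono

/-!
# Rebasing a descent problem to an open of a stage (helper24)

Setup as in `LimitIso`.  Given a stage `ψ₀ : Over i₀` and an open `V ⊆ Y_{ψ₀}`, the opens
`V_ψ ⊆ Y_ψ` (`ψ ⟶ ψ₀`) form a cofiltered system `rbD` (Mathlib's `opensDiagram`) with limit the
preimage of `V` in the limit, and `f_{ψ₀} ∣_ V` is a morphism over the stage `rbI` of this system.
The stage maps / limit map of the rebased problem are arrow-isomorphic to the restrictions of the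
original stage maps / limit map.
-/

set_option autoImplicit false
universe u
open CategoryTheory CategoryTheory.Limits AlgebraicGeometry

namespace Groth.Agent.H24

variable {I : Type u} [Category.{u} I] (D : I ⥤ Scheme.{u}) (c : Cone D) (i₀ : I)
  {X₀ Y₀ : Scheme.{u}} (f₀ : X₀ ⟶ Y₀) (g₀ : Y₀ ⟶ D.obj i₀)

set_option backward.isDefEq.respectTransparency false in
theorem isPullback_map_stageMap {ψ ψ' : Over i₀} (b : ψ' ⟶ ψ) :
    IsPullback ((pullbackDiagram D i₀ (f₀ ≫ g₀)).map b) (stageMap D i₀ f₀ g₀ ψ')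
      (stageMap D i₀ f₀ g₀ ψ) ((pullbackDiagram D i₀ g₀).map b) := by
  refine IsPullback.of_right ?_ (map_stageMap D i₀ f₀ g₀ b) (isPullback_stageMap D i₀ f₀ g₀ ψ)
  rw [pullbackDiagram_map_snd, pullbackDiagram_map_snd]
  exact isPullback_stageMap D i₀ f₀ g₀ ψ'

set_option backward.isDefEq.respectTransparency false in
theorem isPullback_cone_stageMap (ψ : Over i₀) :
    IsPullback ((pullbackCone D c i₀ (f₀ ≫ g₀)).π.app ψ) (limMap D c i₀ f₀ g₀)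
      (stageMap D i₀ f₀ g₀ ψ) ((pullbackCone D c i₀ g₀).π.app ψ) := by
  refine IsPullback.of_right ?_ (cone_stageMap D c i₀ f₀ g₀ ψ) (isPullback_stageMap D i₀ f₀ g₀ ψ)
  rw [pullbackCone_π_snd, pullbackCone_π_snd]
  exact isPullback_limMap D c i₀ f₀ g₀

variable (ψ₀ : Over i₀) (V : ((pullbackDiagram D i₀ g₀).obj ψ₀).Opens)

/-- The rebased system of opens `V_ψ ⊆ Y_ψ`. -/
noncomputable abbrev rbD : Over ψ₀ ⥤ Scheme.{u} := opensDiagram (pullbackDiagram D i₀ g₀) ψ₀ V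

/-- The rebased cone. -/
noncomputable abbrev rbC : Cone (rbD D i₀ g₀ ψ₀ V) :=
  opensCone (pullbackDiagram D i₀ g₀) (pullbackCone D c i₀ g₀) ψ₀ V

/-- The base stage of the rebased system. -/
abbrev rbI : Over ψ₀ := Over.mk (𝟙 ψ₀)

/-- The open `V` (as the preimage of `V` under the identity transition map). -/
noncomputable abbrev rbV : ((pullbackDiagram D i₀ g₀).obj ψ₀).Opens :=
  (pullbackDiagram D i₀ g₀).map (rbI i₀ ψ₀).hom ⁻¹ᵁ V

set_option backward.isDefEq.respectTransparency false in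
/-- The restriction of the stage map `f_{ψ₀}` over `V`, as a morphism to the base stage of the
rebased system. -/
noncomputable def rbF :
    (stageMap D i₀ f₀ g₀ ψ₀ ⁻¹ᵁ rbV D i₀ g₀ ψ₀ V : Scheme.{u}) ⟶ (rbD D i₀ g₀ ψ₀ V).obj (rbI i₀ ψ₀) :=
  stageMap D i₀ f₀ g₀ ψ₀ ∣_ rbV D i₀ g₀ ψ₀ V

set_option backward.isDefEq.respectTransparency false in
theorem isPullback_rbF :
    IsPullback (stageMap D i₀ f₀ g₀ ψ₀ ⁻¹ᵁ rbV D i₀ g₀ ψ₀ V).ι (rbF D i₀ f₀ g₀ ψ₀ V)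
      (stageMap D i₀ f₀ g₀ ψ₀) (rbV D i₀ g₀ ψ₀ V).ι :=
  (isPullback_morphismRestrict (stageMap D i₀ f₀ g₀ ψ₀) (rbV D i₀ g₀ ψ₀ V)).flip

set_option backward.isDefEq.respectTransparency false in
/-- The rebased stage maps are the restrictions of the original stage maps. -/
theorem rebase_stageMap_iff (P : MorphismProperty Scheme.{u}) [P.RespectsIso]
    (χ : Over (rbI i₀ ψ₀)) :
    P (stageMap (rbD D i₀ g₀ ψ₀ V) (rbI i₀ ψ₀) (rbF D i₀ f₀ g₀ ψ₀ V) (𝟙 _) χ) ↔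
      P (stageMap D i₀ f₀ g₀ χ.left.left ∣_
        ((pullbackDiagram D i₀ g₀).map χ.left.hom ⁻¹ᵁ V)) := by
  let FY := pullbackDiagram D i₀ g₀
  have h1 := (isPullback_stageMap (rbD D i₀ g₀ ψ₀ V) (rbI i₀ ψ₀) (rbF D i₀ f₀ g₀ ψ₀ V) (𝟙 _)
    χ).paste_horiz (isPullback_rbF D i₀ f₀ g₀ ψ₀ V)
  have h2 := (isPullback_morphismRestrict (stageMap D i₀ f₀ g₀ χ.left.left)
    (FY.map χ.left.hom ⁻¹ᵁ V)).flip.paste_horiz (isPullback_map_stageMap D i₀ f₀ g₀ χ.left.hom)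
  let e : pullback ((rbD D i₀ g₀ ψ₀ V).map χ.hom) (𝟙 _) ≅ (rbD D i₀ g₀ ψ₀ V).obj χ.left :=
    asIso (pullback.fst ((rbD D i₀ g₀ ψ₀ V).map χ.hom) (𝟙 _))
  have hχ : χ.hom.left = χ.left.hom := by
    have := Over.w χ.hom
    simpa using this
  have he : e.hom ≫ ((FY.map χ.left.hom ⁻¹ᵁ V).ι ≫ FY.map χ.left.hom) =
      pullback.snd ((rbD D i₀ g₀ ψ₀ V).map χ.hom) (𝟙 _) ≫ (rbV D i₀ g₀ ψ₀ V).ι := by
    have hc := pullback.condition (f := (rbD D i₀ g₀ ψ₀ V).map χ.hom) (g := 𝟙 _)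
    rw [Category.comp_id] at hc
    rw [← hc]
    simp only [e, asIso_hom, Category.assoc]
    congr 1
    change _ = (FY.map χ.hom.left).resLE _ _ _ ≫ _
    rw [Scheme.Hom.resLE_comp_ι, hχ]
  exact prop_iff_of_isPullback P e he h1 h2

set_option backward.isDefEq.respectTransparency false in
/-- The rebased limit map is the restriction of the original limit map. -/
theorem rebase_limMap_iff (P : MorphismProperty Scheme.{u}) [P.RespectsIso] :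
    P (limMap (rbD D i₀ g₀ ψ₀ V) (rbC D c i₀ g₀ ψ₀ V) (rbI i₀ ψ₀) (rbF D i₀ f₀ g₀ ψ₀ V) (𝟙 _)) ↔
      P (limMap D c i₀ f₀ g₀ ∣_ ((pullbackCone D c i₀ g₀).π.app ψ₀ ⁻¹ᵁ V)) := by
  let FY := pullbackDiagram D i₀ g₀
  let cY := pullbackCone D c i₀ g₀
  have h1 := (isPullback_limMap (rbD D i₀ g₀ ψ₀ V) (rbC D c i₀ g₀ ψ₀ V) (rbI i₀ ψ₀)
    (rbF D i₀ f₀ g₀ ψ₀ V) (𝟙 _)).paste_horiz (isPullback_rbF D i₀ f₀ g₀ ψ₀ V)
  have h2 := (isPullback_morphismRestrict (limMap D c i₀ f₀ g₀)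
    (cY.π.app ψ₀ ⁻¹ᵁ V)).flip.paste_horiz (isPullback_cone_stageMap D c i₀ f₀ g₀ ψ₀)
  let e : pullback ((rbC D c i₀ g₀ ψ₀ V).π.app (rbI i₀ ψ₀)) (𝟙 _) ≅ (rbC D c i₀ g₀ ψ₀ V).pt :=
    asIso (pullback.fst ((rbC D c i₀ g₀ ψ₀ V).π.app (rbI i₀ ψ₀)) (𝟙 _))
  have he : e.hom ≫ ((cY.π.app ψ₀ ⁻¹ᵁ V).ι ≫ cY.π.app ψ₀) =
      pullback.snd ((rbC D c i₀ g₀ ψ₀ V).π.app (rbI i₀ ψ₀)) (𝟙 _) ≫ (rbV D i₀ g₀ ψ₀ V).ι := by
    have hc := pullback.condition (f := (rbC D c i₀ g₀ ψ₀ V).π.app (rbI i₀ ψ₀)) (g := 𝟙 _)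
    rw [Category.comp_id] at hc
    rw [← hc]
    simp only [e, asIso_hom, Category.assoc]
    congr 1
    change _ = (cY.π.app ψ₀).resLE _ _ _ ≫ _
    rw [Scheme.Hom.resLE_comp_ι]
  exact prop_iff_of_isPullback P e he h1 h2

end Groth.Agent.H24
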