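import Mathlib
import Groth.Agent.H24.LimitRebase

/-!
# Closed immersions descend to a stage: affine case (helper24)

`X₀`, `Y₀` affine, `f₀` of finite type.  Embed `X₀` as a closed subscheme of `𝔸ⁿ_{Y₀}`; in the limit
the closed immersion `X ⟶ Y` lets us extend the coordinate functions to `Y`, i.e. we get a section
`Y ⟶ 𝔸ⁿ_{Y₀}` through which `X ⟶ 𝔸ⁿ` factors; this section and the factorization descend to a
stage, where the stage map is then a closed immersion (first factor of a closed immersion followed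
by a separated morphism).
-/

set_option autoImplicit false
universe u
open CategoryTheory CategoryTheory.Limits AlgebraicGeometry

namespace Groth.Agent.H24

/-- A finite type morphism of affine schemes is a closed subscheme of an affine space. -/
theorem exists_isClosedImmersion_homOfVector {X₀ Y₀ : Scheme.{u}} (f₀ : X₀ ⟶ Y₀) [IsAffine X₀]
    [IsAffine Y₀] [LocallyOfFiniteType f₀] :
    ∃ (n : Type u) (_ : Finite n) (b : n → Γ(X₀, ⊤)),
      IsClosedImmersion (AffineSpace.homOfVector f₀ b) := by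
  have hft : RingHom.FiniteType f₀.appTop.hom :=
    (HasRingHomProperty.iff_of_isAffine (P := @LocallyOfFiniteType)).mp inferInstance
  let _ := f₀.appTop.hom.toAlgebra
  obtain ⟨t, ht⟩ : ∃ t : Finset Γ(X₀, ⊤), Algebra.adjoin Γ(Y₀, ⊤) (t : Set Γ(X₀, ⊤)) = ⊤ :=
    hft.out
  refine ⟨↥t, inferInstance, Subtype.val, ?_⟩
  refine IsClosedImmersion.of_surjective_of_isAffine _ fun x => ?_
  have hx : x ∈ Algebra.adjoin Γ(Y₀, ⊤) (t : Set Γ(X₀, ⊤)) := by rw [ht]; trivial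
  induction hx using Algebra.adjoin_induction with
  | mem x hx =>
    exact ⟨AffineSpace.coord Y₀ (⟨x, hx⟩ : ↥t), AffineSpace.homOfVector_appTop_coord _ _ _⟩
  | algebraMap r =>
    refine ⟨(𝔸(↥t; Y₀) ↘ Y₀).appTop r, ?_⟩
    have h1 : AffineSpace.homOfVector f₀ (Subtype.val : ↥t → Γ(X₀, ⊤)) ≫ 𝔸(↥t; Y₀) ↘ Y₀ = f₀ :=
      AffineSpace.homOfVector_over _ _
    have h2 : (AffineSpace.homOfVector f₀ (Subtype.val : ↥t → Γ(X₀, ⊤)) ≫
        𝔸(↥t; Y₀) ↘ Y₀).appTop r = f₀.appTop r := by rw [h1]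
    rw [Scheme.Hom.comp_appTop, CommRingCat.comp_apply] at h2
    exact h2
  | add x y _ _ hx hy =>
    obtain ⟨x', rfl⟩ := hx
    obtain ⟨y', rfl⟩ := hy
    exact ⟨x' + y', map_add _ _ _⟩
  | mul x y _ _ hx hy =>
    obtain ⟨x', rfl⟩ := hx
    obtain ⟨y', rfl⟩ := hy
    exact ⟨x' * y', map_mul _ _ _⟩

variable {I : Type u} [Category.{u} I] [IsCofiltered I] (D : I ⥤ Scheme.{u}) (c : Cone D)
  [∀ {i j} (f : i ⟶ j), IsAffineHom (D.map f)] (i₀ : I)
  {X₀ Y₀ : Scheme.{u}} (f₀ : X₀ ⟶ Y₀) (g₀ : Y₀ ⟶ D.obj i₀)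

set_option backward.isDefEq.respectTransparency false in
/-- **Closed immersions descend to a stage** (affine case). -/
theorem exists_isClosedImmersion_stageMap_of_isAffine (hc : IsLimit c) [IsAffine X₀] [IsAffine Y₀]
    [LocallyOfFiniteType f₀] (h : IsClosedImmersion (limMap D c i₀ f₀ g₀)) :
    ∃ ψ : Over i₀, IsClosedImmersion (stageMap D i₀ f₀ g₀ ψ) := by
  obtain ⟨n, hn, b, hι₀⟩ := exists_isClosedImmersion_homOfVector f₀
  let ι₀ : X₀ ⟶ 𝔸(n; Y₀) := AffineSpace.homOfVector f₀ b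
  let p₀ : 𝔸(n; Y₀) ⟶ Y₀ := 𝔸(n; Y₀) ↘ Y₀
  have hιp : ι₀ ≫ p₀ = f₀ := AffineSpace.homOfVector_over _ _
  let FY := pullbackDiagram D i₀ g₀
  let cY := pullbackCone D c i₀ g₀
  have hcY : IsLimit cY := isLimitPullbackCone D c i₀ g₀ hc
  let FX := pullbackDiagram D i₀ (f₀ ≫ g₀)
  let cX := pullbackCone D c i₀ (f₀ ≫ g₀)
  have hcX : IsLimit cX := isLimitPullbackCone D c i₀ (f₀ ≫ g₀) hc
  have hFYaff : ∀ {φ ψ : Over i₀} (f : φ ⟶ ψ), IsAffineHom (FY.map f) := fun f =>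
    MorphismProperty.of_isPullback (P := @IsAffineHom)
      (isPullback_pullbackDiagram_map D i₀ g₀ f).flip inferInstance
  have hFXaff : ∀ {φ ψ : Over i₀} (f : φ ⟶ ψ), IsAffineHom (FX.map f) := fun f =>
    MorphismProperty.of_isPullback (P := @IsAffineHom)
      (isPullback_pullbackDiagram_map D i₀ (f₀ ≫ g₀) f).flip inferInstance
  let tY : FY ⟶ (Functor.const (Over i₀)).obj Y₀ :=
    { app := fun ψ => pullback.snd (D.map ψ.hom) g₀
      naturality := fun φ ψ f => by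
        simp only [Functor.const_obj_obj, Functor.const_obj_map, Category.comp_id]
        exact pullbackDiagram_map_snd D i₀ g₀ f }
  let tX : FX ⟶ (Functor.const (Over i₀)).obj Y₀ :=
    { app := fun ψ => stageSnd D i₀ f₀ g₀ ψ ≫ f₀
      naturality := fun φ ψ f => by
        simp only [Functor.const_obj_obj, Functor.const_obj_map, Category.comp_id]
        exact map_stageSnd_assoc D i₀ f₀ g₀ f f₀ }
  have hYaff : ∀ ψ : Over i₀, IsAffine (FY.obj ψ) := fun ψ =>
    have : IsAffineHom (pullback.snd (D.map ψ.hom) g₀) :=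
      MorphismProperty.pullback_snd (P := @IsAffineHom) _ _ inferInstance
    isAffine_of_isAffineHom (pullback.snd (D.map ψ.hom) g₀)
  have hXc : ∀ ψ : Over i₀, CompactSpace (FX.obj ψ) := fun ψ =>
    QuasiCompact.compactSpace_of_compactSpace (stageSnd D i₀ f₀ g₀ ψ)
  -- the limit
  have hπaff : IsAffineHom (c.π.app i₀) := isAffineHom_π_app D c hc i₀
  have hsndaff : IsAffineHom (pullback.snd (c.π.app i₀) g₀) :=
    MorphismProperty.pullback_snd (P := @IsAffineHom) _ _ inferInstance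
  have hYlim : IsAffine (pullback (c.π.app i₀) g₀) :=
    isAffine_of_isAffineHom (pullback.snd (c.π.app i₀) g₀)
  have hsurj : Function.Surjective (limMap D c i₀ f₀ g₀).appTop :=
    (IsClosedImmersion.isAffine_surjective_of_isAffine (limMap D c i₀ f₀ g₀)).2
  let sc := pullback.snd (c.π.app i₀) (f₀ ≫ g₀)
  choose w hw using fun i : n => hsurj (sc.appTop (b i))
  let s : cY.pt ⟶ 𝔸(n; Y₀) := AffineSpace.homOfVector (pullback.snd (c.π.app i₀) g₀) w
  have hsp : s ≫ p₀ = pullback.snd (c.π.app i₀) g₀ := AffineSpace.homOfVector_over _ _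
  have key : limMap D c i₀ f₀ g₀ ≫ s = sc ≫ ι₀ := by
    apply AffineSpace.hom_ext
    · rw [Category.assoc, Category.assoc]
      change limMap D c i₀ f₀ g₀ ≫ s ≫ p₀ = sc ≫ ι₀ ≫ p₀
      rw [hsp, hιp, limMap_snd]
    · intro i
      rw [Scheme.Hom.comp_appTop, Scheme.Hom.comp_appTop, CommRingCat.comp_apply,
        CommRingCat.comp_apply, AffineSpace.homOfVector_appTop_coord,
        AffineSpace.homOfVector_appTop_coord]
      exact hw i
  -- descend the section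
  obtain ⟨ψ, sψ, hs1, hs2⟩ := Scheme.exists_π_app_comp_eq_of_locallyOfFinitePresentation
    FY tY p₀ cY hcY s (by
      ext ψ : 2
      change cY.π.app ψ ≫ pullback.snd (D.map ψ.hom) g₀ = s ≫ p₀
      rw [hsp]
      exact pullbackCone_π_snd D c i₀ g₀ ψ)
  have hs2' : sψ ≫ p₀ = pullback.snd (D.map ψ.hom) g₀ := hs2
  obtain ⟨ψ', b', hb'⟩ := Scheme.exists_hom_comp_eq_comp_of_locallyOfFiniteType FX tX p₀ cX hcX
    (i := ψ) (stageSnd D i₀ f₀ g₀ ψ ≫ ι₀) (stageMap D i₀ f₀ g₀ ψ ≫ sψ)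
    (by
      change stageSnd D i₀ f₀ g₀ ψ ≫ f₀ = (stageSnd D i₀ f₀ g₀ ψ ≫ ι₀) ≫ p₀
      rw [Category.assoc, hιp])
    (by
      change stageSnd D i₀ f₀ g₀ ψ ≫ f₀ = (stageMap D i₀ f₀ g₀ ψ ≫ sψ) ≫ p₀
      rw [Category.assoc, hs2', stageMap_snd]
      rfl)
    (by
      rw [cone_stageSnd_assoc, cone_stageMap_assoc, hs1]
      exact key.symm)
  refine ⟨ψ', ?_⟩
  let s' : FY.obj ψ' ⟶ 𝔸(n; Y₀) := FY.map b' ≫ sψ
  have hs'p : s' ≫ p₀ = pullback.snd (D.map ψ'.hom) g₀ := by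
    change (FY.map b' ≫ sψ) ≫ p₀ = _
    rw [Category.assoc, hs2']
    exact pullbackDiagram_map_snd D i₀ g₀ b'
  have hfac : stageSnd D i₀ f₀ g₀ ψ' ≫ ι₀ = stageMap D i₀ f₀ g₀ ψ' ≫ s' := by
    change _ = stageMap D i₀ f₀ g₀ ψ' ≫ FY.map b' ≫ sψ
    rw [← map_stageMap_assoc, ← map_stageSnd D i₀ f₀ g₀ b', Category.assoc]
    exact hb'
  -- the base change of `𝔸ⁿ_{Y₀}` to the stage
  let σ : FY.obj ψ' ⟶ pullback p₀ (pullback.snd (D.map ψ'.hom) g₀) :=
    pullback.lift s' (𝟙 _) (by rw [hs'p, Category.id_comp])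
  let j : FX.obj ψ' ⟶ pullback p₀ (pullback.snd (D.map ψ'.hom) g₀) :=
    pullback.lift (stageSnd D i₀ f₀ g₀ ψ' ≫ ι₀) (stageMap D i₀ f₀ g₀ ψ') (by
      rw [Category.assoc, hιp, stageMap_snd]; rfl)
  have hjσ : j = stageMap D i₀ f₀ g₀ ψ' ≫ σ := by
    apply pullback.hom_ext
    · rw [pullback.lift_fst, Category.assoc, pullback.lift_fst, hfac]
    · rw [pullback.lift_snd, Category.assoc, pullback.lift_snd]
      exact (Category.comp_id _).symm
  have hjpb : IsPullback (stageSnd D i₀ f₀ g₀ ψ') j ι₀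
      (pullback.fst p₀ (pullback.snd (D.map ψ'.hom) g₀)) := by
    refine IsPullback.of_bot ?_ (pullback.lift_fst _ _ _).symm
      (IsPullback.of_hasPullback p₀ (pullback.snd (D.map ψ'.hom) g₀))
    rw [pullback.lift_snd, hιp]
    exact isPullback_stageMap D i₀ f₀ g₀ ψ'
  have hj : IsClosedImmersion j :=
    MorphismProperty.of_isPullback (P := @IsClosedImmersion) hjpb hι₀
  have hσsep : IsSeparated σ := by
    have : IsSeparated (σ ≫ pullback.snd p₀ (pullback.snd (D.map ψ'.hom) g₀)) := by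
      rw [pullback.lift_snd]; infer_instance
    exact IsSeparated.of_comp σ (pullback.snd p₀ (pullback.snd (D.map ψ'.hom) g₀))
  have : IsClosedImmersion (stageMap D i₀ f₀ g₀ ψ' ≫ σ) := by rw [← hjσ]; exact hj
  exact IsClosedImmersion.of_comp (stageMap D i₀ f₀ g₀ ψ') σ

end Groth.Agent.H24
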