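import Mathlib

/-!
# Topology of cofiltered limits of schemes with affine transition maps

Helper lemmas built on `Mathlib.AlgebraicGeometry.AffineTransitionLimit`.
-/

set_option autoImplicit false
universe u
open CategoryTheory CategoryTheory.Limits AlgebraicGeometry

namespace Groth.Agent.H24

variable {I : Type u} [Category.{u} I] (D : I ⥤ Scheme.{u}) (c : Cone D)

/-- The limit cone restricted to the indices over `i₀`. -/
noncomputable def isLimitOverCone [IsCofiltered I] (hc : IsLimit c) (i₀ : I) :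
    IsLimit (c.whisker (Over.forget i₀)) :=
  (Functor.Initial.isLimitWhiskerEquiv (Over.forget i₀) c).symm hc

theorem compactSpace_over [∀ {i j} (f : i ⟶ j), IsAffineHom (D.map f)] (i₀ : I)
    [CompactSpace (D.obj i₀)] (j : Over i₀) : CompactSpace ((Over.forget i₀ ⋙ D).obj j) :=
  QuasiCompact.compactSpace_of_compactSpace (D.map j.hom)

theorem quasiSeparatedSpace_over [∀ {i j} (f : i ⟶ j), IsAffineHom (D.map f)] (i₀ : I)
    [QuasiSeparatedSpace (D.obj i₀)] (j : Over i₀) :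
    QuasiSeparatedSpace ((Over.forget i₀ ⋙ D).obj j) :=
  quasiSeparatedSpace_of_quasiSeparated (D.map j.hom)

theorem isAffineHom_over [∀ {i j} (f : i ⟶ j), IsAffineHom (D.map f)] (i₀ : I)
    {j k : Over i₀} (f : j ⟶ k) : IsAffineHom ((Over.forget i₀ ⋙ D).map f) := by
  dsimp; infer_instance

variable [IsCofiltered I] [∀ {i j} (f : i ⟶ j), IsAffineHom (D.map f)]

omit [IsCofiltered I] [∀ {i j} (f : i ⟶ j), IsAffineHom (D.map f)] in
variable {D c} in
theorem preimage_preimage_eq (_hc : IsLimit c) {i j : I} (f : j ⟶ i) (V : (D.obj i).Opens) :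
    c.π.app j ⁻¹ᵁ (D.map f ⁻¹ᵁ V) = c.π.app i ⁻¹ᵁ V := by
  rw [← Scheme.Hom.comp_preimage, c.w]

/-- A clopen subset of the limit and its complement descend to compact opens covering a stage. -/
theorem exists_clopen_descent (hc : IsLimit c) [∀ i, CompactSpace (D.obj i)] (s : Set c.pt)
    (hs : IsClopen s) :
    ∃ (i : I) (V W : (D.obj i).Opens), ((c.π.app i ⁻¹ᵁ V : c.pt.Opens) : Set c.pt) = s ∧
      ((c.π.app i ⁻¹ᵁ W : c.pt.Opens) : Set c.pt) = sᶜ ∧ V ⊔ W = ⊤ ∧
      IsCompact (V : Set (D.obj i)) ∧ IsCompact (W : Set (D.obj i)) := by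
  have : CompactSpace c.pt := Scheme.compactSpace_of_isLimit D c hc
  obtain ⟨i₁, V₁, hV₁c, hV₁⟩ := exists_preimage_eq D c hc ⟨s, hs.isOpen⟩ hs.isClosed.isCompact
  obtain ⟨i₂, V₂, hV₂c, hV₂⟩ := exists_preimage_eq D c hc ⟨sᶜ, hs.compl.isOpen⟩
    hs.compl.isClosed.isCompact
  let j := IsCofiltered.min i₁ i₂
  let f₁ : j ⟶ i₁ := IsCofiltered.minToLeft i₁ i₂
  let f₂ : j ⟶ i₂ := IsCofiltered.minToRight i₁ i₂
  have htop : c.π.app j ⁻¹ᵁ (D.map f₁ ⁻¹ᵁ V₁ ⊔ D.map f₂ ⁻¹ᵁ V₂) = ⊤ := by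
    rw [Scheme.Hom.preimage_sup, preimage_preimage_eq hc, preimage_preimage_eq hc, hV₁, hV₂]
    ext x
    simp
  obtain ⟨k, g, hk⟩ := exists_map_eq_top D c hc _ htop
  refine ⟨k, D.map (g ≫ f₁) ⁻¹ᵁ V₁, D.map (g ≫ f₂) ⁻¹ᵁ V₂, ?_, ?_, ?_, ?_, ?_⟩
  · rw [preimage_preimage_eq hc, hV₁]; rfl
  · rw [preimage_preimage_eq hc, hV₂]; rfl
  · rw [D.map_comp, D.map_comp, Scheme.Hom.comp_preimage, Scheme.Hom.comp_preimage,
      ← Scheme.Hom.preimage_sup]
    exact hk
  · exact (D.map (g ≫ f₁)).isCompact_preimage hV₁c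
  · exact (D.map (g ≫ f₂)).isCompact_preimage hV₂c

/-- Version of `exists_clopen_descent` when only one stage `i₀` is known to be quasi-compact. -/
theorem exists_clopen_descent_over (hc : IsLimit c) (i₀ : I) [CompactSpace (D.obj i₀)]
    (s : Set c.pt) (hs : IsClopen s) :
    ∃ (i : I) (_ : i ⟶ i₀) (V W : (D.obj i).Opens),
      ((c.π.app i ⁻¹ᵁ V : c.pt.Opens) : Set c.pt) = s ∧
      ((c.π.app i ⁻¹ᵁ W : c.pt.Opens) : Set c.pt) = sᶜ ∧ V ⊔ W = ⊤ ∧
      IsCompact (V : Set (D.obj i)) ∧ IsCompact (W : Set (D.obj i)) := by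
  have hcpt : ∀ j : Over i₀, CompactSpace ((Over.forget i₀ ⋙ D).obj j) := compactSpace_over D i₀
  have haff' : ∀ {j k : Over i₀} (f : j ⟶ k), IsAffineHom ((Over.forget i₀ ⋙ D).map f) :=
    isAffineHom_over D i₀
  obtain ⟨k, V, W, hV, hW, hVW, hVc, hWc⟩ := exists_clopen_descent (Over.forget i₀ ⋙ D)
    (c.whisker (Over.forget i₀)) (isLimitOverCone D c hc i₀) s hs
  exact ⟨k.left, k.hom, V, W, hV, hW, hVW, hVc, hWc⟩

/-- Version of `exists_preimage_eq` producing an index over `i₀`. -/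
theorem exists_preimage_eq_over (hc : IsLimit c) (i₀ : I) (U : c.pt.Opens)
    (hU : IsCompact (U : Set c.pt)) :
    ∃ (i : I) (_ : i ⟶ i₀) (V : (D.obj i).Opens), IsCompact (V : Set (D.obj i)) ∧
      c.π.app i ⁻¹ᵁ V = U := by
  have haff' : ∀ {j k : Over i₀} (f : j ⟶ k), IsAffineHom ((Over.forget i₀ ⋙ D).map f) :=
    isAffineHom_over D i₀
  obtain ⟨k, V, hVc, hV⟩ := exists_preimage_eq (Over.forget i₀ ⋙ D)
    (c.whisker (Over.forget i₀)) (isLimitOverCone D c hc i₀) U hU
  exact ⟨k.left, k.hom, V, hVc, hV⟩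

/-- A finite family of compact opens of the limit descends to a common stage over `i₀`. -/
theorem exists_preimage_eq_over_of_finite (hc : IsLimit c) (i₀ : I) {A : Type*} [Finite A]
    (U : A → c.pt.Opens) (hU : ∀ a, IsCompact (U a : Set c.pt)) :
    ∃ (i : I) (_ : i ⟶ i₀) (V : A → (D.obj i).Opens),
      ∀ a, IsCompact (V a : Set (D.obj i)) ∧ c.π.app i ⁻¹ᵁ (V a) = U a := by
  classical
  cases nonempty_fintype A
  choose j φ V hVc hV using fun a => exists_preimage_eq_over D c hc i₀ (U a) (hU a)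
  obtain ⟨k, hk⟩ := IsCofiltered.inf_objs_exists
    (Finset.univ.image fun a => (Over.mk (φ a) : Over i₀))
  have g : ∀ a, k ⟶ (Over.mk (φ a) : Over i₀) := fun a =>
    (hk (Finset.mem_image_of_mem _ (Finset.mem_univ a))).some
  refine ⟨k.left, k.hom, fun a => D.map (g a).left ⁻¹ᵁ V a, fun a => ⟨?_, ?_⟩⟩
  · exact (D.map (g a).left).isCompact_preimage (hVc a)
  · rw [preimage_preimage_eq hc]
    exact hV a

/-- Version of `exists_map_eq_top` when only one stage `i₀` is known to be quasi-compact. -/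
theorem exists_map_eq_top_over (hc : IsLimit c) (i₀ : I) [CompactSpace (D.obj i₀)] {i : I}
    (φ : i ⟶ i₀) (U : (D.obj i).Opens) (hU : c.π.app i ⁻¹ᵁ U = ⊤) :
    ∃ (j : I) (f : j ⟶ i), D.map f ⁻¹ᵁ U = ⊤ := by
  have : CompactSpace (D.obj i) := QuasiCompact.compactSpace_of_compactSpace (D.map φ)
  have hcpt : ∀ j : Over i, CompactSpace ((Over.forget i ⋙ D).obj j) := compactSpace_over D i
  have haff' : ∀ {j k : Over i} (f : j ⟶ k), IsAffineHom ((Over.forget i ⋙ D).map f) :=
    isAffineHom_over D i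
  obtain ⟨j, f, hf⟩ := exists_map_eq_top (Over.forget i ⋙ D) (c.whisker (Over.forget i))
    (isLimitOverCone D c hc i) (i := Over.mk (𝟙 i)) U hU
  exact ⟨j.left, f.left, hf⟩

/-- A compact open of a stage with empty preimage in the limit has empty preimage at a later
stage. -/
theorem exists_map_preimage_eq_bot (hc : IsLimit c) {i : I} (W : (D.obj i).Opens)
    (hW : IsCompact (W : Set (D.obj i))) (h : c.π.app i ⁻¹ᵁ W = ⊥) :
    ∃ (j : I) (f : j ⟶ i), D.map f ⁻¹ᵁ W = ⊥ := by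
  obtain ⟨j, f, hf⟩ := exists_map_preimage_le_map_preimage D c hc (U := W) (V := ⊥) hW
    (by rw [h]; exact bot_le)
  exact ⟨j, f, le_bot_iff.mp (hf.trans (by rfl))⟩

/-- If all transition maps are inducing, so are the projections from the limit. -/
theorem isInducing_π_app (hc : IsLimit c)
    (he : ∀ (i j : I) (φ : i ⟶ j), Topology.IsInducing (D.map φ)) (j : I) :
    Topology.IsInducing (c.π.app j) := by
  rw [Topology.isInducing_iff]
  apply le_antisymm
  · exact (c.π.app j).continuous.le_induced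
  · intro s hs
    rw [isOpen_induced_iff]
    -- `s` is a union of basic opens, each of which is pulled back from `D_j`
    have hbasis := isBasis_preimage_isAffineOpen D c hc
    have key : ∀ x ∈ s, ∃ t : Set (D.obj j), IsOpen t ∧ x ∈ (c.π.app j) ⁻¹' t ∧
        (c.π.app j) ⁻¹' t ⊆ s := by
      intro x hx
      obtain ⟨_, ⟨i, V, -, rfl⟩, hxV, hVs⟩ :=
        TopologicalSpace.Opens.isBasis_iff_nbhd.mp hbasis (U := ⟨s, hs⟩) hx
      let k := IsCofiltered.min i j
      let g : k ⟶ i := IsCofiltered.minToLeft i j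
      let h : k ⟶ j := IsCofiltered.minToRight i j
      obtain ⟨t, ht, hte⟩ := (he k j h).isOpen_iff.mp ((V.2.preimage (D.map g).continuous))
      have hpre : (c.π.app j) ⁻¹' t = (c.π.app i) ⁻¹' (V : Set (D.obj i)) := by
        ext y
        have h1 : c.π.app j y = D.map h (c.π.app k y) := by
          rw [← Scheme.Hom.comp_apply, c.w]
        have h2 : c.π.app i y = D.map g (c.π.app k y) := by
          rw [← Scheme.Hom.comp_apply, c.w]
        simp only [Set.mem_preimage, h1, h2]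
        exact Set.ext_iff.mp hte (c.π.app k y)
      refine ⟨t, ht, ?_, ?_⟩
      · rw [hpre]; exact hxV
      · rw [hpre]; exact hVs
    choose! t ht hxt hts using key
    refine ⟨⋃ x ∈ s, t x, isOpen_biUnion fun x hx => ht x hx, ?_⟩
    ext y
    simp only [Set.preimage_iUnion, Set.mem_iUnion, exists_prop]
    constructor
    · rintro ⟨x, hx, hy⟩
      exact hts x hx hy
    · intro hy
      exact ⟨y, hy, hxt y hy⟩

/-- Two compact opens of a quasi-separated stage whose preimages in the limit are disjoint have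
disjoint preimages at some later stage. -/
theorem exists_map_preimage_inf_eq_bot (hc : IsLimit c) {i : I} [QuasiSeparatedSpace (D.obj i)]
    (V W : (D.obj i).Opens) (hV : IsCompact (V : Set (D.obj i)))
    (hW : IsCompact (W : Set (D.obj i))) (h : c.π.app i ⁻¹ᵁ (V ⊓ W) = ⊥) :
    ∃ (j : I) (f : j ⟶ i), D.map f ⁻¹ᵁ (V ⊓ W) = ⊥ := by
  have hVW : IsCompact ((V ⊓ W : (D.obj i).Opens) : Set (D.obj i)) :=
    QuasiSeparatedSpace.inter_isCompact _ _ V.2 hV W.2 hW
  obtain ⟨j, f, hf⟩ := exists_map_preimage_eq_map_preimage D c hc (U := V ⊓ W) (V := ⊥) hVW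
    (by simp) (by rw [h]; rfl)
  exact ⟨j, f, by rw [hf]; rfl⟩

end Groth.Agent.H24
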