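import Mathlib
import Groth.Agent.H24.LimitClosedImmAffine
import Groth.Agent.H24.LimitTop

/-!
# A cofiltered limit of closed subschemes which is closed in the base (helper24)

`X = lim Xᵢ` with closed immersions as transition maps, all `Xᵢ` quasi-compact quasi-separated and
locally of finite type over a quasi-compact quasi-separated `S`.  If `X ⟶ S` is a closed
immersion, so is `Xᵢ ⟶ S` for some `i`.
-/

set_option autoImplicit false
universe u
open CategoryTheory CategoryTheory.Limits AlgebraicGeometry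

namespace Groth.Agent.H24

section Affine

variable {I : Type u} [Category.{u} I] [IsCofiltered I] {S : Scheme.{u}}
  (D : I ⥤ Scheme.{u}) (t : D ⟶ (Functor.const I).obj S) (c : Cone D)

omit [IsCofiltered I] in
theorem π_comp_t_eq {i j : I} (f : i ⟶ j) : c.π.app i ≫ t.app i = c.π.app j ≫ t.app j := by
  have h1 : t.app i = D.map f ≫ t.app j := by
    have := t.naturality f
    simp only [Functor.const_obj_obj, Functor.const_obj_map, Category.comp_id] at this
    exact this.symm
  rw [h1, ← Category.assoc, c.w]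

theorem π_comp_t_eq' (i j : I) : c.π.app i ≫ t.app i = c.π.app j ≫ t.app j := by
  rw [← π_comp_t_eq D t c (IsCofiltered.minToLeft i j), π_comp_t_eq D t c (IsCofiltered.minToRight i j)]

set_option backward.isDefEq.respectTransparency false in
/-- Affine base. -/
theorem exists_isClosedImmersion_app_of_isAffine (hc : IsLimit c) [IsAffine S]
    [∀ {i j : I} (f : i ⟶ j), IsClosedImmersion (D.map f)]
    [∀ i, CompactSpace (D.obj i)] [∀ i, QuasiSeparatedSpace (D.obj i)]
    [∀ i, LocallyOfFiniteType (t.app i)] (i₀ : I) [IsClosedImmersion (c.π.app i₀ ≫ t.app i₀)] :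
    ∃ i : I, IsClosedImmersion (t.app i) := by
  have haff : ∀ {i j : I} (f : i ⟶ j), IsAffineHom (D.map f) := fun f => inferInstance
  let tt : ∀ i, D.obj i ⟶ S := fun i => t.app i
  have hlft : ∀ i, LocallyOfFiniteType (tt i) := fun i =>
    ‹∀ i, LocallyOfFiniteType (t.app i)› i
  have hcl₀ : IsClosedImmersion (c.π.app i₀ ≫ tt i₀) :=
    ‹IsClosedImmersion (c.π.app i₀ ≫ t.app i₀)›
  have hpt : IsAffine c.pt := isAffine_of_isAffineHom (c.π.app i₀ ≫ tt i₀)
  obtain ⟨i₁, hi₁⟩ := Scheme.exists_isAffine_of_isLimit D c hc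
  obtain ⟨n, hn, b, hι⟩ := exists_isClosedImmersion_homOfVector (tt i₁)
  let ι : D.obj i₁ ⟶ 𝔸(n; S) := AffineSpace.homOfVector (tt i₁) b
  let p : 𝔸(n; S) ⟶ S := 𝔸(n; S) ↘ S
  have hιp : ι ≫ p = tt i₁ := AffineSpace.homOfVector_over _ _
  let q : c.pt ⟶ S := c.π.app i₁ ≫ tt i₁
  have hq : IsClosedImmersion q := by
    have : q = c.π.app i₀ ≫ tt i₀ := π_comp_t_eq' D t c i₁ i₀
    rw [this]; exact hcl₀
  have hsurj : Function.Surjective q.appTop :=
    (IsClosedImmersion.isAffine_surjective_of_isAffine q).2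
  choose r hr using fun k : n => hsurj ((c.π.app i₁).appTop (b k))
  let σ : S ⟶ 𝔸(n; S) := AffineSpace.homOfVector (𝟙 S) r
  have hσp : σ ≫ p = 𝟙 S := AffineSpace.homOfVector_over _ _
  have hab : c.π.app i₁ ≫ ι = c.π.app i₁ ≫ (tt i₁ ≫ σ) := by
    apply AffineSpace.hom_ext
    · rw [Category.assoc, Category.assoc, Category.assoc]
      change c.π.app i₁ ≫ ι ≫ p = c.π.app i₁ ≫ tt i₁ ≫ σ ≫ p
      rw [hιp, hσp, Category.comp_id]
    · intro k
      rw [← Category.assoc (c.π.app i₁) (tt i₁) σ]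
      rw [Scheme.Hom.comp_appTop, Scheme.Hom.comp_appTop, CommRingCat.comp_apply,
        CommRingCat.comp_apply, AffineSpace.homOfVector_appTop_coord,
        AffineSpace.homOfVector_appTop_coord]
      exact (hr k).symm
  obtain ⟨k, hik, hk⟩ := Scheme.exists_hom_comp_eq_comp_of_locallyOfFiniteType D t p c hc
    ι (tt i₁ ≫ σ) hιp.symm (by rw [Category.assoc, hσp]; exact (Category.comp_id _).symm) hab
  refine ⟨k, ?_⟩
  have hnat : D.map hik ≫ tt i₁ = tt k := by
    have := t.naturality hik
    simp only [Functor.const_obj_obj, Functor.const_obj_map, Category.comp_id] at this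
    exact this
  have hcl : IsClosedImmersion (tt k ≫ σ) := by
    rw [← hnat, Category.assoc, ← hk]
    infer_instance
  exact IsClosedImmersion.of_comp (tt k) σ

end Affine

end Groth.Agent.H24

namespace Groth.Agent.H24

section Global

variable {I : Type u} [Category.{u} I] [IsCofiltered I] {S : Scheme.{u}}
  (D : I ⥤ Scheme.{u}) (t : D ⟶ (Functor.const I).obj S) (c : Cone D)

/-- The structure maps with codomain displayed as `S`. -/
abbrev strMap (i : I) : D.obj i ⟶ S := t.app i

omit [IsCofiltered I] in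
theorem strMap_naturality {i j : I} (f : i ⟶ j) : D.map f ≫ strMap D t j = strMap D t i := by
  have := t.naturality f
  simp only [Functor.const_obj_obj, Functor.const_obj_map, Category.comp_id] at this
  exact this

omit [IsCofiltered I] in
theorem preimage_strMap (i₀ : I) (U : S.Opens) (j : Over i₀) :
    D.map j.hom ⁻¹ᵁ (strMap D t i₀ ⁻¹ᵁ U) = strMap D t j.left ⁻¹ᵁ U := by
  rw [← Scheme.Hom.comp_preimage, strMap_naturality]

set_option backward.isDefEq.respectTransparency false in
/-- The structure maps of the system restricted over `U ⊆ S`. -/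
noncomputable def resStr (i₀ : I) (U : S.Opens) :
    opensDiagram D i₀ (strMap D t i₀ ⁻¹ᵁ U) ⟶ (Functor.const (Over i₀)).obj (U : Scheme.{u}) where
  app j := (strMap D t j.left).resLE U (D.map j.hom ⁻¹ᵁ (strMap D t i₀ ⁻¹ᵁ U))
    (le_of_eq (preimage_strMap D t i₀ U j))
  naturality j k f := by
    simp only [Functor.const_obj_obj, Functor.const_obj_map, Category.comp_id]
    rw [← cancel_mono U.ι]
    simp only [opensDiagram_obj, opensDiagram_map, Category.assoc, Scheme.Hom.resLE_comp_ι,
      Scheme.Hom.resLE_comp_ι_assoc]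
    rw [strMap_naturality]

end Global

end Groth.Agent.H24

namespace Groth.Agent.H24

section Global2

theorem isClosedImmersion_restrict_comp {X Y Z : Scheme.{u}} (a : X ⟶ Y) (b : Y ⟶ Z) (g : X ⟶ Z)
    (hg : a ≫ b = g) (U : Z.Opens) [IsClosedImmersion a] (hb : IsClosedImmersion (b ∣_ U)) :
    IsClosedImmersion (g ∣_ U) := by
  subst hg
  rw [morphismRestrict_comp]
  have h1 : IsClosedImmersion (a ∣_ b ⁻¹ᵁ U) := IsZariskiLocalAtTarget.restrict ‹_› _
  exact MorphismProperty.comp_mem _ _ _ h1 hb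

variable {I : Type u} [Category.{u} I] [IsCofiltered I] {S : Scheme.{u}}
  (D : I ⥤ Scheme.{u}) (t : D ⟶ (Functor.const I).obj S) (c : Cone D)

set_option backward.isDefEq.respectTransparency false in
/-- **Closed immersion at a stage**: `X = lim Xᵢ` with closed immersions as transition maps, all
`Xᵢ` qcqs and locally of finite type over the qcqs scheme `S`; if `X ⟶ S` is a closed immersion,
so is some `Xᵢ ⟶ S`. -/
theorem exists_isClosedImmersion_app (hc : IsLimit c) [CompactSpace S] [QuasiSeparatedSpace S]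
    [∀ {i j : I} (f : i ⟶ j), IsClosedImmersion (D.map f)]
    [∀ i, CompactSpace (D.obj i)] [∀ i, QuasiSeparatedSpace (D.obj i)]
    [∀ i, LocallyOfFiniteType (strMap D t i)] (i₀ : I)
    [IsClosedImmersion (c.π.app i₀ ≫ strMap D t i₀)] :
    ∃ i : I, IsClosedImmersion (strMap D t i) := by
  classical
  have haff : ∀ {i j : I} (f : i ⟶ j), IsAffineHom (D.map f) := fun f => inferInstance
  have hloc : ∀ U : S.Opens, IsAffineOpen U →
      ∃ j : Over i₀, IsClosedImmersion (strMap D t j.left ∣_ U) := by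
    intro U hU
    have hA : IsAffine (U : Scheme.{u}) := hU
    have h1 : ∀ {j k : Over i₀} (f : j ⟶ k),
        IsClosedImmersion ((opensDiagram D i₀ (strMap D t i₀ ⁻¹ᵁ U)).map f) := by
      intro j k f
      have e : D.map j.hom ⁻¹ᵁ (strMap D t i₀ ⁻¹ᵁ U) =
          D.map f.left ⁻¹ᵁ (D.map k.hom ⁻¹ᵁ (strMap D t i₀ ⁻¹ᵁ U)) := by
        rw [← Scheme.Hom.comp_preimage (D.map f.left) (D.map k.hom), ← D.map_comp, Over.w f]
      change IsClosedImmersion ((D.map f.left).resLE _ _ _)
      rw [Scheme.Hom.resLE_congr _ _ rfl e @IsClosedImmersion,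
        Scheme.Hom.resLE_eq_morphismRestrict]
      infer_instance
    have h2 : ∀ j : Over i₀,
        CompactSpace ((opensDiagram D i₀ (strMap D t i₀ ⁻¹ᵁ U)).obj j) := by
      intro j
      have : IsCompact ((D.map j.hom ⁻¹ᵁ (strMap D t i₀ ⁻¹ᵁ U) : (D.obj j.left).Opens) :
          Set (D.obj j.left)) := by
        rw [preimage_strMap]
        exact (strMap D t j.left).isCompact_preimage hU.isCompact
      exact isCompact_iff_compactSpace.mp this
    have h3 : ∀ j : Over i₀,
        QuasiSeparatedSpace ((opensDiagram D i₀ (strMap D t i₀ ⁻¹ᵁ U)).obj j) := fun j =>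
      (D.map j.hom ⁻¹ᵁ (strMap D t i₀ ⁻¹ᵁ U)).ι.isOpenEmbedding.quasiSeparatedSpace
    have h4 : ∀ j : Over i₀, LocallyOfFiniteType ((resStr D t i₀ U).app j) := fun j =>
      IsZariskiLocalAtSource.resLE (P := @LocallyOfFiniteType) _ inferInstance
    have h5 : IsClosedImmersion ((opensCone D c i₀ (strMap D t i₀ ⁻¹ᵁ U)).π.app (Over.mk (𝟙 i₀)) ≫
        (resStr D t i₀ U).app (Over.mk (𝟙 i₀))) := by
      have h6 : (opensCone D c i₀ (strMap D t i₀ ⁻¹ᵁ U)).π.app (Over.mk (𝟙 i₀)) ≫
          (resStr D t i₀ U).app (Over.mk (𝟙 i₀)) =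
          (c.π.app i₀ ≫ strMap D t i₀).resLE U (c.π.app i₀ ⁻¹ᵁ (strMap D t i₀ ⁻¹ᵁ U))
            (by rw [Scheme.Hom.comp_preimage]) :=
        Scheme.Hom.resLE_comp_resLE _ _ _ _
      rw [h6, Scheme.Hom.resLE_congr _ _ rfl
        (Scheme.Hom.comp_preimage (c.π.app i₀) (strMap D t i₀) U).symm @IsClosedImmersion,
        Scheme.Hom.resLE_eq_morphismRestrict]
      infer_instance
    obtain ⟨j, hj⟩ := exists_isClosedImmersion_app_of_isAffine
      (opensDiagram D i₀ (strMap D t i₀ ⁻¹ᵁ U)) (resStr D t i₀ U)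
      (opensCone D c i₀ (strMap D t i₀ ⁻¹ᵁ U)) (isLimitOpensCone D c hc i₀ _) (Over.mk (𝟙 i₀))
    refine ⟨j, ?_⟩
    rw [← Scheme.Hom.resLE_eq_morphismRestrict,
      ← Scheme.Hom.resLE_congr _ (le_of_eq (preimage_strMap D t i₀ U j)) rfl
        (preimage_strMap D t i₀ U j) @IsClosedImmersion]
    exact hj
  have hmono : ∀ (U : S.Opens) {k j : Over i₀} (f : k ⟶ j),
      IsClosedImmersion (strMap D t j.left ∣_ U) → IsClosedImmersion (strMap D t k.left ∣_ U) := by
    intro U k j f hj
    exact isClosedImmersion_restrict_comp (D.map f.left) (strMap D t j.left) (strMap D t k.left)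
      (strMap_naturality D t f.left) U hj
  obtain ⟨s, hs, hcov⟩ := isCompact_iff_finite_and_eq_biUnion_affineOpens.mp
    (show IsCompact ((⊤ : S.Opens) : Set S) from isCompact_univ)
  have hsf : Finite s := hs
  choose jk hjk using fun k : s => hloc k.1.1 k.1.2
  have := Fintype.ofFinite s
  obtain ⟨j, T⟩ := IsCofiltered.inf_objs_exists (Finset.univ.image jk)
  refine ⟨j.left, IsZariskiLocalAtTarget.of_iSup_eq_top (fun k : s => k.1.1) ?_ fun k => ?_⟩
  · rw [eq_top_iff]
    intro x _
    have hx : x ∈ (⊤ : S.Opens) := trivial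
    rw [hcov] at hx
    simp only [TopologicalSpace.Opens.mem_iSup] at hx
    obtain ⟨W, hWs, hxW⟩ := hx
    exact TopologicalSpace.Opens.mem_iSup.mpr ⟨⟨W, hWs⟩, hxW⟩
  · obtain ⟨f⟩ := T (Finset.mem_image_of_mem _ (Finset.mem_univ k))
    exact hmono k.1.1 f (hjk k)

end Global2

end Groth.Agent.H24
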