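import Mathlib
import Groth.Agent.H24.LimitRebase

/-!
# Localization principle for descent to a stage (helper24)

If a property `P` (local on the target, stable under base change) descends to a stage for each of
the rebased problems attached to a finite open cover of a stage `Y_{ψ₀}`, it descends for the
original problem.
-/

set_option autoImplicit false
universe u
open CategoryTheory CategoryTheory.Limits AlgebraicGeometry

namespace Groth.Agent.H24

variable {I : Type u} [Category.{u} I] (D : I ⥤ Scheme.{u}) (c : Cone D) (i₀ : I)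
  {X₀ Y₀ : Scheme.{u}} (f₀ : X₀ ⟶ Y₀) (g₀ : Y₀ ⟶ D.obj i₀)

set_option backward.isDefEq.respectTransparency false in
/-- Restrictions of stage maps over opens are compatible with the transition maps. -/
theorem prop_morphismRestrict_map (P : MorphismProperty Scheme.{u}) [P.IsStableUnderBaseChange]
    {ψ ψ' : Over i₀} (a : ψ ⟶ ψ') (W : ((pullbackDiagram D i₀ g₀).obj ψ').Opens)
    (h : P (stageMap D i₀ f₀ g₀ ψ' ∣_ W)) :
    P (stageMap D i₀ f₀ g₀ ψ ∣_ ((pullbackDiagram D i₀ g₀).map a ⁻¹ᵁ W)) := by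
  let FY := pullbackDiagram D i₀ g₀
  have t := (isPullback_morphismRestrict (stageMap D i₀ f₀ g₀ ψ)
    (FY.map a ⁻¹ᵁ W)).flip.paste_horiz (isPullback_map_stageMap D i₀ f₀ g₀ a)
  rw [← morphismRestrict_ι] at t
  have s := (isPullback_morphismRestrict (stageMap D i₀ f₀ g₀ ψ') W).flip
  exact P.of_isPullback (IsPullback.of_right' t s) h

variable [IsCofiltered I]

set_option backward.isDefEq.respectTransparency false in
/-- **Localization principle.** -/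
theorem exists_stageMap_of_cover (P : MorphismProperty Scheme.{u}) [IsZariskiLocalAtTarget P]
    [P.IsStableUnderBaseChange] (ψ₀ : Over i₀) {κ : Type*} [Finite κ]
    (V : κ → ((pullbackDiagram D i₀ g₀).obj ψ₀).Opens) (hV : ⨆ k, V k = ⊤)
    (hdesc : ∀ k, P (limMap (rbD D i₀ g₀ ψ₀ (V k)) (rbC D c i₀ g₀ ψ₀ (V k)) (rbI i₀ ψ₀)
        (rbF D i₀ f₀ g₀ ψ₀ (V k)) (𝟙 _)) →
      ∃ χ : Over (rbI i₀ ψ₀), P (stageMap (rbD D i₀ g₀ ψ₀ (V k)) (rbI i₀ ψ₀)
        (rbF D i₀ f₀ g₀ ψ₀ (V k)) (𝟙 _) χ))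
    (hlim : P (limMap D c i₀ f₀ g₀)) :
    ∃ ψ : Over i₀, P (stageMap D i₀ f₀ g₀ ψ) := by
  classical
  let FY := pullbackDiagram D i₀ g₀
  let cY := pullbackCone D c i₀ g₀
  have h1 : ∀ k, ∃ (ψ : Over i₀) (b : ψ ⟶ ψ₀),
      P (stageMap D i₀ f₀ g₀ ψ ∣_ (FY.map b ⁻¹ᵁ V k)) := by
    intro k
    have h2 := IsZariskiLocalAtTarget.restrict hlim (cY.π.app ψ₀ ⁻¹ᵁ V k)
    obtain ⟨χ, hχ⟩ := hdesc k ((rebase_limMap_iff D c i₀ f₀ g₀ ψ₀ (V k) P).mpr h2)
    exact ⟨χ.left.left, χ.left.hom, (rebase_stageMap_iff D i₀ f₀ g₀ ψ₀ (V k) P χ).mp hχ⟩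
  choose ψk bk hk using h1
  have := Fintype.ofFinite κ
  let O : Finset (Over i₀) := insert ψ₀ (Finset.univ.image ψk)
  have hO₀ : ψ₀ ∈ O := Finset.mem_insert_self _ _
  have hOk : ∀ k, ψk k ∈ O := fun k =>
    Finset.mem_insert_of_mem (Finset.mem_image_of_mem _ (Finset.mem_univ k))
  obtain ⟨ψ, T, hT⟩ := IsCofiltered.inf_exists O
    (Finset.univ.image (fun k : κ => ⟨ψk k, ψ₀, hOk k, hO₀, bk k⟩))
  have hTk : ∀ k, T (hOk k) ≫ bk k = T hO₀ := fun k =>
    hT (hOk k) hO₀ (Finset.mem_image_of_mem _ (Finset.mem_univ k))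
  refine ⟨ψ, IsZariskiLocalAtTarget.of_iSup_eq_top (fun k => FY.map (T hO₀) ⁻¹ᵁ V k) ?_ ?_⟩
  · rw [← Scheme.Hom.preimage_iSup, hV]
    rfl
  · intro k
    have h3 := prop_morphismRestrict_map D i₀ f₀ g₀ P (T (hOk k)) _ (hk k)
    have h4 : FY.map (T (hOk k)) ⁻¹ᵁ (FY.map (bk k) ⁻¹ᵁ V k) = FY.map (T hO₀) ⁻¹ᵁ V k := by
      rw [← Scheme.Hom.comp_preimage, ← FY.map_comp, hTk]
    rw [h4] at h3
    exact h3

end Groth.Agent.H24
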