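import Mathlib
import Groth.Agent.H24.LimitClosedImmAffine
import Groth.Agent.H24.LimitIsoLocal

/-!
# Closed immersions and separated morphisms descend to a stage (helper24)
-/

set_option autoImplicit false
universe u
open CategoryTheory CategoryTheory.Limits AlgebraicGeometry

namespace Groth.Agent.H24

variable {I : Type u} [Category.{u} I] [IsCofiltered I] (D : I ⥤ Scheme.{u}) (c : Cone D)
  [∀ {i j} (f : i ⟶ j), IsAffineHom (D.map f)] (i₀ : I)
  {X₀ Y₀ : Scheme.{u}} (f₀ : X₀ ⟶ Y₀) (g₀ : Y₀ ⟶ D.obj i₀)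

set_option backward.isDefEq.respectTransparency false in
/-- **Closed immersions descend to a stage.** -/
theorem exists_isClosedImmersion_stageMap (hc : IsLimit c) [CompactSpace X₀]
    [QuasiSeparatedSpace X₀] [CompactSpace Y₀] [QuasiSeparatedSpace Y₀] [LocallyOfFiniteType f₀]
    (h : IsClosedImmersion (limMap D c i₀ f₀ g₀)) :
    ∃ ψ : Over i₀, IsClosedImmersion (stageMap D i₀ f₀ g₀ ψ) := by
  let FY := pullbackDiagram D i₀ g₀
  let cY := pullbackCone D c i₀ g₀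
  have hcY : IsLimit cY := isLimitPullbackCone D c i₀ g₀ hc
  have hFYaff : ∀ {φ ψ : Over i₀} (f : φ ⟶ ψ), IsAffineHom (FY.map f) := fun f =>
    MorphismProperty.of_isPullback (P := @IsAffineHom)
      (isPullback_pullbackDiagram_map D i₀ g₀ f).flip inferInstance
  -- first make the stage map affine
  obtain ⟨ψ₀, hψ₀⟩ := exists_isAffineHom_stageMap D c i₀ f₀ g₀ hc (limMap D c i₀ f₀ g₀)
    (pullback.fst (c.π.app i₀) g₀) (pullback.snd (c.π.app i₀) g₀)
    (pullback.snd (c.π.app i₀) (f₀ ≫ g₀)) (IsPullback.of_hasPullback (c.π.app i₀) g₀).flip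
    (isPullback_limMap D c i₀ f₀ g₀)
  have hc0 : CompactSpace (FY.obj ψ₀) := by
    have : IsAffineHom (pullback.snd (D.map ψ₀.hom) g₀) :=
      MorphismProperty.pullback_snd (P := @IsAffineHom) _ _ inferInstance
    exact QuasiCompact.compactSpace_of_compactSpace (pullback.snd (D.map ψ₀.hom) g₀)
  obtain ⟨s, hs, hcov⟩ := isCompact_iff_finite_and_eq_biUnion_affineOpens.mp
    (show IsCompact ((⊤ : (FY.obj ψ₀).Opens) : Set (FY.obj ψ₀)) from isCompact_univ)
  have hsf : Finite s := hs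
  have hft0 : LocallyOfFiniteType (stageMap D i₀ f₀ g₀ ψ₀) :=
    MorphismProperty.of_isPullback (P := @LocallyOfFiniteType)
      (isPullback_stageMap D i₀ f₀ g₀ ψ₀) inferInstance
  refine exists_stageMap_of_cover D c i₀ f₀ g₀ @IsClosedImmersion ψ₀
    (fun k : s => k.1.1) ?_ ?_ h
  · rw [eq_top_iff]
    intro x _
    have hx : x ∈ (⊤ : (FY.obj ψ₀).Opens) := trivial
    rw [hcov] at hx
    simp only [TopologicalSpace.Opens.mem_iSup] at hx ⊢
    obtain ⟨W, hWs, hxW⟩ := hx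
    exact ⟨⟨W, hWs⟩, hxW⟩
  · intro k hk
    have hVaff : IsAffineOpen (rbV D i₀ g₀ ψ₀ k.1.1) := by
      rw [rbV_eq]; exact k.1.2
    have hA1 : IsAffine (stageMap D i₀ f₀ g₀ ψ₀ ⁻¹ᵁ rbV D i₀ g₀ ψ₀ k.1.1 : Scheme.{u}) :=
      hVaff.preimage (stageMap D i₀ f₀ g₀ ψ₀)
    have hA : IsAffine ((rbD D i₀ g₀ ψ₀ k.1.1).obj (rbI i₀ ψ₀)) := hVaff
    have hft : LocallyOfFiniteType (rbF D i₀ f₀ g₀ ψ₀ k.1.1) :=
      MorphismProperty.of_isPullback (P := @LocallyOfFiniteType)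
        (isPullback_rbF D i₀ f₀ g₀ ψ₀ k.1.1) hft0
    exact exists_isClosedImmersion_stageMap_of_isAffine (rbD D i₀ g₀ ψ₀ k.1.1)
      (rbC D c i₀ g₀ ψ₀ k.1.1) (rbI i₀ ψ₀) (rbF D i₀ f₀ g₀ ψ₀ k.1.1) (𝟙 _)
      (isLimitOpensCone FY cY hcY ψ₀ k.1.1) hk

set_option backward.isDefEq.respectTransparency false in
/-- **Separated morphisms descend to a stage.** -/
theorem exists_isSeparated_stageMap (hc : IsLimit c) [CompactSpace X₀] [QuasiSeparatedSpace X₀]
    [QuasiSeparatedSpace Y₀]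
    {X Y : Scheme.{u}} (f : X ⟶ Y) (g : Y ⟶ c.pt)
    (qY : Y ⟶ Y₀) (qX : X ⟶ X₀) (hY : IsPullback qY g g₀ (c.π.app i₀))
    (hX : IsPullback qX f f₀ qY) [IsSeparated f] :
    ∃ ψ : Over i₀, IsSeparated (stageMap D i₀ f₀ g₀ ψ) := by
  have hqc : QuasiCompact f₀ := inferInstance
  have hqs : QuasiSeparated f₀ := inferInstance
  have h1 : QuasiCompact (pullback.fst f₀ f₀) :=
    MorphismProperty.pullback_fst (P := @QuasiCompact) _ _ inferInstance
  have h2 : QuasiSeparated (pullback.fst f₀ f₀) :=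
    MorphismProperty.pullback_fst (P := @QuasiSeparated) _ _ inferInstance
  have hc2 : CompactSpace ↥(pullback f₀ f₀) :=
    QuasiCompact.compactSpace_of_compactSpace (pullback.fst f₀ f₀)
  have hs2 : QuasiSeparatedSpace ↥(pullback f₀ f₀) :=
    quasiSeparatedSpace_of_quasiSeparated (pullback.fst f₀ f₀)
  have hlim : IsClosedImmersion (limMap D c i₀ (pullback.diagonal f₀) (diagBase D i₀ f₀ g₀)) :=
    (prop_diagonal_iff D i₀ f₀ g₀ @IsClosedImmersion
      (c.π.app i₀) f g qY qX hY hX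
      (isPullback_limMap D c i₀ (pullback.diagonal f₀) (diagBase D i₀ f₀ g₀))).mp
      IsSeparated.isClosedImmersion_diagonal
  obtain ⟨ψ, hψ⟩ := exists_isClosedImmersion_stageMap D c i₀ (pullback.diagonal f₀)
    (diagBase D i₀ f₀ g₀) hc hlim
  refine ⟨ψ, ⟨?_⟩⟩
  exact (prop_diagonal_iff D i₀ f₀ g₀ @IsClosedImmersion
      (D.map ψ.hom) (stageMap D i₀ f₀ g₀ ψ) (pullback.fst (D.map ψ.hom) g₀)
      (pullback.snd (D.map ψ.hom) g₀) (pullback.snd (D.map ψ.hom) (f₀ ≫ g₀))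
      (IsPullback.of_hasPullback (D.map ψ.hom) g₀).flip (isPullback_stageMap D i₀ f₀ g₀ ψ)
      (isPullback_stageMap D i₀ (pullback.diagonal f₀) (diagBase D i₀ f₀ g₀) ψ)).mpr hψ

end Groth.Agent.H24
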