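import Mathlib
import Groth.Agent.H24.LimitTop

/-!
# Constructible sets and cofiltered limits of schemes with affine transition maps
-/

set_option autoImplicit false
universe u
open CategoryTheory CategoryTheory.Limits AlgebraicGeometry Topology

namespace Groth.Agent.H24

/-- Normal form induction for constructible sets: it suffices to treat differences of retrocompact
opens and finite unions. -/
theorem isConstructible_sdiff_union_induction {X : Type*} [TopologicalSpace X] {p : Set X → Prop}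
    (sdiff : ∀ U W : Set X, IsOpen U → IsRetrocompact U → IsOpen W → IsRetrocompact W → p (U \ W))
    (union : ∀ s t, p s → p t → p (s ∪ t)) {s : Set X} (hs : IsConstructible s) : p s := by
  refine BooleanSubalgebra.closure_sdiff_sup_induction
    (s := {U : Set X | IsOpen U ∧ IsRetrocompact U}) (p := fun g _ => p g) ?_ ?_ ?_ ?_ ?_ s hs
  · exact ⟨fun s hs t ht ↦ ⟨hs.1.union ht.1, hs.2.union ht.2⟩,
      fun s hs t ht ↦ ⟨hs.1.inter ht.1, hs.2.inter_isOpen ht.2 ht.1⟩⟩
  · exact ⟨isOpen_empty, .empty⟩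
  · exact ⟨isOpen_univ, .univ⟩
  · intro x hx y hy
    exact sdiff x y hx.1 hx.2 hy.1 hy.2
  · intro x _ y _ hx hy
    exact union x y hx hy

variable {I : Type u} [Category.{u} I] [IsCofiltered I] (D : I ⥤ Scheme.{u}) (c : Cone D)
  [∀ {i j} (f : i ⟶ j), IsAffineHom (D.map f)]

/-- The preimage in the limit of (a constructible set) ∩ (a compact open) is compact. -/
theorem isCompact_preimage_inter_of_isConstructible (hc : IsLimit c) {i : I}
    {Z : Set (D.obj i)} (hZ : IsConstructible Z) (B : (D.obj i).Opens)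
    (hB : IsCompact (B : Set (D.obj i))) :
    IsCompact ((c.π.app i) ⁻¹' (Z ∩ B)) := by
  have := isAffineHom_π_app D c hc i
  refine isConstructible_sdiff_union_induction
    (p := fun Z => IsCompact ((c.π.app i) ⁻¹' (Z ∩ B))) ?_ ?_ hZ
  · intro U W hU hU' hW hW'
    have h1 : IsCompact ((c.π.app i) ⁻¹' (U ∩ B)) :=
      QuasiCompact.isCompact_preimage (f := c.π.app i) _ (hU.inter B.2) (hU' hB B.2)
    have h2 : (c.π.app i) ⁻¹' ((U \ W) ∩ B) = (c.π.app i) ⁻¹' (U ∩ B) \ (c.π.app i) ⁻¹' W := by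
      ext x; simp only [Set.mem_preimage, Set.mem_inter_iff, Set.mem_sdiff]; tauto
    rw [h2]
    exact h1.diff (hW.preimage (c.π.app i).continuous)
  · intro s t hs ht
    rw [Set.union_inter_distrib_right, Set.preimage_union]
    exact hs.union ht

/-- If `(constructible) ∩ (compact open) \ (open)` has empty preimage in the limit, it already has
empty preimage at some stage. -/
theorem exists_preimage_eq_empty_of_isConstructible (hc : IsLimit c) {i : I}
    {Z : Set (D.obj i)} (hZ : IsConstructible Z) (B V : (D.obj i).Opens)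
    (hB : IsCompact (B : Set (D.obj i)))
    (h : (c.π.app i) ⁻¹' ((Z ∩ B) \ V) = ∅) :
    ∃ (j : I) (f : j ⟶ i), (D.map f) ⁻¹' ((Z ∩ B) \ V) = ∅ := by
  revert h
  refine isConstructible_sdiff_union_induction
    (p := fun Z => (c.π.app i) ⁻¹' ((Z ∩ B) \ V) = ∅ →
      ∃ (j : I) (f : j ⟶ i), (D.map f) ⁻¹' ((Z ∩ B) \ V) = ∅) ?_ ?_ hZ
  · intro U W hU hU' hW hW' h
    let U' : (D.obj i).Opens := ⟨U ∩ B, hU.inter B.2⟩
    let W' : (D.obj i).Opens := ⟨W, hW⟩ ⊔ V
    have hU'c : IsCompact (U' : Set (D.obj i)) := hU' hB B.2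
    have H : c.π.app i ⁻¹ᵁ U' ≤ c.π.app i ⁻¹ᵁ W' := by
      intro x hx
      by_contra hx'
      have : x ∈ (c.π.app i) ⁻¹' (((U \ W) ∩ B) \ V) := by
        have h1 : c.π.app i x ∈ U ∩ B := hx
        have h2 : ¬ (c.π.app i x ∈ W ∨ c.π.app i x ∈ V) := fun h' => hx' (by
          rcases h' with h' | h'
          · exact Or.inl h'
          · exact Or.inr h')
        push Not at h2
        exact ⟨⟨⟨h1.1, h2.1⟩, h1.2⟩, h2.2⟩
      rw [h] at this
      exact this
    obtain ⟨j, f, hf⟩ := exists_map_preimage_le_map_preimage D c hc hU'c H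
    refine ⟨j, f, ?_⟩
    ext x
    simp only [Set.mem_preimage, Set.mem_empty_iff_false, iff_false]
    rintro ⟨⟨⟨hxU, hxW⟩, hxB⟩, hxV⟩
    have : x ∈ D.map f ⁻¹ᵁ W' := hf (show x ∈ D.map f ⁻¹ᵁ U' from ⟨hxU, hxB⟩)
    rcases this with h' | h'
    · exact hxW h'
    · exact hxV h'
  · intro s t hs ht h
    have h1 : (c.π.app i) ⁻¹' ((s ∩ B) \ V) = ∅ := by
      rw [← Set.subset_empty_iff, ← h]
      exact Set.preimage_mono (by intro x hx; exact ⟨⟨Or.inl hx.1.1, hx.1.2⟩, hx.2⟩)
    have h2 : (c.π.app i) ⁻¹' ((t ∩ B) \ V) = ∅ := by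
      rw [← Set.subset_empty_iff, ← h]
      exact Set.preimage_mono (by intro x hx; exact ⟨⟨Or.inr hx.1.1, hx.1.2⟩, hx.2⟩)
    obtain ⟨j₁, f₁, hf₁⟩ := hs h1
    obtain ⟨j₂, f₂, hf₂⟩ := ht h2
    obtain ⟨k, g₁, g₂, e⟩ := IsCofiltered.cospan f₁ f₂
    refine ⟨k, g₁ ≫ f₁, ?_⟩
    ext x
    simp only [Set.mem_preimage, Set.mem_empty_iff_false, iff_false]
    rintro ⟨⟨hx | hx, hxB⟩, hxV⟩
    · have : D.map g₁ x ∈ (D.map f₁) ⁻¹' ((s ∩ B) \ V) := by
        refine ⟨⟨?_, ?_⟩, ?_⟩ <;>
        · simp only [Set.mem_preimage, ← Scheme.Hom.comp_apply, ← D.map_comp]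
          assumption
      rw [hf₁] at this
      exact this
    · have : D.map g₂ x ∈ (D.map f₂) ⁻¹' ((t ∩ B) \ V) := by
        refine ⟨⟨?_, ?_⟩, ?_⟩ <;>
        · simp only [Set.mem_preimage, ← Scheme.Hom.comp_apply, ← D.map_comp, ← e]
          assumption
      rw [hf₂] at this
      exact this

end Groth.Agent.H24

namespace Groth.Agent.H24

variable {I : Type u} [Category.{u} I] [IsCofiltered I] (D : I ⥤ Scheme.{u}) (c : Cone D)
  [∀ {i j} (f : i ⟶ j), IsAffineHom (D.map f)]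

/-- `A ⊆ D_i` is *eventually empty* if emptiness of its preimage in the limit forces emptiness of
its preimage at some stage. -/
def EventuallyEmpty {i : I} (A : Set (D.obj i)) : Prop :=
  (c.π.app i) ⁻¹' A = ∅ → ∃ (j : I) (f : j ⟶ i), (D.map f) ⁻¹' A = ∅

omit [∀ {i j} (f : i ⟶ j), IsAffineHom (D.map f)] in
variable {D c} in
theorem EventuallyEmpty.union {i : I} {A B : Set (D.obj i)} (hA : EventuallyEmpty D c A)
    (hB : EventuallyEmpty D c B) : EventuallyEmpty D c (A ∪ B) := by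
  intro h
  rw [Set.preimage_union, Set.union_empty_iff] at h
  obtain ⟨j₁, f₁, hf₁⟩ := hA h.1
  obtain ⟨j₂, f₂, hf₂⟩ := hB h.2
  obtain ⟨k, g₁, g₂, e⟩ := IsCofiltered.cospan f₁ f₂
  refine ⟨k, g₁ ≫ f₁, ?_⟩
  rw [Set.preimage_union, Set.union_empty_iff]
  constructor
  · rw [D.map_comp, Scheme.Hom.comp_base, TopCat.coe_comp, Set.preimage_comp, hf₁,
      Set.preimage_empty]
  · rw [e, D.map_comp, Scheme.Hom.comp_base, TopCat.coe_comp, Set.preimage_comp, hf₂,
      Set.preimage_empty]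

theorem eventuallyEmpty_of_isConstructible (hc : IsLimit c) {i : I}
    {Z : Set (D.obj i)} (hZ : IsConstructible Z) (B V : (D.obj i).Opens)
    (hB : IsCompact (B : Set (D.obj i))) : EventuallyEmpty D c ((Z ∩ B) \ V) :=
  fun h => exists_preimage_eq_empty_of_isConstructible D c hc hZ B V hB h

/-- If a constructible `Z ⊆ D_i` and a difference `V \ V'` of compact opens have the same preimage
in the limit, they have the same preimage at some stage. -/
theorem exists_preimage_eq_sdiff_of_isConstructible (hc : IsLimit c) {i : I}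
    [CompactSpace (D.obj i)] {Z : Set (D.obj i)} (hZ : IsConstructible Z)
    (V V' : (D.obj i).Opens) (hV : IsCompact (V : Set (D.obj i)))
    (hV' : IsCompact (V' : Set (D.obj i)))
    (h : (c.π.app i) ⁻¹' Z = (c.π.app i) ⁻¹' ((V : Set (D.obj i)) \ V')) :
    ∃ (j : I) (f : j ⟶ i), (D.map f) ⁻¹' Z = (D.map f) ⁻¹' ((V : Set (D.obj i)) \ V') := by
  have h1 := eventuallyEmpty_of_isConstructible D c hc hZ ⊤ V isCompact_univ
  have h2 := eventuallyEmpty_of_isConstructible D c hc hZ V' ⊥ hV'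
  have h3 := eventuallyEmpty_of_isConstructible D c hc hZ.compl V V' hV
  have hmem : ∀ x : c.pt, c.π.app i x ∈ Z ↔ (c.π.app i x ∈ V ∧ c.π.app i x ∉ V') := fun x => by
    have := Set.ext_iff.mp h x
    simpa using this
  obtain ⟨j, f, hf⟩ := (h1.union h2).union h3 (by
    ext x
    simp only [Set.mem_preimage, Set.mem_union, Set.mem_sdiff, Set.mem_inter_iff,
      Set.mem_compl_iff, Set.mem_empty_iff_false, iff_false]
    have := hmem x
    rintro ((⟨⟨hz, -⟩, hv⟩ | ⟨⟨hz, hv'⟩, -⟩) | ⟨⟨hz, hv⟩, hv'⟩)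
    · exact hv (this.mp hz).1
    · exact (this.mp hz).2 hv'
    · exact hz (this.mpr ⟨hv, hv'⟩))
  refine ⟨j, f, ?_⟩
  ext x
  have hx := Set.ext_iff.mp hf x
  simp only [Set.mem_preimage, Set.mem_union, Set.mem_sdiff, Set.mem_inter_iff,
    Set.mem_compl_iff, Set.mem_empty_iff_false, iff_false] at hx
  simp only [Set.mem_preimage, Set.mem_sdiff]
  constructor
  · intro hz
    refine ⟨?_, ?_⟩
    · by_contra hv
      exact hx (Or.inl (Or.inl ⟨⟨hz, trivial⟩, hv⟩))
    · intro hv'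
      exact hx (Or.inl (Or.inr ⟨⟨hz, hv'⟩, fun h => h⟩))
  · rintro ⟨hv, hv'⟩
    by_contra hz
    exact hx (Or.inr ⟨⟨hz, hv⟩, hv'⟩)

/-- A compact locally closed subset of a scheme is closed in some compact open containing it. -/
theorem exists_isCompact_open_of_isLocallyClosed {X : Scheme.{u}} {T : Set X}
    (hT : IsLocallyClosed T) (hTc : IsCompact T) :
    ∃ U : X.Opens, IsCompact (U : Set X) ∧ T ⊆ U ∧ IsOpen ((U : Set X) \ T) := by
  obtain ⟨O, F, hO, hF, rfl⟩ := hT
  have hcov : ∀ x ∈ O ∩ F, ∃ B : X.Opens, IsAffineOpen B ∧ x ∈ B ∧ (B : Set X) ⊆ O := by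
    intro x hx
    obtain ⟨_, ⟨B, hB, rfl⟩, hxB, hBO⟩ :=
      X.isBasis_affineOpens.exists_subset_of_mem_open hx.1 hO
    exact ⟨B, hB, hxB, hBO⟩
  choose! B hB hxB hBO using hcov
  obtain ⟨t, ht, htcov⟩ := hTc.elim_nhds_subcover (fun x => (B x : Set X))
    (fun x hx => (B x).2.mem_nhds (hxB x hx))
  refine ⟨⨆ x ∈ t, B x, ?_, ?_, ?_⟩
  · simp only [TopologicalSpace.Opens.coe_iSup]
    exact t.finite_toSet.isCompact_biUnion fun x hx => (hB x (ht x hx)).isCompact
  · simpa only [TopologicalSpace.Opens.coe_iSup] using htcov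
  · have : ((⨆ x ∈ t, B x : X.Opens) : Set X) \ (O ∩ F) =
        ((⨆ x ∈ t, B x : X.Opens) : Set X) ∩ Fᶜ := by
      ext y
      simp only [TopologicalSpace.Opens.coe_iSup, Set.mem_sdiff, Set.mem_iUnion, SetLike.mem_coe,
        Set.mem_inter_iff, Set.mem_compl_iff, exists_prop, not_and]
      constructor
      · rintro ⟨⟨x, hxt, hy⟩, h⟩
        exact ⟨⟨x, hxt, hy⟩, h (hBO x (ht x hxt) hy)⟩
      · rintro ⟨h1, h2⟩
        exact ⟨h1, fun _ => h2⟩
    rw [this]
    exact (⨆ x ∈ t, B x : X.Opens).2.inter hF.isOpen_compl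

end Groth.Agent.H24

namespace Groth.Agent.H24

/-- Constructible subsets of a compact space are compact. -/
theorem isCompact_of_isConstructible {X : Type*} [TopologicalSpace X] [CompactSpace X]
    {Z : Set X} (hZ : IsConstructible Z) : IsCompact Z := by
  refine isConstructible_sdiff_union_induction (p := fun Z => IsCompact Z) ?_ ?_ hZ
  · intro U W _ hU' hW _
    exact hU'.isCompact.diff hW
  · intro s t hs ht
    exact hs.union ht

end Groth.Agent.H24
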