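import Groth.Agent.H24.LimitProCons
import Groth.Agent.H24.LimitBaseChange

/-!
# Descent skeleton for base changes of a scheme to a cofiltered limit (helper24)

Setup: `S = lim S_i` (cone `c` over `D`), `g₀ : Y₀ ⟶ S_{i₀}` quasi-compact, `Y = Y₀ ×_{S_{i₀}} S`.

* `exists_preimage_snd_eq_empty`: a pro-constructible subset `T ⊆ Y₀` whose preimage in `Y` is
  empty already has empty preimage in some `Y_ψ = S_ψ ×_{S_{i₀}} Y₀`, `ψ : j ⟶ i₀`.
-/

set_option autoImplicit false
universe u
open CategoryTheory CategoryTheory.Limits AlgebraicGeometry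

namespace Groth.Agent.H24

theorem isLocallyConstructible_compl {T : Type*} [TopologicalSpace T] {s : Set T}
    (hs : Topology.IsLocallyConstructible s) : Topology.IsLocallyConstructible sᶜ := by
  intro x
  obtain ⟨U, hU, hUo, hc⟩ := hs x
  exact ⟨U, hU, hUo, by simpa using hc.compl⟩

/-- In a pullback square the range of the base change is the preimage of the range. -/
theorem range_eq_preimage_range_of_isPullback {X₀ Y₀ X₁ Y₁ : Scheme.{u}} {f₀ : X₀ ⟶ Y₀}
    {pX : X₁ ⟶ X₀} {f₁ : X₁ ⟶ Y₁} {pY : Y₁ ⟶ Y₀} (h : IsPullback pX f₁ f₀ pY) :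
    Set.range f₁.base = pY.base ⁻¹' Set.range f₀.base := by
  have := Scheme.image_preimage_eq_of_isPullback h Set.univ
  simpa using this

/-- The complement of the range of a morphism of finite presentation is pro-constructible. -/
theorem isProConstructible_compl_range {X₀ Y₀ : Scheme.{u}} (f₀ : X₀ ⟶ Y₀)
    [LocallyOfFinitePresentation f₀] [QuasiCompact f₀] :
    ProCons.IsProConstructible (Set.range f₀.base)ᶜ := by
  apply isProConstructible_of_isLocallyConstructible
  have := f₀.isLocallyConstructible_image (s := Set.univ) Topology.IsLocallyConstructible.univ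
  rw [Set.image_univ] at this
  exact isLocallyConstructible_compl this

variable {I : Type u} [SmallCategory I] [IsCofiltered I]
  (D : I ⥤ Scheme.{u}) (c : Cone D) (hc : IsLimit c)
  [∀ (i j : I) (f : i ⟶ j), IsAffineHom (D.map f)] (i₀ : I) [CompactSpace (D.obj i₀)]
  {Y₀ : Scheme.{u}} (g₀ : Y₀ ⟶ D.obj i₀) [QuasiCompact g₀]

include hc in
theorem exists_preimage_snd_eq_empty {Y : Scheme.{u}} (g : Y ⟶ c.pt) (qY : Y ⟶ Y₀)
    (hY : IsPullback qY g g₀ (c.π.app i₀)) {T : Set Y₀} (hT : ProCons.IsProConstructible T)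
    (h : qY.base ⁻¹' T = ∅) :
    ∃ ψ : Over i₀, (pullback.snd (D.map ψ.hom) g₀).base ⁻¹' T = ∅ := by
  have haff : ∀ {i j : I} (f : i ⟶ j), IsAffineHom (D.map f) := fun f => inferInstance
  let F := pullbackDiagram D i₀ g₀
  let cF := pullbackCone D c i₀ g₀
  have hcF : IsLimit cF := isLimitPullbackCone D c i₀ g₀ hc
  have hFaff : ∀ {φ ψ : Over i₀} (f : φ ⟶ ψ), IsAffineHom (F.map f) := fun f =>
    MorphismProperty.of_isPullback (P := @IsAffineHom)
      (isPullback_pullbackDiagram_map D i₀ g₀ f).flip inferInstance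
  let φ₀ : Over i₀ := Over.mk (𝟙 i₀)
  have hqc' : QuasiCompact (pullback.fst (D.map φ₀.hom) g₀) :=
    MorphismProperty.pullback_fst (P := @QuasiCompact) _ _ inferInstance
  have hcpt₀ : CompactSpace (D.obj φ₀.left) := ‹CompactSpace (D.obj i₀)›
  have hcpt' : CompactSpace ↥(pullback (D.map φ₀.hom) g₀ : Scheme.{u}) :=
    QuasiCompact.compactSpace_of_compactSpace (pullback.fst (D.map φ₀.hom) g₀)
  have hcpt : CompactSpace (F.obj φ₀) := hcpt'
  have hA : ProCons.IsProConstructible ((pullback.snd (D.map φ₀.hom) g₀).base ⁻¹' T) :=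
    isProConstructible_preimage _ hT
  have hpre : (cF.π.app φ₀).base ⁻¹' ((pullback.snd (D.map φ₀.hom) g₀).base ⁻¹' T) = ∅ := by
    have key : cF.π.app φ₀ ≫ pullback.snd (D.map φ₀.hom) g₀ =
        hY.flip.isoPullback.inv ≫ qY := by
      rw [pullbackCone_π_snd, hY.flip.isoPullback_inv_snd]
    rw [← Set.subset_empty_iff]
    intro x hx
    have e1 : (pullback.snd (D.map φ₀.hom) g₀).base ((cF.π.app φ₀).base x) =
        qY.base (hY.flip.isoPullback.inv.base x) :=
      congrArg (fun k : cF.pt ⟶ Y₀ => k.base x) key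
    have hx' : (pullback.snd (D.map φ₀.hom) g₀).base ((cF.π.app φ₀).base x) ∈ T := hx
    rw [e1] at hx'
    have : hY.flip.isoPullback.inv.base x ∈ qY.base ⁻¹' T := hx'
    rw [h] at this
    exact this
  obtain ⟨ψ, f, hf⟩ := eventuallyEmpty_of_isProConstructible F cF hcF hA hpre
  refine ⟨ψ, ?_⟩
  rw [← Set.subset_empty_iff]
  intro x hx
  have e1 : (pullback.snd (D.map φ₀.hom) g₀).base ((F.map f).base x) =
      (pullback.snd (D.map ψ.hom) g₀).base x :=
    congrArg (fun k : F.obj ψ ⟶ Y₀ => k.base x) (pullbackDiagram_map_snd D i₀ g₀ f)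
  have hx' : (pullback.snd (D.map ψ.hom) g₀).base x ∈ T := hx
  rw [← e1] at hx'
  have : x ∈ (F.map f).base ⁻¹' ((pullback.snd (D.map φ₀.hom) g₀).base ⁻¹' T) := hx'
  exact (Set.eq_empty_iff_forall_notMem.mp hf) x this

end Groth.Agent.H24
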