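import Mathlib
import Groth.Agent.H24.LimitRebase

/-!
# Open immersions descend to a stage of a cofiltered limit (helper24)
-/

set_option autoImplicit false
universe u
open CategoryTheory CategoryTheory.Limits AlgebraicGeometry

namespace Groth.Agent.H24

theorem isIso_opens_ι_of_eq_top {X : Scheme.{u}} (U : X.Opens) (h : U = ⊤) : IsIso U.ι := by
  subst h
  exact ⟨X.topIso.inv, X.topIso.hom_inv_id, X.topIso.inv_hom_id⟩

/-- A morphism that factors through an open `W` and restricts to an isomorphism over `W` is an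
open immersion. -/
theorem isOpenImmersion_of_isIso_morphismRestrict {X Y : Scheme.{u}} (f : X ⟶ Y) (W : Y.Opens)
    (h1 : f ⁻¹ᵁ W = ⊤) (h2 : IsIso (f ∣_ W)) : IsOpenImmersion f := by
  have := isIso_opens_ι_of_eq_top _ h1
  have h3 : IsOpenImmersion ((f ⁻¹ᵁ W).ι ≫ f) := by
    rw [← morphismRestrict_ι]; infer_instance
  exact (MorphismProperty.cancel_left_of_respectsIso @IsOpenImmersion (f ⁻¹ᵁ W).ι f).mp h3

/-- An open immersion restricted over its range is an isomorphism. -/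
theorem isIso_morphismRestrict_opensRange {X Y : Scheme.{u}} (f : X ⟶ Y) [IsOpenImmersion f] :
    IsIso (f ∣_ f.opensRange) := by
  have h1 : f ⁻¹ᵁ f.opensRange = ⊤ := by
    ext x; simp
  have := isIso_opens_ι_of_eq_top _ h1
  have : f ∣_ f.opensRange = (f ⁻¹ᵁ f.opensRange).ι ≫ f.isoOpensRange.hom := by
    rw [← cancel_mono f.opensRange.ι, morphismRestrict_ι, Category.assoc,
      Scheme.Hom.isoOpensRange_hom_ι]
  rw [this]
  infer_instance

variable {I : Type u} [Category.{u} I] [IsCofiltered I] (D : I ⥤ Scheme.{u}) (c : Cone D)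
  [∀ {i j} (f : i ⟶ j), IsAffineHom (D.map f)] (i₀ : I)
  {X₀ Y₀ : Scheme.{u}} (f₀ : X₀ ⟶ Y₀) (g₀ : Y₀ ⟶ D.obj i₀)

set_option backward.isDefEq.respectTransparency false in
/-- **Open immersions descend to a stage.** -/
theorem exists_isOpenImmersion_stageMap (hc : IsLimit c) [CompactSpace X₀]
    [CompactSpace Y₀] [QuasiSeparatedSpace Y₀] [LocallyOfFinitePresentation f₀]
    {X Y : Scheme.{u}} (f : X ⟶ Y) (g : Y ⟶ c.pt)
    (qY : Y ⟶ Y₀) (qX : X ⟶ X₀) (hY : IsPullback qY g g₀ (c.π.app i₀))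
    (hX : IsPullback qX f f₀ qY) [IsOpenImmersion f] :
    ∃ ψ : Over i₀, IsOpenImmersion (stageMap D i₀ f₀ g₀ ψ) := by
  let FY := pullbackDiagram D i₀ g₀
  let cY := pullbackCone D c i₀ g₀
  have hcY : IsLimit cY := isLimitPullbackCone D c i₀ g₀ hc
  let FX := pullbackDiagram D i₀ (f₀ ≫ g₀)
  let cX := pullbackCone D c i₀ (f₀ ≫ g₀)
  have hcX : IsLimit cX := isLimitPullbackCone D c i₀ (f₀ ≫ g₀) hc
  have hFYaff : ∀ {φ ψ : Over i₀} (f : φ ⟶ ψ), IsAffineHom (FY.map f) := fun f =>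
    MorphismProperty.of_isPullback (P := @IsAffineHom)
      (isPullback_pullbackDiagram_map D i₀ g₀ f).flip inferInstance
  have hFXaff : ∀ {φ ψ : Over i₀} (f : φ ⟶ ψ), IsAffineHom (FX.map f) := fun f =>
    MorphismProperty.of_isPullback (P := @IsAffineHom)
      (isPullback_pullbackDiagram_map D i₀ (f₀ ≫ g₀) f).flip inferInstance
  have hYc : ∀ ψ : Over i₀, CompactSpace (FY.obj ψ) := fun ψ =>
    have : IsAffineHom (pullback.snd (D.map ψ.hom) g₀) :=
      MorphismProperty.pullback_snd (P := @IsAffineHom) _ _ inferInstance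
    QuasiCompact.compactSpace_of_compactSpace (pullback.snd (D.map ψ.hom) g₀)
  have hYs : ∀ ψ : Over i₀, QuasiSeparatedSpace (FY.obj ψ) := fun ψ =>
    have : IsAffineHom (pullback.snd (D.map ψ.hom) g₀) :=
      MorphismProperty.pullback_snd (P := @IsAffineHom) _ _ inferInstance
    quasiSeparatedSpace_of_quasiSeparated (pullback.snd (D.map ψ.hom) g₀)
  have hXc : ∀ ψ : Over i₀, CompactSpace (FX.obj ψ) := fun ψ =>
    QuasiCompact.compactSpace_of_compactSpace (stageSnd D i₀ f₀ g₀ ψ)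
  -- the limit map is an open immersion
  obtain ⟨e₁, e₂, hlim, -, -⟩ := exists_iso_limMap D c i₀ f₀ g₀ f g qY qX hY hX
  have hoi : IsOpenImmersion (limMap D c i₀ f₀ g₀) := by rw [hlim]; infer_instance
  -- its range is a quasi-compact open, hence comes from a stage
  have hπaff : IsAffineHom (c.π.app i₀) := isAffineHom_π_app D c hc i₀
  have hscaff : IsAffineHom (pullback.snd (c.π.app i₀) (f₀ ≫ g₀)) :=
    MorphismProperty.pullback_snd (P := @IsAffineHom) _ _ inferInstance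
  have hcXpt : CompactSpace ↥(pullback (c.π.app i₀) (f₀ ≫ g₀)) :=
    QuasiCompact.compactSpace_of_compactSpace (pullback.snd (c.π.app i₀) (f₀ ≫ g₀))
  let U : cY.pt.Opens := (limMap D c i₀ f₀ g₀).opensRange
  have hUc : IsCompact (U : Set cY.pt) := by
    have : (U : Set cY.pt) = Set.range (limMap D c i₀ f₀ g₀).base := rfl
    rw [this]
    exact isCompact_range (limMap D c i₀ f₀ g₀).continuous
  obtain ⟨ψ₁, V₁, hV₁c, hV₁⟩ := exists_preimage_eq FY cY hcY U hUc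
  -- refine the stage so that the stage map factors through the open
  have htop : cX.π.app ψ₁ ⁻¹ᵁ (stageMap D i₀ f₀ g₀ ψ₁ ⁻¹ᵁ V₁) = ⊤ := by
    rw [← Scheme.Hom.comp_preimage, cone_stageMap, Scheme.Hom.comp_preimage, hV₁]
    ext x
    simp only [TopologicalSpace.Opens.coe_top, Set.mem_univ, iff_true]
    exact ⟨x, rfl⟩
  obtain ⟨ψ₀, b, hb⟩ := exists_map_eq_top FX cX hcX (stageMap D i₀ f₀ g₀ ψ₁ ⁻¹ᵁ V₁) htop
  let V : (FY.obj ψ₀).Opens := FY.map b ⁻¹ᵁ V₁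
  have hVc : IsCompact (V : Set (FY.obj ψ₀)) := (FY.map b).isCompact_preimage hV₁c
  have hVtop : stageMap D i₀ f₀ g₀ ψ₀ ⁻¹ᵁ V = ⊤ := by
    rw [← hb, ← Scheme.Hom.comp_preimage, ← Scheme.Hom.comp_preimage, map_stageMap]
  have hVU : cY.π.app ψ₀ ⁻¹ᵁ V = (limMap D c i₀ f₀ g₀).opensRange := by
    change _ = U
    rw [← hV₁, ← Scheme.Hom.comp_preimage, cY.w b]
  -- rebase
  have hrbV : rbV D i₀ g₀ ψ₀ V = V := by
    change FY.map (𝟙 ψ₀) ⁻¹ᵁ V = V
    rw [FY.map_id]; rfl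
  have hiso : IsIso (limMap (rbD D i₀ g₀ ψ₀ V) (rbC D c i₀ g₀ ψ₀ V) (rbI i₀ ψ₀)
      (rbF D i₀ f₀ g₀ ψ₀ V) (𝟙 _)) := by
    refine (rebase_limMap_iff D c i₀ f₀ g₀ ψ₀ V (MorphismProperty.isomorphisms Scheme.{u})).mpr ?_
    change IsIso (limMap D c i₀ f₀ g₀ ∣_ (cY.π.app ψ₀ ⁻¹ᵁ V))
    rw [hVU]
    exact isIso_morphismRestrict_opensRange _
  have hc1 : CompactSpace ↥(stageMap D i₀ f₀ g₀ ψ₀ ⁻¹ᵁ rbV D i₀ g₀ ψ₀ V : Scheme.{u}) := by
    rw [hrbV, hVtop]
    exact isCompact_iff_compactSpace.mp isCompact_univ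
  have hc2 : CompactSpace ↥((rbD D i₀ g₀ ψ₀ V).obj (rbI i₀ ψ₀)) := by
    change CompactSpace ↥(rbV D i₀ g₀ ψ₀ V : Scheme.{u})
    rw [hrbV]
    exact isCompact_iff_compactSpace.mp hVc
  have hs2 : QuasiSeparatedSpace ↥((rbD D i₀ g₀ ψ₀ V).obj (rbI i₀ ψ₀)) := by
    change QuasiSeparatedSpace ↥(rbV D i₀ g₀ ψ₀ V : Scheme.{u})
    exact QuasiSeparatedSpace.of_isOpenEmbedding (rbV D i₀ g₀ ψ₀ V).ι.isOpenEmbedding
  have hfp : LocallyOfFinitePresentation (rbF D i₀ f₀ g₀ ψ₀ V) := by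
    have h0 : LocallyOfFinitePresentation (stageMap D i₀ f₀ g₀ ψ₀) :=
      MorphismProperty.of_isPullback (P := @LocallyOfFinitePresentation)
        (isPullback_stageMap D i₀ f₀ g₀ ψ₀) inferInstance
    exact MorphismProperty.of_isPullback (P := @LocallyOfFinitePresentation)
      (isPullback_rbF D i₀ f₀ g₀ ψ₀ V) h0
  obtain ⟨χ, hχ⟩ := exists_isIso_stageMap_of_isIso_limMap (rbD D i₀ g₀ ψ₀ V)
    (rbC D c i₀ g₀ ψ₀ V) (rbI i₀ ψ₀) (rbF D i₀ f₀ g₀ ψ₀ V) (𝟙 _)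
    (isLimitOpensCone FY cY hcY ψ₀ V) hiso
  have hχ' := (rebase_stageMap_iff D i₀ f₀ g₀ ψ₀ V
    (MorphismProperty.isomorphisms Scheme.{u}) χ).mp hχ
  refine ⟨χ.left.left, isOpenImmersion_of_isIso_morphismRestrict _
    (FY.map χ.left.hom ⁻¹ᵁ V) ?_ hχ'⟩
  rw [← Scheme.Hom.comp_preimage, ← map_stageMap, Scheme.Hom.comp_preimage, hVtop]
  rfl

end Groth.Agent.H24
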