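import Mathlib
import Groth.Agent.H24.LimitClosedImm
import Groth.Agent.H24.LimitOpenImm
import Groth.Agent.H24.LimitCons
import Groth.Agent.H24.LimitDescent

/-!
# Immersions descend to a stage of a cofiltered limit (helper24)
-/

set_option autoImplicit false
universe u
open CategoryTheory CategoryTheory.Limits AlgebraicGeometry

namespace Groth.Agent.H24

/-- A morphism that factors through an open `W` and restricts to a closed immersion over `W` is an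
immersion. -/
theorem isImmersion_of_isClosedImmersion_morphismRestrict {X Y : Scheme.{u}} (f : X ⟶ Y)
    (W : Y.Opens) (h1 : f ⁻¹ᵁ W = ⊤) (h2 : IsClosedImmersion (f ∣_ W)) : IsImmersion f := by
  have := isIso_opens_ι_of_eq_top _ h1
  have h3 : IsImmersion ((f ⁻¹ᵁ W).ι ≫ f) := by
    rw [← morphismRestrict_ι]; infer_instance
  exact (MorphismProperty.cancel_left_of_respectsIso @IsImmersion (f ⁻¹ᵁ W).ι f).mp h3

/-- An immersion restricted over an open in which its range is closed is a closed immersion. -/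
theorem isClosedImmersion_morphismRestrict_of_isOpen_diff {X Y : Scheme.{u}} (f : X ⟶ Y)
    [IsImmersion f] (U : Y.Opens) (hU : IsOpen ((U : Set Y) \ Set.range f.base)) :
    IsClosedImmersion (f ∣_ U) := by
  refine IsClosedImmersion.of_isPreimmersion _ ?_
  have hr : Set.range (f ∣_ U).base = U.ι.base ⁻¹' Set.range f.base :=
    range_eq_preimage_range_of_isPullback (isPullback_morphismRestrict f U).flip
  change IsClosed (Set.range (f ∣_ U).base)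
  rw [hr, ← isOpen_compl_iff]
  have : (U.ι.base ⁻¹' Set.range f.base)ᶜ = U.ι.base ⁻¹' ((U : Set Y) \ Set.range f.base) := by
    ext x
    simp only [Set.mem_compl_iff, Set.mem_preimage, Set.mem_sdiff, SetLike.mem_coe]
    constructor
    · intro h; exact ⟨x.2, h⟩
    · intro h; exact h.2
  rw [this]
  exact hU.preimage U.ι.continuous

variable {I : Type u} [Category.{u} I] [IsCofiltered I] (D : I ⥤ Scheme.{u}) (c : Cone D)
  [∀ {i j} (f : i ⟶ j), IsAffineHom (D.map f)] (i₀ : I)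
  {X₀ Y₀ : Scheme.{u}} (f₀ : X₀ ⟶ Y₀) (g₀ : Y₀ ⟶ D.obj i₀)

set_option backward.isDefEq.respectTransparency false in
/-- **Immersions descend to a stage.** -/
theorem exists_isImmersion_stageMap (hc : IsLimit c) [CompactSpace X₀] [QuasiSeparatedSpace X₀]
    [CompactSpace Y₀] [QuasiSeparatedSpace Y₀] [LocallyOfFiniteType f₀]
    {X Y : Scheme.{u}} (f : X ⟶ Y) (g : Y ⟶ c.pt)
    (qY : Y ⟶ Y₀) (qX : X ⟶ X₀) (hY : IsPullback qY g g₀ (c.π.app i₀))
    (hX : IsPullback qX f f₀ qY) [IsImmersion f] :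
    ∃ ψ : Over i₀, IsImmersion (stageMap D i₀ f₀ g₀ ψ) := by
  let FY := pullbackDiagram D i₀ g₀
  let cY := pullbackCone D c i₀ g₀
  have hcY : IsLimit cY := isLimitPullbackCone D c i₀ g₀ hc
  let FX := pullbackDiagram D i₀ (f₀ ≫ g₀)
  let cX := pullbackCone D c i₀ (f₀ ≫ g₀)
  have hcX : IsLimit cX := isLimitPullbackCone D c i₀ (f₀ ≫ g₀) hc
  have hFYaff : ∀ {φ ψ : Over i₀} (f : φ ⟶ ψ), IsAffineHom (FY.map f) := fun f =>
    MorphismProperty.of_isPullback (P := @IsAffineHom)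
      (isPullback_pullbackDiagram_map D i₀ g₀ f).flip inferInstance
  have hFXaff : ∀ {φ ψ : Over i₀} (f : φ ⟶ ψ), IsAffineHom (FX.map f) := fun f =>
    MorphismProperty.of_isPullback (P := @IsAffineHom)
      (isPullback_pullbackDiagram_map D i₀ (f₀ ≫ g₀) f).flip inferInstance
  have hYc : ∀ ψ : Over i₀, CompactSpace (FY.obj ψ) := fun ψ =>
    have : IsAffineHom (pullback.snd (D.map ψ.hom) g₀) :=
      MorphismProperty.pullback_snd (P := @IsAffineHom) _ _ inferInstance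
    QuasiCompact.compactSpace_of_compactSpace (pullback.snd (D.map ψ.hom) g₀)
  have hYs : ∀ ψ : Over i₀, QuasiSeparatedSpace (FY.obj ψ) := fun ψ =>
    have : IsAffineHom (pullback.snd (D.map ψ.hom) g₀) :=
      MorphismProperty.pullback_snd (P := @IsAffineHom) _ _ inferInstance
    quasiSeparatedSpace_of_quasiSeparated (pullback.snd (D.map ψ.hom) g₀)
  have hXc : ∀ ψ : Over i₀, CompactSpace (FX.obj ψ) := fun ψ =>
    QuasiCompact.compactSpace_of_compactSpace (stageSnd D i₀ f₀ g₀ ψ)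
  have hXs : ∀ ψ : Over i₀, QuasiSeparatedSpace (FX.obj ψ) := fun ψ =>
    quasiSeparatedSpace_of_quasiSeparated (stageSnd D i₀ f₀ g₀ ψ)
  -- the limit map is an immersion
  obtain ⟨e₁, e₂, hlim, -, -⟩ := exists_iso_limMap D c i₀ f₀ g₀ f g qY qX hY hX
  have hoi : IsImmersion (limMap D c i₀ f₀ g₀) := by rw [hlim]; infer_instance
  have hπaff : IsAffineHom (c.π.app i₀) := isAffineHom_π_app D c hc i₀
  have hscaff : IsAffineHom (pullback.snd (c.π.app i₀) (f₀ ≫ g₀)) :=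
    MorphismProperty.pullback_snd (P := @IsAffineHom) _ _ inferInstance
  have hcXpt : CompactSpace ↥(pullback (c.π.app i₀) (f₀ ≫ g₀)) :=
    QuasiCompact.compactSpace_of_compactSpace (pullback.snd (c.π.app i₀) (f₀ ≫ g₀))
  -- a quasi-compact open in which the range is closed
  obtain ⟨U, hUc, hTU, hUT⟩ := exists_isCompact_open_of_isLocallyClosed
    (limMap D c i₀ f₀ g₀).isLocallyClosed_range
    (isCompact_range (limMap D c i₀ f₀ g₀).continuous)
  have hciU : IsClosedImmersion (limMap D c i₀ f₀ g₀ ∣_ U) :=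
    isClosedImmersion_morphismRestrict_of_isOpen_diff _ U hUT
  obtain ⟨ψ₁, V₁, hV₁c, hV₁⟩ := exists_preimage_eq FY cY hcY U hUc
  have htop : cX.π.app ψ₁ ⁻¹ᵁ (stageMap D i₀ f₀ g₀ ψ₁ ⁻¹ᵁ V₁) = ⊤ := by
    rw [← Scheme.Hom.comp_preimage, cone_stageMap, Scheme.Hom.comp_preimage, hV₁]
    ext x
    simp only [TopologicalSpace.Opens.coe_top, Set.mem_univ, iff_true]
    exact hTU ⟨x, rfl⟩
  obtain ⟨ψ₀, b, hb⟩ := exists_map_eq_top FX cX hcX (stageMap D i₀ f₀ g₀ ψ₁ ⁻¹ᵁ V₁) htop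
  let V : (FY.obj ψ₀).Opens := FY.map b ⁻¹ᵁ V₁
  have hVc : IsCompact (V : Set (FY.obj ψ₀)) := (FY.map b).isCompact_preimage hV₁c
  have hVtop : stageMap D i₀ f₀ g₀ ψ₀ ⁻¹ᵁ V = ⊤ := by
    rw [← hb, ← Scheme.Hom.comp_preimage, ← Scheme.Hom.comp_preimage, map_stageMap]
  have hVU : cY.π.app ψ₀ ⁻¹ᵁ V = U := by
    rw [← hV₁, ← Scheme.Hom.comp_preimage, cY.w b]
  -- rebase
  have hrbV : rbV D i₀ g₀ ψ₀ V = V := rbV_eq D i₀ g₀ ψ₀ V
  have hci : IsClosedImmersion (limMap (rbD D i₀ g₀ ψ₀ V) (rbC D c i₀ g₀ ψ₀ V) (rbI i₀ ψ₀)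
      (rbF D i₀ f₀ g₀ ψ₀ V) (𝟙 _)) := by
    refine (rebase_limMap_iff D c i₀ f₀ g₀ ψ₀ V @IsClosedImmersion).mpr ?_
    change IsClosedImmersion (limMap D c i₀ f₀ g₀ ∣_ (cY.π.app ψ₀ ⁻¹ᵁ V))
    rw [hVU]
    exact hciU
  have hc1 : CompactSpace ↥(stageMap D i₀ f₀ g₀ ψ₀ ⁻¹ᵁ rbV D i₀ g₀ ψ₀ V : Scheme.{u}) := by
    rw [hrbV, hVtop]
    exact isCompact_iff_compactSpace.mp isCompact_univ
  have hs1 : QuasiSeparatedSpace
      ↥(stageMap D i₀ f₀ g₀ ψ₀ ⁻¹ᵁ rbV D i₀ g₀ ψ₀ V : Scheme.{u}) :=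
    have : QuasiSeparatedSpace ↥(pullback (D.map ψ₀.hom) (f₀ ≫ g₀)) := hXs ψ₀
    QuasiSeparatedSpace.of_isOpenEmbedding
      (stageMap D i₀ f₀ g₀ ψ₀ ⁻¹ᵁ rbV D i₀ g₀ ψ₀ V).ι.isOpenEmbedding
  have hc2 : CompactSpace ↥((rbD D i₀ g₀ ψ₀ V).obj (rbI i₀ ψ₀)) := by
    change CompactSpace ↥(rbV D i₀ g₀ ψ₀ V : Scheme.{u})
    rw [hrbV]
    exact isCompact_iff_compactSpace.mp hVc
  have hs2 : QuasiSeparatedSpace ↥((rbD D i₀ g₀ ψ₀ V).obj (rbI i₀ ψ₀)) := by
    change QuasiSeparatedSpace ↥(rbV D i₀ g₀ ψ₀ V : Scheme.{u})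
    exact QuasiSeparatedSpace.of_isOpenEmbedding (rbV D i₀ g₀ ψ₀ V).ι.isOpenEmbedding
  have hft : LocallyOfFiniteType (rbF D i₀ f₀ g₀ ψ₀ V) := by
    have h0 : LocallyOfFiniteType (stageMap D i₀ f₀ g₀ ψ₀) :=
      MorphismProperty.of_isPullback (P := @LocallyOfFiniteType)
        (isPullback_stageMap D i₀ f₀ g₀ ψ₀) inferInstance
    exact MorphismProperty.of_isPullback (P := @LocallyOfFiniteType)
      (isPullback_rbF D i₀ f₀ g₀ ψ₀ V) h0
  obtain ⟨χ, hχ⟩ := exists_isClosedImmersion_stageMap (rbD D i₀ g₀ ψ₀ V)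
    (rbC D c i₀ g₀ ψ₀ V) (rbI i₀ ψ₀) (rbF D i₀ f₀ g₀ ψ₀ V) (𝟙 _)
    (isLimitOpensCone FY cY hcY ψ₀ V) hci
  have hχ' := (rebase_stageMap_iff D i₀ f₀ g₀ ψ₀ V @IsClosedImmersion χ).mp hχ
  refine ⟨χ.left.left, isImmersion_of_isClosedImmersion_morphismRestrict _
    (FY.map χ.left.hom ⁻¹ᵁ V) ?_ hχ'⟩
  rw [← Scheme.Hom.comp_preimage, ← map_stageMap, Scheme.Hom.comp_preimage, hVtop]
  rfl

end Groth.Agent.H24
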