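import Mathlib
import Groth.Agent.H24.LimitOpenImm

/-!
# Unramified morphisms descend to a stage of a cofiltered limit (helper24)
-/

set_option autoImplicit false
universe u
open CategoryTheory CategoryTheory.Limits AlgebraicGeometry

namespace Groth.Agent.H24

variable {I : Type u} [Category.{u} I] [IsCofiltered I] (D : I ⥤ Scheme.{u}) (c : Cone D)
  [∀ {i j} (f : i ⟶ j), IsAffineHom (D.map f)] (i₀ : I)
  {X₀ Y₀ : Scheme.{u}} (f₀ : X₀ ⟶ Y₀) (g₀ : Y₀ ⟶ D.obj i₀)

set_option backward.isDefEq.respectTransparency false in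
/-- **Unramified morphisms descend to a stage.** -/
theorem exists_formallyUnramified_stageMap (hc : IsLimit c) [CompactSpace X₀]
    [QuasiSeparatedSpace X₀] [QuasiSeparatedSpace Y₀] [LocallyOfFiniteType f₀]
    {X Y : Scheme.{u}} (f : X ⟶ Y) (g : Y ⟶ c.pt)
    (qY : Y ⟶ Y₀) (qX : X ⟶ X₀) (hY : IsPullback qY g g₀ (c.π.app i₀))
    (hX : IsPullback qX f f₀ qY) [FormallyUnramified f] :
    ∃ ψ : Over i₀, FormallyUnramified (stageMap D i₀ f₀ g₀ ψ) := by
  have hfp := locallyOfFinitePresentation_diagonal f₀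
  have hqc : QuasiCompact f₀ := inferInstance
  have hqs : QuasiSeparated f₀ := inferInstance
  have h1 : QuasiCompact (pullback.fst f₀ f₀) :=
    MorphismProperty.pullback_fst (P := @QuasiCompact) _ _ inferInstance
  have h2 : QuasiSeparated (pullback.fst f₀ f₀) :=
    MorphismProperty.pullback_fst (P := @QuasiSeparated) _ _ inferInstance
  have hc2 : CompactSpace ↥(pullback f₀ f₀) :=
    QuasiCompact.compactSpace_of_compactSpace (pullback.fst f₀ f₀)
  have hs2 : QuasiSeparatedSpace ↥(pullback f₀ f₀) :=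
    quasiSeparatedSpace_of_quasiSeparated (pullback.fst f₀ f₀)
  have hft : LocallyOfFiniteType f :=
    MorphismProperty.of_isPullback (P := @LocallyOfFiniteType) hX inferInstance
  have hlim : IsOpenImmersion (limMap D c i₀ (pullback.diagonal f₀) (diagBase D i₀ f₀ g₀)) :=
    (prop_diagonal_iff D i₀ f₀ g₀ @IsOpenImmersion
      (c.π.app i₀) f g qY qX hY hX
      (isPullback_limMap D c i₀ (pullback.diagonal f₀) (diagBase D i₀ f₀ g₀))).mp
      inferInstance
  obtain ⟨ψ, hψ⟩ := exists_isOpenImmersion_stageMap D c i₀ (pullback.diagonal f₀)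
    (diagBase D i₀ f₀ g₀) hc (limMap D c i₀ (pullback.diagonal f₀) (diagBase D i₀ f₀ g₀))
    (pullback.fst (c.π.app i₀) (diagBase D i₀ f₀ g₀))
    (pullback.snd (c.π.app i₀) (diagBase D i₀ f₀ g₀))
    (pullback.snd (c.π.app i₀) (pullback.diagonal f₀ ≫ diagBase D i₀ f₀ g₀))
    (IsPullback.of_hasPullback (c.π.app i₀) (diagBase D i₀ f₀ g₀)).flip
    (isPullback_limMap D c i₀ (pullback.diagonal f₀) (diagBase D i₀ f₀ g₀))
  refine ⟨ψ, ?_⟩
  have : IsOpenImmersion (pullback.diagonal (stageMap D i₀ f₀ g₀ ψ)) :=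
    (prop_diagonal_iff D i₀ f₀ g₀ @IsOpenImmersion
      (D.map ψ.hom) (stageMap D i₀ f₀ g₀ ψ) (pullback.fst (D.map ψ.hom) g₀)
      (pullback.snd (D.map ψ.hom) g₀) (pullback.snd (D.map ψ.hom) (f₀ ≫ g₀))
      (IsPullback.of_hasPullback (D.map ψ.hom) g₀).flip (isPullback_stageMap D i₀ f₀ g₀ ψ)
      (isPullback_stageMap D i₀ (pullback.diagonal f₀) (diagBase D i₀ f₀ g₀) ψ)).mpr hψ
  infer_instance

end Groth.Agent.H24
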