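import Mathlib
import Groth.Agent.H24.LimitImm
import Groth.Agent.H24.LimitUnram

/-!
# Descent to a stage with `Y₀` only quasi-compact (helper24)

Via the localization principle, the descent statements for isomorphisms / open / closed immersions /
separated morphisms hold when `Y₀` is quasi-compact (not necessarily quasi-separated) and `f₀` is
quasi-compact and quasi-separated.
-/

set_option autoImplicit false
universe u
open CategoryTheory CategoryTheory.Limits AlgebraicGeometry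

namespace Groth.Agent.H24

variable {I : Type u} [Category.{u} I] [IsCofiltered I] (D : I ⥤ Scheme.{u}) (c : Cone D)
  [∀ {i j} (f : i ⟶ j), IsAffineHom (D.map f)] (i₀ : I)
  {X₀ Y₀ : Scheme.{u}} (f₀ : X₀ ⟶ Y₀) (g₀ : Y₀ ⟶ D.obj i₀)

set_option backward.isDefEq.respectTransparency false in
/-- Generic wrapper: descend `P` when `Y₀` is quasi-compact, given descent for the rebased problems
over affine opens of `Y₀` (viewed in the stage `𝟙 i₀`). -/
theorem exists_stageMap_of_compact (P : MorphismProperty Scheme.{u}) [IsZariskiLocalAtTarget P]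
    [P.IsStableUnderBaseChange] [CompactSpace Y₀]
    (hdesc : ∀ V : ((pullbackDiagram D i₀ g₀).obj (Over.mk (𝟙 i₀))).Opens, IsAffineOpen V →
      P (limMap (rbD D i₀ g₀ (Over.mk (𝟙 i₀)) V) (rbC D c i₀ g₀ (Over.mk (𝟙 i₀)) V)
        (rbI i₀ (Over.mk (𝟙 i₀))) (rbF D i₀ f₀ g₀ (Over.mk (𝟙 i₀)) V) (𝟙 _)) →
      ∃ χ : Over (rbI i₀ (Over.mk (𝟙 i₀))), P (stageMap (rbD D i₀ g₀ (Over.mk (𝟙 i₀)) V)
        (rbI i₀ (Over.mk (𝟙 i₀))) (rbF D i₀ f₀ g₀ (Over.mk (𝟙 i₀)) V) (𝟙 _) χ))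
    (hlim : P (limMap D c i₀ f₀ g₀)) :
    ∃ ψ : Over i₀, P (stageMap D i₀ f₀ g₀ ψ) := by
  let FY := pullbackDiagram D i₀ g₀
  let ψ₀ : Over i₀ := Over.mk (𝟙 i₀)
  have hc0 : CompactSpace (FY.obj ψ₀) := by
    have : IsAffineHom (pullback.snd (D.map ψ₀.hom) g₀) :=
      MorphismProperty.pullback_snd (P := @IsAffineHom) _ _ inferInstance
    exact QuasiCompact.compactSpace_of_compactSpace (pullback.snd (D.map ψ₀.hom) g₀)
  obtain ⟨s, hs, hcov⟩ := isCompact_iff_finite_and_eq_biUnion_affineOpens.mp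
    (show IsCompact ((⊤ : (FY.obj ψ₀).Opens) : Set (FY.obj ψ₀)) from isCompact_univ)
  have hsf : Finite s := hs
  refine exists_stageMap_of_cover D c i₀ f₀ g₀ P ψ₀ (fun k : s => k.1.1) ?_
    (fun k => hdesc k.1.1 k.1.2) hlim
  rw [eq_top_iff]
  intro x _
  have hx : x ∈ (⊤ : (FY.obj ψ₀).Opens) := trivial
  rw [hcov] at hx
  simp only [TopologicalSpace.Opens.mem_iSup] at hx ⊢
  obtain ⟨W, hWs, hxW⟩ := hx
  exact ⟨⟨W, hWs⟩, hxW⟩

section facts

variable (V : ((pullbackDiagram D i₀ g₀).obj (Over.mk (𝟙 i₀))).Opens) (hV : IsAffineOpen V)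

omit [IsCofiltered I] [∀ {i j} (f : i ⟶ j), IsAffineHom (D.map f)] in
include hV in
theorem isAffine_rb : IsAffine ((rbD D i₀ g₀ (Over.mk (𝟙 i₀)) V).obj (rbI i₀ (Over.mk (𝟙 i₀)))) := by
  have : IsAffineOpen (rbV D i₀ g₀ (Over.mk (𝟙 i₀)) V) := by rw [rbV_eq]; exact hV
  exact this

omit [IsCofiltered I] [∀ {i j} (f : i ⟶ j), IsAffineHom (D.map f)] in
include hV in
theorem compactSpace_rb [QuasiCompact f₀] :
    CompactSpace ↥(stageMap D i₀ f₀ g₀ (Over.mk (𝟙 i₀)) ⁻¹ᵁ rbV D i₀ g₀ (Over.mk (𝟙 i₀)) V :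
      Scheme.{u}) := by
  have hVaff : IsAffineOpen (rbV D i₀ g₀ (Over.mk (𝟙 i₀)) V) := by rw [rbV_eq]; exact hV
  have hqc0 : QuasiCompact (stageMap D i₀ f₀ g₀ (Over.mk (𝟙 i₀))) :=
    MorphismProperty.of_isPullback (P := @QuasiCompact)
      (isPullback_stageMap D i₀ f₀ g₀ (Over.mk (𝟙 i₀))) inferInstance
  exact isCompact_iff_compactSpace.mp
    ((stageMap D i₀ f₀ g₀ (Over.mk (𝟙 i₀))).isCompact_preimage hVaff.isCompact)

omit [IsCofiltered I] [∀ {i j} (f : i ⟶ j), IsAffineHom (D.map f)] in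
theorem prop_rbF (P : MorphismProperty Scheme.{u}) [P.IsStableUnderBaseChange] (h : P f₀) :
    P (rbF D i₀ f₀ g₀ (Over.mk (𝟙 i₀)) V) :=
  P.of_isPullback (isPullback_rbF D i₀ f₀ g₀ (Over.mk (𝟙 i₀)) V)
    (P.of_isPullback (isPullback_stageMap D i₀ f₀ g₀ (Over.mk (𝟙 i₀))) h)

omit [IsCofiltered I] [∀ {i j} (f : i ⟶ j), IsAffineHom (D.map f)] in
include hV in
theorem quasiSeparatedSpace_rb [QuasiSeparated f₀] :
    QuasiSeparatedSpace ↥(stageMap D i₀ f₀ g₀ (Over.mk (𝟙 i₀)) ⁻¹ᵁ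
      rbV D i₀ g₀ (Over.mk (𝟙 i₀)) V : Scheme.{u}) := by
  have hA := isAffine_rb D i₀ g₀ V hV
  have hqs : QuasiSeparated (rbF D i₀ f₀ g₀ (Over.mk (𝟙 i₀)) V) :=
    prop_rbF D i₀ f₀ g₀ V @QuasiSeparated inferInstance
  exact quasiSeparatedSpace_of_quasiSeparated (rbF D i₀ f₀ g₀ (Over.mk (𝟙 i₀)) V)

end facts

set_option backward.isDefEq.respectTransparency false in
/-- Closed immersions descend: `Y₀` quasi-compact, `f₀` of finite type and quasi-separated. -/
theorem exists_isClosedImmersion_stageMap_of_compact (hc : IsLimit c) [CompactSpace Y₀]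
    [QuasiCompact f₀] [QuasiSeparated f₀] [LocallyOfFiniteType f₀]
    (h : IsClosedImmersion (limMap D c i₀ f₀ g₀)) :
    ∃ ψ : Over i₀, IsClosedImmersion (stageMap D i₀ f₀ g₀ ψ) := by
  have hFYaff : ∀ {φ ψ : Over i₀} (f : φ ⟶ ψ),
      IsAffineHom ((pullbackDiagram D i₀ g₀).map f) := fun f =>
    MorphismProperty.of_isPullback (P := @IsAffineHom)
      (isPullback_pullbackDiagram_map D i₀ g₀ f).flip inferInstance
  refine exists_stageMap_of_compact D c i₀ f₀ g₀ @IsClosedImmersion (fun V hV hk => ?_) h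
  have hA := isAffine_rb D i₀ g₀ V hV
  have hc1 := compactSpace_rb D i₀ f₀ g₀ V hV
  have hs1 := quasiSeparatedSpace_rb D i₀ f₀ g₀ V hV
  have hft := prop_rbF D i₀ f₀ g₀ V @LocallyOfFiniteType inferInstance
  exact exists_isClosedImmersion_stageMap _ _ _ _ _
    (isLimitOpensCone _ _ (isLimitPullbackCone D c i₀ g₀ hc) _ V) hk

set_option backward.isDefEq.respectTransparency false in
/-- Open immersions descend: `Y₀` quasi-compact, `f₀` of finite presentation. -/
theorem exists_isOpenImmersion_stageMap_of_compact (hc : IsLimit c) [CompactSpace Y₀]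
    [QuasiCompact f₀] [LocallyOfFinitePresentation f₀]
    (h : IsOpenImmersion (limMap D c i₀ f₀ g₀)) :
    ∃ ψ : Over i₀, IsOpenImmersion (stageMap D i₀ f₀ g₀ ψ) := by
  have hFYaff : ∀ {φ ψ : Over i₀} (f : φ ⟶ ψ),
      IsAffineHom ((pullbackDiagram D i₀ g₀).map f) := fun f =>
    MorphismProperty.of_isPullback (P := @IsAffineHom)
      (isPullback_pullbackDiagram_map D i₀ g₀ f).flip inferInstance
  refine exists_stageMap_of_compact D c i₀ f₀ g₀ @IsOpenImmersion (fun V hV hk => ?_) h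
  have hA := isAffine_rb D i₀ g₀ V hV
  have hc1 := compactSpace_rb D i₀ f₀ g₀ V hV
  have hfp := prop_rbF D i₀ f₀ g₀ V @LocallyOfFinitePresentation inferInstance
  exact exists_isOpenImmersion_stageMap _ _ _ _ _
    (isLimitOpensCone _ _ (isLimitPullbackCone D c i₀ g₀ hc) _ V) _ _ _ _
    (IsPullback.of_hasPullback _ _).flip (isPullback_limMap _ _ _ _ _)

set_option backward.isDefEq.respectTransparency false in
/-- Separated morphisms descend: `Y₀` quasi-compact, `f₀` quasi-compact and quasi-separated. -/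
theorem exists_isSeparated_stageMap_of_compact (hc : IsLimit c) [CompactSpace Y₀]
    [QuasiCompact f₀] [QuasiSeparated f₀]
    (h : IsSeparated (limMap D c i₀ f₀ g₀)) :
    ∃ ψ : Over i₀, IsSeparated (stageMap D i₀ f₀ g₀ ψ) := by
  have hFYaff : ∀ {φ ψ : Over i₀} (f : φ ⟶ ψ),
      IsAffineHom ((pullbackDiagram D i₀ g₀).map f) := fun f =>
    MorphismProperty.of_isPullback (P := @IsAffineHom)
      (isPullback_pullbackDiagram_map D i₀ g₀ f).flip inferInstance
  refine exists_stageMap_of_compact D c i₀ f₀ g₀ @IsSeparated (fun V hV hk => ?_) h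
  have hA := isAffine_rb D i₀ g₀ V hV
  have hc1 := compactSpace_rb D i₀ f₀ g₀ V hV
  have hs1 := quasiSeparatedSpace_rb D i₀ f₀ g₀ V hV
  exact exists_isSeparated_stageMap _ _ _ _ _
    (isLimitOpensCone _ _ (isLimitPullbackCone D c i₀ g₀ hc) _ V) _ _ _ _
    (IsPullback.of_hasPullback _ _).flip (isPullback_limMap _ _ _ _ _)

end Groth.Agent.H24
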