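import Mathlib
import Groth.Agent.H24.LimitCompact

/-!
# Glue lemmas for "iff eventually" statements (helper24)
-/

set_option autoImplicit false
universe u
open CategoryTheory CategoryTheory.Limits AlgebraicGeometry

namespace Groth.Agent.H24

variable {I : Type u} [Category.{u} I] (D : I ⥤ Scheme.{u}) (c : Cone D) (i₀ : I)
  {X₀ Y₀ : Scheme.{u}} (f₀ : X₀ ⟶ Y₀) (g₀ : Y₀ ⟶ D.obj i₀)

/-- A base-change-stable property passes from a stage to the limit. -/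
theorem prop_of_isPullback_stage (P : MorphismProperty Scheme.{u}) [P.IsStableUnderBaseChange]
    {X Y : Scheme.{u}} (f : X ⟶ Y) (g : Y ⟶ c.pt) (qY : Y ⟶ Y₀) (qX : X ⟶ X₀)
    (hY : IsPullback qY g g₀ (c.π.app i₀)) (hX : IsPullback qX f f₀ qY)
    {j : I} (φ : j ⟶ i₀) {Xj Yj : Scheme.{u}} (fj : Xj ⟶ Yj) (gj : Yj ⟶ D.obj j) (pY : Yj ⟶ Y₀)
    (pX : Xj ⟶ X₀) (hYj : IsPullback pY gj g₀ (D.map φ)) (hXj : IsPullback pX fj f₀ pY)
    (h : P fj) : P f := by
  let k : Y ⟶ Yj := hYj.lift qY (g ≫ c.π.app j) (by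
    rw [hY.w, Category.assoc, c.w])
  have hk : k ≫ pY = qY := hYj.lift_fst _ _ _
  have hX' : IsPullback qX f f₀ (k ≫ pY) := by rw [hk]; exact hX
  exact P.of_isPullback (IsPullback.of_right' hX' hXj) h

/-- The canonical stage map for `g₀ = 𝟙` versus `pullback.snd ι₀ (D.map ψ.hom)`. -/
theorem prop_stageMap_id_iff (P : MorphismProperty Scheme.{u}) [P.RespectsIso]
    {Z₀ : Scheme.{u}} (ι₀ : Z₀ ⟶ D.obj i₀) (ψ : Over i₀) :
    P (stageMap D i₀ ι₀ (𝟙 _) ψ) ↔ P (pullback.snd ι₀ (D.map ψ.hom)) := by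
  let e : pullback (D.map ψ.hom) (𝟙 (D.obj i₀)) ≅ D.obj ψ.left :=
    asIso (pullback.fst (D.map ψ.hom) (𝟙 (D.obj i₀)))
  have he : e.hom ≫ D.map ψ.hom = pullback.snd (D.map ψ.hom) (𝟙 (D.obj i₀)) := by
    have := pullback.condition (f := D.map ψ.hom) (g := 𝟙 (D.obj i₀))
    rw [Category.comp_id] at this
    exact this
  exact prop_iff_of_isPullback P e he (isPullback_stageMap D i₀ ι₀ (𝟙 _) ψ)
    (IsPullback.of_hasPullback ι₀ (D.map ψ.hom))

/-- The canonical limit map for `g₀ = 𝟙` versus `pullback.snd ι₀ (c.π.app i₀)`. -/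
theorem prop_limMap_id_iff (P : MorphismProperty Scheme.{u}) [P.RespectsIso]
    {Z₀ : Scheme.{u}} (ι₀ : Z₀ ⟶ D.obj i₀) :
    P (limMap D c i₀ ι₀ (𝟙 _)) ↔ P (pullback.snd ι₀ (c.π.app i₀)) := by
  let e : pullback (c.π.app i₀) (𝟙 (D.obj i₀)) ≅ c.pt :=
    asIso (pullback.fst (c.π.app i₀) (𝟙 (D.obj i₀)))
  have he : e.hom ≫ c.π.app i₀ = pullback.snd (c.π.app i₀) (𝟙 (D.obj i₀)) := by
    have := pullback.condition (f := c.π.app i₀) (g := 𝟙 (D.obj i₀))
    rw [Category.comp_id] at this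
    exact this
  exact prop_iff_of_isPullback P e he (isPullback_limMap D c i₀ ι₀ (𝟙 _))
    (IsPullback.of_hasPullback ι₀ (c.π.app i₀))

/-- A base-change-stable property passes from `pullback.snd ι₀ (D.map φ)` to the limit. -/
theorem prop_snd_of_stage (P : MorphismProperty Scheme.{u}) [P.IsStableUnderBaseChange]
    {Z₀ : Scheme.{u}} (ι₀ : Z₀ ⟶ D.obj i₀) {j : I} (φ : j ⟶ i₀)
    (h : P (pullback.snd ι₀ (D.map φ))) : P (pullback.snd ι₀ (c.π.app i₀)) := by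
  have h1 : IsPullback (pullback.fst ι₀ (c.π.app i₀)) (pullback.snd ι₀ (c.π.app i₀)) ι₀
      (c.π.app j ≫ D.map φ) := by
    rw [c.w]; exact IsPullback.of_hasPullback _ _
  exact P.of_isPullback (IsPullback.of_right' h1 (IsPullback.of_hasPullback ι₀ (D.map φ))) h

end Groth.Agent.H24
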