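import Mathlib
import Groth.Agent.H24.LimitClosedImmBase
import Groth.Agent.H24.LimitIff

/-!
# A cofiltered limit of qcqs schemes (affine transitions) which is separated has a separated
stage (helper24)
-/

set_option autoImplicit false
universe u
open CategoryTheory CategoryTheory.Limits AlgebraicGeometry

namespace Groth.Agent.H24

section General

variable {C : Type*} [Category C] [HasPullbacks C]

/-- `pullback_map_diagonal_isPullback` with the composite `a ≫ g` replaced by a propositionally
equal morphism `b`. -/
theorem isPullback_map_diagonal {S A B : C} (a : S ⟶ A) (g : A ⟶ B) (b : S ⟶ B)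
    (hb : a ≫ g = b) :
    IsPullback (pullback.fst a a ≫ a)
      (pullback.map a a b b (𝟙 S) (𝟙 S) g (by rw [Category.id_comp, hb])
        (by rw [Category.id_comp, hb]))
      (pullback.diagonal g)
      (pullback.map b b g g a a (𝟙 B) (by rw [Category.comp_id, hb])
        (by rw [Category.comp_id, hb])) := by
  subst hb
  exact pullback_map_diagonal_isPullback a a g

end General

/-- If `a` is separated and the base change of the diagonal of `g` along `a × a` is a closed
immersion, the diagonal of `b = a ≫ g` is a closed immersion. -/
theorem isClosedImmersion_diagonal_of_comp {A' A B : Scheme.{u}} (a : A' ⟶ A) (g : A ⟶ B)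
    (b : A' ⟶ B) (hb : a ≫ g = b) [IsSeparated a]
    (h : IsClosedImmersion (pullback.snd (pullback.diagonal g)
      (pullback.map b b g g a a (𝟙 B) (by rw [Category.comp_id, hb])
        (by rw [Category.comp_id, hb])))) :
    IsClosedImmersion (pullback.diagonal b) := by
  subst hb
  rw [pullback.diagonal_comp]
  infer_instance

end Groth.Agent.H24

namespace Groth.Agent.H24

section PSystem

variable {I : Type u} [Category.{u} I] (D : I ⥤ Scheme.{u}) (c : Cone D) {T : Scheme.{u}}
  (hT : IsTerminal T)

set_option backward.isDefEq.respectTransparency false in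
/-- The diagram `k ↦ D_k ×_T D_k`. -/
noncomputable def prodDiagram : I ⥤ Scheme.{u} where
  obj k := pullback (hT.from (D.obj k)) (hT.from (D.obj k))
  map {k l} f := pullback.map _ _ _ _ (D.map f) (D.map f) (𝟙 T) (hT.hom_ext _ _) (hT.hom_ext _ _)
  map_id k := by
    apply pullback.hom_ext <;> simp
  map_comp f g := by
    apply pullback.hom_ext <;> simp

set_option backward.isDefEq.respectTransparency false in
/-- The cone `S ×_T S ⟶ D_k ×_T D_k`. -/
noncomputable def prodCone : Cone (prodDiagram D hT) where
  pt := pullback (hT.from c.pt) (hT.from c.pt)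
  π :=
    { app := fun k => pullback.map _ _ _ _ (c.π.app k) (c.π.app k) (𝟙 T) (hT.hom_ext _ _)
        (hT.hom_ext _ _)
      naturality := fun k l f => by
        apply pullback.hom_ext <;> simp [prodDiagram] }

set_option backward.isDefEq.respectTransparency false in
/-- `S ×_T S` is the limit of the `D_k ×_T D_k`. -/
noncomputable def isLimitProdCone (hc : IsLimit c) : IsLimit (prodCone D c hT) where
  lift s := pullback.lift
    (hc.lift ⟨s.pt,
      { app := fun k => s.π.app k ≫ pullback.fst _ _
        naturality := fun k l f => by
          have := s.w f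
          simp only [Functor.const_obj_obj, Functor.const_obj_map, Category.id_comp]
          rw [← this]
          simp [prodDiagram] }⟩)
    (hc.lift ⟨s.pt,
      { app := fun k => s.π.app k ≫ pullback.snd _ _
        naturality := fun k l f => by
          have := s.w f
          simp only [Functor.const_obj_obj, Functor.const_obj_map, Category.id_comp]
          rw [← this]
          simp [prodDiagram] }⟩)
    (hT.hom_ext _ _)
  fac s k := by
    apply pullback.hom_ext <;> simp [prodCone]
  uniq s m hm := by
    apply pullback.hom_ext <;> apply hc.hom_ext <;> intro k <;> simp [← hm, prodCone]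

end PSystem

end Groth.Agent.H24

namespace Groth.Agent.H24

section XSystem

variable {I : Type u} [Category.{u} I] (D : I ⥤ Scheme.{u}) (c : Cone D) {T : Scheme.{u}}
  (hT : IsTerminal T)

set_option backward.isDefEq.respectTransparency false in
/-- The diagram `j ↦ S ×_{D_j} S`. -/
noncomputable def selfProdDiagram : I ⥤ Scheme.{u} where
  obj j := pullback (c.π.app j) (c.π.app j)
  map {k j} f := pullback.map _ _ _ _ (𝟙 _) (𝟙 _) (D.map f) (by rw [Category.id_comp, c.w])
    (by rw [Category.id_comp, c.w])
  map_id k := by
    apply pullback.hom_ext <;> simp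
  map_comp f g := by
    apply pullback.hom_ext <;> simp

set_option backward.isDefEq.respectTransparency false in
/-- The structure maps `S ×_{D_j} S ⟶ S ×_T S`. -/
noncomputable def selfProdStr :
    selfProdDiagram D c ⟶ (Functor.const I).obj (pullback (hT.from c.pt) (hT.from c.pt)) where
  app j := pullback.map _ _ _ _ (𝟙 _) (𝟙 _) (hT.from (D.obj j)) (hT.hom_ext _ _) (hT.hom_ext _ _)
  naturality k j f := by
    apply pullback.hom_ext <;> simp [selfProdDiagram]

set_option backward.isDefEq.respectTransparency false in
/-- The cone with vertex `S` given by the diagonals. -/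
noncomputable def selfProdCone : Cone (selfProdDiagram D c) where
  pt := c.pt
  π :=
    { app := fun j => pullback.diagonal (c.π.app j)
      naturality := fun k j f => by
        apply pullback.hom_ext <;> simp [selfProdDiagram] }

variable {D c} in
set_option backward.isDefEq.respectTransparency false in
theorem selfProd_fst_eq [IsCofiltered I] (s : Cone (selfProdDiagram D c)) (j k : I) :
    s.π.app j ≫ pullback.fst (c.π.app j) (c.π.app j) =
      s.π.app k ≫ pullback.fst (c.π.app k) (c.π.app k) := by
  have key : ∀ {m l : I} (f : m ⟶ l), s.π.app l ≫ pullback.fst (c.π.app l) (c.π.app l) =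
      s.π.app m ≫ pullback.fst (c.π.app m) (c.π.app m) := by
    intro m l f
    rw [← s.w f]
    simp [selfProdDiagram]
  rw [key (IsCofiltered.minToLeft j k), key (IsCofiltered.minToRight j k)]

variable {D c} in
set_option backward.isDefEq.respectTransparency false in
theorem selfProd_snd_eq [IsCofiltered I] (s : Cone (selfProdDiagram D c)) (j k : I) :
    s.π.app j ≫ pullback.snd (c.π.app j) (c.π.app j) =
      s.π.app k ≫ pullback.snd (c.π.app k) (c.π.app k) := by
  have key : ∀ {m l : I} (f : m ⟶ l), s.π.app l ≫ pullback.snd (c.π.app l) (c.π.app l) =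
      s.π.app m ≫ pullback.snd (c.π.app m) (c.π.app m) := by
    intro m l f
    rw [← s.w f]
    simp [selfProdDiagram]
  rw [key (IsCofiltered.minToLeft j k), key (IsCofiltered.minToRight j k)]

variable {D c} in
set_option backward.isDefEq.respectTransparency false in
theorem selfProd_fst_eq_snd [IsCofiltered I] (hc : IsLimit c) (s : Cone (selfProdDiagram D c))
    (j : I) :
    s.π.app j ≫ pullback.fst (c.π.app j) (c.π.app j) =
      s.π.app j ≫ pullback.snd (c.π.app j) (c.π.app j) := by
  apply hc.hom_ext
  intro k
  rw [selfProd_fst_eq s j k, selfProd_snd_eq s j k, Category.assoc, Category.assoc]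
  exact congrArg (s.π.app k ≫ ·) pullback.condition

set_option backward.isDefEq.respectTransparency false in
/-- `S` is the limit of the `S ×_{D_j} S`. -/
noncomputable def isLimitSelfProdCone [IsCofiltered I] (hc : IsLimit c) :
    IsLimit (selfProdCone D c) where
  lift s := s.π.app (IsCofiltered.nonempty (C := I)).some ≫ pullback.fst _ _
  fac s j := by
    apply pullback.hom_ext
    · simp only [selfProdCone, Category.assoc, pullback.diagonal_fst, Category.comp_id]
      exact selfProd_fst_eq s _ j
    · simp only [selfProdCone, Category.assoc, pullback.diagonal_snd, Category.comp_id]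
      rw [selfProd_fst_eq s _ j]
      exact selfProd_fst_eq_snd hc s j
  uniq s m hm := by
    rw [← hm]
    simp [selfProdCone]

end XSystem

end Groth.Agent.H24

namespace Groth.Agent.H24

section Main

variable {I : Type u} [Category.{u} I] [IsCofiltered I] (D : I ⥤ Scheme.{u}) (c : Cone D)
  [∀ {i j} (f : i ⟶ j), IsAffineHom (D.map f)]

set_option backward.isDefEq.respectTransparency false in
/-- **A separated limit has a separated stage.** -/
theorem exists_isSeparated_stage (hc : IsLimit c) [∀ i, CompactSpace (D.obj i)]
    [∀ i, QuasiSeparatedSpace (D.obj i)] {T : Scheme.{u}} (hT : IsTerminal T) [IsAffine T]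
    [IsSeparated (hT.from c.pt)] :
    ∃ i₀ : I, ∀ (i : I) (_ : i ⟶ i₀), IsSeparated (hT.from (D.obj i)) := by
  have hScomp : CompactSpace c.pt := Scheme.compactSpace_of_isLimit D c hc
  let i₁ : I := (IsCofiltered.nonempty (C := I)).some
  have hπaff : ∀ j, IsAffineHom (c.π.app j) := fun j => isAffineHom_π_app D c hc j
  have hSqs : QuasiSeparatedSpace c.pt := quasiSeparatedSpace_of_quasiSeparated (c.π.app i₁)
  have hPc : CompactSpace (pullback (hT.from c.pt) (hT.from c.pt) : Scheme.{u}) :=
    QuasiCompact.compactSpace_of_compactSpace (pullback.fst (hT.from c.pt) (hT.from c.pt))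
  have hPqs : QuasiSeparatedSpace (pullback (hT.from c.pt) (hT.from c.pt) : Scheme.{u}) :=
    quasiSeparatedSpace_of_quasiSeparated (pullback.fst (hT.from c.pt) (hT.from c.pt))
  -- Step 1
  have h1 : ∀ {k j : I} (f : k ⟶ j), IsClosedImmersion ((selfProdDiagram D c).map f) := by
    intro k j f
    have sq := isPullback_map_diagonal (c.π.app k) (D.map f) (c.π.app j) (c.w f)
    exact MorphismProperty.of_isPullback (P := @IsClosedImmersion) sq inferInstance
  have h2 : ∀ j, CompactSpace ((selfProdDiagram D c).obj j) := fun j =>
    haveI : CompactSpace ↥(((Functor.const I).obj c.pt).obj j) := hScomp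
    QuasiCompact.compactSpace_of_compactSpace (pullback.fst (c.π.app j) (c.π.app j))
  have h3 : ∀ j, QuasiSeparatedSpace ((selfProdDiagram D c).obj j) := fun j =>
    haveI : QuasiSeparatedSpace ↥(((Functor.const I).obj c.pt).obj j) := hSqs
    quasiSeparatedSpace_of_quasiSeparated (pullback.fst (c.π.app j) (c.π.app j))
  have h4 : ∀ j, LocallyOfFiniteType (strMap (selfProdDiagram D c) (selfProdStr D c hT) j) := by
    intro j
    have sq := isPullback_map_diagonal (c.π.app j) (hT.from (D.obj j)) (hT.from c.pt)
      (hT.hom_ext _ _)
    exact MorphismProperty.of_isPullback (P := @LocallyOfFiniteType) sq inferInstance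
  have h5 : IsClosedImmersion ((selfProdCone D c).π.app i₁ ≫
      strMap (selfProdDiagram D c) (selfProdStr D c hT) i₁) := by
    have : (selfProdCone D c).π.app i₁ ≫ strMap (selfProdDiagram D c) (selfProdStr D c hT) i₁ =
        pullback.diagonal (hT.from c.pt) := by
      apply pullback.hom_ext <;> simp [selfProdCone, selfProdStr, strMap]
    rw [this]; infer_instance
  obtain ⟨j, hj⟩ := exists_isClosedImmersion_app (selfProdDiagram D c) (selfProdStr D c hT)
    (selfProdCone D c) (isLimitSelfProdCone D c hc) i₁
  -- Step 2
  have haff' : ∀ {k l : I} (f : k ⟶ l), IsAffineHom ((prodDiagram D hT).map f) := by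
    intro k l f
    exact MorphismProperty.pullbackMap (P := @IsAffineHom) (i₁ := D.map f) (i₂ := D.map f)
      inferInstance inferInstance (hT.hom_ext _ _) (hT.hom_ext _ _)
  have sq := isPullback_map_diagonal (c.π.app j) (hT.from (D.obj j)) (hT.from c.pt)
    (hT.hom_ext _ _)
  let f₀ : D.obj j ⟶ (prodDiagram D hT).obj j := pullback.diagonal (hT.from (D.obj j))
  have hlim : IsClosedImmersion (limMap (prodDiagram D hT) (prodCone D c hT) j f₀
      (𝟙 ((prodDiagram D hT).obj j))) := by
    rw [prop_limMap_id_iff (prodDiagram D hT) (prodCone D c hT) j @IsClosedImmersion f₀]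
    exact (prop_iff_of_isPullback @IsClosedImmersion (Iso.refl _)
      (by rw [Iso.refl_hom, Category.id_comp]; rfl) sq
      (IsPullback.of_hasPullback f₀ ((prodCone D c hT).π.app j))).mp hj
  have hPjc : CompactSpace ((prodDiagram D hT).obj j) :=
    QuasiCompact.compactSpace_of_compactSpace
      (pullback.fst (hT.from (D.obj j)) (hT.from (D.obj j)))
  have hqc : QuasiCompact f₀ := by dsimp only [f₀]; infer_instance
  have hqs : QuasiSeparated f₀ := by dsimp only [f₀]; infer_instance
  have hlft : LocallyOfFiniteType f₀ := by dsimp only [f₀]; infer_instance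
  obtain ⟨ψ, hψ⟩ := exists_isClosedImmersion_stageMap_of_compact (prodDiagram D hT)
    (prodCone D c hT) j f₀ (𝟙 ((prodDiagram D hT).obj j))
    (isLimitProdCone D c hT hc) hlim
  rw [prop_stageMap_id_iff (prodDiagram D hT) j @IsClosedImmersion f₀ ψ] at hψ
  refine ⟨ψ.left, fun i g => ?_⟩
  have hk : IsClosedImmersion (pullback.diagonal (hT.from (D.obj ψ.left))) :=
    isClosedImmersion_diagonal_of_comp (D.map ψ.hom) (hT.from (D.obj j))
      (hT.from (D.obj ψ.left)) (hT.hom_ext _ _) hψ
  have hsepk : IsSeparated (hT.from (D.obj ψ.left)) := ⟨hk⟩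
  have : hT.from (D.obj i) = D.map g ≫ hT.from (D.obj ψ.left) := hT.hom_ext _ _
  rw [this]
  infer_instance

end Main

end Groth.Agent.H24
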