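import Mathlib
import Groth.Agent.H24.LimitSeparatedStage

/-!
# Eventually separated structure maps (helper24)
-/

set_option autoImplicit false
universe u
open CategoryTheory CategoryTheory.Limits AlgebraicGeometry

namespace Groth.Agent.H24

/-- A morphism from a scheme that is separated over a terminal object is separated. -/
theorem isSeparated_of_isSeparated_from {T X Y : Scheme.{u}} (hT : IsTerminal T) (f : X ⟶ Y)
    [IsSeparated (hT.from X)] : IsSeparated f := by
  have h : f ≫ hT.from Y = hT.from X := hT.hom_ext _ _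
  have : IsSeparated (f ≫ hT.from Y) := h ▸ inferInstance
  exact IsSeparated.of_comp f (hT.from Y)

set_option backward.isDefEq.respectTransparency false in
theorem eventually_isSeparated_structureMap {I : Type u} [SmallCategory I] [IsCofiltered I]
    (S : Scheme.{u}) [QuasiSeparatedSpace S]
    (D : I ⥤ Scheme.{u}) (t : D ⟶ (Functor.const I).obj S) (c : Limits.Cone D)
    (hc : Limits.IsLimit c)
    [∀ (i j : I) (a : i ⟶ j), IsAffineHom (D.map a)]
    [∀ i, CompactSpace (D.obj i)] [∀ i, QuasiSeparatedSpace (D.obj i)] (i₀ : I)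
    [IsSeparated (c.π.app i₀ ≫ t.app i₀)] :
    ∃ i₁ : I, ∀ (i : I) (_ : i ⟶ i₁), IsSeparated (t.app i) := by
  classical
  have hDaff : ∀ {i j : I} (a : i ⟶ j), IsAffineHom (D.map a) := fun a => inferInstance
  let T : Scheme.{u} := Spec (CommRingCat.of (ULift.{u} ℤ))
  have hT : IsTerminal T := specULiftZIsTerminal
  let τ := c.π.app i₀ ≫ t.app i₀
  -- affine opens covering `S`
  let V : S → S.Opens := fun s => (S.affineCover.f (S.affineCover.idx s)).opensRange
  have hVaff : ∀ s, IsAffineOpen (V s) := fun s => isAffineOpen_opensRange _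
  have hVcov : ∀ s : S, s ∈ V s := fun s => S.affineCover.covers s
  let O : S → (D.obj i₀).Opens := fun s => t.app i₀ ⁻¹ᵁ V s
  -- a finite subcover of `D.obj i₀`
  obtain ⟨K, hK⟩ : ∃ K : Finset S, (Set.univ : Set (D.obj i₀)) ⊆ ⋃ s ∈ K, (O s : Set (D.obj i₀)) := by
    apply isCompact_univ.elim_finite_subcover (fun s => (O s : Set (D.obj i₀)))
      (fun s => (O s).2)
    intro x _
    exact Set.mem_iUnion.mpr ⟨t.app i₀ x, hVcov _⟩
  have hqc : QuasiCompact (t.app i₀) := quasiCompact_of_compactSpace (Y := S) (t.app i₀)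
  have hOc : ∀ s, IsCompact (O s : Set (D.obj i₀)) := fun s =>
    QuasiCompact.isCompact_preimage (f := t.app i₀) _ (V s).2 (hVaff s).isCompact
  -- each piece is eventually separated
  have hstage : ∀ s : S, ∃ φ : Over i₀, ∀ (ψ : Over i₀) (_ : ψ ⟶ φ),
      IsSeparated (hT.from ((opensDiagram D i₀ (O s)).obj ψ)) := by
    intro s
    have h1 : ∀ ψ : Over i₀, CompactSpace ((opensDiagram D i₀ (O s)).obj ψ) := fun ψ =>
      isCompact_iff_compactSpace.mp
        (QuasiCompact.isCompact_preimage (f := D.map ψ.hom) _ (O s).2 (hOc s))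
    have h2 : ∀ ψ : Over i₀, QuasiSeparatedSpace ((opensDiagram D i₀ (O s)).obj ψ) := fun ψ =>
      QuasiSeparatedSpace.of_isOpenEmbedding (D.map ψ.hom ⁻¹ᵁ O s).ι.isOpenEmbedding
    -- the limit is separated
    have h3 : IsSeparated (hT.from (opensCone D c i₀ (O s)).pt) := by
      let Z : c.pt.Opens := c.π.app i₀ ⁻¹ᵁ O s
      let r : (Z : Scheme.{u}) ⟶ (V s : Scheme.{u}) := (c.π.app i₀ ∣_ O s) ≫ (t.app i₀ ∣_ V s)
      have hr : r ≫ (V s).ι = Z.ι ≫ τ := by
        have e1 := morphismRestrict_ι (c.π.app i₀) (O s)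
        have e2 := morphismRestrict_ι (t.app i₀) (V s)
        simp only [r, τ, Category.assoc]
        rw [e2, reassoc_of% e1]
      have : IsSeparated (r ≫ (V s).ι) := hr ▸ inferInstance
      have hrsep : IsSeparated r := IsSeparated.of_comp r (V s).ι
      have : IsAffine (V s : Scheme.{u}) := hVaff s
      have : IsSeparated (r ≫ hT.from (V s : Scheme.{u})) := inferInstance
      have h : r ≫ hT.from (V s : Scheme.{u}) = hT.from (Z : Scheme.{u}) := hT.hom_ext _ _
      exact h ▸ this
    exact exists_isSeparated_stage (opensDiagram D i₀ (O s)) (opensCone D c i₀ (O s))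
      (isLimitOpensCone D c hc i₀ (O s)) hT
  choose φ hφ using hstage
  obtain ⟨ψ₀, hψ₀⟩ := IsCofiltered.inf_objs_exists (K.image φ)
  refine ⟨ψ₀.left, fun i a => ?_⟩
  let ψ : Over i₀ := Over.mk (a ≫ ψ₀.hom)
  let b : ψ ⟶ ψ₀ := Over.homMk a
  have hti : t.app i = D.map ψ.hom ≫ t.app i₀ := by
    have := t.naturality ψ.hom
    erw [Category.comp_id] at this
    exact this.symm
  have hRR : MorphismProperty.RespectsRight (@IsSeparated) (@IsOpenImmersion) :=
    ⟨fun i hi f hf => by
      have : IsOpenImmersion i := hi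
      have : IsSeparated f := hf
      infer_instance⟩
  apply IsZariskiLocalAtTarget.of_range_subset_iSup (P := @IsSeparated) (fun s : K => V s.1)
  · rintro _ ⟨x, rfl⟩
    have hx := hK (Set.mem_univ (D.map ψ.hom x))
    simp only [Set.mem_iUnion] at hx
    obtain ⟨s, hs, hxs⟩ := hx
    rw [hti]
    exact TopologicalSpace.Opens.mem_iSup.mpr ⟨⟨s, hs⟩, hxs⟩
  · rintro ⟨s, hs⟩
    have hsep := hφ s ψ (b ≫ (hψ₀ (Finset.mem_image_of_mem φ hs)).some)
    have heq : D.map ψ.hom ⁻¹ᵁ O s = t.app i ⁻¹ᵁ V s := by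
      rw [hti, Scheme.Hom.comp_preimage]
    have : IsSeparated (hT.from ((t.app i ⁻¹ᵁ V s : (D.obj i).Opens) : Scheme.{u})) := by
      have h : hT.from ((t.app i ⁻¹ᵁ V s : (D.obj i).Opens) : Scheme.{u}) =
          ((D.obj i).isoOfEq heq).inv ≫ hT.from ((opensDiagram D i₀ (O s)).obj ψ) := hT.hom_ext _ _
      rw [h]
      infer_instance
    exact isSeparated_of_isSeparated_from hT _

end Groth.Agent.H24
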