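import Mathlib
import Groth.Agent.H24.LimitBaseChange

/-!
# Descending finitely presented morphisms to a stage: rebasing (helper24)

`S = lim S_i` (cofiltered, affine transition maps).  A morphism `f : X ⟶ S` *descends at stage `i`*
if it is the base change of a morphism `fi : Xi ⟶ S_i` locally of finite presentation with `Xi`
quasi-compact and quasi-separated.  This file contains the bookkeeping for changing the stage.
-/

set_option autoImplicit false
universe u
open CategoryTheory CategoryTheory.Limits AlgebraicGeometry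

namespace Groth.Agent.H24

variable {I : Type u} [Category.{u} I] (D : I ⥤ Scheme.{u}) (c : Cone D)

section Rebase

variable {i : I} (ψ : Over i) {A B T T' : Scheme.{u}} (fA : A ⟶ D.obj i) (fB : B ⟶ D.obj i)

/-- The canonical map from a base change to the limit to the base change to a later stage. -/
noncomputable def rbLift {a : T ⟶ A} {t : T ⟶ c.pt} (h : IsPullback a t fA (c.π.app i)) :
    T ⟶ pullback (D.map ψ.hom) fA :=
  pullback.lift (t ≫ c.π.app ψ.left) a (by
    rw [Category.assoc, h.w]; congr 1; exact c.w ψ.hom)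

variable {D c ψ fA} in
@[reassoc (attr := simp)]
theorem rbLift_fst {a : T ⟶ A} {t : T ⟶ c.pt} (h : IsPullback a t fA (c.π.app i)) :
    rbLift D c ψ fA h ≫ pullback.fst (D.map ψ.hom) fA = t ≫ c.π.app ψ.left :=
  pullback.lift_fst _ _ _

variable {D c ψ fA} in
@[reassoc (attr := simp)]
theorem rbLift_snd {a : T ⟶ A} {t : T ⟶ c.pt} (h : IsPullback a t fA (c.π.app i)) :
    rbLift D c ψ fA h ≫ pullback.snd (D.map ψ.hom) fA = a :=
  pullback.lift_snd _ _ _

variable {D c fA} in
theorem isPullback_rbLift {a : T ⟶ A} {t : T ⟶ c.pt} (h : IsPullback a t fA (c.π.app i)) :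
    IsPullback (rbLift D c ψ fA h) t (pullback.fst (D.map ψ.hom) fA) (c.π.app ψ.left) := by
  refine IsPullback.of_right ?_ (rbLift_fst h) (IsPullback.of_hasPullback (D.map ψ.hom) fA).flip
  have h2 : c.π.app ψ.left ≫ D.map ψ.hom = c.π.app i := c.w ψ.hom
  rw [rbLift_snd, h2]
  exact h

/-- The base change to a later stage of a morphism over `S_i`. -/
noncomputable def rbMap (j : A ⟶ B) (hj : j ≫ fB = fA) :
    pullback (D.map ψ.hom) fA ⟶ pullback (D.map ψ.hom) fB :=
  pullback.lift (pullback.fst _ _) (pullback.snd _ _ ≫ j) (by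
    rw [Category.assoc, hj, pullback.condition])

variable {D ψ fA fB} in
@[reassoc (attr := simp)]
theorem rbMap_fst (j : A ⟶ B) (hj : j ≫ fB = fA) :
    rbMap D ψ fA fB j hj ≫ pullback.fst (D.map ψ.hom) fB = pullback.fst (D.map ψ.hom) fA :=
  pullback.lift_fst _ _ _

variable {D ψ fA fB} in
@[reassoc (attr := simp)]
theorem rbMap_snd (j : A ⟶ B) (hj : j ≫ fB = fA) :
    rbMap D ψ fA fB j hj ≫ pullback.snd (D.map ψ.hom) fB = pullback.snd (D.map ψ.hom) fA ≫ j :=
  pullback.lift_snd _ _ _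

variable {D fA fB} in
theorem isPullback_rbMap (j : A ⟶ B) (hj : j ≫ fB = fA) :
    IsPullback (pullback.snd (D.map ψ.hom) fA) (rbMap D ψ fA fB j hj) j
      (pullback.snd (D.map ψ.hom) fB) := by
  refine IsPullback.of_bot ?_ (rbMap_snd j hj).symm
    (IsPullback.of_hasPullback (D.map ψ.hom) fB).flip
  rw [rbMap_fst, hj]
  exact (IsPullback.of_hasPullback (D.map ψ.hom) fA).flip

variable {D c ψ fA fB} in
/-- Compatibility of the rebased lifts with the rebased maps. -/
theorem rbLift_rbMap (j : A ⟶ B) (hj : j ≫ fB = fA) {w : T ⟶ A} {t : T ⟶ c.pt}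
    (hw : IsPullback w t fA (c.π.app i)) {u : T' ⟶ B} {t' : T' ⟶ c.pt}
    (hu : IsPullback u t' fB (c.π.app i)) (p : T ⟶ T') (hp : p ≫ t' = t) (hwu : w ≫ j = p ≫ u) :
    rbLift D c ψ fA hw ≫ rbMap D ψ fA fB j hj = p ≫ rbLift D c ψ fB hu := by
  apply pullback.hom_ext
  · rw [Category.assoc, rbMap_fst, rbLift_fst, Category.assoc, rbLift_fst, reassoc_of% hp]
  · rw [Category.assoc, rbMap_snd, rbLift_snd_assoc, Category.assoc, rbLift_snd, hwu]

variable [∀ {i j} (f : i ⟶ j), IsAffineHom (D.map f)]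

theorem compactSpace_rbObj [CompactSpace A] : CompactSpace ↥(pullback (D.map ψ.hom) fA) :=
  have : IsAffineHom (pullback.snd (D.map ψ.hom) fA) :=
    MorphismProperty.pullback_snd (P := @IsAffineHom) _ _ inferInstance
  QuasiCompact.compactSpace_of_compactSpace (pullback.snd (D.map ψ.hom) fA)

theorem quasiSeparatedSpace_rbObj [QuasiSeparatedSpace A] :
    QuasiSeparatedSpace ↥(pullback (D.map ψ.hom) fA) :=
  have : IsAffineHom (pullback.snd (D.map ψ.hom) fA) :=
    MorphismProperty.pullback_snd (P := @IsAffineHom) _ _ inferInstance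
  quasiSeparatedSpace_of_quasiSeparated (pullback.snd (D.map ψ.hom) fA)

end Rebase

/-- `f : X ⟶ lim S_i` is the base change of a finitely presented morphism to `S_i`. -/
def DescAt (i : I) {X : Scheme.{u}} (f : X ⟶ c.pt) : Prop :=
  ∃ (Xi : Scheme.{u}) (fi : Xi ⟶ D.obj i) (g : X ⟶ Xi),
    LocallyOfFinitePresentation fi ∧ CompactSpace Xi ∧ QuasiSeparatedSpace Xi ∧
      IsPullback g f fi (c.π.app i)

variable {D c} in
theorem DescAt.of_hom [∀ {i j} (f : i ⟶ j), IsAffineHom (D.map f)] {i j : I} (φ : j ⟶ i)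
    {X : Scheme.{u}} {f : X ⟶ c.pt} (h : DescAt D c i f) : DescAt D c j f := by
  obtain ⟨Xi, fi, g, h1, h2, h3, h4⟩ := h
  exact ⟨_, pullback.fst (D.map (Over.mk φ).hom) fi, rbLift D c (Over.mk φ) fi h4,
    MorphismProperty.pullback_fst (P := @LocallyOfFinitePresentation) _ _ h1,
    compactSpace_rbObj D (Over.mk φ) fi, quasiSeparatedSpace_rbObj D (Over.mk φ) fi,
    isPullback_rbLift (Over.mk φ) h4⟩

variable {D c} in
theorem DescAt.of_iso {i : I} {X X' : Scheme.{u}} {f : X ⟶ c.pt} (e : X' ≅ X)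
    (h : DescAt D c i f) : DescAt D c i (e.hom ≫ f) := by
  obtain ⟨Xi, fi, g, h1, h2, h3, h4⟩ := h
  refine ⟨Xi, fi, e.hom ≫ g, h1, h2, h3, ?_⟩
  refine IsPullback.of_iso h4 e.symm (Iso.refl _) (Iso.refl _) (Iso.refl _) ?_ ?_ ?_ ?_ <;> simp

variable {D c} in
theorem DescAt.of_iso' {i : I} {X X' : Scheme.{u}} {f : X ⟶ c.pt} {f' : X' ⟶ c.pt} (e : X' ≅ X)
    (he : e.hom ≫ f = f') (h : DescAt D c i f) : DescAt D c i f' :=
  he ▸ h.of_iso e

end Groth.Agent.H24
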