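import Mathlib

/-!
# Pushouts of schemes along open immersions (gluing two schemes along a common open) (helper24)
-/

set_option autoImplicit false
universe u
open CategoryTheory CategoryTheory.Limits AlgebraicGeometry TopologicalSpace

namespace Groth.Agent.H24


/-- A scheme covered by two quasi-separated opens with quasi-compact intersection is
quasi-separated. -/
theorem quasiSeparatedSpace_of_two_opens (X : Scheme.{u}) (A B : Set X) (hAo : IsOpen A)
    (hBo : IsOpen B) (hAB : A ∪ B = Set.univ)
    (hA : IsQuasiSeparated A) (hB : IsQuasiSeparated B) (hc : IsCompact (A ∩ B)) :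
    QuasiSeparatedSpace X := by
  let ι := {s : Set X // IsOpen s ∧ IsCompact s ∧ (s ⊆ A ∨ s ⊆ B)}
  refine QuasiSeparatedSpace.of_isTopologicalBasis (b := fun s : ι => s.1) ?_ ?_
  · rw [Subtype.range_coe_subtype]
    refine isTopologicalBasis_of_isOpen_of_nhds (fun u hu => hu.1) fun a u hau huo => ?_
    have ha : a ∈ A ∪ B := hAB ▸ Set.mem_univ a
    rcases ha with ha | ha
    · obtain ⟨_, ⟨W, hW, rfl⟩, haW, hWu⟩ := (X.isBasis_affineOpens).exists_subset_of_mem_open
        (show a ∈ u ∩ A from ⟨hau, ha⟩) (huo.inter hAo)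
      exact ⟨W, ⟨W.2, hW.isCompact, Or.inl (hWu.trans Set.inter_subset_right)⟩, haW,
        hWu.trans Set.inter_subset_left⟩
    · obtain ⟨_, ⟨W, hW, rfl⟩, haW, hWu⟩ := (X.isBasis_affineOpens).exists_subset_of_mem_open
        (show a ∈ u ∩ B from ⟨hau, ha⟩) (huo.inter hBo)
      exact ⟨W, ⟨W.2, hW.isCompact, Or.inr (hWu.trans Set.inter_subset_right)⟩, haW,
        hWu.trans Set.inter_subset_left⟩
  · rintro ⟨s, hso, hsc, hs⟩ ⟨t, hto, htc, ht⟩
    dsimp only
    -- the mixed case
    have key : ∀ s t : Set X, IsOpen s → IsCompact s → s ⊆ A → IsOpen t → IsCompact t → t ⊆ B →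
        IsCompact (s ∩ t) := by
      intro s t hso hsc hs hto htc ht
      have h1 : IsCompact (t ∩ (A ∩ B)) :=
        hB t (A ∩ B) ht hto htc Set.inter_subset_right (hAo.inter hBo) hc
      have h2 : s ∩ t = s ∩ (t ∩ (A ∩ B)) := by
        ext x
        simp only [Set.mem_inter_iff]
        exact ⟨fun ⟨h1, h2⟩ => ⟨h1, h2, hs h1, ht h2⟩, fun ⟨h1, h2, _⟩ => ⟨h1, h2⟩⟩
      rw [h2]
      exact hA s _ hs hso hsc (Set.inter_subset_right.trans Set.inter_subset_left)
        (hto.inter (hAo.inter hBo)) h1
    rcases hs with hs | hs <;> rcases ht with ht | ht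
    · exact hA s t hs hso hsc ht hto htc
    · exact key s t hso hsc hs hto htc ht
    · rw [Set.inter_comm]; exact key t s hto htc ht hso hsc hs
    · exact hB s t hs hso hsc ht hto htc


variable {W U V : Scheme.{u}} (jU : W ⟶ U) (jV : W ⟶ V) [IsOpenImmersion jU] [IsOpenImmersion jV]

/-- Two points of the two charts of a pushout of open immersions are identified iff they come from
the common open. -/
theorem pushout_inl_eq_inr_iff (a : U) (b : V) :
    (pushout.inl jU jV) a = (pushout.inr jU jV) b ↔ ∃ x : W, jU x = a ∧ jV x = b := by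
  constructor
  · intro h
    obtain ⟨k, fi, fj, x, h1, h2⟩ := (Scheme.IsLocallyDirected.ι_eq_ι_iff (F := span jU jV)
      (i := WalkingSpan.left) (j := WalkingSpan.right) (xi := a) (xj := b)).mp h
    rcases fi with _ | _
    · rcases fj with _ | _
    · rcases fj with _ | _
      exact ⟨x, h1, h2⟩
  · rintro ⟨x, rfl, rfl⟩
    rw [← Scheme.Hom.comp_apply, ← Scheme.Hom.comp_apply, pushout.condition]

theorem pushout_jointly_surjective (x : ↥(pushout jU jV)) :
    x ∈ Set.range (pushout.inl jU jV) ∨ x ∈ Set.range (pushout.inr jU jV) := by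
  obtain ⟨k, y, rfl⟩ := Scheme.IsLocallyDirected.ι_jointly_surjective (span jU jV) x
  rcases k with _ | _ | _
  · left
    have h : colimit.ι (span jU jV) none = jU ≫ pushout.inl jU jV :=
      (colimit.w (span jU jV) WalkingSpan.Hom.fst).symm
    change W at y
    refine ⟨jU y, ?_⟩
    rw [h]; rfl
  · left; exact ⟨y, rfl⟩
  · right; exact ⟨y, rfl⟩


instance : IsOpenImmersion (pushout.inl jU jV) :=
  inferInstanceAs (IsOpenImmersion (colimit.ι (span jU jV) WalkingSpan.left))

instance : IsOpenImmersion (pushout.inr jU jV) :=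
  inferInstanceAs (IsOpenImmersion (colimit.ι (span jU jV) WalkingSpan.right))

theorem range_inl_union_range_inr :
    Set.range (pushout.inl jU jV) ∪ Set.range (pushout.inr jU jV) = Set.univ :=
  Set.eq_univ_of_forall fun x => pushout_jointly_surjective jU jV x

theorem range_inl_inter_range_inr :
    Set.range (pushout.inl jU jV) ∩ Set.range (pushout.inr jU jV) =
      Set.range (jU ≫ pushout.inl jU jV) := by
  ext x
  constructor
  · rintro ⟨⟨a, rfl⟩, ⟨b, hb⟩⟩
    obtain ⟨y, rfl, rfl⟩ := (pushout_inl_eq_inr_iff jU jV a b).mp hb.symm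
    exact ⟨y, rfl⟩
  · rintro ⟨y, rfl⟩
    refine ⟨⟨jU y, rfl⟩, ⟨jV y, ?_⟩⟩
    rw [← Scheme.Hom.comp_apply, ← pushout.condition]

theorem compactSpace_pushout [CompactSpace U] [CompactSpace V] : CompactSpace ↥(pushout jU jV) := by
  refine ⟨?_⟩
  rw [← range_inl_union_range_inr jU jV]
  exact (isCompact_range (pushout.inl jU jV).continuous).union
    (isCompact_range (pushout.inr jU jV).continuous)

theorem quasiSeparatedSpace_pushout [QuasiSeparatedSpace U] [QuasiSeparatedSpace V]
    [CompactSpace W] : QuasiSeparatedSpace ↥(pushout jU jV) := by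
  refine quasiSeparatedSpace_of_two_opens _ _ _ (pushout.inl jU jV).isOpenEmbedding.isOpen_range
    (pushout.inr jU jV).isOpenEmbedding.isOpen_range (range_inl_union_range_inr jU jV) ?_ ?_ ?_
  · rw [← Set.image_univ]
    exact isQuasiSeparated_univ.image_of_isEmbedding (pushout.inl jU jV).isOpenEmbedding.isEmbedding
  · rw [← Set.image_univ]
    exact isQuasiSeparated_univ.image_of_isEmbedding (pushout.inr jU jV).isOpenEmbedding.isEmbedding
  · rw [range_inl_inter_range_inr]
    exact isCompact_range (jU ≫ pushout.inl jU jV).continuous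

theorem locallyOfFinitePresentation_pushout_desc {T : Scheme.{u}} (fU : U ⟶ T) (fV : V ⟶ T)
    (h : jU ≫ fU = jV ≫ fV) [LocallyOfFinitePresentation fU] [LocallyOfFinitePresentation fV] :
    LocallyOfFinitePresentation (pushout.desc fU fV h) := by
  have : IsZariskiLocalAtSource @LocallyOfFinitePresentation.{u} :=
    HasRingHomProperty.instIsZariskiLocalAtSource
  refine IsZariskiLocalAtSource.of_openCover (P := @LocallyOfFinitePresentation.{u})
    (Scheme.IsLocallyDirected.openCover (span jU jV)) fun k => ?_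
  rcases k with _ | _ | _
  · have h2 : colimit.ι (span jU jV) none ≫ pushout.desc fU fV h = jU ≫ fU := by
      rw [← colimit.w (span jU jV) WalkingSpan.Hom.fst]
      exact (Category.assoc _ _ _).trans (congrArg (jU ≫ ·) (pushout.inl_desc fU fV h))
    change LocallyOfFinitePresentation (colimit.ι (span jU jV) none ≫ pushout.desc fU fV h)
    have h3 : LocallyOfFinitePresentation (jU ≫ fU) := inferInstance
    rw [h2]
    exact h3
  · change LocallyOfFinitePresentation (pushout.inl jU jV ≫ pushout.desc fU fV h)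
    rw [pushout.inl_desc]; infer_instance
  · change LocallyOfFinitePresentation (pushout.inr jU jV ≫ pushout.desc fU fV h)
    rw [pushout.inr_desc]; infer_instance


end Groth.Agent.H24
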