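import Mathlib

/-!
# Checking that a square of schemes is cartesian locally on the bottom-left corner (helper24)
-/

set_option autoImplicit false
universe u
open CategoryTheory CategoryTheory.Limits AlgebraicGeometry

namespace Groth.Agent.H24

variable {X S P T : Scheme.{u}} {g : X ⟶ P} {f : X ⟶ S} {x : P ⟶ T} {π : S ⟶ T}

/-- The restriction of a cartesian square to an open of the bottom-left corner. -/
theorem isPullback_restrict_left (h : IsPullback g f x π) (O : P.Opens) :
    IsPullback (g ∣_ O) ((g ⁻¹ᵁ O).ι ≫ f) (O.ι ≫ x) π :=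
  (isPullback_morphismRestrict g O).paste_vert h

set_option backward.isDefEq.respectTransparency false in
/-- A commutative square of schemes is cartesian if it is so over each member of an open cover of
the bottom-left corner. -/
theorem isPullback_of_iSup_eq_top (comm : g ≫ x = f ≫ π) {ι : Type*} (O : ι → P.Opens)
    (hO : iSup O = ⊤)
    (H : ∀ i, IsPullback (g ∣_ O i) ((g ⁻¹ᵁ O i).ι ≫ f) ((O i).ι ≫ x) π) :
    IsPullback g f x π := by
  let θ : X ⟶ pullback x π := pullback.lift g f comm
  have hθ1 : θ ≫ pullback.fst x π = g := pullback.lift_fst _ _ _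
  have hθ2 : θ ≫ pullback.snd x π = f := pullback.lift_snd _ _ _
  suffices h : IsIso θ from
    IsPullback.of_iso_pullback ⟨comm⟩ (asIso θ) hθ1 hθ2
  let U : ι → (pullback x π).Opens := fun i => pullback.fst x π ⁻¹ᵁ O i
  have hU : iSup U = ⊤ := by
    rw [← Scheme.Hom.preimage_iSup, hO]; rfl
  change MorphismProperty.isomorphisms Scheme θ
  refine IsZariskiLocalAtTarget.of_iSup_eq_top U hU fun i => ?_
  change IsIso (θ ∣_ U i)
  have hUi : IsPullback (pullback.fst x π ∣_ O i) ((U i).ι ≫ pullback.snd x π) ((O i).ι ≫ x) π :=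
    isPullback_restrict_left (IsPullback.of_hasPullback x π) (O i)
  have heq : θ ⁻¹ᵁ U i = g ⁻¹ᵁ O i := by
    rw [← Scheme.Hom.comp_preimage, hθ1]
  let e : (g ⁻¹ᵁ O i : Scheme.{u}) ≅ (U i : Scheme.{u}) := (H i).isoIsPullback _ _ hUi
  have he1 : e.hom ≫ (pullback.fst x π ∣_ O i) = g ∣_ O i := (H i).isoIsPullback_hom_fst _ _ hUi
  have he2 : e.hom ≫ (U i).ι ≫ pullback.snd x π = (g ⁻¹ᵁ O i).ι ≫ f :=
    (H i).isoIsPullback_hom_snd _ _ hUi
  have key : θ ∣_ U i = (X.isoOfEq heq).hom ≫ e.hom := by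
    apply hUi.hom_ext
    · rw [Category.assoc, he1, ← cancel_mono (O i).ι]
      simp only [Category.assoc, morphismRestrict_ι, Scheme.isoOfEq_hom_ι_assoc]
      rw [reassoc_of% morphismRestrict_ι θ (U i), hθ1]
    · rw [Category.assoc, he2, Scheme.isoOfEq_hom_ι_assoc,
        reassoc_of% morphismRestrict_ι θ (U i), hθ2]
  rw [key]
  infer_instance

end Groth.Agent.H24
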