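import Mathlib
import Groth.Agent.H24.GluePullback

/-!
# Covers of a scheme by two open immersions (helper24)
-/

set_option autoImplicit false
universe u
open CategoryTheory CategoryTheory.Limits AlgebraicGeometry TopologicalSpace

namespace Groth.Agent.H24

section

variable {X U V W Y : Scheme.{u}} (a : U ⟶ X) (b : V ⟶ X) [IsOpenImmersion a] [IsOpenImmersion b]
  (hcov : Set.range a ∪ Set.range b = Set.univ)

/-- The open cover given by two jointly surjective open immersions. -/
noncomputable def twoCover : X.OpenCover where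
  I₀ := Bool
  X i := cond i U V
  f i := match i with
    | true => a
    | false => b
  mem₀ := by
    rw [Scheme.presieve₀_mem_precoverage_iff]
    refine ⟨fun x => ?_, fun i => ?_⟩
    · have hx : x ∈ Set.range a ∪ Set.range b := hcov ▸ Set.mem_univ x
      rcases hx with hx | hx
      · exact ⟨true, hx⟩
      · exact ⟨false, hx⟩
    · cases i
      · exact inferInstanceAs (IsOpenImmersion b)
      · exact inferInstanceAs (IsOpenImmersion a)

include hcov in
theorem hom_ext_two {f₁ f₂ : X ⟶ Y} (h1 : a ≫ f₁ = a ≫ f₂) (h2 : b ≫ f₁ = b ≫ f₂) : f₁ = f₂ := by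
  refine (twoCover a b hcov).hom_ext _ _ fun i => ?_
  cases i
  · exact h2
  · exact h1

include hcov in
/-- Gluing two morphisms along a cover by two opens. -/
theorem exists_glue_two {p : W ⟶ U} {q : W ⟶ V} (hW : IsPullback p q a b) (φ : U ⟶ Y) (ψ : V ⟶ Y)
    (h : p ≫ φ = q ≫ ψ) : ∃ g : X ⟶ Y, a ≫ g = φ ∧ b ≫ g = ψ := by
  let 𝒰 := twoCover a b hcov
  let F : ∀ i, 𝒰.X i ⟶ Y := fun i => match i with
    | true => φ
    | false => ψ
  have hab : pullback.fst a b ≫ φ = pullback.snd a b ≫ ψ := by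
    rw [← cancel_epi hW.isoPullback.hom]
    simp only [IsPullback.isoPullback_hom_fst_assoc, IsPullback.isoPullback_hom_snd_assoc, h]
  have hba : pullback.fst b a ≫ ψ = pullback.snd b a ≫ φ := by
    rw [← cancel_epi hW.flip.isoPullback.hom]
    simp only [IsPullback.isoPullback_hom_fst_assoc, IsPullback.isoPullback_hom_snd_assoc, h]
  have hF : ∀ i j, pullback.fst (𝒰.f i) (𝒰.f j) ≫ F i = pullback.snd (𝒰.f i) (𝒰.f j) ≫ F j := by
    intro i j
    cases i <;> cases j
    · change pullback.fst b b ≫ ψ = pullback.snd b b ≫ ψ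
      rw [fst_eq_snd_of_mono_eq]
    · exact hba
    · exact hab
    · change pullback.fst a a ≫ φ = pullback.snd a a ≫ φ
      rw [fst_eq_snd_of_mono_eq]
  exact ⟨𝒰.glueMorphisms F hF, 𝒰.ι_glueMorphisms F hF true, 𝒰.ι_glueMorphisms F hF false⟩

end

section

variable {X S P T : Scheme.{u}} {g : X ⟶ P} {f : X ⟶ S} {x : P ⟶ T} {π : S ⟶ T}

set_option backward.isDefEq.respectTransparency false in
/-- One chart of a square that is cartesian over an open of the bottom-left corner. -/
theorem isPullback_restrict_of_isOpenImmersion {U Ui : Scheme.{u}} (a : U ⟶ X) [IsOpenImmersion a]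
    (j : Ui ⟶ P) [IsOpenImmersion j] (u : U ⟶ Ui) (hu : u ≫ j = a ≫ g)
    (hpre : g ⁻¹ᵁ j.opensRange ≤ a.opensRange)
    (h : IsPullback u (a ≫ f) (j ≫ x) π) :
    IsPullback (g ∣_ j.opensRange) ((g ⁻¹ᵁ j.opensRange).ι ≫ f) (j.opensRange.ι ≫ x) π := by
  have heq : g ⁻¹ᵁ j.opensRange = a.opensRange := by
    refine le_antisymm hpre ?_
    rintro _ ⟨y, rfl⟩
    change g (a y) ∈ j.opensRange
    rw [← Scheme.Hom.comp_apply, ← hu, Scheme.Hom.comp_apply]
    exact ⟨u y, rfl⟩
  let e1 : U ≅ (g ⁻¹ᵁ j.opensRange : Scheme.{u}) := a.isoOpensRange ≪≫ X.isoOfEq heq.symm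
  let e2 : Ui ≅ (j.opensRange : Scheme.{u}) := j.isoOpensRange
  have he1 : e1.hom ≫ (g ⁻¹ᵁ j.opensRange).ι = a := by
    simp [e1]
  have he2 : e2.hom ≫ j.opensRange.ι = j := by simp [e2]
  refine IsPullback.of_iso h e1 e2 (Iso.refl _) (Iso.refl _) ?_ ?_ ?_ ?_
  · rw [← cancel_mono j.opensRange.ι, Category.assoc, Category.assoc, he2, morphismRestrict_ι,
      reassoc_of% he1, hu]
  · rw [Iso.refl_hom, Category.comp_id, reassoc_of% he1]
  · rw [Iso.refl_hom, Category.comp_id, reassoc_of% he2]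
  · simp

/-- A commutative square is cartesian if its bottom-left corner is covered by two opens over which
it is cartesian. -/
theorem isPullback_of_two (comm : g ≫ x = f ≫ π) {U V Ui Vi : Scheme.{u}}
    (a : U ⟶ X) (b : V ⟶ X) [IsOpenImmersion a] [IsOpenImmersion b]
    (jU : Ui ⟶ P) (jV : Vi ⟶ P) [IsOpenImmersion jU] [IsOpenImmersion jV]
    (hcov : Set.range jU ∪ Set.range jV = Set.univ)
    (u : U ⟶ Ui) (v : V ⟶ Vi) (hu : u ≫ jU = a ≫ g) (hv : v ≫ jV = b ≫ g)
    (hpreU : g ⁻¹ᵁ jU.opensRange ≤ a.opensRange) (hpreV : g ⁻¹ᵁ jV.opensRange ≤ b.opensRange)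
    (hU : IsPullback u (a ≫ f) (jU ≫ x) π) (hV : IsPullback v (b ≫ f) (jV ≫ x) π) :
    IsPullback g f x π := by
  refine isPullback_of_iSup_eq_top comm (fun i : Bool => cond i jU.opensRange jV.opensRange) ?_ ?_
  · rw [iSup_bool_eq]
    ext1
    simpa using hcov
  · intro i
    cases i
    · exact isPullback_restrict_of_isOpenImmersion b jV v hv hpreV hV
    · exact isPullback_restrict_of_isOpenImmersion a jU u hu hpreU hU

end

end Groth.Agent.H24
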