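import Mathlib
import Groth.Agent.H24.DescFP1
import Groth.Agent.H24.PushoutOpen
import Groth.Agent.H24.TwoCover

/-!
# Descending finitely presented morphisms to a stage: gluing two charts at a fixed stage (helper24)
-/

set_option autoImplicit false
universe u
open CategoryTheory CategoryTheory.Limits AlgebraicGeometry TopologicalSpace

namespace Groth.Agent.H24

theorem range_snd_of_isPullback {P X Y S : Scheme.{u}} {fst : P ⟶ X} {snd : P ⟶ Y} {f : X ⟶ S}
    {g : Y ⟶ S} (h : IsPullback fst snd f g) : Set.range snd = g ⁻¹' Set.range f := by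
  rw [← Scheme.Pullback.range_snd f g, ← h.isoPullback_hom_snd]
  ext y
  constructor
  · rintro ⟨z, rfl⟩
    exact ⟨h.isoPullback.hom z, rfl⟩
  · rintro ⟨z, rfl⟩
    refine ⟨h.isoPullback.inv z, ?_⟩
    rw [← Scheme.Hom.comp_apply, Iso.inv_hom_id_assoc]

variable {I : Type u} [Category.{u} I] (D : I ⥤ Scheme.{u}) (c : Cone D)

variable {X U V W : Scheme.{u}} (f : X ⟶ c.pt) (a : U ⟶ X) (b : V ⟶ X) [IsOpenImmersion a]
  [IsOpenImmersion b] (hcov : Set.range a ∪ Set.range b = Set.univ) {p : W ⟶ U} {q : W ⟶ V}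
  (hW : IsPullback p q a b)

include hcov hW in
/-- Gluing two finitely presented models along a common open, at a fixed stage. -/
theorem descAt_of_glue {i : I} {Ui Vi Wi : Scheme.{u}} (fU : Ui ⟶ D.obj i) (fV : Vi ⟶ D.obj i)
    (fW : Wi ⟶ D.obj i) (jU : Wi ⟶ Ui) (jV : Wi ⟶ Vi) [IsOpenImmersion jU] [IsOpenImmersion jV]
    (hjU : jU ≫ fU = fW) (hjV : jV ≫ fV = fW)
    [LocallyOfFinitePresentation fU] [LocallyOfFinitePresentation fV]
    [CompactSpace Ui] [QuasiSeparatedSpace Ui] [CompactSpace Vi] [QuasiSeparatedSpace Vi]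
    [CompactSpace Wi] {u : U ⟶ Ui} {v : V ⟶ Vi} {w : W ⟶ Wi}
    (hu : IsPullback u (a ≫ f) fU (c.π.app i)) (hv : IsPullback v (b ≫ f) fV (c.π.app i))
    (hw : IsPullback w (p ≫ a ≫ f) fW (c.π.app i))
    (hwU : w ≫ jU = p ≫ u) (hwV : w ≫ jV = q ≫ v) : DescAt D c i f := by
  have hj : jU ≫ fU = jV ≫ fV := hjU.trans hjV.symm
  let x : pushout jU jV ⟶ D.obj i := pushout.desc fU fV hj
  have hxl : pushout.inl jU jV ≫ x = fU := pushout.inl_desc _ _ _
  have hxr : pushout.inr jU jV ≫ x = fV := pushout.inr_desc _ _ _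
  obtain ⟨g, hga, hgb⟩ := exists_glue_two a b hcov hW (u ≫ pushout.inl jU jV)
    (v ≫ pushout.inr jU jV) (by
      rw [← reassoc_of% hwU, ← reassoc_of% hwV, pushout.condition])
  have comm : g ≫ x = f ≫ c.π.app i := by
    refine hom_ext_two a b hcov ?_ ?_
    · rw [reassoc_of% hga, hxl, hu.w, Category.assoc]
    · rw [reassoc_of% hgb, hxr, hv.w, Category.assoc]
  -- the two small cartesian squares
  have hwU' : IsPullback w p jU u := by
    refine IsPullback.of_bot ?_ hwU hu
    rw [hjU]; exact hw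
  have hwV' : IsPullback w q jV v := by
    refine IsPullback.of_bot ?_ hwV hv
    rw [hjV, ← reassoc_of% hW.w]; exact hw
  have hrp : Set.range p = u ⁻¹' Set.range jU := range_snd_of_isPullback hwU'
  have hrq : Set.range q = v ⁻¹' Set.range jV := range_snd_of_isPullback hwV'
  have hpreU : g ⁻¹ᵁ (pushout.inl jU jV).opensRange ≤ a.opensRange := by
    intro z hz
    have hz' : z ∈ Set.range a ∪ Set.range b := hcov ▸ Set.mem_univ z
    rcases hz' with hz' | ⟨y, rfl⟩
    · exact hz'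
    · obtain ⟨t, ht⟩ := hz
      have h1 : g (b y) = (pushout.inr jU jV) (v y) := by
        rw [← Scheme.Hom.comp_apply, hgb, Scheme.Hom.comp_apply]
      obtain ⟨s, hs1, hs2⟩ := (pushout_inl_eq_inr_iff jU jV t (v y)).mp (ht.trans h1)
      have hy : y ∈ Set.range q := by rw [hrq]; exact ⟨s, hs2⟩
      obtain ⟨y', rfl⟩ := hy
      refine ⟨p y', ?_⟩
      rw [← Scheme.Hom.comp_apply, ← Scheme.Hom.comp_apply, hW.w]
  have hpreV : g ⁻¹ᵁ (pushout.inr jU jV).opensRange ≤ b.opensRange := by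
    intro z hz
    have hz' : z ∈ Set.range a ∪ Set.range b := hcov ▸ Set.mem_univ z
    rcases hz' with ⟨y, rfl⟩ | hz'
    · obtain ⟨t, ht⟩ := hz
      have h1 : g (a y) = (pushout.inl jU jV) (u y) := by
        rw [← Scheme.Hom.comp_apply, hga, Scheme.Hom.comp_apply]
      obtain ⟨s, hs1, hs2⟩ := (pushout_inl_eq_inr_iff jU jV (u y) t).mp (h1.symm.trans ht.symm)
      have hy : y ∈ Set.range p := by rw [hrp]; exact ⟨s, hs1⟩
      obtain ⟨y', rfl⟩ := hy
      refine ⟨q y', ?_⟩
      rw [← Scheme.Hom.comp_apply, ← Scheme.Hom.comp_apply, hW.w]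
    · exact hz'
  have hpb : IsPullback g f x (c.π.app i) := by
    refine isPullback_of_two comm a b (pushout.inl jU jV) (pushout.inr jU jV)
      (range_inl_union_range_inr jU jV) u v hga.symm hgb.symm hpreU hpreV ?_ ?_
    · rw [hxl]; exact hu
    · rw [hxr]; exact hv
  exact ⟨pushout jU jV, x, g, locallyOfFinitePresentation_pushout_desc jU jV fU fV hj,
    compactSpace_pushout jU jV, quasiSeparatedSpace_pushout jU jV, hpb⟩

end Groth.Agent.H24
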