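import Mathlib
import Groth.Agent.H24.DescFP2
import Groth.Agent.H24.LimitOpenImm
import Groth.Agent.H50.LfpCancel

/-!
# Descending finitely presented morphisms to a stage: gluing two charts (helper24)
-/

set_option autoImplicit false
universe u
open CategoryTheory CategoryTheory.Limits AlgebraicGeometry TopologicalSpace

namespace Groth.Agent.H24

variable {I : Type u} [Category.{u} I] [IsCofiltered I] (D : I ⥤ Scheme.{u}) (c : Cone D)
  [∀ {i j} (f : i ⟶ j), IsAffineHom (D.map f)]

variable {X U V W : Scheme.{u}} (f : X ⟶ c.pt) (a : U ⟶ X) (b : V ⟶ X) [IsOpenImmersion a]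
  [IsOpenImmersion b] (hcov : Set.range a ∪ Set.range b = Set.univ) {p : W ⟶ U} {q : W ⟶ V}
  (hW : IsPullback p q a b)

omit [IsCofiltered I] [∀ {i j} (f : i ⟶ j), IsAffineHom (D.map f)] in
theorem rbMap_eq_stageMap {i : I} (ψ : Over i) {A B : Scheme.{u}} (j : A ⟶ B) (fB : B ⟶ D.obj i) :
    rbMap D ψ (j ≫ fB) fB j rfl = stageMap D i j fB ψ := by
  apply pullback.hom_ext
  · rw [rbMap_fst, stageMap_fst]
  · rw [rbMap_snd, stageMap_snd]

include hcov hW in
/-- Gluing two finitely presented models along a common open, when the second gluing map is only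
known to be a morphism. -/
theorem desc_of_glue_map (hc : IsLimit c) {i : I} {Ui Vi Wi : Scheme.{u}} (fU : Ui ⟶ D.obj i)
    (fV : Vi ⟶ D.obj i)
    (fW : Wi ⟶ D.obj i) (jU : Wi ⟶ Ui) (jV : Wi ⟶ Vi) [IsOpenImmersion jU]
    (hjU : jU ≫ fU = fW) (hjV : jV ≫ fV = fW)
    [LocallyOfFinitePresentation fU] [LocallyOfFinitePresentation fV]
    [CompactSpace Ui] [QuasiSeparatedSpace Ui] [CompactSpace Vi] [QuasiSeparatedSpace Vi]
    [CompactSpace Wi] {u : U ⟶ Ui} {v : V ⟶ Vi} {w : W ⟶ Wi}
    (hu : IsPullback u (a ≫ f) fU (c.π.app i)) (hv : IsPullback v (b ≫ f) fV (c.π.app i))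
    (hw : IsPullback w (p ≫ a ≫ f) fW (c.π.app i))
    (hwU : w ≫ jU = p ≫ u) (hwV : w ≫ jV = q ≫ v) : ∃ j, DescAt D c j f := by
  have hfW : LocallyOfFinitePresentation fW := hjU ▸ inferInstance
  have hjVlfp : LocallyOfFinitePresentation jV :=
    H50.locallyOfFinitePresentation_of_comp jV fV (hjV ▸ hfW) inferInstance
  have hq : IsOpenImmersion q := MorphismProperty.of_isPullback (P := @IsOpenImmersion) hW
    inferInstance
  have hwV' : IsPullback w q jV v := by
    refine IsPullback.of_bot ?_ hwV hv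
    rw [hjV, ← reassoc_of% hW.w]; exact hw
  obtain ⟨ψ, hψ⟩ := exists_isOpenImmersion_stageMap D c i jV fV hc q (b ≫ f) v w hv hwV'
  have h1 : IsOpenImmersion (rbMap D ψ fW fU jU hjU) :=
    MorphismProperty.of_isPullback (P := @IsOpenImmersion) (isPullback_rbMap ψ jU hjU)
      inferInstance
  have h2 : IsOpenImmersion (rbMap D ψ fW fV jV hjV) := by
    subst hjV
    rw [rbMap_eq_stageMap]
    exact hψ
  have h3 : LocallyOfFinitePresentation (pullback.fst (D.map ψ.hom) fU) :=
    MorphismProperty.pullback_fst (P := @LocallyOfFinitePresentation) _ _ inferInstance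
  have h4 : LocallyOfFinitePresentation (pullback.fst (D.map ψ.hom) fV) :=
    MorphismProperty.pullback_fst (P := @LocallyOfFinitePresentation) _ _ inferInstance
  have h5 := compactSpace_rbObj D ψ fU
  have h6 := compactSpace_rbObj D ψ fV
  have h7 := compactSpace_rbObj D ψ fW
  have h8 := quasiSeparatedSpace_rbObj D ψ fU
  have h9 := quasiSeparatedSpace_rbObj D ψ fV
  exact ⟨ψ.left, descAt_of_glue D c f a b hcov hW (pullback.fst (D.map ψ.hom) fU)
    (pullback.fst (D.map ψ.hom) fV) (pullback.fst (D.map ψ.hom) fW)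
    (rbMap D ψ fW fU jU hjU) (rbMap D ψ fW fV jV hjV) (rbMap_fst jU hjU) (rbMap_fst jV hjV)
    (isPullback_rbLift ψ hu) (isPullback_rbLift ψ hv) (isPullback_rbLift ψ hw)
    (rbLift_rbMap jU hjU hw hu p rfl hwU)
    (rbLift_rbMap jV hjV hw hv q (by rw [reassoc_of% hW.w]) hwV)⟩

end Groth.Agent.H24
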