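import Mathlib
import Groth.Agent.H24.DescFP3

/-!
# Descending finitely presented morphisms to a stage: two charts (helper24)
-/

set_option autoImplicit false
universe u
open CategoryTheory CategoryTheory.Limits AlgebraicGeometry TopologicalSpace

namespace Groth.Agent.H24

variable {I : Type u} [Category.{u} I] (D : I ⥤ Scheme.{u}) (c : Cone D)

section Tower

variable {i : I} {A T : Scheme.{u}} {fA : A ⟶ D.obj i} {a : T ⟶ A} {t : T ⟶ c.pt}
  (h : IsPullback a t fA (c.π.app i))

set_option backward.isDefEq.respectTransparency false in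
/-- The cone exhibiting a base change to the limit as the limit of the base changes to the
stages. -/
noncomputable def towerCone : Cone (pullbackDiagram D i fA) where
  pt := T
  π :=
    { app := fun ψ => rbLift D c ψ fA h
      naturality := fun φ ψ g => by
        apply pullback.hom_ext
        · simp [pullbackDiagram_map_fst]
        · simp [pullbackDiagram_map_snd] }

@[simp]
theorem towerCone_π_app (ψ : Over i) : (towerCone D c h).π.app ψ = rbLift D c ψ fA h := rfl

set_option backward.isDefEq.respectTransparency false in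
/-- The tower cone is a limit cone. -/
noncomputable def isLimitTowerCone [IsCofiltered I] (hc : IsLimit c) : IsLimit (towerCone D c h) := by
  refine IsLimit.ofIsoLimit (isLimitPullbackCone D c i fA hc)
    (Cones.ext h.flip.isoPullback.symm fun ψ => ?_)
  apply pullback.hom_ext
  · rw [pullbackCone_π_fst, Category.assoc, towerCone_π_app, rbLift_fst]
    simp
  · rw [pullbackCone_π_snd, Category.assoc, towerCone_π_app, rbLift_snd]
    simp

variable [∀ {i j} (f : i ⟶ j), IsAffineHom (D.map f)]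

omit h in
theorem isAffineHom_pullbackDiagram_map {φ ψ : Over i} (g : φ ⟶ ψ) :
    IsAffineHom ((pullbackDiagram D i fA).map g) :=
  MorphismProperty.of_isPullback (P := @IsAffineHom)
    (isPullback_pullbackDiagram_map D i fA g).flip inferInstance

end Tower

variable [IsCofiltered I] [∀ {i j} (f : i ⟶ j), IsAffineHom (D.map f)]

variable {X U V W : Scheme.{u}} (f : X ⟶ c.pt) (a : U ⟶ X) (b : V ⟶ X) [IsOpenImmersion a]
  [IsOpenImmersion b] (hcov : Set.range a ∪ Set.range b = Set.univ) {p : W ⟶ U} {q : W ⟶ V}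
  [IsOpenImmersion p] (hW : IsPullback p q a b)

include hcov hW in
set_option backward.isDefEq.respectTransparency false in
/-- Gluing two finitely presented models at the same stage, given a model of the overlap as an
open of the first chart. -/
theorem desc_of_two_charts_of_open (hc : IsLimit c) {i : I} {Ui Vi : Scheme.{u}}
    (fU : Ui ⟶ D.obj i) (fV : Vi ⟶ D.obj i)
    [LocallyOfFinitePresentation fU] [LocallyOfFinitePresentation fV]
    [CompactSpace Ui] [QuasiSeparatedSpace Ui] [CompactSpace Vi] [QuasiSeparatedSpace Vi]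
    {u : U ⟶ Ui} {v : V ⟶ Vi}
    (hu : IsPullback u (a ≫ f) fU (c.π.app i)) (hv : IsPullback v (b ≫ f) fV (c.π.app i))
    (Wo : Ui.Opens) (hWc : IsCompact (Wo : Set Ui)) (hWo : u ⁻¹ᵁ Wo = p.opensRange) :
    ∃ j, DescAt D c j f := by
  -- the model of the overlap
  let e : W ≅ (u ⁻¹ᵁ Wo : Scheme.{u}) := p.isoOpensRange ≪≫ U.isoOfEq hWo.symm
  have he : e.hom ≫ (u ⁻¹ᵁ Wo).ι = p := by simp [e]
  let w : W ⟶ (Wo : Scheme.{u}) := e.hom ≫ u ∣_ Wo
  have hwU : w ≫ Wo.ι = p ≫ u := by
    rw [Category.assoc, morphismRestrict_ι, reassoc_of% he]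
  have hw : IsPullback w (p ≫ a ≫ f) (Wo.ι ≫ fU) (c.π.app i) := by
    refine IsPullback.of_iso (isPullback_restrict_left hu Wo) e.symm (Iso.refl _) (Iso.refl _)
      (Iso.refl _) ?_ ?_ ?_ ?_
    · simp [w]
    · rw [Iso.refl_hom, Category.comp_id, Iso.symm_hom, ← reassoc_of% he, Iso.inv_hom_id_assoc]
    · simp
    · simp
  have hWcs : CompactSpace (Wo : Scheme.{u}) := isCompact_iff_compactSpace.mp hWc
  have hWqs : QuasiSeparatedSpace (Wo : Scheme.{u}) :=
    Wo.ι.isOpenEmbedding.quasiSeparatedSpace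
  -- descend the inclusion of the overlap into the second chart
  let FW := pullbackDiagram D i (Wo.ι ≫ fU)
  let cW := towerCone D c hw
  have hcW : IsLimit cW := isLimitTowerCone D c hw hc
  have hFaff : ∀ {φ ψ : Over i} (g : φ ⟶ ψ), IsAffineHom (FW.map g) := fun g =>
    isAffineHom_pullbackDiagram_map D g
  have hFc : ∀ ψ : Over i, CompactSpace (FW.obj ψ) := fun ψ =>
    compactSpace_rbObj D ψ (Wo.ι ≫ fU)
  have hFs : ∀ ψ : Over i, QuasiSeparatedSpace (FW.obj ψ) := fun ψ =>
    quasiSeparatedSpace_rbObj D ψ (Wo.ι ≫ fU)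
  let t : FW ⟶ (Functor.const (Over i)).obj (D.obj i) :=
    { app := fun ψ => pullback.fst (D.map ψ.hom) (Wo.ι ≫ fU) ≫ D.map ψ.hom
      naturality := fun φ ψ g => by
        simp only [Functor.const_obj_obj, Functor.const_obj_map, Category.comp_id]
        rw [pullbackDiagram_map_fst_assoc, ← D.map_comp, Over.w g] }
  have key : ∀ ψ : Over i, rbLift D c ψ (Wo.ι ≫ fU) hw ≫
      pullback.fst (D.map ψ.hom) (Wo.ι ≫ fU) ≫ D.map ψ.hom = (q ≫ v) ≫ fV := by
    intro ψ
    have h2 : c.π.app ψ.left ≫ D.map ψ.hom = c.π.app i := c.w ψ.hom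
    rw [rbLift_fst_assoc, Category.assoc, Category.assoc, h2, Category.assoc, hv.w,
      reassoc_of% hW.w, Category.assoc]
  have ha : cW.π ≫ t = (Functor.const (Over i)).map ((q ≫ v) ≫ fV) := by
    ext ψ
    exact key ψ
  obtain ⟨ψ, g, hg1, hg2⟩ := Scheme.exists_π_app_comp_eq_of_locallyOfFinitePresentation FW t fV
    cW hcW (q ≫ v) ha
  change rbLift D c ψ (Wo.ι ≫ fU) hw ≫ g = q ≫ v at hg1
  change g ≫ fV = pullback.fst (D.map ψ.hom) (Wo.ι ≫ fU) ≫ D.map ψ.hom at hg2
  -- rebase to the stage `ψ`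
  let jV : pullback (D.map ψ.hom) (Wo.ι ≫ fU) ⟶ pullback (D.map ψ.hom) fV :=
    pullback.lift (pullback.fst _ _) g hg2.symm
  have h1 : IsOpenImmersion (rbMap D ψ (Wo.ι ≫ fU) fU Wo.ι rfl) :=
    MorphismProperty.of_isPullback (P := @IsOpenImmersion) (isPullback_rbMap ψ Wo.ι rfl)
      inferInstance
  have h3 : LocallyOfFinitePresentation (pullback.fst (D.map ψ.hom) fU) :=
    MorphismProperty.pullback_fst (P := @LocallyOfFinitePresentation) _ _ inferInstance
  have h4 : LocallyOfFinitePresentation (pullback.fst (D.map ψ.hom) fV) :=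
    MorphismProperty.pullback_fst (P := @LocallyOfFinitePresentation) _ _ inferInstance
  have h5 := compactSpace_rbObj D ψ fU
  have h6 := compactSpace_rbObj D ψ fV
  have h7 := compactSpace_rbObj D ψ (Wo.ι ≫ fU)
  have h8 := quasiSeparatedSpace_rbObj D ψ fU
  have h9 := quasiSeparatedSpace_rbObj D ψ fV
  refine desc_of_glue_map D c f a b hcov hW hc (pullback.fst (D.map ψ.hom) fU)
    (pullback.fst (D.map ψ.hom) fV) (pullback.fst (D.map ψ.hom) (Wo.ι ≫ fU))
    (rbMap D ψ (Wo.ι ≫ fU) fU Wo.ι rfl) jV (rbMap_fst Wo.ι rfl) (pullback.lift_fst _ _ _)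
    (isPullback_rbLift ψ hu) (isPullback_rbLift ψ hv) (isPullback_rbLift ψ hw)
    (rbLift_rbMap Wo.ι rfl hw hu p rfl hwU) ?_
  apply pullback.hom_ext
  · have e1 : jV ≫ pullback.fst _ _ = pullback.fst _ _ := pullback.lift_fst _ _ _
    rw [Category.assoc, e1, rbLift_fst]
    simp only [Category.assoc]
    rw [rbLift_fst]
    simp only [Category.assoc]
    rw [reassoc_of% hW.w]
  · rw [Category.assoc, pullback.lift_snd, hg1, Category.assoc, rbLift_snd]

end Groth.Agent.H24

namespace Groth.Agent.H24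

variable {I : Type u} [Category.{u} I] (D : I ⥤ Scheme.{u}) (c : Cone D)
  [IsCofiltered I] [∀ {i j} (f : i ⟶ j), IsAffineHom (D.map f)]

variable {X U V W : Scheme.{u}} (f : X ⟶ c.pt) (a : U ⟶ X) (b : V ⟶ X) [IsOpenImmersion a]
  [IsOpenImmersion b] (hcov : Set.range a ∪ Set.range b = Set.univ) {p : W ⟶ U} {q : W ⟶ V}
  (hW : IsPullback p q a b)

include hcov hW in
set_option backward.isDefEq.respectTransparency false in
/-- Gluing two finitely presented models given at the same stage. -/
theorem desc_of_two_charts_at (hc : IsLimit c) [CompactSpace W] {i : I} {Ui Vi : Scheme.{u}}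
    (fU : Ui ⟶ D.obj i) (fV : Vi ⟶ D.obj i)
    [LocallyOfFinitePresentation fU] [LocallyOfFinitePresentation fV]
    [CompactSpace Ui] [QuasiSeparatedSpace Ui] [CompactSpace Vi] [QuasiSeparatedSpace Vi]
    {u : U ⟶ Ui} {v : V ⟶ Vi}
    (hu : IsPullback u (a ≫ f) fU (c.π.app i)) (hv : IsPullback v (b ≫ f) fV (c.π.app i)) :
    ∃ j, DescAt D c j f := by
  have hp : IsOpenImmersion p :=
    MorphismProperty.of_isPullback (P := @IsOpenImmersion) hW.flip inferInstance
  let FU := pullbackDiagram D i fU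
  let cU := towerCone D c hu
  have hcU : IsLimit cU := isLimitTowerCone D c hu hc
  have hFaff : ∀ {φ ψ : Over i} (g : φ ⟶ ψ), IsAffineHom (FU.map g) := fun g =>
    isAffineHom_pullbackDiagram_map D g
  obtain ⟨ψ, Wo, hWc, hWo⟩ := exists_preimage_eq FU cU hcU p.opensRange
    (isCompact_range p.continuous)
  change rbLift D c ψ fU hu ⁻¹ᵁ Wo = p.opensRange at hWo
  have h3 : LocallyOfFinitePresentation (pullback.fst (D.map ψ.hom) fU) :=
    MorphismProperty.pullback_fst (P := @LocallyOfFinitePresentation) _ _ inferInstance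
  have h4 : LocallyOfFinitePresentation (pullback.fst (D.map ψ.hom) fV) :=
    MorphismProperty.pullback_fst (P := @LocallyOfFinitePresentation) _ _ inferInstance
  have h5 := compactSpace_rbObj D ψ fU
  have h6 := compactSpace_rbObj D ψ fV
  have h8 := quasiSeparatedSpace_rbObj D ψ fU
  have h9 := quasiSeparatedSpace_rbObj D ψ fV
  exact desc_of_two_charts_of_open D c f a b hcov hW hc (pullback.fst (D.map ψ.hom) fU)
    (pullback.fst (D.map ψ.hom) fV) (isPullback_rbLift ψ hu) (isPullback_rbLift ψ hv) Wo hWc hWo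

include hcov hW in
/-- **Gluing two charts**: if `X = U ∪ V` with `U ∩ V` quasi-compact and the restrictions of
`f : X ⟶ lim S_i` to `U` and `V` descend to finitely presented morphisms at some stage, so does
`f`. -/
theorem desc_of_two_charts (hc : IsLimit c) [CompactSpace W]
    (hU : ∃ i, DescAt D c i (a ≫ f)) (hV : ∃ i, DescAt D c i (b ≫ f)) :
    ∃ j, DescAt D c j f := by
  obtain ⟨i, hi⟩ := hU
  obtain ⟨j, hj⟩ := hV
  obtain ⟨Ui, fU, u, h1, h2, h3, hu⟩ := hi.of_hom (IsCofiltered.minToLeft i j)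
  obtain ⟨Vi, fV, v, h4, h5, h6, hv⟩ := hj.of_hom (IsCofiltered.minToRight i j)
  exact desc_of_two_charts_at D c f a b hcov hW hc fU fV hu hv

end Groth.Agent.H24
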