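import Mathlib
import Groth.Agent.H24.DescFP1
import Groth.Agent.H50.LfpCancel

/-!
# Descending finitely presented morphisms to a stage: the affine case (helper24)
-/

set_option autoImplicit false
universe u
open CategoryTheory CategoryTheory.Limits AlgebraicGeometry TensorProduct

namespace Groth.Agent.H24


/-- A finitely presented ring map `A → B` descends along any ring map `A₀ → A` whose image contains
a certain finite set of elements (the coefficients of a presentation). -/
theorem exists_isPushout_of_finitePresentation {A B : Type u} [CommRing A] [CommRing B]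
    (φ : A →+* B) (hφ : φ.FinitePresentation) :
    ∃ s : Finset A, ∀ (A₀ : Type u) [CommRing A₀] (ρ : A₀ →+* A), (↑s : Set A) ⊆ Set.range ρ →
      ∃ (B₀ : Type u) (_ : CommRing B₀) (α : A₀ →+* B₀) (β : B₀ →+* B), α.FinitePresentation ∧
        IsPushout (CommRingCat.ofHom ρ) (CommRingCat.ofHom α) (CommRingCat.ofHom φ)
          (CommRingCat.ofHom β) := by
  algebraize [φ]
  let P := Algebra.Presentation.ofFinitePresentation A B
  refine ⟨P.finite_coeffs.toFinset, fun A₀ _ ρ hρ => ?_⟩
  let _ : Algebra A₀ A := ρ.toAlgebra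
  let _ : Algebra A₀ B := (φ.comp ρ).toAlgebra
  have : IsScalarTower A₀ A B := IsScalarTower.of_algebraMap_eq fun _ => rfl
  have : P.HasCoeffs A₀ := ⟨(by simpa using hρ : P.coeffs ⊆ Set.range ρ)⟩
  let e := P.tensorModelOfHasCoeffsEquiv A₀
  refine ⟨P.ModelOfHasCoeffs A₀, inferInstance, algebraMap A₀ _,
    (e : A ⊗[A₀] P.ModelOfHasCoeffs A₀ →+* B).comp Algebra.TensorProduct.includeRight.toRingHom,
    ?_, ?_⟩
  · exact RingHom.finitePresentation_algebraMap.mpr inferInstance
  · refine (CommRingCat.isPushout_tensorProduct A₀ A (P.ModelOfHasCoeffs A₀)).of_iso (Iso.refl _)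
      (Iso.refl _) (Iso.refl _) e.toRingEquiv.toCommRingCatIso (by simp) (by simp) ?_ ?_
    · ext x
      simp only [e, CommRingCat.hom_comp, CommRingCat.hom_ofHom, RingHom.coe_comp,
        Function.comp_apply, Iso.refl_hom, Category.id_comp]
      have h1 := P.tensorModelOfHasCoeffsEquiv_tmul A₀ x 1
      rw [map_one, map_one, mul_one] at h1
      exact h1
    · rw [Iso.refl_hom, Category.id_comp]; rfl


section Affine

variable {J : Type u} [Category.{u} J] [IsCofiltered J] (D' : J ⥤ Scheme.{u})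
  [∀ j, IsAffine (D'.obj j)] (c' : Cone D') (hc' : IsLimit c')

include hc' in
theorem exists_finset_subset_range_appTop (s : Finset Γ(c'.pt, ⊤)) :
    ∃ j, (↑s : Set Γ(c'.pt, ⊤)) ⊆ Set.range (c'.π.app j).appTop.hom := by
  classical
  induction s using Finset.induction_on with
  | empty => exact ⟨IsCofiltered.nonempty.some, by simp⟩
  | insert x s _ ih =>
    obtain ⟨j₁, h₁⟩ := ih
    obtain ⟨j₂, t, ht⟩ := exists_appTop_π_eq_of_isAffine_of_isLimit D' c' hc' x
    have key : ∀ {j j' : J} (g : j' ⟶ j), Set.range (c'.π.app j).appTop.hom ⊆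
        Set.range (c'.π.app j').appTop.hom := by
      rintro j j' g _ ⟨y, rfl⟩
      refine ⟨(D'.map g).appTop.hom y, ?_⟩
      rw [← c'.w g, Scheme.Hom.comp_appTop]
      rfl
    refine ⟨IsCofiltered.min j₁ j₂, ?_⟩
    rw [Finset.coe_insert, Set.insert_subset_iff]
    exact ⟨key (IsCofiltered.minToRight j₁ j₂) ⟨t, ht⟩,
      h₁.trans (key (IsCofiltered.minToLeft j₁ j₂))⟩

include hc' in
/-- The affine case of descending a finitely presented morphism to a stage. -/
theorem exists_desc_affine {X : Scheme.{u}} [IsAffine X] (f' : X ⟶ c'.pt)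
    [LocallyOfFinitePresentation f'] :
    ∃ (j : J) (Xj : Scheme.{u}) (fj : Xj ⟶ D'.obj j) (g : X ⟶ Xj),
      LocallyOfFinitePresentation fj ∧ IsAffine Xj ∧ IsPullback g f' fj (c'.π.app j) := by
  have : IsAffine c'.pt := Scheme.isAffine_of_isLimit c' hc'
  obtain ⟨s, hs⟩ := exists_isPushout_of_finitePresentation f'.appTop.hom
    (Scheme.Hom.finitePresentation_appTop f')
  obtain ⟨j, hj⟩ := exists_finset_subset_range_appTop D' c' hc' s
  obtain ⟨B₀, _, α, β, hα, hpo⟩ := hs Γ(D'.obj j, ⊤) (c'.π.app j).appTop.hom hj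
  rw [CommRingCat.ofHom_hom, CommRingCat.ofHom_hom] at hpo
  have h1 := (isPullback_SpecMap_of_isPushout _ _ _ _ hpo).flip
  refine ⟨j, Spec (.of B₀), Spec.map (CommRingCat.ofHom α) ≫ (D'.obj j).isoSpec.inv,
    X.isoSpec.hom ≫ Spec.map (CommRingCat.ofHom β), ?_, inferInstance, ?_⟩
  · have : LocallyOfFinitePresentation (Spec.map (CommRingCat.ofHom α)) :=
      (LocallyOfFinitePresentation.SpecMap_iff _).mpr hα
    infer_instance
  · refine IsPullback.of_iso h1 X.isoSpec.symm (Iso.refl _) c'.pt.isoSpec.symm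
      (D'.obj j).isoSpec.symm ?_ ?_ ?_ ?_
    · simp
    · simp [Scheme.isoSpec_inv_naturality]
    · simp
    · simp [Scheme.isoSpec_inv_naturality]


end Affine

section Good

variable {I : Type u} [Category.{u} I] [IsCofiltered I] (D : I ⥤ Scheme.{u}) (c : Cone D)
  [∀ {i j} (f : i ⟶ j), IsAffineHom (D.map f)]

set_option backward.isDefEq.respectTransparency false in
/-- An affine scheme of finite presentation over the preimage of an affine open of a stage descends
to a later stage. -/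
theorem desc_of_affine (hc : IsLimit c) {i : I} (V₀ : (D.obj i).Opens) (hV₀ : IsAffineOpen V₀)
    {X : Scheme.{u}} [IsAffine X] (f : X ⟶ c.pt) [LocallyOfFinitePresentation f]
    (hf : Set.range (f ≫ c.π.app i) ⊆ (V₀ : Set (D.obj i))) : ∃ j, DescAt D c j f := by
  have haff : ∀ j : Over i, IsAffine ((opensDiagram D i V₀).obj j) := fun j =>
    hV₀.preimage (D.map j.hom)
  let f' : X ⟶ (c.π.app i ⁻¹ᵁ V₀ : Scheme.{u}) :=
    IsOpenImmersion.lift (c.π.app i ⁻¹ᵁ V₀).ι f (by
      rintro _ ⟨x, rfl⟩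
      rw [Scheme.Opens.range_ι]
      exact hf ⟨x, rfl⟩)
  have hf' : f' ≫ (c.π.app i ⁻¹ᵁ V₀).ι = f := IsOpenImmersion.lift_fac _ _ _
  have hlfp : LocallyOfFinitePresentation f' :=
    H50.locallyOfFinitePresentation_of_comp f' (c.π.app i ⁻¹ᵁ V₀).ι (hf'.symm ▸ inferInstance)
      inferInstance
  obtain ⟨ψ, Xψ, fψ, g, h1, h2, h3⟩ := exists_desc_affine (opensDiagram D i V₀)
    (opensCone D c i V₀) (isLimitOpensCone D c hc i V₀) f'
  have h4 : IsPullback ((opensCone D c i V₀).π.app ψ) (c.π.app i ⁻¹ᵁ V₀).ι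
      (D.map ψ.hom ⁻¹ᵁ V₀).ι (c.π.app ψ.left) :=
    IsOpenImmersion.isPullback _ _ _ _ (by simp) (by simp [← Scheme.Hom.comp_preimage])
  have h5 := h3.paste_vert h4
  rw [hf'] at h5
  exact ⟨ψ.left, Xψ, fψ ≫ (D.map ψ.hom ⁻¹ᵁ V₀).ι, g, inferInstance, inferInstance,
    inferInstance, h5⟩

end Good

end Groth.Agent.H24
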