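import Mathlib
import Groth.Agent.H24.DescFP4
import Groth.Agent.H24.DescFP5

/-!
# Descending finitely presented morphisms to a stage of a cofiltered limit (helper24)

Main result: `exists_descAt`.
-/

set_option autoImplicit false
universe u
open CategoryTheory CategoryTheory.Limits AlgebraicGeometry TopologicalSpace

namespace Groth.Agent.H24

variable {I : Type u} [Category.{u} I] [IsCofiltered I] (D : I ⥤ Scheme.{u}) (c : Cone D)
  [∀ {i j} (f : i ⟶ j), IsAffineHom (D.map f)]

/-- An affine open of `X` mapping into an affine open of the stage `i₀`. -/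
def GoodOpen (i₀ : I) {X : Scheme.{u}} (f : X ⟶ c.pt) (U : X.Opens) : Prop :=
  IsAffineOpen U ∧ ∃ V₀ : (D.obj i₀).Opens, IsAffineOpen V₀ ∧ U ≤ (f ≫ c.π.app i₀) ⁻¹ᵁ V₀

set_option backward.isDefEq.respectTransparency false in
theorem desc_of_goodOpen (hc : IsLimit c) (i₀ : I) {X : Scheme.{u}} (f : X ⟶ c.pt)
    [LocallyOfFinitePresentation f] (U : X.Opens) (hU : GoodOpen D c i₀ f U) :
    ∃ j, DescAt D c j (U.ι ≫ f) := by
  obtain ⟨hUa, V₀, hV₀, hUV⟩ := hU
  have : IsAffine (U : Scheme.{u}) := hUa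
  refine desc_of_affine D c hc V₀ hV₀ (U.ι ≫ f) ?_
  rintro _ ⟨x, rfl⟩
  exact hUV x.2

set_option backward.isDefEq.respectTransparency false in
/-- Finite unions of good opens descend. -/
theorem desc_of_finset_goodOpen (hc : IsLimit c) (i₀ : I) {X : Scheme.{u}} [QuasiSeparatedSpace X]
    (f : X ⟶ c.pt) [LocallyOfFinitePresentation f] (s : Finset X.Opens)
    (hs : ∀ U ∈ s, GoodOpen D c i₀ f U) :
    IsCompact ((s.sup id : X.Opens) : Set X) ∧ ∃ j, DescAt D c j ((s.sup id).ι ≫ f) := by
  classical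
  induction s using Finset.induction_on with
  | empty =>
    rw [Finset.sup_empty]
    refine ⟨by simp, desc_of_goodOpen D c hc i₀ f ⊥ ⟨isAffineOpen_bot X, ⊥, isAffineOpen_bot _, bot_le⟩⟩
  | insert U s _ ih =>
    obtain ⟨hSc, hS⟩ := ih fun V hV => hs V (Finset.mem_insert_of_mem hV)
    have hU := hs U (Finset.mem_insert_self U s)
    rw [Finset.sup_insert, id]
    set S : X.Opens := s.sup id with hSdef
    have hUc : IsCompact (U : Set X) := hU.1.isCompact
    refine ⟨by simpa using hUc.union hSc, ?_⟩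
    have hWc : CompactSpace ((U ⊓ S : X.Opens) : Scheme.{u}) :=
      isCompact_iff_compactSpace.mp (by
        simpa using QuasiSeparatedSpace.inter_isCompact (U : Set X) (S : Set X) U.2 hUc S.2 hSc)
    have hcov : Set.range (X.homOfLE (le_sup_left : U ≤ U ⊔ S)) ∪
        Set.range (X.homOfLE (le_sup_right : S ≤ U ⊔ S)) = Set.univ := by
      refine Set.eq_univ_of_forall fun x => ?_
      rcases x.2 with hx | hx
      · exact Or.inl ⟨⟨x.1, hx⟩, Scheme.homOfLE_apply' _ _ _⟩
      · exact Or.inr ⟨⟨x.1, hx⟩, Scheme.homOfLE_apply' _ _ _⟩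
    refine desc_of_two_charts D c ((U ⊔ S).ι ≫ f) (X.homOfLE le_sup_left) (X.homOfLE le_sup_right)
      hcov (isPullback_opens_inf_le le_sup_left le_sup_right) hc ?_ ?_
    · rw [Scheme.homOfLE_ι_assoc]
      exact desc_of_goodOpen D c hc i₀ f U hU
    · rw [Scheme.homOfLE_ι_assoc]
      exact hS

end Groth.Agent.H24

namespace Groth.Agent.H24

variable {I : Type u} [Category.{u} I] [IsCofiltered I] (D : I ⥤ Scheme.{u}) (c : Cone D)
  [∀ {i j} (f : i ⟶ j), IsAffineHom (D.map f)]

set_option backward.isDefEq.respectTransparency false in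
/-- **Descending morphisms of finite presentation**: if `S = lim S_i` is a cofiltered limit of
quasi-compact quasi-separated schemes with affine transition maps, every morphism `X ⟶ S` of finite
presentation is the base change of a morphism of finite presentation to some `S_i`. -/
theorem exists_descAt (hc : IsLimit c) [∀ i, CompactSpace (D.obj i)]
    [∀ i, QuasiSeparatedSpace (D.obj i)] {X : Scheme.{u}} (f : X ⟶ c.pt)
    [LocallyOfFinitePresentation f] [QuasiCompact f] [QuasiSeparated f] :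
    ∃ j, DescAt D c j f := by
  classical
  have : CompactSpace c.pt := Scheme.compactSpace_of_isLimit D c hc
  let i₀ : I := IsCofiltered.nonempty.some
  have : IsAffineHom (c.π.app i₀) := isAffineHom_π_app D c hc i₀
  have : QuasiSeparatedSpace c.pt := quasiSeparatedSpace_of_quasiSeparated (c.π.app i₀)
  have : CompactSpace X := QuasiCompact.compactSpace_of_compactSpace f
  have : QuasiSeparatedSpace X := quasiSeparatedSpace_of_quasiSeparated f
  have hcover : ∀ x : X, ∃ U : X.Opens, x ∈ U ∧ GoodOpen D c i₀ f U := by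
    intro x
    obtain ⟨_, ⟨V₀, hV₀, rfl⟩, hxV, -⟩ :=
      (D.obj i₀).isBasis_affineOpens.exists_subset_of_mem_open
        (Set.mem_univ ((f ≫ c.π.app i₀) x)) isOpen_univ
    obtain ⟨_, ⟨U, hU, rfl⟩, hxU, hUV⟩ := X.isBasis_affineOpens.exists_subset_of_mem_open
      (show x ∈ ((f ≫ c.π.app i₀) ⁻¹ᵁ V₀ : Set X) from hxV) ((f ≫ c.π.app i₀) ⁻¹ᵁ V₀).2
    exact ⟨U, hxU, hU, V₀, hV₀, hUV⟩
  choose U hxU hU using hcover
  obtain ⟨t, ht⟩ := isCompact_univ.elim_finite_subcover (fun x => (U x : Set X))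
    (fun x => (U x).2) (fun x _ => Set.mem_iUnion.mpr ⟨x, hxU x⟩)
  obtain ⟨-, j, hj⟩ := desc_of_finset_goodOpen D c hc i₀ f (t.image U) (by
    intro V hV
    obtain ⟨x, -, rfl⟩ := Finset.mem_image.mp hV
    exact hU x)
  have htop : (t.image U).sup id = ⊤ := by
    rw [eq_top_iff]
    intro x _
    obtain ⟨y, hy⟩ := Set.mem_iUnion.mp (ht (Set.mem_univ x))
    obtain ⟨hyt, hxy⟩ := Set.mem_iUnion.mp hy
    have hle : U y ≤ (t.image U).sup id :=
      Finset.le_sup (f := id) (Finset.mem_image_of_mem U hyt)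
    exact hle hxy
  rw [htop] at hj
  exact ⟨j, hj.of_iso' X.topIso.symm (by simp)⟩

end Groth.Agent.H24
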