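import Mathlib
import Groth.Agent.H24.LimitClosedImmAffine
import Groth.Agent.H24.LimitTop

/-!
# A closed subscheme of a cofiltered limit, of finite type over a stage, is closed in a stage
(helper24)
-/

set_option autoImplicit false
universe u
open CategoryTheory CategoryTheory.Limits AlgebraicGeometry

namespace Groth.Agent.H24

variable {I : Type u} [Category.{u} I] [IsCofiltered I] (D : I ⥤ Scheme.{u}) (c : Cone D)
  [∀ {i j} (f : i ⟶ j), IsAffineHom (D.map f)]

set_option backward.isDefEq.respectTransparency false in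
/-- Affine case. -/
theorem exists_isClosedImmersion_comp_π_of_isAffine (hc : IsLimit c) (i₀ : I)
    [IsAffine (D.obj i₀)] {Y : Scheme.{u}} (h : Y ⟶ c.pt) [IsClosedImmersion h]
    [LocallyOfFiniteType (h ≫ c.π.app i₀)] :
    ∃ j : Over i₀, IsClosedImmersion (h ≫ c.π.app j.left) := by
  let D' := Over.forget i₀ ⋙ D
  let c' := c.whisker (Over.forget i₀)
  have hc' : IsLimit c' := isLimitOverCone D c hc i₀
  have haff' : ∀ {j k : Over i₀} (f : j ⟶ k), IsAffineHom (D'.map f) := fun f =>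
    isAffineHom_over D i₀ f
  have hA : ∀ j : Over i₀, IsAffine (D'.obj j) := fun j => isAffine_of_isAffineHom (D.map j.hom)
  have hπaff : IsAffineHom (c.π.app i₀) := isAffineHom_π_app D c hc i₀
  have hpt : IsAffine c.pt := isAffine_of_isAffineHom (c.π.app i₀)
  have hY : IsAffine Y := isAffine_of_isAffineHom h
  obtain ⟨n, hn, b, hι⟩ := exists_isClosedImmersion_homOfVector (h ≫ c.π.app i₀)
  have hsurj : Function.Surjective h.appTop :=
    (IsClosedImmersion.isAffine_surjective_of_isAffine h).2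
  choose w hw using fun i : n => hsurj (b i)
  let p₀ : 𝔸(n; D.obj i₀) ⟶ D.obj i₀ := 𝔸(n; D.obj i₀) ↘ D.obj i₀
  let s : c.pt ⟶ 𝔸(n; D.obj i₀) := AffineSpace.homOfVector (c.π.app i₀) w
  have hsp : s ≫ p₀ = c.π.app i₀ := AffineSpace.homOfVector_over _ _
  have key : h ≫ s = AffineSpace.homOfVector (h ≫ c.π.app i₀) b := by
    apply AffineSpace.hom_ext
    · rw [Category.assoc]
      change h ≫ s ≫ p₀ = _
      rw [hsp, AffineSpace.homOfVector_over]
    · intro i
      rw [Scheme.Hom.comp_appTop, CommRingCat.comp_apply, AffineSpace.homOfVector_appTop_coord,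
        AffineSpace.homOfVector_appTop_coord]
      exact hw i
  let t : D' ⟶ (Functor.const (Over i₀)).obj (D.obj i₀) :=
    { app := fun j => D.map j.hom
      naturality := fun j k f => by
        simp only [Functor.const_obj_obj, Functor.const_obj_map, Category.comp_id]
        change D.map f.left ≫ D.map k.hom = D.map j.hom
        rw [← D.map_comp, Over.w f] }
  obtain ⟨j, sj, hs1, hs2⟩ := Scheme.exists_π_app_comp_eq_of_locallyOfFinitePresentation
    D' t p₀ c' hc' s (by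
      ext j : 2
      change c.π.app j.left ≫ D.map j.hom = s ≫ p₀
      rw [hsp, c.w])
  refine ⟨j, ?_⟩
  have hcl : IsClosedImmersion ((h ≫ c.π.app j.left) ≫ sj) := by
    have : c.π.app j.left ≫ sj = s := hs1
    rw [Category.assoc, this, key]
    exact hι
  have hsjaff : IsAffine (D.obj j.left) := hA j
  exact IsClosedImmersion.of_comp (h ≫ c.π.app j.left) sj

end Groth.Agent.H24

namespace Groth.Agent.H24

section Global

variable {I : Type u} [Category.{u} I] [IsCofiltered I] {D : I ⥤ Scheme.{u}} {c : Cone D}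
  [∀ {i j} (f : i ⟶ j), IsAffineHom (D.map f)]

omit [IsCofiltered I] [∀ {i j} (f : i ⟶ j), IsAffineHom (D.map f)] in
theorem stageRes_le (i₀ : I) {Y : Scheme.{u}} (h : Y ⟶ c.pt) (j : Over i₀)
    (U : (D.obj i₀).Opens) :
    h ⁻¹ᵁ (c.π.app i₀ ⁻¹ᵁ U) ≤ (h ≫ c.π.app j.left) ⁻¹ᵁ (D.map j.hom ⁻¹ᵁ U) := by
  rw [Scheme.Hom.comp_preimage, ← Scheme.Hom.comp_preimage (c.π.app j.left), c.w]

/-- The restriction of `h ≫ c.π.app j.left` over `U ⊆ D.obj i₀`. -/
noncomputable def stageRes (i₀ : I) {Y : Scheme.{u}} (h : Y ⟶ c.pt) (j : Over i₀)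
    (U : (D.obj i₀).Opens) :
    (h ⁻¹ᵁ (c.π.app i₀ ⁻¹ᵁ U)).toScheme ⟶ (D.map j.hom ⁻¹ᵁ U).toScheme :=
  (h ≫ c.π.app j.left).resLE (D.map j.hom ⁻¹ᵁ U) (h ⁻¹ᵁ (c.π.app i₀ ⁻¹ᵁ U))
    (stageRes_le i₀ h j U)

set_option backward.isDefEq.respectTransparency false in
omit [IsCofiltered I] [∀ {i j} (f : i ⟶ j), IsAffineHom (D.map f)] in
theorem stageRes_eq (i₀ : I) {Y : Scheme.{u}} (h : Y ⟶ c.pt) (j : Over i₀)
    (U : (D.obj i₀).Opens) :
    stageRes i₀ h j U = (h ∣_ (c.π.app i₀ ⁻¹ᵁ U)) ≫ (opensCone D c i₀ U).π.app j := by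
  unfold stageRes
  rw [← Scheme.Hom.resLE_eq_morphismRestrict]
  exact (Scheme.Hom.resLE_comp_resLE _ _ _ _).symm

set_option backward.isDefEq.respectTransparency false in
omit [IsCofiltered I] [∀ {i j} (f : i ⟶ j), IsAffineHom (D.map f)] in
theorem stageRes_map (i₀ : I) {Y : Scheme.{u}} (h : Y ⟶ c.pt) {k j : Over i₀} (f : k ⟶ j)
    (U : (D.obj i₀).Opens) :
    stageRes i₀ h k U ≫ (opensDiagram D i₀ U).map f = stageRes i₀ h j U := by
  rw [stageRes_eq, stageRes_eq]
  exact (Category.assoc _ _ _).trans (congrArg _ ((opensCone D c i₀ U).w f))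

omit [IsCofiltered I] [∀ {i j} (f : i ⟶ j), IsAffineHom (D.map f)] in
theorem prop_stageRes_iff (P : MorphismProperty Scheme.{u}) (i₀ : I) {Y : Scheme.{u}}
    (h : Y ⟶ c.pt) (j : Over i₀) (U : (D.obj i₀).Opens) :
    P (stageRes i₀ h j U) ↔ P ((h ≫ c.π.app j.left) ∣_ (D.map j.hom ⁻¹ᵁ U)) := by
  rw [← Scheme.Hom.resLE_eq_morphismRestrict]
  exact Scheme.Hom.resLE_congr _ _ rfl (by
    rw [Scheme.Hom.comp_preimage, ← Scheme.Hom.comp_preimage (c.π.app j.left), c.w]) P

end Global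

end Groth.Agent.H24

namespace Groth.Agent.H24

section Global2

variable {I : Type u} [Category.{u} I] [IsCofiltered I] {D : I ⥤ Scheme.{u}} {c : Cone D}
  [∀ {i j} (f : i ⟶ j), IsAffineHom (D.map f)]

set_option backward.isDefEq.respectTransparency false in
/-- **A closed subscheme of the limit which is locally of finite type over a quasi-compact stage is
a closed subscheme of some stage.** -/
theorem exists_isClosedImmersion_comp_π (hc : IsLimit c) (i₀ : I) [CompactSpace (D.obj i₀)]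
    {Y : Scheme.{u}} (h : Y ⟶ c.pt) [IsClosedImmersion h]
    [LocallyOfFiniteType (h ≫ c.π.app i₀)] :
    ∃ j : Over i₀, IsClosedImmersion (h ≫ c.π.app j.left) := by
  classical
  have hloc : ∀ U : (D.obj i₀).Opens, IsAffineOpen U →
      ∃ j : Over i₀, IsClosedImmersion (stageRes i₀ h j U) := by
    intro U hU
    have hA : IsAffine ((opensDiagram D i₀ U).obj (Over.mk (𝟙 i₀))) := hU.preimage (D.map _)
    have hlft : LocallyOfFiniteType ((h ∣_ (c.π.app i₀ ⁻¹ᵁ U)) ≫
        (opensCone D c i₀ U).π.app (Over.mk (𝟙 i₀))) := by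
      rw [← stageRes_eq]
      exact IsZariskiLocalAtSource.resLE (P := @LocallyOfFiniteType)
        (f := h ≫ c.π.app i₀) _ inferInstance
    obtain ⟨j', hj'⟩ := exists_isClosedImmersion_comp_π_of_isAffine (opensDiagram D i₀ U)
      (opensCone D c i₀ U) (isLimitOpensCone D c hc i₀ U) (Over.mk (𝟙 i₀))
      (h ∣_ (c.π.app i₀ ⁻¹ᵁ U))
    refine ⟨j'.left, ?_⟩
    rw [stageRes_eq]
    exact hj'
  obtain ⟨s, hs, hcov⟩ := isCompact_iff_finite_and_eq_biUnion_affineOpens.mp
    (show IsCompact ((⊤ : (D.obj i₀).Opens) : Set (D.obj i₀)) from isCompact_univ)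
  have hsf : Finite s := hs
  choose jk hjk using fun k : s => hloc k.1.1 k.1.2
  have := Fintype.ofFinite s
  obtain ⟨j, T⟩ := IsCofiltered.inf_objs_exists (Finset.univ.image jk)
  refine ⟨j, IsZariskiLocalAtTarget.of_iSup_eq_top (fun k : s => D.map j.hom ⁻¹ᵁ k.1.1) ?_
    fun k => ?_⟩
  · rw [← Scheme.Hom.preimage_iSup, eq_top_iff]
    intro x _
    have hx : (D.map j.hom) x ∈ (⊤ : (D.obj i₀).Opens) := trivial
    rw [hcov] at hx
    simp only [TopologicalSpace.Opens.mem_iSup] at hx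
    obtain ⟨W, hWs, hxW⟩ := hx
    exact TopologicalSpace.Opens.mem_iSup.mpr ⟨⟨W, hWs⟩, hxW⟩
  · rw [← prop_stageRes_iff @IsClosedImmersion i₀ h j k.1.1]
    obtain ⟨f⟩ := T (Finset.mem_image_of_mem _ (Finset.mem_univ k))
    have hmap := stageRes_map i₀ h f k.1.1
    have hcl : IsClosedImmersion
        (stageRes i₀ h j k.1.1 ≫ (opensDiagram D i₀ k.1.1).map f) := by
      rw [hmap]; exact hjk k
    exact IsClosedImmersion.of_comp _ ((opensDiagram D i₀ k.1.1).map f)

end Global2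

end Groth.Agent.H24
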