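import Mathlib
import Groth.Agent.H24.LimitClosedImmBase

/-!
# Eventually immersive structure maps (helper24)
-/

set_option autoImplicit false
universe u
open CategoryTheory CategoryTheory.Limits AlgebraicGeometry

namespace Groth.Agent.H24

/-- A morphism into an open `U'` contained in the coborder of the range of an immersion `τ`,
lifting `τ`, is a closed immersion. -/
theorem isClosedImmersion_of_le_coborderRange {X S : Scheme.{u}} (τ : X ⟶ S) [IsImmersion τ]
    (U' : S.Opens) (hU' : U' ≤ τ.coborderRange) (τ' : X ⟶ (U' : Scheme.{u}))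
    (h : τ' ≫ U'.ι = τ) : IsClosedImmersion τ' := by
  have h1 : IsPreimmersion (τ' ≫ U'.ι) := h ▸ inferInstance
  have h2 : IsPreimmersion τ' := IsPreimmersion.of_comp τ' U'.ι
  refine IsClosedImmersion.of_isPreimmersion _ ?_
  have hr : Set.range τ'.base = U'.ι.base ⁻¹' closure (Set.range τ.base) := by
    ext u
    constructor
    · rintro ⟨x, rfl⟩
      apply subset_closure
      exact ⟨x, by rw [← h]; rfl⟩
    · intro hu
      have hu' : U'.ι.base u ∈ coborder (Set.range τ.base) := hU' u.2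
      have : U'.ι.base u ∈ Set.range τ.base := by
        by_contra hn
        exact hu' ⟨hu, hn⟩
      obtain ⟨x, hx⟩ := this
      refine ⟨x, U'.ι.isOpenEmbedding.injective ?_⟩
      rw [← hx, ← h]
      rfl
  change IsClosed (Set.range τ'.base)
  rw [hr]
  exact isClosed_closure.preimage U'.ι.continuous

set_option backward.isDefEq.respectTransparency false in
theorem eventually_isImmersion_structureMap {I : Type u} [SmallCategory I] [IsCofiltered I]
    (S : Scheme.{u}) [QuasiSeparatedSpace S]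
    (D : I ⥤ Scheme.{u}) (t : D ⟶ (Functor.const I).obj S) (c : Limits.Cone D)
    (hc : Limits.IsLimit c)
    [∀ (i j : I) (a : i ⟶ j), IsClosedImmersion (D.map a)]
    [∀ i, CompactSpace (D.obj i)] [∀ i, QuasiSeparatedSpace (D.obj i)]
    [∀ i, LocallyOfFiniteType (t.app i)] (i₀ : I)
    [IsImmersion (c.π.app i₀ ≫ t.app i₀)] :
    ∃ i₁ : I, ∀ (i : I) (_ : i ⟶ i₁), IsImmersion (t.app i) := by
  classical
  have hDcl : ∀ {i j : I} (a : i ⟶ j), IsClosedImmersion (D.map a) := fun a => inferInstance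
  have hDaff : ∀ {i j : I} (a : i ⟶ j), IsAffineHom (D.map a) := fun a => inferInstance
  let τ : c.pt ⟶ S := c.π.app i₀ ≫ strMap D t i₀
  have hτ : IsImmersion τ := ‹_›
  let U : S.Opens := τ.coborderRange
  have hτU : τ ⁻¹ᵁ U = ⊤ := by
    rw [eq_top_iff]
    intro x _
    exact subset_coborder ⟨x, rfl⟩
  -- Step 1: the structure maps eventually factor through `U`
  obtain ⟨j, a₀, hj⟩ := exists_map_eq_top D c hc (strMap D t i₀ ⁻¹ᵁ U) (by
    rw [← Scheme.Hom.comp_preimage]; exact hτU)
  have htj : strMap D t j ⁻¹ᵁ U = ⊤ := by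
    rw [← strMap_naturality D t a₀, Scheme.Hom.comp_preimage]; exact hj
  -- Step 2: a quasi-compact open `U' ⊆ U` through which `t_j` factors
  have hex : ∀ x : D.obj j, ∃ V : S.Opens, IsAffineOpen V ∧ strMap D t j x ∈ V ∧ V ≤ U := by
    intro x
    have hx : strMap D t j x ∈ U := by
      have : x ∈ strMap D t j ⁻¹ᵁ U := htj ▸ trivial
      exact this
    obtain ⟨_, ⟨V, hV, rfl⟩, hxV, hVU⟩ :=
      S.isBasis_affineOpens.exists_subset_of_mem_open hx U.2
    exact ⟨V, hV, hxV, hVU⟩
  choose V hVaff hxV hVU using hex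
  obtain ⟨K, hK⟩ : ∃ K : Finset (D.obj j),
      (Set.univ : Set (D.obj j)) ⊆ ⋃ x ∈ K, ((strMap D t j ⁻¹ᵁ V x : (D.obj j).Opens) : Set (D.obj j)) := by
    apply isCompact_univ.elim_finite_subcover
      (fun x => ((strMap D t j ⁻¹ᵁ V x : (D.obj j).Opens) : Set (D.obj j)))
      (fun x => (strMap D t j ⁻¹ᵁ V x).2)
    intro x _
    exact Set.mem_iUnion.mpr ⟨x, hxV x⟩
  let U' : S.Opens := ⨆ x : K, V x.1
  have hU'U : U' ≤ U := iSup_le fun x => hVU x.1
  have hU'c : CompactSpace (U' : Scheme.{u}) := by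
    apply isCompact_iff_compactSpace.mp
    have : ((U' : S.Opens) : Set S) = ⋃ x : K, (V x.1 : Set S) := by
      simp [U']
    rw [this]
    exact isCompact_iUnion fun x => (hVaff x.1).isCompact
  have hU'qs : QuasiSeparatedSpace (U' : Scheme.{u}) :=
    QuasiSeparatedSpace.of_isOpenEmbedding U'.ι.isOpenEmbedding
  have hrange : ∀ ψ : Over j, Set.range (strMap D t ψ.left).base ⊆ Set.range U'.ι.base := by
    intro ψ
    rintro _ ⟨x, rfl⟩
    have hx := hK (Set.mem_univ (D.map ψ.hom x))
    simp only [Set.mem_iUnion] at hx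
    obtain ⟨y, hy, hxy⟩ := hx
    rw [Scheme.Opens.range_ι]
    refine TopologicalSpace.Opens.mem_iSup.mpr ⟨⟨y, hy⟩, ?_⟩
    have : strMap D t ψ.left x = strMap D t j (D.map ψ.hom x) := by
      rw [← strMap_naturality D t ψ.hom]; rfl
    rw [this]
    exact hxy
  -- Step 3: the system over `j`, with structure maps to `U'`
  let D' : Over j ⥤ Scheme.{u} := Over.forget j ⋙ D
  let c' : Cone D' := c.whisker (Over.forget j)
  have hc' : IsLimit c' := isLimitOverCone D c hc j
  let t' : D' ⟶ (Functor.const (Over j)).obj (U' : Scheme.{u}) :=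
    { app := fun ψ => IsOpenImmersion.lift U'.ι (strMap D t ψ.left) (hrange ψ)
      naturality := fun ψ ψ' f => by
        rw [← cancel_mono U'.ι]
        simp only [Functor.const_obj_obj, Functor.const_obj_map, Category.comp_id, Category.assoc,
          IsOpenImmersion.lift_fac]
        exact strMap_naturality D t f.left }
  have ht'ι : ∀ ψ : Over j, strMap D' t' ψ ≫ U'.ι = strMap D t ψ.left := fun ψ =>
    IsOpenImmersion.lift_fac _ _ _
  have h1 : ∀ {ψ ψ' : Over j} (f : ψ ⟶ ψ'), IsClosedImmersion (D'.map f) := fun f =>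
    hDcl f.left
  have h2 : ∀ ψ : Over j, CompactSpace (D'.obj ψ) := fun ψ =>
    inferInstanceAs (CompactSpace (D.obj ψ.left))
  have h3 : ∀ ψ : Over j, QuasiSeparatedSpace (D'.obj ψ) := fun ψ =>
    inferInstanceAs (QuasiSeparatedSpace (D.obj ψ.left))
  have h4 : ∀ ψ : Over j, LocallyOfFiniteType (strMap D' t' ψ) := fun ψ => by
    have : LocallyOfFiniteType (strMap D' t' ψ ≫ U'.ι) := by
      rw [ht'ι]; exact inferInstanceAs (LocallyOfFiniteType (t.app ψ.left))
    exact locallyOfFiniteType_of_comp _ U'.ι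
  let ψ₀ : Over j := Over.mk (𝟙 j)
  have h5 : IsClosedImmersion (c'.π.app ψ₀ ≫ strMap D' t' ψ₀) := by
    apply isClosedImmersion_of_le_coborderRange τ U' hU'U
    rw [Category.assoc, ht'ι]
    exact π_comp_t_eq' D t c j i₀
  obtain ⟨ψ, hψ⟩ := exists_isClosedImmersion_app D' t' c' hc' ψ₀
  refine ⟨ψ.left, fun i a => ?_⟩
  have : t.app i = D.map a ≫ strMap D' t' ψ ≫ U'.ι := by
    rw [ht'ι]; exact (strMap_naturality D t a).symm
  rw [this]
  infer_instance

end Groth.Agent.H24
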