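import Mathlib
import Groth.Agent.H24.LimitClosedImmBase

/-!
# `X = lim Xᵢ` with finite transition maps, `Xᵢ` of finite type over `S`, `X ⟶ S` integral
⇒ some `Xᵢ ⟶ S` is finite (helper24)
-/

set_option autoImplicit false
universe u
open CategoryTheory CategoryTheory.Limits AlgebraicGeometry

namespace Groth.Agent.H24

/-- If `A` is generated over `R` by elements whose images in `B` are integral over `R`, and `B` is
integral over `A`, then `B` is integral over `R`. -/
theorem algebra_isIntegral_of_adjoin {R A B : Type*} [CommRing R] [CommRing A] [CommRing B]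
    [Algebra R A] [Algebra A B] [Algebra R B] [IsScalarTower R A B] (s : Set A)
    (hs : Algebra.adjoin R s = ⊤) (hint : ∀ x ∈ s, IsIntegral R (algebraMap A B x))
    [Algebra.IsIntegral A B] : Algebra.IsIntegral R B := by
  have himg : ∀ a : A, IsIntegral R (algebraMap A B a) := by
    intro a
    have ha : a ∈ Algebra.adjoin R s := by rw [hs]; trivial
    induction ha using Algebra.adjoin_induction with
    | mem x hx => exact hint x hx
    | algebraMap r =>
      rw [← IsScalarTower.algebraMap_apply]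
      exact isIntegral_algebraMap
    | add x y _ _ hx hy => rw [map_add]; exact hx.add hy
    | mul x y _ _ hx hy => rw [map_mul]; exact hx.mul hy
  let A' : Subalgebra R B := (IsScalarTower.toAlgHom R A B).range
  have h1 : Algebra.IsIntegral R A' := by
    refine ⟨fun x => ?_⟩
    rw [← isIntegral_algHom_iff A'.val Subtype.val_injective]
    obtain ⟨a, ha⟩ := x.2
    have : A'.val x = algebraMap A B a := ha.symm
    rw [this]
    exact himg a
  refine ⟨fun b => ?_⟩
  have hb : IsIntegral A b := Algebra.IsIntegral.isIntegral b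
  obtain ⟨p, hp, hpb⟩ := hb
  have hb' : IsIntegral A' b := by
    refine ⟨p.map (IsScalarTower.toAlgHom R A B).rangeRestrict.toRingHom, hp.map _, ?_⟩
    rw [Polynomial.eval₂_map]
    exact hpb
  exact isIntegral_trans (R := R) (A := A') b hb'

end Groth.Agent.H24

namespace Groth.Agent.H24

theorem ringHom_isIntegral_comp_of_adjoin {R A B : Type*} [CommRing R] [CommRing A] [CommRing B]
    (φ : R →+* A) (ρ : A →+* B) (s : Set A)
    (hs : @Algebra.adjoin R A _ _ φ.toAlgebra s = ⊤)
    (hint : ∀ x ∈ s, (ρ.comp φ).IsIntegralElem (ρ x)) (hρ : ρ.IsIntegral) :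
    (ρ.comp φ).IsIntegral := by
  letI := φ.toAlgebra
  letI := ρ.toAlgebra
  letI := (ρ.comp φ).toAlgebra
  haveI : IsScalarTower R A B := IsScalarTower.of_algebraMap_eq fun _ => rfl
  haveI : Algebra.IsIntegral A B := ⟨hρ⟩
  have := algebra_isIntegral_of_adjoin (R := R) (A := A) (B := B) s hs hint
  exact this.isIntegral

section Affine

variable {I : Type u} [Category.{u} I] [IsCofiltered I] {S : Scheme.{u}}
  (D : I ⥤ Scheme.{u}) (t : D ⟶ (Functor.const I).obj S) (c : Cone D)

set_option backward.isDefEq.respectTransparency false in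
/-- Affine base. -/
theorem exists_isFinite_app_of_isAffine (hc : IsLimit c) [IsAffine S]
    [∀ {i j : I} (f : i ⟶ j), IsFinite (D.map f)]
    [∀ i, CompactSpace (D.obj i)] [∀ i, QuasiSeparatedSpace (D.obj i)]
    [∀ i, LocallyOfFiniteType (strMap D t i)] (i₀ : I)
    [IsIntegralHom (c.π.app i₀ ≫ strMap D t i₀)] :
    ∃ i : I, IsFinite (strMap D t i) := by
  classical
  have haff : ∀ {i j : I} (f : i ⟶ j), IsAffineHom (D.map f) := fun f => inferInstance
  have hpt : IsAffine c.pt := isAffine_of_isAffineHom (c.π.app i₀ ≫ strMap D t i₀)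
  obtain ⟨i₁, hi₁⟩ := Scheme.exists_isAffine_of_isLimit D c hc
  have hft : RingHom.FiniteType (strMap D t i₁).appTop.hom :=
    (HasRingHomProperty.iff_of_isAffine (P := @LocallyOfFiniteType)).mp inferInstance
  obtain ⟨s, hs⟩ : ∃ s : Finset Γ(D.obj i₁, ⊤),
      @Algebra.adjoin Γ(S, ⊤) Γ(D.obj i₁, ⊤) _ _ (strMap D t i₁).appTop.hom.toAlgebra
        (s : Set Γ(D.obj i₁, ⊤)) = ⊤ := hft.out
  have hq : IsIntegralHom (c.π.app i₁ ≫ strMap D t i₁) := by
    have : c.π.app i₁ ≫ strMap D t i₁ = c.π.app i₀ ≫ strMap D t i₀ := π_comp_t_eq' D t c i₁ i₀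
    rw [this]; infer_instance
  have hqint : (c.π.app i₁ ≫ strMap D t i₁).appTop.hom.IsIntegral :=
    ((HasAffineProperty.iff_of_isAffine (P := @IsIntegralHom)).mp hq).2
  -- for every generator, a monic polynomial killing it at some stage
  have hgen : ∀ x : s, ∃ (P : Polynomial Γ(S, ⊤)) (_ : P.Monic) (j : I) (f : j ⟶ i₁),
      (D.map f).appTop (Polynomial.eval₂ (strMap D t i₁).appTop.hom x.1 P) = 0 := by
    intro x
    obtain ⟨P, hPm, hP⟩ := hqint ((c.π.app i₁).appTop x.1)
    have h0 : (c.π.app i₁).appTop (Polynomial.eval₂ (strMap D t i₁).appTop.hom x.1 P) = 0 := by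
      have := Polynomial.hom_eval₂ P (strMap D t i₁).appTop.hom (c.π.app i₁).appTop.hom x.1
      rw [← hP]
      refine this.trans ?_
      congr 1
    obtain ⟨j, f, hj⟩ := exists_appTop_map_eq_zero_of_isLimit D c hc _ h0
    exact ⟨P, hPm, j, f, hj⟩
  choose P hPm jx fx hx using hgen
  have := Fintype.ofFinite s
  obtain ⟨j, T⟩ := IsCofiltered.inf_objs_exists
    (Finset.univ.image fun x : s => (Over.mk (fx x) : Over i₁))
  refine ⟨j.left, ?_⟩
  have hAj : IsAffine (D.obj j.left) := isAffine_of_isAffineHom (D.map j.hom)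
  have hnat : strMap D t j.left = D.map j.hom ≫ strMap D t i₁ :=
    (strMap_naturality D t j.hom).symm
  have hρ : (D.map j.hom).appTop.hom.IsIntegral :=
    ((HasAffineProperty.iff_of_isAffine (P := @IsFinite)).mp
      (inferInstance : IsFinite (D.map j.hom))).2.to_isIntegral
  have hint : ((D.map j.hom).appTop.hom.comp (strMap D t i₁).appTop.hom).IsIntegral := by
    refine ringHom_isIntegral_comp_of_adjoin _ _ (s : Set Γ(D.obj i₁, ⊤)) hs ?_ hρ
    intro x hxs
    obtain ⟨g⟩ := T (Finset.mem_image_of_mem _ (Finset.mem_univ (⟨x, hxs⟩ : s)))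
    refine ⟨P ⟨x, hxs⟩, hPm _, ?_⟩
    rw [← Polynomial.hom_eval₂]
    have hw : j.hom = g.left ≫ fx ⟨x, hxs⟩ := (Over.w g).symm
    have h1 : (D.map j.hom).appTop = (D.map (fx ⟨x, hxs⟩)).appTop ≫ (D.map g.left).appTop := by
      rw [hw, D.map_comp, Scheme.Hom.comp_appTop]
    rw [h1]
    change (D.map g.left).appTop ((D.map (fx ⟨x, hxs⟩)).appTop _) = 0
    rw [hx ⟨x, hxs⟩, map_zero]
  have hintj : IsIntegralHom (strMap D t j.left) := by
    rw [HasAffineProperty.iff_of_isAffine (P := @IsIntegralHom)]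
    refine ⟨hAj, ?_⟩
    rw [hnat]
    change ((D.map j.hom ≫ strMap D t i₁).appTop).hom.IsIntegral
    rw [Scheme.Hom.comp_appTop]
    exact hint
  exact (IsFinite.iff_isIntegralHom_and_locallyOfFiniteType _).mpr ⟨hintj, inferInstance⟩

end Affine

end Groth.Agent.H24

namespace Groth.Agent.H24

section Global

variable {I : Type u} [Category.{u} I] [IsCofiltered I] {S : Scheme.{u}}
  (D : I ⥤ Scheme.{u}) (t : D ⟶ (Functor.const I).obj S) (c : Cone D)

theorem isFinite_restrict_comp {X Y Z : Scheme.{u}} (a : X ⟶ Y) (b : Y ⟶ Z) (g : X ⟶ Z)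
    (hg : a ≫ b = g) (U : Z.Opens) [IsFinite a] (hb : IsFinite (b ∣_ U)) :
    IsFinite (g ∣_ U) := by
  subst hg
  rw [morphismRestrict_comp]
  have h1 : IsFinite (a ∣_ b ⁻¹ᵁ U) := inferInstance
  exact MorphismProperty.comp_mem _ _ _ h1 hb

set_option backward.isDefEq.respectTransparency false in
/-- **Finite at a stage**: `X = lim Xᵢ` with finite transition maps, all `Xᵢ` qcqs and locally of
finite type over the qcqs scheme `S`; if `X ⟶ S` is integral, then `Xᵢ ⟶ S` is finite for some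
`i`. -/
theorem exists_isFinite_app (hc : IsLimit c) [CompactSpace S] [QuasiSeparatedSpace S]
    [∀ {i j : I} (f : i ⟶ j), IsFinite (D.map f)]
    [∀ i, CompactSpace (D.obj i)] [∀ i, QuasiSeparatedSpace (D.obj i)]
    [∀ i, LocallyOfFiniteType (strMap D t i)] (i₀ : I)
    [IsIntegralHom (c.π.app i₀ ≫ strMap D t i₀)] :
    ∃ i : I, IsFinite (strMap D t i) := by
  classical
  have haff : ∀ {i j : I} (f : i ⟶ j), IsAffineHom (D.map f) := fun f => inferInstance
  have hloc : ∀ U : S.Opens, IsAffineOpen U →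
      ∃ j : Over i₀, IsFinite (strMap D t j.left ∣_ U) := by
    intro U hU
    have hA : IsAffine (U : Scheme.{u}) := hU
    have h1 : ∀ {j k : Over i₀} (f : j ⟶ k),
        IsFinite ((opensDiagram D i₀ (strMap D t i₀ ⁻¹ᵁ U)).map f) := by
      intro j k f
      have e : D.map j.hom ⁻¹ᵁ (strMap D t i₀ ⁻¹ᵁ U) =
          D.map f.left ⁻¹ᵁ (D.map k.hom ⁻¹ᵁ (strMap D t i₀ ⁻¹ᵁ U)) := by
        rw [← Scheme.Hom.comp_preimage (D.map f.left) (D.map k.hom), ← D.map_comp, Over.w f]
      change IsFinite ((D.map f.left).resLE _ _ _)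
      rw [Scheme.Hom.resLE_congr _ _ rfl e @IsFinite,
        Scheme.Hom.resLE_eq_morphismRestrict]
      infer_instance
    have h2 : ∀ j : Over i₀,
        CompactSpace ((opensDiagram D i₀ (strMap D t i₀ ⁻¹ᵁ U)).obj j) := by
      intro j
      have : IsCompact ((D.map j.hom ⁻¹ᵁ (strMap D t i₀ ⁻¹ᵁ U) : (D.obj j.left).Opens) :
          Set (D.obj j.left)) := by
        rw [preimage_strMap]
        exact (strMap D t j.left).isCompact_preimage hU.isCompact
      exact isCompact_iff_compactSpace.mp this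
    have h3 : ∀ j : Over i₀,
        QuasiSeparatedSpace ((opensDiagram D i₀ (strMap D t i₀ ⁻¹ᵁ U)).obj j) := fun j =>
      (D.map j.hom ⁻¹ᵁ (strMap D t i₀ ⁻¹ᵁ U)).ι.isOpenEmbedding.quasiSeparatedSpace
    have h4 : ∀ j : Over i₀, LocallyOfFiniteType ((resStr D t i₀ U).app j) := fun j =>
      IsZariskiLocalAtSource.resLE (P := @LocallyOfFiniteType) _ inferInstance
    have h5 : IsIntegralHom ((opensCone D c i₀ (strMap D t i₀ ⁻¹ᵁ U)).π.app (Over.mk (𝟙 i₀)) ≫
        (resStr D t i₀ U).app (Over.mk (𝟙 i₀))) := by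
      have h6 : (opensCone D c i₀ (strMap D t i₀ ⁻¹ᵁ U)).π.app (Over.mk (𝟙 i₀)) ≫
          (resStr D t i₀ U).app (Over.mk (𝟙 i₀)) =
          (c.π.app i₀ ≫ strMap D t i₀).resLE U (c.π.app i₀ ⁻¹ᵁ (strMap D t i₀ ⁻¹ᵁ U))
            (by rw [Scheme.Hom.comp_preimage]) :=
        Scheme.Hom.resLE_comp_resLE _ _ _ _
      rw [h6, Scheme.Hom.resLE_congr _ _ rfl
        (Scheme.Hom.comp_preimage (c.π.app i₀) (strMap D t i₀) U).symm @IsIntegralHom,
        Scheme.Hom.resLE_eq_morphismRestrict]
      infer_instance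
    obtain ⟨j, hj⟩ := exists_isFinite_app_of_isAffine
      (opensDiagram D i₀ (strMap D t i₀ ⁻¹ᵁ U)) (resStr D t i₀ U)
      (opensCone D c i₀ (strMap D t i₀ ⁻¹ᵁ U)) (isLimitOpensCone D c hc i₀ _) (Over.mk (𝟙 i₀))
    refine ⟨j, ?_⟩
    rw [← Scheme.Hom.resLE_eq_morphismRestrict,
      ← Scheme.Hom.resLE_congr _ (le_of_eq (preimage_strMap D t i₀ U j)) rfl
        (preimage_strMap D t i₀ U j) @IsFinite]
    exact hj
  have hmono : ∀ (U : S.Opens) {k j : Over i₀} (f : k ⟶ j),
      IsFinite (strMap D t j.left ∣_ U) → IsFinite (strMap D t k.left ∣_ U) := by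
    intro U k j f hj
    exact isFinite_restrict_comp (D.map f.left) (strMap D t j.left) (strMap D t k.left)
      (strMap_naturality D t f.left) U hj
  obtain ⟨s, hs, hcov⟩ := isCompact_iff_finite_and_eq_biUnion_affineOpens.mp
    (show IsCompact ((⊤ : S.Opens) : Set S) from isCompact_univ)
  have hsf : Finite s := hs
  choose jk hjk using fun k : s => hloc k.1.1 k.1.2
  have := Fintype.ofFinite s
  obtain ⟨j, T⟩ := IsCofiltered.inf_objs_exists (Finset.univ.image jk)
  refine ⟨j.left, IsZariskiLocalAtTarget.of_iSup_eq_top (fun k : s => k.1.1) ?_ fun k => ?_⟩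
  · rw [eq_top_iff]
    intro x _
    have hx : x ∈ (⊤ : S.Opens) := trivial
    rw [hcov] at hx
    simp only [TopologicalSpace.Opens.mem_iSup] at hx
    obtain ⟨W, hWs, hxW⟩ := hx
    exact TopologicalSpace.Opens.mem_iSup.mpr ⟨⟨W, hWs⟩, hxW⟩
  · obtain ⟨f⟩ := T (Finset.mem_image_of_mem _ (Finset.mem_univ k))
    exact hmono k.1.1 f (hjk k)

end Global

end Groth.Agent.H24
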