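import Mathlib

/-!
# The cone functor of a diagram of schemes is a Zariski sheaf (helper24)
-/

set_option autoImplicit false
universe u
open CategoryTheory CategoryTheory.Limits AlgebraicGeometry Opposite

namespace Groth.Agent.H24

variable {J : Type u} [Category.{u} J] (E : J ⥤ Scheme.{u})

theorem cones_map_app {T T' : Scheme.{u}} (g : T' ⟶ T) (s : E.cones.obj (op T)) (j : J) :
    (E.cones.map g.op s).app j = g ≫ s.app j := rfl

set_option backward.isDefEq.respectTransparency false in
theorem isSheaf_cones : Presieve.IsSheaf Scheme.zariskiTopology E.cones := by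
  rw [Precoverage.isSheaf_toGrothendieck_iff_of_isStableUnderBaseChange]
  rintro Y S hS x hx
  obtain ⟨(𝓤 : Scheme.OpenCover Y), rfl⟩ := Scheme.exists_cover_of_mem_pretopology hS
  have hcompat : ∀ (j : J) (k k' : 𝓤.I₀),
      pullback.fst (𝓤.f k) (𝓤.f k') ≫ (x (𝓤.f k) (.mk k)).app j =
        pullback.snd (𝓤.f k) (𝓤.f k') ≫ (x (𝓤.f k') (.mk k')).app j := by
    intro j k k'
    have := hx (pullback.fst (𝓤.f k) (𝓤.f k')) (pullback.snd (𝓤.f k) (𝓤.f k'))
      (Presieve.ofArrows.mk k) (Presieve.ofArrows.mk k') pullback.condition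
    exact congrArg (fun s => s.app j) this
  let t : E.cones.obj (op Y) :=
    { app := fun j => 𝓤.glueMorphisms (fun k => (x (𝓤.f k) (.mk k)).app j) (hcompat j)
      naturality := fun j j' a => by
        apply 𝓤.hom_ext
        intro k
        have := (x (𝓤.f k) (.mk k)).naturality a
        erw [Category.id_comp] at this ⊢
        rw [𝓤.ι_glueMorphisms, 𝓤.ι_glueMorphisms_assoc]
        exact this }
  refine ⟨t, ?_, ?_⟩
  · rintro Z e ⟨k⟩
    refine NatTrans.ext (funext fun j => ?_)
    rw [cones_map_app]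
    exact 𝓤.ι_glueMorphisms _ _ k
  · intro t' ht'
    refine NatTrans.ext (funext fun j => ?_)
    apply 𝓤.hom_ext
    intro k
    have h1 := congrArg (fun s => s.app j) (ht' (𝓤.f k) (.mk k))
    rw [cones_map_app] at h1
    rw [h1]
    exact (𝓤.ι_glueMorphisms (fun k => (x (𝓤.f k) (.mk k)).app j) (hcompat j) k).symm

/-- The cone functor as a Zariski sheaf. -/
noncomputable def conesSheaf : Sheaf Scheme.zariskiTopology (Type u) :=
  ⟨E.cones, (isSheaf_iff_isSheaf_of_type _ _).mpr (isSheaf_cones E)⟩

end Groth.Agent.H24
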