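import Mathlib
import Groth.Agent.H24.LimitBaseChange
import Groth.Agent.H24.LimitExists1

/-!
# Local representability of the cone functor (helper24)

For `D : I ⥤ Scheme`, `i₀ : I`, `ψ : S' ⟶ D.obj i₀` and a limit cone `cU` of the base-changed
diagram `pullbackDiagram D i₀ ψ`, the induced map `yoneda cU.pt ⟶ (Over.forget i₀ ⋙ D).cones`
is a base change of `ψ`: for every cone `s` with apex `T` the fibre product is represented by
`T ×_{D i₀} S'`.
-/

set_option autoImplicit false
universe u
open CategoryTheory CategoryTheory.Limits AlgebraicGeometry Opposite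

namespace Groth.Agent.H24

variable {I : Type u} [Category.{u} I] (D : I ⥤ Scheme.{u}) (i₀ : I)
  {S' : Scheme.{u}} (ψ : S' ⟶ D.obj i₀) (cU : Cone (pullbackDiagram D i₀ ψ))

/-- The cone over `Over.forget i₀ ⋙ D` with apex `cU.pt`. -/
noncomputable def locCone : (Over.forget i₀ ⋙ D).cones.obj (op cU.pt) :=
  cU.π ≫ pullbackDiagramι D i₀ ψ

theorem locCone_app (φ : Over i₀) :
    (locCone D i₀ ψ cU).app φ = cU.π.app φ ≫ pullback.fst (D.map φ.hom) ψ := rfl

/-- The map of presheaves `yoneda cU.pt ⟶ cones`. -/
noncomputable def locMap : yoneda.obj cU.pt ⟶ (Over.forget i₀ ⋙ D).cones :=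
  yonedaEquiv.symm (locCone D i₀ ψ cU)

theorem locMap_app {W : Scheme.{u}} (l : W ⟶ cU.pt) (φ : Over i₀) :
    ((locMap D i₀ ψ cU).app (op W) l).app φ =
      l ≫ cU.π.app φ ≫ pullback.fst (D.map φ.hom) ψ := rfl

section Stage

/-- The terminal object of `Over i₀`. -/
abbrev ovTop : Over i₀ := Over.mk (𝟙 i₀)

/-- The canonical map to the terminal object. -/
abbrev toOvTop (φ : Over i₀) : φ ⟶ ovTop i₀ := Over.homMk φ.hom (by simp)

variable {D i₀}
variable {T : Scheme.{u}} (s : (Over.forget i₀ ⋙ D).cones.obj (op T))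

theorem cone_app_comp_map (φ : Over i₀) :
    s.app φ ≫ D.map φ.hom = s.app (ovTop i₀) := by
  have := s.naturality (toOvTop i₀ φ)
  erw [Category.id_comp] at this
  exact this.symm

theorem cone_app_comp_map' {φ φ' : Over i₀} (f : φ ⟶ φ') :
    s.app φ ≫ D.map f.left = s.app φ' := by
  have := s.naturality f
  erw [Category.id_comp] at this
  exact this.symm

set_option backward.isDefEq.respectTransparency false in
/-- The cone over the base-changed diagram with apex `T ×_{D i₀} S'`. -/
noncomputable def stageCone : Cone (pullbackDiagram D i₀ ψ) where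
  pt := pullback (s.app (ovTop i₀)) ψ
  π :=
    { app := fun φ => pullback.lift (pullback.fst (s.app (ovTop i₀)) ψ ≫ s.app φ)
        (pullback.snd (s.app (ovTop i₀)) ψ) (by
          rw [Category.assoc, cone_app_comp_map, pullback.condition])
      naturality := fun φ φ' f => by
        apply pullback.hom_ext
        · simp [pullbackDiagram_map_fst, cone_app_comp_map']
        · simp [pullbackDiagram_map_snd] }

end Stage

section Stage2

variable {D i₀}
variable {T : Scheme.{u}} (s : (Over.forget i₀ ⋙ D).cones.obj (op T))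
variable {cU} (hcU : IsLimit cU)

/-- The map `T ×_{D i₀} S' ⟶ cU.pt`. -/
noncomputable def stageLift : pullback (s.app (ovTop i₀)) ψ ⟶ cU.pt :=
  hcU.lift (stageCone ψ s)

set_option backward.isDefEq.respectTransparency false in
@[reassoc]
theorem stageLift_π_fst (φ : Over i₀) :
    stageLift ψ s hcU ≫ cU.π.app φ ≫ pullback.fst (D.map φ.hom) ψ =
      pullback.fst (s.app (ovTop i₀)) ψ ≫ s.app φ := by
  rw [stageLift, IsLimit.fac_assoc]
  simp [stageCone]

set_option backward.isDefEq.respectTransparency false in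
@[reassoc]
theorem stageLift_π_snd (φ : Over i₀) :
    stageLift ψ s hcU ≫ cU.π.app φ ≫ pullback.snd (D.map φ.hom) ψ =
      pullback.snd (s.app (ovTop i₀)) ψ := by
  rw [stageLift, IsLimit.fac_assoc]
  simp [stageCone]

set_option backward.isDefEq.respectTransparency false in
@[reassoc]
theorem cone_π_snd (φ : Over i₀) :
    cU.π.app φ ≫ pullback.snd (D.map φ.hom) ψ =
      cU.π.app (ovTop i₀) ≫ pullback.snd (D.map (ovTop i₀).hom) ψ := by
  rw [← cU.w (toOvTop i₀ φ), Category.assoc, pullbackDiagram_map_snd]

set_option backward.isDefEq.respectTransparency false in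
theorem fst_ovTop :
    pullback.fst (D.map (ovTop i₀).hom) ψ = pullback.snd (D.map (ovTop i₀).hom) ψ ≫ ψ := by
  have := pullback.condition (f := D.map (ovTop i₀).hom) (g := ψ)
  simp only [Over.mk_hom, CategoryTheory.Functor.map_id, Category.comp_id] at this
  simpa using this

set_option backward.isDefEq.respectTransparency false in
/-- The fibre product of `yoneda cU.pt ⟶ cones` with a cone `s` is `T ×_{D i₀} S'`. -/
theorem isPullback_stageLift :
    IsPullback (yoneda.map (stageLift ψ s hcU)) (yoneda.map (pullback.fst (s.app (ovTop i₀)) ψ))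
      (locMap D i₀ ψ cU) (yonedaEquiv.symm s) := by
  refine IsPullback.of_forall_isPullback_app fun W => ?_
  rw [Types.isPullback_iff]
  refine ⟨?_, ?_, ?_⟩
  · ext k
    refine NatTrans.ext (funext fun φ => ?_)
    change (k ≫ stageLift ψ s hcU) ≫ cU.π.app φ ≫ pullback.fst (D.map φ.hom) ψ =
      (k ≫ pullback.fst (s.app (ovTop i₀)) ψ) ≫ s.app φ
    rw [Category.assoc, Category.assoc, stageLift_π_fst]
  · rintro k k' ⟨h1, h2⟩
    change k ≫ stageLift ψ s hcU = k' ≫ stageLift ψ s hcU at h1
    change k ≫ pullback.fst (s.app (ovTop i₀)) ψ = k' ≫ pullback.fst (s.app (ovTop i₀)) ψ at h2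
    apply pullback.hom_ext h2
    have := congrArg (fun m => m ≫ cU.π.app (ovTop i₀) ≫ pullback.snd (D.map (ovTop i₀).hom) ψ) h1
    simp only [Category.assoc, stageLift_π_snd] at this
    exact this
  · intro l h hlh
    have hlh' : ∀ φ : Over i₀, l ≫ cU.π.app φ ≫ pullback.fst (D.map φ.hom) ψ = h ≫ s.app φ :=
      fun φ => congrArg (fun (m : (Over.forget i₀ ⋙ D).cones.obj W) => m.app φ) hlh
    refine ⟨pullback.lift h (l ≫ cU.π.app (ovTop i₀) ≫ pullback.snd (D.map (ovTop i₀).hom) ψ) ?_,
      ?_, ?_⟩
    · rw [← hlh', fst_ovTop]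
      simp
    · change pullback.lift _ _ _ ≫ stageLift ψ s hcU = l
      apply hcU.hom_ext
      intro φ
      apply pullback.hom_ext
      · rw [Category.assoc, Category.assoc, stageLift_π_fst, pullback.lift_fst_assoc,
          Category.assoc, hlh']
      · rw [Category.assoc, Category.assoc, stageLift_π_snd, pullback.lift_snd,
          Category.assoc, cone_π_snd ψ φ]
    · change pullback.lift _ _ _ ≫ pullback.fst (s.app (ovTop i₀)) ψ = h
      rw [pullback.lift_fst]

end Stage2

section Rep

variable {D i₀}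
variable {cU} (hcU : IsLimit cU)

include hcU in
/-- `yoneda cU.pt ⟶ cones` is a relatively representable open immersion. -/
theorem locMap_isOpenImmersion [IsOpenImmersion ψ] :
    IsOpenImmersion.presheaf (locMap D i₀ ψ cU) := by
  refine MorphismProperty.relative.of_exists fun T g => ?_
  have hoi : ∀ {X : Scheme.{u}} (a : X ⟶ D.obj i₀), IsOpenImmersion (pullback.fst a ψ) :=
    fun a => inferInstance
  refine ⟨pullback ((yonedaEquiv g).app (ovTop i₀)) ψ, yoneda.map (stageLift ψ (yonedaEquiv g) hcU),
    pullback.fst ((yonedaEquiv g).app (ovTop i₀)) ψ, ?_, hoi _⟩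
  have := isPullback_stageLift ψ (yonedaEquiv g) hcU
  rwa [Equiv.symm_apply_apply] at this

end Rep

end Groth.Agent.H24
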