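import Mathlib
import Groth.Agent.H24.LimitExists2

/-!
# Existence of limits of diagrams of schemes with affine transition maps (helper24)
-/

set_option autoImplicit false
universe u
open CategoryTheory CategoryTheory.Limits AlgebraicGeometry Opposite

namespace Groth.Agent.H24

theorem hasLimit_of_isAffine {J : Type u} [Category.{u} J] (F : J ⥤ Scheme.{u})
    [∀ j, IsAffine (F.obj j)] : HasLimit F := by
  let α : F ⟶ (F ⋙ Scheme.Γ.rightOp) ⋙ Scheme.Spec := F.whiskerLeft ΓSpec.adjunction.unit
  have (i : _) : IsIso (α.app i) := IsAffine.affine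
  have : IsIso α := NatIso.isIso_of_isIso_app α
  exact hasLimit_of_iso (asIso α).symm

variable {I : Type u} [Category.{u} I] (D : I ⥤ Scheme.{u}) (i₀ : I)
  [∀ (i j : I) (f : i ⟶ j), IsAffineHom (D.map f)]

set_option backward.isDefEq.respectTransparency false in
theorem isRepresentable_cones : (Over.forget i₀ ⋙ D).cones.IsRepresentable := by
  let 𝒰 := (D.obj i₀).affineCover
  have haff : ∀ k (φ : Over i₀), IsAffine ((pullbackDiagram D i₀ (𝒰.f k)).obj φ) := fun k φ => by
    have h1 : IsAffineHom (D.map φ.hom) := inferInstance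
    have h2 : IsAffineHom (pullback.snd (D.map φ.hom) (𝒰.f k)) :=
      MorphismProperty.pullback_snd _ _ h1
    have h3 : IsAffine (𝒰.X k) := inferInstance
    exact isAffine_of_isAffineHom (pullback.snd (D.map φ.hom) (𝒰.f k))
  have hlim : ∀ k, HasLimit (pullbackDiagram D i₀ (𝒰.f k)) := fun k => hasLimit_of_isAffine _
  let f : (k : 𝒰.I₀) → yoneda.obj (limit (pullbackDiagram D i₀ (𝒰.f k))) ⟶
      (conesSheaf (Over.forget i₀ ⋙ D)).1 :=
    fun k => locMap D i₀ (𝒰.f k) (limit.cone _)
  have hf : ∀ k, IsOpenImmersion.presheaf (f k) :=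
    fun k => locMap_isOpenImmersion (𝒰.f k) (limit.isLimit _)
  have : Presheaf.IsLocallySurjective Scheme.zariskiTopology (Sigma.desc f) := by
    constructor
    intro T s
    rw [Scheme.mem_grothendieckTopology_iff]
    refine ⟨𝒰.pullback₁ (s.app (ovTop i₀)), ?_⟩
    rintro Z e ⟨k⟩
    let x : (yoneda.obj (limit (pullbackDiagram D i₀ (𝒰.f k)))).obj
        (op (pullback (s.app (ovTop i₀)) (𝒰.f k))) :=
      stageLift (𝒰.f k) s (limit.isLimit _)
    refine ⟨(Sigma.ι (fun k => yoneda.obj (limit (pullbackDiagram D i₀ (𝒰.f k)))) k).app _ x, ?_⟩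
    have h1 : (Sigma.desc f).app (op (pullback (s.app (ovTop i₀)) (𝒰.f k)))
        ((Sigma.ι (fun k => yoneda.obj (limit (pullbackDiagram D i₀ (𝒰.f k)))) k).app _ x) =
        (f k).app _ x := by
      rw [← Sigma.ι_desc f k]
      rfl
    refine h1.trans ?_
    refine NatTrans.ext (funext fun φ => ?_)
    exact stageLift_π_fst (𝒰.f k) s (limit.isLimit _) φ
  exact Scheme.LocalRepresentability.isRepresentable (F := conesSheaf _) hf

/-- A cofiltered diagram of schemes with affine transition maps has a limit. -/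
theorem hasLimit_of_isAffineHom_transitions {I : Type u} [SmallCategory I] [IsCofiltered I]
    (D : I ⥤ Scheme.{u}) [∀ (i j : I) (f : i ⟶ j), IsAffineHom (D.map f)] : HasLimit D := by
  obtain ⟨i₀⟩ := IsCofiltered.nonempty (C := I)
  obtain ⟨X, ⟨h⟩⟩ := (isRepresentable_cones D i₀).has_representation
  have : HasLimit (Over.forget i₀ ⋙ D) := HasLimit.mk ⟨_, IsLimit.ofRepresentableBy h⟩
  exact Functor.Initial.hasLimit_of_comp (Over.forget i₀)

/-- Existence of the limit together with affineness of the projections. -/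
theorem exists_limit_isAffineHom {I : Type u} [SmallCategory I] [IsCofiltered I]
    (D : I ⥤ Scheme.{u}) [∀ (i j : I) (f : i ⟶ j), IsAffineHom (D.map f)] :
    ∃ (c : Limits.Cone D) (_ : Limits.IsLimit c), ∀ i, IsAffineHom (c.π.app i) := by
  have := hasLimit_of_isAffineHom_transitions D
  have hD : ∀ {i j : I} (f : i ⟶ j), IsAffineHom (D.map f) := fun f => inferInstance
  exact ⟨limit.cone D, limit.isLimit D, fun i => isAffineHom_π_app D _ (limit.isLimit D) i⟩

end Groth.Agent.H24
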