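import Mathlib
import Groth.Agent.H24.LimitRebase
import Groth.Agent.H24.LimitIsoLocal

/-!
# Pointwise descent of source-local properties to a stage of a cofiltered limit (helper24)

Setup as in `LimitIso`/`LimitRebase`.  For a morphism property `P` which is local on the source,
stable under base change and composition and contains open immersions, assume `P` descends to a
stage in the all-affine situation (`hcore`).  Then `P` descends pointwise (`exists_stage_of_mem`)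
and, if `X₀` is quasi-compact, globally (`exists_stageMap_of_core`).
-/

set_option autoImplicit false
universe u
open CategoryTheory CategoryTheory.Limits AlgebraicGeometry

namespace Groth.Agent.H24

section Rebase

variable {I : Type u} [Category.{u} I] (D : I ⥤ Scheme.{u}) (c : Cone D) (i₀ : I)
  {X₀ Y₀ : Scheme.{u}} (f₀ : X₀ ⟶ Y₀) (g₀ : Y₀ ⟶ D.obj i₀)
  (ψ₀ : Over i₀) (V : ((pullbackDiagram D i₀ g₀).obj ψ₀).Opens)
  (U : ((pullbackDiagram D i₀ (f₀ ≫ g₀)).obj ψ₀).Opens)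
  (hUV : U ≤ stageMap D i₀ f₀ g₀ ψ₀ ⁻¹ᵁ rbV D i₀ g₀ ψ₀ V)

/-- The restriction `U ⟶ V` of the stage map `f_{ψ₀}`, as a morphism to the base stage of the
rebased system. -/
noncomputable def rbG : (U : Scheme.{u}) ⟶ (rbD D i₀ g₀ ψ₀ V).obj (rbI i₀ ψ₀) :=
  (stageMap D i₀ f₀ g₀ ψ₀).resLE (rbV D i₀ g₀ ψ₀ V) U hUV

set_option backward.isDefEq.respectTransparency false in
include hUV in
theorem preimage_le_preimage {ψ : Over i₀} (b : ψ ⟶ ψ₀) :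
    (pullbackDiagram D i₀ (f₀ ≫ g₀)).map b ⁻¹ᵁ U ≤
      stageMap D i₀ f₀ g₀ ψ ⁻¹ᵁ ((pullbackDiagram D i₀ g₀).map b ⁻¹ᵁ V) := by
  have h1 := Scheme.Hom.preimage_mono ((pullbackDiagram D i₀ (f₀ ≫ g₀)).map b) hUV
  rw [← Scheme.Hom.comp_preimage, map_stageMap, Scheme.Hom.comp_preimage, rbV_eq] at h1
  exact h1

set_option backward.isDefEq.respectTransparency false in
include hUV in
theorem preimage_le_preimage_cone :
    (pullbackCone D c i₀ (f₀ ≫ g₀)).π.app ψ₀ ⁻¹ᵁ U ≤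
      limMap D c i₀ f₀ g₀ ⁻¹ᵁ ((pullbackCone D c i₀ g₀).π.app ψ₀ ⁻¹ᵁ V) := by
  have h1 := Scheme.Hom.preimage_mono ((pullbackCone D c i₀ (f₀ ≫ g₀)).π.app ψ₀) hUV
  rw [← Scheme.Hom.comp_preimage, cone_stageMap, Scheme.Hom.comp_preimage, rbV_eq] at h1
  exact h1

set_option backward.isDefEq.respectTransparency false in
/-- The stage maps of the rebased problem for `rbG` are the restrictions `U_ψ ⟶ V_ψ` of the
original stage maps. -/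
theorem rebase_stageMap_resLE_iff (P : MorphismProperty Scheme.{u}) [P.RespectsIso]
    (χ : Over (rbI i₀ ψ₀)) :
    P (stageMap (rbD D i₀ g₀ ψ₀ V) (rbI i₀ ψ₀) (rbG D i₀ f₀ g₀ ψ₀ V U hUV) (𝟙 _) χ) ↔
      P ((stageMap D i₀ f₀ g₀ χ.left.left).resLE
        ((pullbackDiagram D i₀ g₀).map χ.left.hom ⁻¹ᵁ V)
        ((pullbackDiagram D i₀ (f₀ ≫ g₀)).map χ.left.hom ⁻¹ᵁ U)
        (preimage_le_preimage D i₀ f₀ g₀ ψ₀ V U hUV χ.left.hom)) := by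
  let FY := pullbackDiagram D i₀ g₀
  let FX := pullbackDiagram D i₀ (f₀ ≫ g₀)
  have h1 := isPullback_stageMap (rbD D i₀ g₀ ψ₀ V) (rbI i₀ ψ₀) (rbG D i₀ f₀ g₀ ψ₀ V U hUV)
    (𝟙 _) χ
  have hUST : FY.map χ.left.hom ⁻¹ᵁ V ≤ FY.map χ.left.hom ⁻¹ᵁ rbV D i₀ g₀ ψ₀ V := by
    rw [rbV_eq]
  have hUY : FX.map χ.left.hom ⁻¹ᵁ U = FX.map χ.left.hom ⁻¹ᵁ U ⊓
      stageMap D i₀ f₀ g₀ χ.left.left ⁻¹ᵁ (FY.map χ.left.hom ⁻¹ᵁ V) :=
    (inf_eq_left.mpr (preimage_le_preimage D i₀ f₀ g₀ ψ₀ V U hUV χ.left.hom)).symm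
  have h2 := Scheme.Hom.isPullback_resLE (isPullback_map_stageMap D i₀ f₀ g₀ χ.left.hom)
    hUST hUV hUY
  let e : pullback ((rbD D i₀ g₀ ψ₀ V).map χ.hom) (𝟙 _) ≅ (rbD D i₀ g₀ ψ₀ V).obj χ.left :=
    asIso (pullback.fst ((rbD D i₀ g₀ ψ₀ V).map χ.hom) (𝟙 _))
  have hχ : χ.hom.left = χ.left.hom := by
    have := Over.w χ.hom
    simpa using this
  have he : e.hom ≫ (FY.map χ.left.hom).resLE (rbV D i₀ g₀ ψ₀ V) (FY.map χ.left.hom ⁻¹ᵁ V) hUST =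
      pullback.snd ((rbD D i₀ g₀ ψ₀ V).map χ.hom) (𝟙 _) := by
    have hc := pullback.condition (f := (rbD D i₀ g₀ ψ₀ V).map χ.hom) (g := 𝟙 _)
    rw [Category.comp_id] at hc
    rw [← hc, ← cancel_mono (rbV D i₀ g₀ ψ₀ V).ι]
    simp only [e, asIso_hom, Category.assoc]
    congr 1
    change _ = (FY.map χ.hom.left).resLE _ _ _ ≫ _
    rw [Scheme.Hom.resLE_comp_ι, Scheme.Hom.resLE_comp_ι, hχ]
  exact prop_iff_of_isPullback P e he h1 h2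

set_option backward.isDefEq.respectTransparency false in
/-- The limit map of the rebased problem for `rbG` is the restriction `U_∞ ⟶ V_∞` of the
original limit map. -/
theorem rebase_limMap_resLE_iff (P : MorphismProperty Scheme.{u}) [P.RespectsIso] :
    P (limMap (rbD D i₀ g₀ ψ₀ V) (rbC D c i₀ g₀ ψ₀ V) (rbI i₀ ψ₀)
        (rbG D i₀ f₀ g₀ ψ₀ V U hUV) (𝟙 _)) ↔
      P ((limMap D c i₀ f₀ g₀).resLE ((pullbackCone D c i₀ g₀).π.app ψ₀ ⁻¹ᵁ V)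
        ((pullbackCone D c i₀ (f₀ ≫ g₀)).π.app ψ₀ ⁻¹ᵁ U)
        (preimage_le_preimage_cone D c i₀ f₀ g₀ ψ₀ V U hUV)) := by
  let cY := pullbackCone D c i₀ g₀
  let cX := pullbackCone D c i₀ (f₀ ≫ g₀)
  have h1 := isPullback_limMap (rbD D i₀ g₀ ψ₀ V) (rbC D c i₀ g₀ ψ₀ V) (rbI i₀ ψ₀)
    (rbG D i₀ f₀ g₀ ψ₀ V U hUV) (𝟙 _)
  have hUST : cY.π.app ψ₀ ⁻¹ᵁ V ≤ cY.π.app ψ₀ ⁻¹ᵁ rbV D i₀ g₀ ψ₀ V := by
    rw [rbV_eq]
  have hUY : cX.π.app ψ₀ ⁻¹ᵁ U = cX.π.app ψ₀ ⁻¹ᵁ U ⊓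
      limMap D c i₀ f₀ g₀ ⁻¹ᵁ (cY.π.app ψ₀ ⁻¹ᵁ V) :=
    (inf_eq_left.mpr (preimage_le_preimage_cone D c i₀ f₀ g₀ ψ₀ V U hUV)).symm
  have h2 := Scheme.Hom.isPullback_resLE (isPullback_cone_stageMap D c i₀ f₀ g₀ ψ₀)
    hUST hUV hUY
  let e : pullback ((rbC D c i₀ g₀ ψ₀ V).π.app (rbI i₀ ψ₀)) (𝟙 _) ≅ (rbC D c i₀ g₀ ψ₀ V).pt :=
    asIso (pullback.fst ((rbC D c i₀ g₀ ψ₀ V).π.app (rbI i₀ ψ₀)) (𝟙 _))
  have he : e.hom ≫ (cY.π.app ψ₀).resLE (rbV D i₀ g₀ ψ₀ V) (cY.π.app ψ₀ ⁻¹ᵁ V) hUST =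
      pullback.snd ((rbC D c i₀ g₀ ψ₀ V).π.app (rbI i₀ ψ₀)) (𝟙 _) := by
    have hc := pullback.condition (f := (rbC D c i₀ g₀ ψ₀ V).π.app (rbI i₀ ψ₀)) (g := 𝟙 _)
    rw [Category.comp_id] at hc
    rw [← hc, ← cancel_mono (rbV D i₀ g₀ ψ₀ V).ι]
    simp only [e, asIso_hom, Category.assoc]
    congr 1
  exact prop_iff_of_isPullback P e he h1 h2

end Rebase

/-- The all-affine core descent statement for `P`. -/
def CoreDescent (P : MorphismProperty Scheme.{u}) : Prop :=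
  ∀ {J : Type u} [Category.{u} J] [IsCofiltered J] (D' : J ⥤ Scheme.{u})
    [∀ {i j} (f : i ⟶ j), IsAffineHom (D'.map f)] (c' : Cone D') (_ : IsLimit c') (j₀ : J)
    [∀ j, IsAffine (D'.obj j)] {X₀' : Scheme.{u}} [IsAffine X₀'] (h₀ : X₀' ⟶ D'.obj j₀)
    [LocallyOfFinitePresentation h₀],
    P (limMap D' c' j₀ h₀ (𝟙 _)) → ∃ χ : Over j₀, P (stageMap D' j₀ h₀ (𝟙 _) χ)

section Pointwise

variable {I : Type u} [Category.{u} I] [IsCofiltered I] (D : I ⥤ Scheme.{u}) (c : Cone D)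
  [∀ {i j} (f : i ⟶ j), IsAffineHom (D.map f)] (i₀ : I)
  {X₀ Y₀ : Scheme.{u}} (f₀ : X₀ ⟶ Y₀) (g₀ : Y₀ ⟶ D.obj i₀)

set_option backward.isDefEq.respectTransparency false in
/-- **Pointwise descent.** If the limit map has `P` on an open neighbourhood `U` of `x`, then some
stage map has `P` on an open neighbourhood of the image of `x`. -/
theorem exists_stage_of_mem (P : MorphismProperty Scheme.{u})
    [P.IsStableUnderBaseChange] [IsZariskiLocalAtSource P] [P.IsStableUnderComposition]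
    (hOI : ∀ {A B : Scheme.{u}} (j : A ⟶ B) [IsOpenImmersion j], P j)
    (hcore : CoreDescent P) (hc : IsLimit c) [LocallyOfFinitePresentation f₀]
    (U : (pullbackCone D c i₀ (f₀ ≫ g₀)).pt.Opens) (hU : P (U.ι ≫ limMap D c i₀ f₀ g₀))
    (x : (pullbackCone D c i₀ (f₀ ≫ g₀)).pt) (hx : x ∈ U) :
    ∃ (ψ : Over i₀) (W : ((pullbackDiagram D i₀ (f₀ ≫ g₀)).obj ψ).Opens),
      (pullbackCone D c i₀ (f₀ ≫ g₀)).π.app ψ x ∈ W ∧ P (W.ι ≫ stageMap D i₀ f₀ g₀ ψ) := by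
  let FY := pullbackDiagram D i₀ g₀
  let cY := pullbackCone D c i₀ g₀
  have hcY : IsLimit cY := isLimitPullbackCone D c i₀ g₀ hc
  let FX := pullbackDiagram D i₀ (f₀ ≫ g₀)
  let cX := pullbackCone D c i₀ (f₀ ≫ g₀)
  have hcX : IsLimit cX := isLimitPullbackCone D c i₀ (f₀ ≫ g₀) hc
  have hFYaff : ∀ {φ ψ : Over i₀} (f : φ ⟶ ψ), IsAffineHom (FY.map f) := fun f =>
    MorphismProperty.of_isPullback (P := @IsAffineHom)
      (isPullback_pullbackDiagram_map D i₀ g₀ f).flip inferInstance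
  have hFXaff : ∀ {φ ψ : Over i₀} (f : φ ⟶ ψ), IsAffineHom (FX.map f) := fun f =>
    MorphismProperty.of_isPullback (P := @IsAffineHom)
      (isPullback_pullbackDiagram_map D i₀ (f₀ ≫ g₀) f).flip inferInstance
  obtain ⟨_, ⟨_, ⟨ψ₁, U₁, hU₁, rfl⟩, rfl⟩, hxU₁, hU₁U⟩ :=
    (isBasis_preimage_isAffineOpen FX cX hcX).exists_subset_of_mem_open hx U.2
  let x₁ : FX.obj ψ₁ := cX.π.app ψ₁ x
  obtain ⟨_, ⟨V₁, hV₁, rfl⟩, hyV₁, -⟩ :=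
    (FY.obj ψ₁).isBasis_affineOpens.exists_subset_of_mem_open
      (Set.mem_univ (stageMap D i₀ f₀ g₀ ψ₁ x₁)) isOpen_univ
  have hx₁ : x₁ ∈ U₁ ⊓ stageMap D i₀ f₀ g₀ ψ₁ ⁻¹ᵁ rbV D i₀ g₀ ψ₁ V₁ := by
    refine ⟨hxU₁, ?_⟩
    rw [rbV_eq]
    exact hyV₁
  obtain ⟨_, ⟨U₂, hU₂, rfl⟩, hxU₂, hU₂sub⟩ :=
    (FX.obj ψ₁).isBasis_affineOpens.exists_subset_of_mem_open hx₁
      (U₁ ⊓ stageMap D i₀ f₀ g₀ ψ₁ ⁻¹ᵁ rbV D i₀ g₀ ψ₁ V₁).2
  have hUV : U₂ ≤ stageMap D i₀ f₀ g₀ ψ₁ ⁻¹ᵁ rbV D i₀ g₀ ψ₁ V₁ := fun z hz => (hU₂sub hz).2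
  have hU₂U₁ : U₂ ≤ U₁ := fun z hz => (hU₂sub hz).1
  -- the rebased all-affine problem
  have hAff : ∀ χ, IsAffine ((rbD D i₀ g₀ ψ₁ V₁).obj χ) := fun χ => hV₁.preimage _
  have hU₂aff : IsAffine (U₂ : Scheme.{u}) := hU₂
  have hfp1 : LocallyOfFinitePresentation (stageMap D i₀ f₀ g₀ ψ₁) :=
    MorphismProperty.of_isPullback (P := @LocallyOfFinitePresentation)
      (isPullback_stageMap D i₀ f₀ g₀ ψ₁) inferInstance
  have hfp : LocallyOfFinitePresentation (rbG D i₀ f₀ g₀ ψ₁ V₁ U₂ hUV) := by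
    unfold rbG
    infer_instance
  have hlim : P (limMap (rbD D i₀ g₀ ψ₁ V₁) (rbC D c i₀ g₀ ψ₁ V₁) (rbI i₀ ψ₁)
      (rbG D i₀ f₀ g₀ ψ₁ V₁ U₂ hUV) (𝟙 _)) := by
    refine (rebase_limMap_resLE_iff D c i₀ f₀ g₀ ψ₁ V₁ U₂ hUV P).mpr ?_
    have hle : cX.π.app ψ₁ ⁻¹ᵁ U₂ ≤ U := fun z hz => hU₁U (hU₂U₁ hz)
    have h1 : P ((cX.π.app ψ₁ ⁻¹ᵁ U₂).ι ≫ limMap D c i₀ f₀ g₀) := by
      rw [← Scheme.homOfLE_ι _ hle, Category.assoc]
      exact IsZariskiLocalAtSource.comp hU _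
    rw [← Scheme.Hom.resLE_comp_ι _ (preimage_le_preimage_cone D c i₀ f₀ g₀ ψ₁ V₁ U₂ hUV)] at h1
    exact P.of_postcomp (W' := @IsOpenImmersion) _ _ inferInstance h1
  obtain ⟨χ, hχ⟩ := hcore (rbD D i₀ g₀ ψ₁ V₁) (rbC D c i₀ g₀ ψ₁ V₁)
    (isLimitOpensCone FY cY hcY ψ₁ V₁) (rbI i₀ ψ₁) (rbG D i₀ f₀ g₀ ψ₁ V₁ U₂ hUV) hlim
  replace hχ := (rebase_stageMap_resLE_iff D i₀ f₀ g₀ ψ₁ V₁ U₂ hUV P χ).mp hχ
  refine ⟨χ.left.left, FX.map χ.left.hom ⁻¹ᵁ U₂, ?_, ?_⟩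
  · change FX.map χ.left.hom (cX.π.app χ.left.left x) ∈ U₂
    rw [← Scheme.Hom.comp_apply, cX.w]
    exact hxU₂
  · rw [← Scheme.Hom.resLE_comp_ι _ (preimage_le_preimage D i₀ f₀ g₀ ψ₁ V₁ U₂ hUV χ.left.hom)]
    exact P.comp_mem _ _ hχ (hOI _)

omit [IsCofiltered I] [∀ {i j} (f : i ⟶ j), IsAffineHom (D.map f)] in
set_option backward.isDefEq.respectTransparency false in
/-- `P` on an open of a stage passes to its preimage in a later stage. -/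
theorem prop_preimage_ι_comp_stageMap (P : MorphismProperty Scheme.{u})
    [P.IsStableUnderBaseChange] {ψ ψ' : Over i₀} (b : ψ' ⟶ ψ)
    (W : ((pullbackDiagram D i₀ (f₀ ≫ g₀)).obj ψ).Opens)
    (h : P (W.ι ≫ stageMap D i₀ f₀ g₀ ψ)) :
    P (((pullbackDiagram D i₀ (f₀ ≫ g₀)).map b ⁻¹ᵁ W).ι ≫ stageMap D i₀ f₀ g₀ ψ') := by
  have sq := (isPullback_morphismRestrict ((pullbackDiagram D i₀ (f₀ ≫ g₀)).map b) W).paste_vert
    (isPullback_map_stageMap D i₀ f₀ g₀ b)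
  exact P.of_isPullback sq h

set_option backward.isDefEq.respectTransparency false in
/-- **Global descent** for quasi-compact `X₀`. -/
theorem exists_stageMap_of_core (P : MorphismProperty Scheme.{u})
    [P.IsStableUnderBaseChange] [IsZariskiLocalAtSource P] [P.IsStableUnderComposition]
    (hOI : ∀ {A B : Scheme.{u}} (j : A ⟶ B) [IsOpenImmersion j], P j)
    (hcore : CoreDescent P) (hc : IsLimit c) [LocallyOfFinitePresentation f₀] [CompactSpace X₀]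
    (h : P (limMap D c i₀ f₀ g₀)) : ∃ ψ : Over i₀, P (stageMap D i₀ f₀ g₀ ψ) := by
  classical
  let FX := pullbackDiagram D i₀ (f₀ ≫ g₀)
  let cX := pullbackCone D c i₀ (f₀ ≫ g₀)
  have hcX : IsLimit cX := isLimitPullbackCone D c i₀ (f₀ ≫ g₀) hc
  have hFXaff : ∀ {φ ψ : Over i₀} (f : φ ⟶ ψ), IsAffineHom (FX.map f) := fun f =>
    MorphismProperty.of_isPullback (P := @IsAffineHom)
      (isPullback_pullbackDiagram_map D i₀ (f₀ ≫ g₀) f).flip inferInstance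
  have hXc : ∀ ψ, CompactSpace (FX.obj ψ) := fun ψ => by
    have : IsAffineHom (pullback.snd (D.map ψ.hom) (f₀ ≫ g₀)) :=
      MorphismProperty.pullback_snd (P := @IsAffineHom) _ _ inferInstance
    exact QuasiCompact.compactSpace_of_compactSpace (pullback.snd (D.map ψ.hom) (f₀ ≫ g₀))
  have hcomp : CompactSpace cX.pt := Scheme.compactSpace_of_isLimit FX cX hcX
  have key : ∀ x : cX.pt, ∃ (ψ : Over i₀) (W : (FX.obj ψ).Opens),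
      cX.π.app ψ x ∈ W ∧ P (W.ι ≫ stageMap D i₀ f₀ g₀ ψ) := fun x =>
    exists_stage_of_mem D c i₀ f₀ g₀ P hOI hcore hc ⊤ (IsZariskiLocalAtSource.comp h _) x trivial
  choose ψ W hxW hW using key
  obtain ⟨t, ht⟩ := isCompact_univ.elim_finite_subcover
    (fun x : cX.pt => ((cX.π.app (ψ x) ⁻¹ᵁ W x : cX.pt.Opens) : Set cX.pt))
    (fun x => (cX.π.app (ψ x) ⁻¹ᵁ W x).2) (fun x _ => Set.mem_iUnion.mpr ⟨x, hxW x⟩)
  obtain ⟨ψ₂, T⟩ := IsCofiltered.inf_objs_exists (t.image ψ)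
  have b : ∀ x : t, ψ₂ ⟶ ψ x.1 := fun x => (T (Finset.mem_image_of_mem ψ x.2)).some
  let W₂ : (FX.obj ψ₂).Opens := ⨆ x : t, FX.map (b x) ⁻¹ᵁ W x.1
  have hW₂ : cX.π.app ψ₂ ⁻¹ᵁ W₂ = ⊤ := by
    rw [eq_top_iff]
    intro z _
    obtain ⟨x, hx⟩ := Set.mem_iUnion.mp (ht (Set.mem_univ z))
    obtain ⟨hxt, hzx⟩ := Set.mem_iUnion.mp hx
    change cX.π.app ψ₂ z ∈ W₂
    refine TopologicalSpace.Opens.mem_iSup.mpr ⟨⟨x, hxt⟩, ?_⟩
    change FX.map (b ⟨x, hxt⟩) (cX.π.app ψ₂ z) ∈ W x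
    rw [← Scheme.Hom.comp_apply, cX.w]
    exact hzx
  obtain ⟨ψ₃, b₃, hb₃⟩ := exists_map_eq_top FX cX hcX W₂ hW₂
  refine ⟨ψ₃, IsZariskiLocalAtSource.of_iSup_eq_top
    (fun x : t => FX.map (b₃ ≫ b x) ⁻¹ᵁ W x.1) ?_ fun x => ?_⟩
  · rw [← hb₃, Scheme.Hom.preimage_iSup]
    congr 1
    funext x
    rw [FX.map_comp, Scheme.Hom.comp_preimage]
  · exact prop_preimage_ι_comp_stageMap D i₀ f₀ g₀ P (b₃ ≫ b x) (W x.1) (hW x.1)

end Pointwise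

end Groth.Agent.H24
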