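import Mathlib

/-!
# A retraction criterion for formal smoothness of a base change (ring level, helper24)

Let `R → B` be a ring map, `E → B` a surjection of `R`-algebras with square-zero kernel such that
`E` is the quotient of a formally smooth `R`-algebra `P` by the square of the kernel of `P → B`.
For an `R`-algebra `A'` with pushouts `B' = A' ⊗ B`, `E' = A' ⊗ E`:
`A' → B'` is formally smooth iff there is an `R`-algebra map `σ : B → E'` lifting `B → B'`.
Everything is phrased with pushout squares in `CommRingCat` and proved by universal properties.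
-/

set_option autoImplicit false
universe u
open CategoryTheory CategoryTheory.Limits

namespace Groth.Agent.H24

variable {R A' B E B' E' : CommRingCat.{u}}
  (φA : R ⟶ A') (φB : R ⟶ B) (φE : R ⟶ E) (κ : E ⟶ B)
  (a : A' ⟶ B') (b : B ⟶ B') (aE : A' ⟶ E') (eE : E ⟶ E') (κ' : E' ⟶ B')

/-- If `A' → B'` is formally smooth, the square-zero thickening `E' → B'` admits a section over
`B` (as `R`-algebras). -/
theorem exists_section_of_formallySmooth (hκ : φE ≫ κ = φB)
    (hB : IsPushout φA φB a b) (hE : IsPushout φA φE aE eE)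
    (h1 : aE ≫ κ' = a) (h2 : eE ≫ κ' = κ ≫ b)
    (hκs : Function.Surjective κ.hom) (hκ2 : RingHom.ker κ.hom ^ 2 = ⊥)
    (hsm : a.hom.FormallySmooth) :
    ∃ σ : B ⟶ E', φB ≫ σ = φA ≫ aE ∧ σ ≫ κ' = b := by
  let J : Ideal E' := Ideal.map eE.hom (RingHom.ker κ.hom)
  have hJ2 : J ^ 2 = ⊥ := by rw [← Ideal.map_pow, hκ2, Ideal.map_bot]
  let q : E' ⟶ CommRingCat.of (E' ⧸ J) := CommRingCat.ofHom (Ideal.Quotient.mk J)
  have hker : RingHom.ker κ.hom ≤ RingHom.ker (eE ≫ q).hom := by
    intro k hk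
    rw [RingHom.mem_ker]
    change Ideal.Quotient.mk J (eE.hom k) = 0
    exact Ideal.Quotient.eq_zero_iff_mem.mpr (Ideal.mem_map_of_mem _ hk)
  let β : B ⟶ CommRingCat.of (E' ⧸ J) :=
    CommRingCat.ofHom (RingHom.liftOfSurjective κ.hom hκs ⟨(eE ≫ q).hom, hker⟩)
  have hβ : κ ≫ β = eE ≫ q := by
    ext x
    exact RingHom.liftOfSurjective_comp_apply κ.hom hκs ⟨(eE ≫ q).hom, hker⟩ x
  have hw : φA ≫ aE ≫ q = φB ≫ β := by
    rw [← hκ, Category.assoc, hβ, ← Category.assoc, ← Category.assoc, hE.w]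
  let m : B' ⟶ CommRingCat.of (E' ⧸ J) := hB.desc (aE ≫ q) β hw
  have hm1 : a ≫ m = aE ≫ q := hB.inl_desc _ _ _
  have hm2 : b ≫ m = β := hB.inr_desc _ _ _
  -- the lift
  let _ := a.hom.toAlgebra
  let _ := aE.hom.toAlgebra
  have hfs : Algebra.FormallySmooth A' B' := hsm
  let mA : B' →ₐ[A'] E' ⧸ J :=
    { m.hom with
      commutes' := fun r => by
        have := congr($(hm1).hom r)
        exact this }
  let sA : B' →ₐ[A'] E' := Algebra.FormallySmooth.lift J ⟨2, hJ2⟩ mA
  have hsA : (Ideal.Quotient.mkₐ A' J).comp sA = mA :=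
    Algebra.FormallySmooth.comp_lift J ⟨2, hJ2⟩ mA
  let s : B' ⟶ E' := CommRingCat.ofHom sA.toRingHom
  have hs1 : a ≫ s = aE := by
    ext r
    exact sA.commutes r
  have hs2 : s ≫ q = m := by
    ext x
    exact congr($hsA x)
  -- `κ'` factors through the quotient
  have hJker : J ≤ RingHom.ker κ'.hom := by
    rw [Ideal.map_le_iff_le_comap]
    intro k hk
    rw [Ideal.mem_comap, RingHom.mem_ker]
    have := congr($(h2).hom k)
    change κ'.hom (eE.hom k) = b.hom (κ.hom k) at this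
    rw [this, (RingHom.mem_ker).mp hk, map_zero]
  let κbar : CommRingCat.of (E' ⧸ J) ⟶ B' :=
    CommRingCat.ofHom (Ideal.Quotient.lift J κ'.hom fun x hx => (RingHom.mem_ker).mp (hJker hx))
  have hκbar : q ≫ κbar = κ' := by
    ext x
    exact Ideal.Quotient.lift_mk J κ'.hom (fun x hx => (RingHom.mem_ker).mp (hJker hx))
  have hepi : Epi κ := ConcreteCategory.epi_of_surjective κ hκs
  have hid : s ≫ κ' = 𝟙 B' := by
    apply hB.hom_ext
    · rw [← Category.assoc, hs1, h1, Category.comp_id]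
    · rw [Category.comp_id, ← hκbar, ← Category.assoc, ← Category.assoc, Category.assoc b, hs2, hm2,
        ← cancel_epi κ, ← Category.assoc, hβ, Category.assoc, hκbar, h2]
  refine ⟨b ≫ s, ?_, ?_⟩
  · rw [← Category.assoc, ← hB.w, Category.assoc, hs1]
  · rw [Category.assoc, hid, Category.comp_id]

/-- If the thickening `E' → B'` admits a section over `B` (as `R`-algebras) and `E` is the quotient
of a formally smooth `R`-algebra `P` by the square of the kernel of `P → B`, then `A' → B'` is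
formally smooth. -/
theorem formallySmooth_of_section {P : CommRingCat.{u}} (φP : R ⟶ P) (πE : P ⟶ E)
    (hπE : φP ≫ πE = φE) (hP : φP.hom.FormallySmooth) (hπs : Function.Surjective πE.hom)
    (hkerπ : RingHom.ker πE.hom = RingHom.ker (πE ≫ κ).hom ^ 2) (hκ : φE ≫ κ = φB)
    (hB : IsPushout φA φB a b) (hE : IsPushout φA φE aE eE)
    (h1 : aE ≫ κ' = a) (h2 : eE ≫ κ' = κ ≫ b)
    (σ : B ⟶ E') (hσ1 : φB ≫ σ = φA ≫ aE) (hσ2 : σ ≫ κ' = b) :
    a.hom.FormallySmooth := by
  let _ := a.hom.toAlgebra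
  change Algebra.FormallySmooth A' B'
  refine Algebra.FormallySmooth.of_comp_surjective ?_
  intro C _ _ N hN h
  let sC : A' ⟶ CommRingCat.of C := CommRingCat.ofHom (algebraMap A' C)
  let qN : CommRingCat.of C ⟶ CommRingCat.of (C ⧸ N) := CommRingCat.ofHom (Ideal.Quotient.mk N)
  let hC : B' ⟶ CommRingCat.of (C ⧸ N) := CommRingCat.ofHom h.toRingHom
  have hh : a ≫ hC = sC ≫ qN := by
    ext r
    exact h.commutes r
  let _ : Algebra R P := φP.hom.toAlgebra
  let _ : Algebra R C := (φA ≫ sC).hom.toAlgebra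
  have hPfs : Algebra.FormallySmooth R P := hP
  let g₀ : P →ₐ[R] C ⧸ N :=
    { (πE ≫ κ ≫ b ≫ hC).hom with
      commutes' := fun r => by
        have e1 : φP ≫ πE ≫ κ ≫ b ≫ hC = (φA ≫ sC) ≫ qN := by
          rw [← Category.assoc φP, hπE, ← Category.assoc φE, hκ, ← Category.assoc φB, ← hB.w,
            Category.assoc, hh, Category.assoc]
        exact congr($(e1).hom r) }
  let u₀ : P →ₐ[R] C := Algebra.FormallySmooth.lift N ⟨2, hN⟩ g₀
  have hu₀ : (Ideal.Quotient.mkₐ R N).comp u₀ = g₀ := Algebra.FormallySmooth.comp_lift N ⟨2, hN⟩ g₀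
  let u₀c : P ⟶ CommRingCat.of C := CommRingCat.ofHom u₀.toRingHom
  have hu₀c : u₀c ≫ qN = πE ≫ κ ≫ b ≫ hC := by
    ext x
    exact congr($hu₀ x)
  have hu₀φ : φP ≫ u₀c = φA ≫ sC := by
    ext r
    exact u₀.commutes r
  have hle : RingHom.ker πE.hom ≤ RingHom.ker u₀c.hom := by
    rw [hkerπ]
    have hI : Ideal.map u₀c.hom (RingHom.ker (πE ≫ κ).hom) ≤ N := by
      rw [Ideal.map_le_iff_le_comap]
      intro p hp
      rw [Ideal.mem_comap, ← Ideal.Quotient.eq_zero_iff_mem]
      have e2 := congr($(hu₀c).hom p)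
      change Ideal.Quotient.mk N (u₀c.hom p) = hC.hom (b.hom ((πE ≫ κ).hom p)) at e2
      rw [e2, (RingHom.mem_ker).mp hp, map_zero, map_zero]
    intro p hp
    rw [RingHom.mem_ker]
    have : u₀c.hom p ∈ Ideal.map u₀c.hom (RingHom.ker (πE ≫ κ).hom ^ 2) :=
      Ideal.mem_map_of_mem _ hp
    rw [Ideal.map_pow] at this
    have h3 := Ideal.pow_right_mono hI 2 this
    rw [hN] at h3
    exact h3
  let ubar : E ⟶ CommRingCat.of C :=
    CommRingCat.ofHom (RingHom.liftOfSurjective πE.hom hπs ⟨u₀c.hom, hle⟩)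
  have hubar : πE ≫ ubar = u₀c := by
    ext x
    exact RingHom.liftOfSurjective_comp_apply πE.hom hπs ⟨u₀c.hom, hle⟩ x
  have hepi : Epi πE := ConcreteCategory.epi_of_surjective πE hπs
  have hw : φA ≫ sC = φE ≫ ubar := by
    rw [← hπE, Category.assoc, hubar, hu₀φ]
  let v : E' ⟶ CommRingCat.of C := hE.desc sC ubar hw
  have hv1 : aE ≫ v = sC := hE.inl_desc _ _ _
  have hv2 : eE ≫ v = ubar := hE.inr_desc _ _ _
  let σt : B' ⟶ E' := hB.desc aE σ hσ1.symm
  have hσt1 : a ≫ σt = aE := hB.inl_desc _ _ _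
  have hσt2 : b ≫ σt = σ := hB.inr_desc _ _ _
  have hvq : v ≫ qN = κ' ≫ hC := by
    apply hE.hom_ext
    · rw [← Category.assoc, hv1, ← Category.assoc, h1, hh]
    · rw [← Category.assoc, hv2, ← Category.assoc, h2, ← cancel_epi πE, ← Category.assoc, hubar,
        hu₀c, Category.assoc]
  have hfin : (σt ≫ v) ≫ qN = hC := by
    apply hB.hom_ext
    · rw [Category.assoc, ← Category.assoc a, hσt1, ← Category.assoc, hv1, hh]
    · rw [Category.assoc, ← Category.assoc b, hσt2, hvq, ← Category.assoc, hσ2]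
  let lA : B' →ₐ[A'] C :=
    { (σt ≫ v).hom with
      commutes' := fun r => by
        have e3 : a ≫ σt ≫ v = sC := by rw [← Category.assoc, hσt1, hv1]
        exact congr($(e3).hom r) }
  refine ⟨lA, ?_⟩
  ext x
  exact congr($(hfin).hom x)

end Groth.Agent.H24
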