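import Mathlib
import Groth.Agent.H24.SmoothCrit

/-!
# First-order thickenings of affine schemes and the retraction criterion for smoothness
-/

set_option autoImplicit false
universe u
open CategoryTheory CategoryTheory.Limits AlgebraicGeometry

namespace Groth.Agent.H24

/-- Every ring map out of the global sections of an affine scheme `X₀` is induced by a morphism
to `X₀`. -/
theorem exists_hom_appTop_eq {Z X₀ : Scheme.{u}} [IsAffine X₀] (σ : Γ(X₀, ⊤) ⟶ Γ(Z, ⊤)) :
    ∃ s : Z ⟶ X₀, s.appTop = σ := by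
  refine ⟨Z.toSpecΓ ≫ Spec.map σ ≫ X₀.isoSpec.inv, ?_⟩
  have h1 : X₀.isoSpec.inv.appTop ≫ (Scheme.ΓSpecIso Γ(X₀, ⊤)).hom = 𝟙 _ := by
    rw [← Scheme.toSpecΓ_appTop, ← Scheme.Hom.comp_appTop, Scheme.toSpecΓ_isoSpec_inv]
    rfl
  rw [Scheme.Hom.comp_appTop, Scheme.Hom.comp_appTop, Scheme.toSpecΓ_appTop, Category.assoc,
    Scheme.ΓSpecIso_naturality, ← Category.assoc, h1, Category.id_comp]

/-- A first-order thickening of `X₀` over `S₀` inside a formally smooth `S₀`-scheme (all affine),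
recorded through its ring of global sections. -/
structure FOThickening {X₀ S₀ : Scheme.{u}} (h₀ : X₀ ⟶ S₀) where
  E₀ : Scheme.{u}
  isAffine : IsAffine E₀
  e₀ : E₀ ⟶ S₀
  ι₀ : X₀ ⟶ E₀
  fac : ι₀ ≫ e₀ = h₀
  surj : Function.Surjective ι₀.appTop.hom
  sq : RingHom.ker ι₀.appTop.hom ^ 2 = ⊥
  P : CommRingCat.{u}
  φP : Γ(S₀, ⊤) ⟶ P
  πE : P ⟶ Γ(E₀, ⊤)
  hπE : φP ≫ πE = e₀.appTop
  hP : φP.hom.FormallySmooth
  hπs : Function.Surjective πE.hom
  hkerπ : RingHom.ker πE.hom = RingHom.ker (πE ≫ ι₀.appTop).hom ^ 2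

set_option backward.isDefEq.respectTransparency false in
/-- A morphism locally of finite presentation between affine schemes has a first-order
thickening. -/
theorem nonempty_foThickening {X₀ S₀ : Scheme.{u}} (h₀ : X₀ ⟶ S₀) [IsAffine X₀] [IsAffine S₀]
    [LocallyOfFinitePresentation h₀] : Nonempty (FOThickening h₀) := by
  have hfp : h₀.appTop.hom.FinitePresentation :=
    (HasRingHomProperty.iff_of_isAffine (P := @LocallyOfFinitePresentation)).mp inferInstance
  algebraize [h₀.appTop.hom]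
  obtain ⟨n, f, hf, -⟩ := (inferInstance : Algebra.FinitePresentation Γ(S₀, ⊤) Γ(X₀, ⊤)).out
  let I : Ideal (MvPolynomial (Fin n) Γ(S₀, ⊤)) := RingHom.ker f.toRingHom
  let E₁ : CommRingCat.{u} := CommRingCat.of (MvPolynomial (Fin n) Γ(S₀, ⊤) ⧸ I ^ 2)
  let φE₁ : Γ(S₀, ⊤) ⟶ E₁ := CommRingCat.ofHom (algebraMap _ _)
  let κ₁ : E₁ ⟶ Γ(X₀, ⊤) := CommRingCat.ofHom f.kerSquareLift.toRingHom
  have hφκ : φE₁ ≫ κ₁ = h₀.appTop := by
    ext r
    exact f.kerSquareLift.commutes r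
  let θ := Scheme.ΓSpecIso E₁
  let e₀ : Spec E₁ ⟶ S₀ := Spec.map φE₁ ≫ S₀.isoSpec.inv
  let ι₀ : X₀ ⟶ Spec E₁ := X₀.isoSpec.hom ≫ Spec.map κ₁
  have he₀ : e₀.appTop = φE₁ ≫ θ.inv := by
    have h1 : S₀.isoSpec.inv.appTop ≫ (Scheme.ΓSpecIso Γ(S₀, ⊤)).hom = 𝟙 _ := by
      rw [← Scheme.toSpecΓ_appTop, ← Scheme.Hom.comp_appTop, Scheme.toSpecΓ_isoSpec_inv]
      rfl
    rw [Scheme.Hom.comp_appTop, ← cancel_mono θ.hom, Category.assoc, Category.assoc,
      Scheme.ΓSpecIso_naturality, ← Category.assoc, h1, Category.id_comp, θ.inv_hom_id,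
      Category.comp_id]
  have hι₀ : ι₀.appTop = θ.hom ≫ κ₁ := by
    rw [Scheme.Hom.comp_appTop, Scheme.isoSpec_hom, Scheme.toSpecΓ_appTop,
      Scheme.ΓSpecIso_naturality]
  have hθinj : Function.Injective θ.hom.hom := (ConcreteCategory.bijective_of_isIso θ.hom).1
  have hθinvinj : Function.Injective θ.inv.hom := (ConcreteCategory.bijective_of_isIso θ.inv).1
  have hθsurj : Function.Surjective θ.hom.hom := (ConcreteCategory.bijective_of_isIso θ.hom).2
  have hθinvsurj : Function.Surjective θ.inv.hom := (ConcreteCategory.bijective_of_isIso θ.inv).2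
  have hκ₁s : Function.Surjective κ₁.hom := by
    intro y
    obtain ⟨p, rfl⟩ := hf y
    exact ⟨Ideal.Quotient.mk _ p, rfl⟩
  have hκ₁sq : RingHom.ker κ₁.hom ^ 2 = ⊥ := by
    have : RingHom.ker κ₁.hom = I.cotangentIdeal := AlgHom.ker_kerSquareLift f
    rw [this, Ideal.cotangentIdeal_square]
  let mk : CommRingCat.of (MvPolynomial (Fin n) Γ(S₀, ⊤)) ⟶ E₁ :=
    CommRingCat.ofHom (Ideal.Quotient.mk (I ^ 2))
  refine ⟨{
    E₀ := Spec E₁
    isAffine := inferInstance
    e₀ := e₀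
    ι₀ := ι₀
    fac := ?_
    surj := ?_
    sq := ?_
    P := CommRingCat.of (MvPolynomial (Fin n) Γ(S₀, ⊤))
    φP := CommRingCat.ofHom (algebraMap _ _)
    πE := mk ≫ θ.inv
    hπE := ?_
    hP := ?_
    hπs := ?_
    hkerπ := ?_ }⟩
  · dsimp only [ι₀, e₀]
    rw [Category.assoc, ← Category.assoc (Spec.map κ₁), ← Spec.map_comp, hφκ,
      Scheme.isoSpec_hom_naturality_assoc, Iso.hom_inv_id, Category.comp_id]
  · rw [hι₀]
    exact hκ₁s.comp hθsurj
  · rw [hι₀, CommRingCat.hom_comp, ← RingHom.comap_ker]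
    refine le_bot_iff.mp ((Ideal.le_comap_pow _ 2).trans ?_)
    rw [hκ₁sq]
    intro x hx
    rw [Ideal.mem_comap, Ideal.mem_bot] at hx
    exact hθinj (hx.trans (map_zero _).symm)
  · rw [he₀, ← Category.assoc]
    rfl
  · exact RingHom.formallySmooth_algebraMap.mpr inferInstance
  · exact hθinvsurj.comp Ideal.Quotient.mk_surjective
  · have h1 : RingHom.ker (mk ≫ θ.inv).hom = I ^ 2 := by
      rw [CommRingCat.hom_comp, ← RingHom.comap_ker, (RingHom.injective_iff_ker_eq_bot _).mp hθinvinj,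
        ← RingHom.ker_eq_comap_bot]
      exact Ideal.mk_ker
    have h2 : (mk ≫ θ.inv) ≫ ι₀.appTop = CommRingCat.ofHom f.toRingHom := by
      rw [hι₀, Category.assoc, ← Category.assoc θ.inv, θ.inv_hom_id, Category.id_comp]
      rfl
    rw [h1, h2]
    rfl

section Criterion

variable {X₀ S₀ T XT ET : Scheme.{u}} {h₀ : X₀ ⟶ S₀} (th : FOThickening h₀)
  [IsAffine X₀] [IsAffine S₀] [IsAffine T]
  {t : T ⟶ S₀} {pX : XT ⟶ T} {qX : XT ⟶ X₀} {pE : ET ⟶ T} {qE : ET ⟶ th.E₀}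
  (hXT : IsPullback pX qX t h₀) (hET : IsPullback pE qE t th.e₀)
  (ιT : XT ⟶ ET) (hι1 : ιT ≫ pE = pX) (hι2 : ιT ≫ qE = qX ≫ th.ι₀)

include hXT hET hι1 hι2 in
/-- If the base change `X_T ⟶ T` is smooth, the base-changed thickening retracts onto `X₀`. -/
theorem exists_retraction_of_smooth [Smooth pX] :
    ∃ s : ET ⟶ X₀, s ≫ h₀ = pE ≫ t ∧ ιT ≫ s = qX := by
  have := th.isAffine
  have hXTaff : IsAffine XT := .of_isPullback hXT
  have hsm : pX.appTop.hom.FormallySmooth :=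
    ((HasRingHomProperty.iff_of_isAffine (P := @Smooth)).mp ‹Smooth pX›).formallySmooth
  obtain ⟨σ, hσ1, hσ2⟩ := exists_section_of_formallySmooth t.appTop h₀.appTop th.e₀.appTop
    th.ι₀.appTop pX.appTop qX.appTop pE.appTop qE.appTop ιT.appTop
    (by rw [← Scheme.Hom.comp_appTop, th.fac])
    (isPushout_appTop_of_isPullback hXT) (isPushout_appTop_of_isPullback hET)
    (by rw [← Scheme.Hom.comp_appTop, hι1])
    (by rw [← Scheme.Hom.comp_appTop, hι2, Scheme.Hom.comp_appTop])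
    th.surj th.sq hsm
  obtain ⟨s, rfl⟩ := exists_hom_appTop_eq (Z := ET) (X₀ := X₀) σ
  refine ⟨s, ?_, ?_⟩
  · apply ext_of_isAffine
    rw [Scheme.Hom.comp_appTop, Scheme.Hom.comp_appTop, hσ1]
  · apply ext_of_isAffine
    rw [Scheme.Hom.comp_appTop, hσ2]

include hXT hET hι1 hι2 in
/-- If the base-changed thickening retracts onto `X₀`, the base change `X_T ⟶ T` is smooth. -/
theorem smooth_of_retraction [LocallyOfFinitePresentation h₀] (s : ET ⟶ X₀)
    (hs1 : s ≫ h₀ = pE ≫ t) (hs2 : ιT ≫ s = qX) : Smooth pX := by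
  have := th.isAffine
  have hXTaff : IsAffine XT := .of_isPullback hXT
  have hfp : LocallyOfFinitePresentation pX :=
    MorphismProperty.of_isPullback (P := @LocallyOfFinitePresentation) hXT.flip inferInstance
  have hfp' : pX.appTop.hom.FinitePresentation :=
    (HasRingHomProperty.iff_of_isAffine (P := @LocallyOfFinitePresentation)).mp hfp
  have hfs : pX.appTop.hom.FormallySmooth :=
    formallySmooth_of_section t.appTop h₀.appTop th.e₀.appTop
      th.ι₀.appTop pX.appTop qX.appTop pE.appTop qE.appTop ιT.appTop th.φP th.πE th.hπE th.hP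
      th.hπs th.hkerπ (by rw [← Scheme.Hom.comp_appTop, th.fac])
      (isPushout_appTop_of_isPullback hXT) (isPushout_appTop_of_isPullback hET)
      (by rw [← Scheme.Hom.comp_appTop, hι1])
      (by rw [← Scheme.Hom.comp_appTop, hι2, Scheme.Hom.comp_appTop])
      s.appTop (by rw [← Scheme.Hom.comp_appTop, hs1, Scheme.Hom.comp_appTop])
      (by rw [← Scheme.Hom.comp_appTop, hs2])
  rw [HasRingHomProperty.iff_of_isAffine (P := @Smooth), RingHom.smooth_def]
  exact ⟨hfs, hfp'⟩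

end Criterion

end Groth.Agent.H24
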