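import Mathlib
import Groth.Agent.H24.LimitLocus
import Groth.Agent.H24.LimitIff
import Groth.Agent.H24.SmoothCritScheme

/-!
# Smooth morphisms descend to a stage of a cofiltered limit (helper24)

All-affine core: via the retraction criterion for the first-order thickening and Mathlib's descent
of morphisms to schemes locally of finite presentation.
-/

set_option autoImplicit false
universe u
open CategoryTheory CategoryTheory.Limits AlgebraicGeometry

namespace Groth.Agent.H24

section Fst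

variable {I : Type u} [Category.{u} I] (D : I ⥤ Scheme.{u}) (c : Cone D) (i₀ : I)
  {X₀ : Scheme.{u}} (h₀ : X₀ ⟶ D.obj i₀)

theorem prop_stageMap_id_iff_fst (P : MorphismProperty Scheme.{u}) [P.RespectsIso] (ψ : Over i₀) :
    P (stageMap D i₀ h₀ (𝟙 _) ψ) ↔ P (pullback.fst (D.map ψ.hom) h₀) := by
  rw [prop_stageMap_id_iff D i₀ P h₀ ψ, ← pullbackSymmetry_hom_comp_fst,
    P.cancel_left_of_respectsIso]

theorem prop_limMap_id_iff_fst (P : MorphismProperty Scheme.{u}) [P.RespectsIso] :
    P (limMap D c i₀ h₀ (𝟙 _)) ↔ P (pullback.fst (c.π.app i₀) h₀) := by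
  rw [prop_limMap_id_iff D c i₀ P h₀, ← pullbackSymmetry_hom_comp_fst,
    P.cancel_left_of_respectsIso]

end Fst

section Core

variable {I : Type u} [Category.{u} I] [IsCofiltered I] (D : I ⥤ Scheme.{u}) (c : Cone D)
  [∀ {i j} (f : i ⟶ j), IsAffineHom (D.map f)] (i₀ : I) [∀ i, IsAffine (D.obj i)]
  {X₀ : Scheme.{u}} [IsAffine X₀] (h₀ : X₀ ⟶ D.obj i₀)

/-- The base change of the thickening map `X₀ ⟶ E₀` along `t`. -/
noncomputable def thickMap (th : FOThickening h₀) {T : Scheme.{u}} (t : T ⟶ D.obj i₀) :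
    pullback t h₀ ⟶ pullback t th.e₀ :=
  pullback.map t h₀ t th.e₀ (𝟙 _) th.ι₀ (𝟙 _) (by simp) (by simp [th.fac])

omit [IsCofiltered I] [∀ {i j} (f : i ⟶ j), IsAffineHom (D.map f)] [∀ i, IsAffine (D.obj i)]
  [IsAffine X₀] in
set_option backward.isDefEq.respectTransparency false in
@[reassoc (attr := simp)]
theorem thickMap_fst (th : FOThickening h₀) {T : Scheme.{u}} (t : T ⟶ D.obj i₀) :
    thickMap D i₀ h₀ th t ≫ pullback.fst t th.e₀ = pullback.fst t h₀ := by
  simp [thickMap, pullback.map]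

omit [IsCofiltered I] [∀ {i j} (f : i ⟶ j), IsAffineHom (D.map f)] [∀ i, IsAffine (D.obj i)]
  [IsAffine X₀] in
set_option backward.isDefEq.respectTransparency false in
@[reassoc (attr := simp)]
theorem thickMap_snd (th : FOThickening h₀) {T : Scheme.{u}} (t : T ⟶ D.obj i₀) :
    thickMap D i₀ h₀ th t ≫ pullback.snd t th.e₀ = pullback.snd t h₀ ≫ th.ι₀ := by
  simp [thickMap, pullback.map]

omit [IsCofiltered I] [∀ {i j} (f : i ⟶ j), IsAffineHom (D.map f)] [∀ i, IsAffine (D.obj i)]
  [IsAffine X₀] in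
set_option backward.isDefEq.respectTransparency false in
theorem thickMap_naturality (th : FOThickening h₀) {φ ψ : Over i₀} (f : φ ⟶ ψ) :
    (pullbackDiagram D i₀ h₀).map f ≫ thickMap D i₀ h₀ th (D.map ψ.hom) =
      thickMap D i₀ h₀ th (D.map φ.hom) ≫ (pullbackDiagram D i₀ th.e₀).map f := by
  apply pullback.hom_ext
  · rw [Category.assoc, Category.assoc, thickMap_fst, pullbackDiagram_map_fst,
      pullbackDiagram_map_fst, thickMap_fst_assoc]
  · rw [Category.assoc, Category.assoc, thickMap_snd, pullbackDiagram_map_snd,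
      pullbackDiagram_map_snd_assoc, thickMap_snd]

omit [IsCofiltered I] [∀ {i j} (f : i ⟶ j), IsAffineHom (D.map f)] [∀ i, IsAffine (D.obj i)]
  [IsAffine X₀] in
set_option backward.isDefEq.respectTransparency false in
theorem thickMap_cone (th : FOThickening h₀) (ψ : Over i₀) :
    (pullbackCone D c i₀ h₀).π.app ψ ≫ thickMap D i₀ h₀ th (D.map ψ.hom) =
      thickMap D i₀ h₀ th (c.π.app i₀) ≫ (pullbackCone D c i₀ th.e₀).π.app ψ := by
  apply pullback.hom_ext
  · rw [Category.assoc, Category.assoc, thickMap_fst, pullbackCone_π_fst,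
      pullbackCone_π_fst, thickMap_fst_assoc]
  · rw [Category.assoc, Category.assoc, thickMap_snd, pullbackCone_π_snd,
      pullbackCone_π_snd_assoc, thickMap_snd]

set_option backward.isDefEq.respectTransparency false in
/-- **Smoothness descends to a stage** (all-affine core, first projections). -/
theorem exists_smooth_fst [LocallyOfFinitePresentation h₀] (hc : IsLimit c)
    (h : Smooth (pullback.fst (c.π.app i₀) h₀)) :
    ∃ ψ : Over i₀, Smooth (pullback.fst (D.map ψ.hom) h₀) := by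
  obtain ⟨th⟩ := nonempty_foThickening h₀
  have := th.isAffine
  have hcaff : IsAffine c.pt := Scheme.isAffine_of_isLimit c hc
  have hcaff' : IsAffine (((Functor.const I).obj c.pt).obj i₀) := hcaff
  let FE := pullbackDiagram D i₀ th.e₀
  let cE := pullbackCone D c i₀ th.e₀
  have hcE : IsLimit cE := isLimitPullbackCone D c i₀ th.e₀ hc
  let FX := pullbackDiagram D i₀ h₀
  let cX := pullbackCone D c i₀ h₀
  have hcX : IsLimit cX := isLimitPullbackCone D c i₀ h₀ hc
  have hFEaff : ∀ {φ ψ : Over i₀} (f : φ ⟶ ψ), IsAffineHom (FE.map f) := fun f =>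
    MorphismProperty.of_isPullback (P := @IsAffineHom)
      (isPullback_pullbackDiagram_map D i₀ th.e₀ f).flip inferInstance
  have hFXaff : ∀ {φ ψ : Over i₀} (f : φ ⟶ ψ), IsAffineHom (FX.map f) := fun f =>
    MorphismProperty.of_isPullback (P := @IsAffineHom)
      (isPullback_pullbackDiagram_map D i₀ h₀ f).flip inferInstance
  have hFEa : ∀ ψ, IsAffine (FE.obj ψ) := fun ψ =>
    inferInstanceAs (IsAffine (pullback (D.map ψ.hom) th.e₀))
  have hFXa : ∀ ψ, IsAffine (FX.obj ψ) := fun ψ =>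
    inferInstanceAs (IsAffine (pullback (D.map ψ.hom) h₀))
  -- the retraction at the limit
  obtain ⟨s, hs1, hs2⟩ := exists_retraction_of_smooth th
    (IsPullback.of_hasPullback (c.π.app i₀) h₀) (IsPullback.of_hasPullback (c.π.app i₀) th.e₀)
    (thickMap D i₀ h₀ th (c.π.app i₀)) (thickMap_fst D i₀ h₀ th _) (thickMap_snd D i₀ h₀ th _)
  -- descend the retraction to a stage
  let tE : FE ⟶ (Functor.const (Over i₀)).obj (D.obj i₀) :=
    { app := fun ψ => pullback.fst (D.map ψ.hom) th.e₀ ≫ D.map ψ.hom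
      naturality := fun φ ψ f => by
        simp only [Functor.const_obj_obj, Functor.const_obj_map, Category.comp_id]
        rw [← Category.assoc, pullbackDiagram_map_fst, Category.assoc, ← D.map_comp, Over.w f] }
  have hcompE : ∀ ψ, CompactSpace (FE.obj ψ) := fun ψ => inferInstance
  have hqsE : ∀ ψ, QuasiSeparatedSpace (FE.obj ψ) := fun ψ => inferInstance
  have ha : cE.π ≫ tE = (Functor.const _).map (s ≫ h₀) := by
    ext ψ : 2
    change cE.π.app ψ ≫ pullback.fst (D.map ψ.hom) th.e₀ ≫ D.map ψ.hom = s ≫ h₀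
    rw [← Category.assoc, pullbackCone_π_fst, Category.assoc, c.w, hs1]
  obtain ⟨ψ, sψ, hsψ1, hsψ2⟩ :=
    Scheme.exists_π_app_comp_eq_of_locallyOfFinitePresentation FE tE h₀ cE hcE s ha
  -- compare with the projection on `X_ψ`
  let tX : FX ⟶ (Functor.const (Over i₀)).obj (D.obj i₀) :=
    { app := fun ψ => pullback.fst (D.map ψ.hom) h₀ ≫ D.map ψ.hom
      naturality := fun φ ψ f => by
        simp only [Functor.const_obj_obj, Functor.const_obj_map, Category.comp_id]
        rw [← Category.assoc, pullbackDiagram_map_fst, Category.assoc, ← D.map_comp, Over.w f] }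
  have hcompX : ∀ ψ, CompactSpace (FX.obj ψ) := fun ψ => inferInstance
  have hnat : ∀ {φ ψ : Over i₀} (f : φ ⟶ ψ),
      FX.map f ≫ thickMap D i₀ h₀ th (D.map ψ.hom) =
        thickMap D i₀ h₀ th (D.map φ.hom) ≫ FE.map f := fun f =>
    thickMap_naturality D i₀ h₀ th f
  have hnatc : cX.π.app ψ ≫ thickMap D i₀ h₀ th (D.map ψ.hom) =
      thickMap D i₀ h₀ th (c.π.app i₀) ≫ cE.π.app ψ := thickMap_cone D c i₀ h₀ th ψ
  obtain ⟨ψ', b, hb⟩ := Scheme.exists_hom_comp_eq_comp_of_locallyOfFiniteType FX tX h₀ cX hcX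
    (thickMap D i₀ h₀ th (D.map ψ.hom) ≫ sψ) (pullback.snd (D.map ψ.hom) h₀)
    (by
      change pullback.fst (D.map ψ.hom) h₀ ≫ D.map ψ.hom = _
      rw [Category.assoc, hsψ2]
      change _ = thickMap D i₀ h₀ th (D.map ψ.hom) ≫ pullback.fst (D.map ψ.hom) th.e₀ ≫ D.map ψ.hom
      rw [thickMap_fst_assoc])
    (by
      change pullback.fst (D.map ψ.hom) h₀ ≫ D.map ψ.hom = _
      exact pullback.condition)
    (by rw [← Category.assoc, hnatc, Category.assoc, hsψ1, hs2, pullbackCone_π_snd])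
  refine ⟨ψ', smooth_of_retraction th (IsPullback.of_hasPullback (D.map ψ'.hom) h₀)
    (IsPullback.of_hasPullback (D.map ψ'.hom) th.e₀) (thickMap D i₀ h₀ th (D.map ψ'.hom))
    (thickMap_fst D i₀ h₀ th _) (thickMap_snd D i₀ h₀ th _) (FE.map b ≫ sψ) ?_ ?_⟩
  · rw [Category.assoc, hsψ2]
    change FE.map b ≫ pullback.fst (D.map ψ.hom) th.e₀ ≫ D.map ψ.hom = _
    rw [← Category.assoc, pullbackDiagram_map_fst, Category.assoc, ← D.map_comp, Over.w b]
  · rw [← Category.assoc, ← hnat, Category.assoc, hb, pullbackDiagram_map_snd]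

end Core

/-- The all-affine core descent statement for smooth morphisms. -/
theorem coreDescent_smooth : CoreDescent.{u} @Smooth := by
  intro J _ _ D' _ c' hc' j₀ _ X₀' _ h₀ _ hlim
  have h1 := (prop_limMap_id_iff_fst D' c' j₀ h₀ @Smooth).mp hlim
  obtain ⟨χ, hχ⟩ := exists_smooth_fst D' c' j₀ h₀ hc' h1
  exact ⟨χ, (prop_stageMap_id_iff_fst D' j₀ h₀ @Smooth χ).mpr hχ⟩

end Groth.Agent.H24
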