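import Mathlib
import Groth.Agent.H24.LimitIff
import Groth.Agent.H24.LimitClosedImmAffine

/-!
# Universally open morphisms via affine spaces (helper24)

`universallyOpen_of_forall_isOpenMap_affineSpace`: if the base change of `f : X ⟶ Y` to `𝔸ⁿ_Y` is
an open map for all `n > 0`, then `f` is universally open (EGA IV 8.10.2 / 14.3.?).
-/

set_option autoImplicit false
universe u
open CategoryTheory CategoryTheory.Limits AlgebraicGeometry

namespace Groth.Agent.H24

/-- The base change of an open map along a preimmersion is an open map. -/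
theorem isOpenMap_of_isPullback_of_isPreimmersion {X' Y' Z W : Scheme.{u}} {p : W ⟶ X'}
    {q : W ⟶ Z} {f' : X' ⟶ Y'} {j : Z ⟶ Y'} (h : IsPullback p q f' j) [IsPreimmersion j]
    (hf' : IsOpenMap f') : IsOpenMap q := by
  have hp : IsPreimmersion p := MorphismProperty.of_isPullback h.flip inferInstance
  intro V hV
  obtain ⟨V', hV', rfl⟩ := p.isEmbedding.isOpen_iff.mp hV
  rw [Scheme.image_preimage_eq_of_isPullback h]
  exact (hf' V' hV').preimage j.continuous

end Groth.Agent.H24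

namespace Groth.Agent.H24

/-- A finite type morphism of affine schemes is a closed subscheme of an affine space `𝔸ⁿ` with
`n > 0`, the index type being `ULift (Fin (m + 1))`. -/
theorem exists_isClosedImmersion_homOfVector_fin {X₀ Y₀ : Scheme.{u}} (f₀ : X₀ ⟶ Y₀) [IsAffine X₀]
    [IsAffine Y₀] [LocallyOfFiniteType f₀] :
    ∃ (m : ℕ) (b : ULift.{u} (Fin (m + 1)) → Γ(X₀, ⊤)),
      IsClosedImmersion (AffineSpace.homOfVector f₀ b) := by
  classical
  have hft : RingHom.FiniteType f₀.appTop.hom :=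
    (HasRingHomProperty.iff_of_isAffine (P := @LocallyOfFiniteType)).mp inferInstance
  let _ := f₀.appTop.hom.toAlgebra
  obtain ⟨t, ht⟩ : ∃ t : Finset Γ(X₀, ⊤), Algebra.adjoin Γ(Y₀, ⊤) (t : Set Γ(X₀, ⊤)) = ⊤ :=
    hft.out
  let e : ↥t ≃ Fin t.card := t.equivFin
  let b : ULift.{u} (Fin (t.card + 1)) → Γ(X₀, ⊤) := fun i =>
    if h : i.down.val < t.card then (e.symm ⟨i.down.val, h⟩).val else 0
  refine ⟨t.card, b, ?_⟩
  refine IsClosedImmersion.of_surjective_of_isAffine _ fun x => ?_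
  have hx : x ∈ Algebra.adjoin Γ(Y₀, ⊤) (t : Set Γ(X₀, ⊤)) := by rw [ht]; trivial
  induction hx using Algebra.adjoin_induction with
  | mem x hx =>
    refine ⟨AffineSpace.coord Y₀ (ULift.up (Fin.castSucc (e ⟨x, hx⟩))), ?_⟩
    rw [AffineSpace.homOfVector_appTop_coord]
    simp [b]
  | algebraMap r =>
    refine ⟨(𝔸(ULift.{u} (Fin (t.card + 1)); Y₀) ↘ Y₀).appTop r, ?_⟩
    have h1 : AffineSpace.homOfVector f₀ b ≫ 𝔸(ULift.{u} (Fin (t.card + 1)); Y₀) ↘ Y₀ = f₀ :=
      AffineSpace.homOfVector_over _ _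
    have h2 : (AffineSpace.homOfVector f₀ b ≫
        𝔸(ULift.{u} (Fin (t.card + 1)); Y₀) ↘ Y₀).appTop r = f₀.appTop r := by rw [h1]
    rw [Scheme.Hom.comp_appTop, CommRingCat.comp_apply] at h2
    exact h2
  | add x y _ _ hx hy =>
    obtain ⟨x', rfl⟩ := hx
    obtain ⟨y', rfl⟩ := hy
    exact ⟨x' + y', map_add _ _ _⟩
  | mul x y _ _ hx hy =>
    obtain ⟨x', rfl⟩ := hx
    obtain ⟨y', rfl⟩ := hy
    exact ⟨x' * y', map_mul _ _ _⟩

end Groth.Agent.H24

namespace Groth.Agent.H24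

section UnivOpen

variable {X Y : Scheme.{u}} (f : X ⟶ Y)

/-- Base change of `f` along a preimmersion into affine space over `Y`. -/
theorem isOpenMap_snd_of_isPreimmersion_affineSpace (n : Type u) {Z : Scheme.{u}}
    (j : Z ⟶ 𝔸(n; Y)) [IsPreimmersion j]
    (h : IsOpenMap (pullback.snd f (𝔸(n; Y) ↘ Y))) :
    IsOpenMap (pullback.snd f (j ≫ 𝔸(n; Y) ↘ Y)) :=
  isOpenMap_of_isPullback_of_isPreimmersion
    (IsPullback.of_right' (IsPullback.of_hasPullback f (j ≫ 𝔸(n; Y) ↘ Y))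
      (IsPullback.of_hasPullback f (𝔸(n; Y) ↘ Y))) h

/-- Base change of `f` along a finite type algebra over an affine open of `Y`. -/
theorem isOpenMap_snd_of_finiteType {A C : CommRingCat.{u}} (ψ : A ⟶ C)
    (hψ : ψ.hom.FiniteType) (u : Spec A ⟶ Y) [IsOpenImmersion u]
    (h : ∀ n : ℕ, 0 < n → IsOpenMap (pullback.snd f (𝔸(ULift.{u} (Fin n); Y) ↘ Y))) :
    IsOpenMap (pullback.snd f (Spec.map ψ ≫ u)) := by
  have : LocallyOfFiniteType (Spec.map ψ) :=
    (HasRingHomProperty.Spec_iff (P := @LocallyOfFiniteType)).mpr hψ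
  obtain ⟨m, b, hb⟩ := exists_isClosedImmersion_homOfVector_fin (Spec.map ψ)
  have hopen : IsOpenImmersion (AffineSpace.map (ULift.{u} (Fin (m + 1))) u) :=
    MorphismProperty.of_isPullback (P := @IsOpenImmersion)
      (AffineSpace.isPullback_map (n := ULift.{u} (Fin (m + 1))) u).flip inferInstance
  let j := AffineSpace.homOfVector (Spec.map ψ) b ≫ AffineSpace.map (ULift.{u} (Fin (m + 1))) u
  have hj : j ≫ 𝔸(ULift.{u} (Fin (m + 1)); Y) ↘ Y = Spec.map ψ ≫ u := by
    rw [Category.assoc, AffineSpace.map_over, ← Category.assoc, AffineSpace.homOfVector_over]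
  have := isOpenMap_snd_of_isPreimmersion_affineSpace f (ULift.{u} (Fin (m + 1))) j
    (h (m + 1) (Nat.succ_pos m))
  rwa [hj] at this

end UnivOpen

end Groth.Agent.H24

namespace Groth.Agent.H24

/-- Recognising directed colimits in `CommRingCat`. -/
theorem isColimit_commRingCat_of_directed {J : Type u} [Preorder J]
    [IsDirected J (· ≤ ·)] [Nonempty J] (F : J ⥤ CommRingCat.{u}) (c : Cocone F)
    (hsurj : ∀ s : c.pt, ∃ (i : J) (x : F.obj i), c.ι.app i x = s)
    (hinj : ∀ (i : J) (x y : F.obj i), c.ι.app i x = c.ι.app i y →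
      ∃ (k : J) (h : i ≤ k), F.map (homOfLE h) x = F.map (homOfLE h) y) :
    Nonempty (IsColimit c) := by
  have h1 : IsColimit ((forget CommRingCat).mapCocone c) := by
    refine Types.FilteredColimit.isColimitOf' _ _ ?_ ?_
    · intro x
      obtain ⟨i, y, hy⟩ := hsurj x
      exact ⟨i, y, hy.symm⟩
    · intro i x y hxy
      obtain ⟨k, h, hk⟩ := hinj i x y hxy
      exact ⟨k, homOfLE h, hk⟩
  have : ReflectsColimit F (forget CommRingCat) :=
    reflectsColimit_of_reflectsIsomorphisms _ _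
  exact ⟨isColimitOfReflects (forget CommRingCat) h1⟩

section SubalgSystem

variable {A C : CommRingCat.{u}} (φ : A ⟶ C)

/-- The directed set of finitely generated `A`-subalgebras of `C`. -/
abbrev FGSub : Type u :=
  letI := φ.hom.toAlgebra
  {C' : Subalgebra A C // C'.FG}

instance : Nonempty (FGSub φ) :=
  letI := φ.hom.toAlgebra
  ⟨⟨⊥, Subalgebra.fg_bot⟩⟩

instance : IsDirected (FGSub φ) (· ≤ ·) :=
  letI := φ.hom.toAlgebra
  ⟨fun a b => ⟨⟨a.1 ⊔ b.1, a.2.sup b.2⟩, (le_sup_left : a.1 ≤ a.1 ⊔ b.1),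
    (le_sup_right : b.1 ≤ a.1 ⊔ b.1)⟩⟩

/-- The diagram of finitely generated subalgebras. -/
noncomputable def fgSubDiagram : FGSub φ ⥤ CommRingCat.{u} :=
  letI := φ.hom.toAlgebra
  { obj := fun C' => CommRingCat.of C'.1
    map := fun {X Y} g =>
      CommRingCat.ofHom (Subalgebra.inclusion (show X.1 ≤ Y.1 from leOfHom g)).toRingHom
    map_id := fun X => by ext x; rfl
    map_comp := fun g g' => by ext x; rfl }

/-- The cocone of the diagram of finitely generated subalgebras. -/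
noncomputable def fgSubCocone : Cocone (fgSubDiagram φ) :=
  letI := φ.hom.toAlgebra
  { pt := C
    ι := { app := fun C' => CommRingCat.ofHom C'.1.val.toRingHom
           naturality := fun X Y g => by ext x; rfl } }

theorem isColimit_fgSubCocone : Nonempty (IsColimit (fgSubCocone φ)) := by
  letI := φ.hom.toAlgebra
  apply isColimit_commRingCat_of_directed
  · intro (b : C)
    exact ⟨⟨Algebra.adjoin A {b}, Subalgebra.fg_def.mpr ⟨{b}, Set.finite_singleton b, rfl⟩⟩,
      ⟨b, Algebra.subset_adjoin (Set.mem_singleton b)⟩, rfl⟩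
  · intro i x y hxy
    exact ⟨i, le_rfl, by
      have : x = y := Subtype.ext hxy
      rw [this]⟩

/-- The structure map `A ⟶ C'` of a finitely generated subalgebra. -/
noncomputable def fgSubStr (i : FGSub φ) : A ⟶ (fgSubDiagram φ).obj i :=
  letI := φ.hom.toAlgebra
  CommRingCat.ofHom (algebraMap A i.1)

theorem fgSubStr_finiteType (i : FGSub φ) : (fgSubStr φ i).hom.FiniteType := by
  letI := φ.hom.toAlgebra
  have : Algebra.FiniteType A i.1 := (Subalgebra.fg_iff_finiteType i.1).mp i.2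
  exact (RingHom.finiteType_algebraMap (A := A) (B := i.1)).mpr this

theorem fgSubStr_map {i j : FGSub φ} (g : i ⟶ j) :
    fgSubStr φ i ≫ (fgSubDiagram φ).map g = fgSubStr φ j := by
  ext x; rfl

theorem fgSubStr_ι (i : FGSub φ) : fgSubStr φ i ≫ (fgSubCocone φ).ι.app i = φ := by
  ext x; rfl

end SubalgSystem

end Groth.Agent.H24

namespace Groth.Agent.H24

section Star

variable {X Y : Scheme.{u}} (f : X ⟶ Y)

/-- The smallest finitely generated subalgebra. -/
noncomputable def fgSubBot {A C : CommRingCat.{u}} (φ : A ⟶ C) : FGSub φ :=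
  letI := φ.hom.toAlgebra
  ⟨⊥, Subalgebra.fg_bot⟩

set_option backward.isDefEq.respectTransparency false in
/-- Base change of `f` along an arbitrary algebra over an affine open of `Y`: limit argument over
the finitely generated subalgebras. -/
theorem isOpenMap_snd_of_spec {A C : CommRingCat.{u}} (φ : A ⟶ C) (u : Spec A ⟶ Y)
    [IsOpenImmersion u]
    (h : ∀ n : ℕ, 0 < n → IsOpenMap (pullback.snd f (𝔸(ULift.{u} (Fin n); Y) ↘ Y))) :
    IsOpenMap (pullback.snd f (Spec.map φ ≫ u)) := by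
  let P : MorphismProperty Scheme.{u} := topologically IsOpenMap
  let F := fgSubDiagram φ
  let D : (FGSub φ)ᵒᵖ ⥤ Scheme.{u} := F.op ⋙ Scheme.Spec
  obtain ⟨hc₀⟩ := isColimit_fgSubCocone φ
  let c : Cone D := Scheme.Spec.mapCone (fgSubCocone φ).op
  have hc : IsLimit c := isLimitOfPreserves Scheme.Spec hc₀.op
  have haff : ∀ {i j : (FGSub φ)ᵒᵖ} (g : i ⟶ j), IsAffineHom (D.map g) := fun g => by
    dsimp [D]; infer_instance
  let i₀ : (FGSub φ)ᵒᵖ := Opposite.op (fgSubBot φ)
  let a : ∀ i : FGSub φ, Spec (F.obj i) ⟶ Y := fun i => Spec.map (fgSubStr φ i) ≫ u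
  have hstage : ∀ i, P (pullback.snd f (a i)) := fun i =>
    isOpenMap_snd_of_finiteType f _ (fgSubStr_finiteType φ i) u h
  let a₀ : D.obj i₀ ⟶ Y := a (fgSubBot φ)
  let f₀ : pullback f a₀ ⟶ D.obj i₀ := pullback.snd f a₀
  have hDa : ∀ ψ : Over i₀, D.map ψ.hom ≫ a₀ = a ψ.left.unop := by
    intro ψ
    change Spec.map (F.map ψ.hom.unop) ≫ Spec.map (fgSubStr φ (fgSubBot φ)) ≫ u = _
    rw [← Category.assoc, ← Spec.map_comp, fgSubStr_map]
  have hstageMap : ∀ ψ : Over i₀, P (stageMap D i₀ f₀ (𝟙 _) ψ) := by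
    intro ψ
    rw [prop_stageMap_id_iff D i₀ P f₀ ψ]
    have sq := (IsPullback.of_hasPullback f₀ (D.map ψ.hom)).paste_horiz
      (IsPullback.of_hasPullback f a₀)
    exact (prop_iff_of_isPullback P (Iso.refl _)
      (by rw [Iso.refl_hom, Category.id_comp]; exact (hDa ψ).symm) sq
      (IsPullback.of_hasPullback f (a ψ.left.unop))).mpr (hstage _)
  have hlim : P (limMap D c i₀ f₀ (𝟙 _)) :=
    isOpenMap_of_stageMap D c i₀ f₀ (𝟙 _) hc (pullback.fst (c.π.app i₀) (𝟙 _))
      (pullback.snd (c.π.app i₀) (𝟙 _)) (IsPullback.of_hasPullback _ _).flip (Over.mk (𝟙 i₀))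
      (fun ψ _ => hstageMap ψ)
  rw [prop_limMap_id_iff D c i₀ P f₀] at hlim
  have hca : c.π.app i₀ ≫ a₀ = Spec.map φ ≫ u := by
    change Spec.map ((fgSubCocone φ).ι.app (fgSubBot φ)) ≫
      Spec.map (fgSubStr φ (fgSubBot φ)) ≫ u = _
    rw [← Category.assoc, ← Spec.map_comp, fgSubStr_ι]
  have sq := (IsPullback.of_hasPullback f₀ (c.π.app i₀)).paste_horiz
    (IsPullback.of_hasPullback f a₀)
  exact (prop_iff_of_isPullback P (Iso.refl _)
    (by rw [Iso.refl_hom, Category.id_comp]; exact hca.symm) sq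
    (IsPullback.of_hasPullback f (Spec.map φ ≫ u))).mp hlim

end Star

end Groth.Agent.H24

namespace Groth.Agent.H24

set_option backward.isDefEq.respectTransparency false in
/-- **EGA IV 8.10.2-type criterion**: if the base change of `f` to `𝔸ⁿ_Y` is an open map for all
`n > 0`, then `f` is universally open. -/
theorem universallyOpen_of_forall_isOpenMap_affineSpace {X Y : Scheme.{u}} (f : X ⟶ Y)
    (h : ∀ n : ℕ, 0 < n → IsOpenMap (pullback.snd f (𝔸(ULift.{u} (Fin n); Y) ↘ Y))) :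
    UniversallyOpen f := by
  refine ⟨MorphismProperty.universally_mk' _ _ fun {Y'} g _ => ?_⟩
  apply IsZariskiLocalAtTarget.of_forall_exists_morphismRestrict (P := topologically IsOpenMap)
  intro y'
  obtain ⟨U, hU, hyU⟩ : ∃ U : Y.Opens, IsAffineOpen U ∧ g y' ∈ U := by
    obtain ⟨_, ⟨U, hU, rfl⟩, hy, -⟩ := Y.isBasis_affineOpens.exists_subset_of_mem_open
      (Set.mem_univ (g y')) isOpen_univ
    exact ⟨U, hU, hy⟩
  obtain ⟨W, hW, hyW, hWU⟩ : ∃ W : Y'.Opens, IsAffineOpen W ∧ y' ∈ W ∧ W ≤ g ⁻¹ᵁ U := by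
    obtain ⟨_, ⟨W, hW, rfl⟩, hy, hWU⟩ := Y'.isBasis_affineOpens.exists_subset_of_mem_open
      (show y' ∈ ((g ⁻¹ᵁ U : Y'.Opens) : Set Y') from hyU) (g ⁻¹ᵁ U).2
    exact ⟨W, hW, hy, hWU⟩
  refine ⟨W, hyW, ?_⟩
  have sq1 : IsPullback ((pullback.fst g f ⁻¹ᵁ W).ι) (pullback.fst g f ∣_ W) (pullback.fst g f) W.ι :=
    (isPullback_morphismRestrict (pullback.fst g f) W).flip
  have sq : IsPullback ((pullback.fst g f ⁻¹ᵁ W).ι ≫ pullback.snd g f) (pullback.fst g f ∣_ W) f
      (W.ι ≫ g) := sq1.paste_horiz (IsPullback.of_hasPullback g f).flip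
  have key : hW.isoSpec.hom ≫ (Spec.map (g.appLE U W hWU) ≫ hU.fromSpec) = W.ι ≫ g := by
    rw [IsAffineOpen.SpecMap_appLE_fromSpec g hU hW hWU, ← Category.assoc,
      IsAffineOpen.isoSpec_hom_fromSpec]
  exact (prop_iff_of_isPullback (topologically IsOpenMap) hW.isoSpec key sq
    (IsPullback.of_hasPullback f _)).mpr (isOpenMap_snd_of_spec f _ hU.fromSpec h)

end Groth.Agent.H24
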