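import Mathlib
import Groth.Agent.H24.DescFP6
import Groth.Agent.H24.LimitLocusSmooth
import Groth.Agent.H24.UnivOpen

/-!
# Descending finitely presented morphisms with a property; models over finitely generated
`ℤ`-subalgebras (helper24)
-/

set_option autoImplicit false
universe u
open CategoryTheory CategoryTheory.Limits AlgebraicGeometry TopologicalSpace

namespace Groth.Agent.H24

section PropDesc

variable {I : Type u} [Category.{u} I] [IsCofiltered I] (D : I ⥤ Scheme.{u}) (c : Cone D)
  [∀ {i j} (f : i ⟶ j), IsAffineHom (D.map f)]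

set_option backward.isDefEq.respectTransparency false in
/-- A finitely presented morphism over `lim S_i` with a property `P` admitting an all-affine core
descent is the base change of a finitely presented morphism with `P` over some `S_i`. -/
theorem exists_descAt_prop (P : MorphismProperty Scheme.{u})
    [P.IsStableUnderBaseChange] [IsZariskiLocalAtSource P] [P.IsStableUnderComposition]
    (hOI : ∀ {A B : Scheme.{u}} (j : A ⟶ B) [IsOpenImmersion j], P j)
    (hcore : CoreDescent P) (hc : IsLimit c) [∀ i, CompactSpace (D.obj i)]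
    [∀ i, QuasiSeparatedSpace (D.obj i)] {X : Scheme.{u}} (f : X ⟶ c.pt)
    [LocallyOfFinitePresentation f] [QuasiCompact f] [QuasiSeparated f] (hf : P f) :
    ∃ (j : I) (Xj : Scheme.{u}) (fj : Xj ⟶ D.obj j) (g : X ⟶ Xj),
      LocallyOfFinitePresentation fj ∧ CompactSpace Xj ∧ QuasiSeparatedSpace Xj ∧ P fj ∧
        IsPullback g f fj (c.π.app j) := by
  obtain ⟨i, Xi, fi, g, h1, h2, h3, h4⟩ := exists_descAt D c hc f
  have hlim : P (limMap D c i fi (𝟙 _)) := by
    rw [prop_limMap_id_iff_fst D c i fi P]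
    have h5 : h4.flip.isoPullback.hom ≫ pullback.fst (c.π.app i) fi = f :=
      h4.flip.isoPullback_hom_fst
    rw [← P.cancel_left_of_respectsIso h4.flip.isoPullback.hom, h5]
    exact hf
  obtain ⟨ψ, hψ⟩ := exists_stageMap_of_core D c i fi (𝟙 _) P hOI hcore hc hlim
  rw [prop_stageMap_id_iff_fst D i fi P ψ] at hψ
  exact ⟨ψ.left, _, pullback.fst (D.map ψ.hom) fi, rbLift D c ψ fi h4,
    MorphismProperty.pullback_fst (P := @LocallyOfFinitePresentation) _ _ h1,
    compactSpace_rbObj D ψ fi, quasiSeparatedSpace_rbObj D ψ fi, hψ, isPullback_rbLift ψ h4⟩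

end PropDesc

section IntSub

variable (A : Type u) [CommRing A]

/-- The directed set of finitely generated `ℤ`-subalgebras of `A`. -/
abbrev FGIntSub : Type u := {A₀ : Subalgebra ℤ A // A₀.FG}

instance : Nonempty (FGIntSub A) := ⟨⟨⊥, Subalgebra.fg_bot⟩⟩

instance : IsDirected (FGIntSub A) (· ≤ ·) :=
  ⟨fun a b => ⟨⟨a.1 ⊔ b.1, a.2.sup b.2⟩, (le_sup_left : a.1 ≤ a.1 ⊔ b.1),
    (le_sup_right : b.1 ≤ a.1 ⊔ b.1)⟩⟩

/-- The diagram of finitely generated `ℤ`-subalgebras. -/
noncomputable def fgIntDiagram : FGIntSub A ⥤ CommRingCat.{u} where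
  obj A₀ := CommRingCat.of A₀.1
  map {X Y} g :=
    CommRingCat.ofHom (Subalgebra.inclusion (show X.1 ≤ Y.1 from leOfHom g)).toRingHom
  map_id X := by ext x; rfl
  map_comp g g' := by ext x; rfl

/-- The cocone of the diagram of finitely generated `ℤ`-subalgebras. -/
noncomputable def fgIntCocone : Cocone (fgIntDiagram A) where
  pt := CommRingCat.of A
  ι :=
    { app := fun A₀ => CommRingCat.ofHom (algebraMap A₀.1 A)
      naturality := fun X Y g => by ext x; rfl }

theorem isColimit_fgIntCocone : Nonempty (IsColimit (fgIntCocone A)) := by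
  apply isColimit_commRingCat_of_directed
  · intro (b : A)
    exact ⟨⟨Algebra.adjoin ℤ {b}, Subalgebra.fg_def.mpr ⟨{b}, Set.finite_singleton b, rfl⟩⟩,
      ⟨b, Algebra.subset_adjoin (Set.mem_singleton b)⟩, rfl⟩
  · intro i x y hxy
    exact ⟨i, le_rfl, by
      have : x = y := Subtype.ext hxy
      rw [this]⟩

set_option backward.isDefEq.respectTransparency false in
/-- **Models over finitely generated `ℤ`-subalgebras.** -/
theorem exists_model_over_fg_int (P : MorphismProperty Scheme.{u})
    [P.IsStableUnderBaseChange] [IsZariskiLocalAtSource P] [P.IsStableUnderComposition]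
    (hOI : ∀ {A B : Scheme.{u}} (j : A ⟶ B) [IsOpenImmersion j], P j)
    (hcore : CoreDescent P) {X : Scheme.{u}} (f : X ⟶ Spec (CommRingCat.of A))
    [LocallyOfFinitePresentation f] [QuasiCompact f] [QuasiSeparated f] (hf : P f) :
    ∃ A₀ : Subalgebra ℤ A, A₀.FG ∧
      ∃ (X₀ : Scheme.{u}) (f₀ : X₀ ⟶ Spec (CommRingCat.of ↥A₀)) (g : X ⟶ X₀),
        P f₀ ∧ LocallyOfFinitePresentation f₀ ∧ CompactSpace X₀ ∧ QuasiSeparatedSpace X₀ ∧
          IsPullback g f f₀ (Spec.map (CommRingCat.ofHom (algebraMap (↥A₀) A))) := by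
  let F := fgIntDiagram A
  let D : (FGIntSub A)ᵒᵖ ⥤ Scheme.{u} := F.op ⋙ Scheme.Spec
  obtain ⟨hc₀⟩ := isColimit_fgIntCocone A
  let c : Cone D := Scheme.Spec.mapCone (fgIntCocone A).op
  have hc : IsLimit c := isLimitOfPreserves Scheme.Spec hc₀.op
  have haff : ∀ {i j : (FGIntSub A)ᵒᵖ} (g : i ⟶ j), IsAffineHom (D.map g) := fun g => by
    dsimp [D]; infer_instance
  have hDaff : ∀ i, IsAffine (D.obj i) := fun i => by dsimp [D]; infer_instance
  have hDc : ∀ i, CompactSpace (D.obj i) := fun i => inferInstance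
  have hDs : ∀ i, QuasiSeparatedSpace (D.obj i) := fun i => inferInstance
  obtain ⟨j, Xj, fj, g, h1, h2, h3, h4, h5⟩ :=
    exists_descAt_prop D c P hOI hcore hc (X := X) f hf
  exact ⟨j.unop.1, j.unop.2, Xj, fj, g, h4, h1, h2, h3, h5⟩

end IntSub

end Groth.Agent.H24
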