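import Mathlib
import Groth.Agent.H24.LimitLocus
import Groth.Agent.H24.LimitUnram

/-!
# Unramified morphisms: pointwise and global descent to a stage without separation hypotheses
-/

set_option autoImplicit false
universe u
open CategoryTheory CategoryTheory.Limits AlgebraicGeometry

namespace Groth.Agent.H24

theorem coreDescent_formallyUnramified : CoreDescent.{u} @FormallyUnramified := by
  intro J _ _ D' _ c' hc' j₀ _ X₀' _ h₀ _ hlim
  have : QuasiSeparatedSpace (D'.obj j₀) := inferInstance
  exact exists_formallyUnramified_stageMap D' c' j₀ h₀ (𝟙 _) hc'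
    (limMap D' c' j₀ h₀ (𝟙 _)) (pullback.fst (c'.π.app j₀) (𝟙 _))
    (pullback.snd (c'.π.app j₀) (𝟙 _)) (pullback.snd (c'.π.app j₀) (h₀ ≫ 𝟙 _))
    (IsPullback.of_hasPullback _ _).flip (isPullback_limMap D' c' j₀ h₀ (𝟙 _))

end Groth.Agent.H24
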