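import Mathlib
import Groth.Agent.H24.LimitLocus
import Groth.Agent.H24.LimitLocusUnram
import Groth.Agent.H24.LimitLocusSmooth
import Groth.Agent.H24.LimitRebase

/-!
# Étale morphisms descend to a stage of a cofiltered limit (helper24)

Combination of the smooth and unramified cores.
-/

set_option autoImplicit false
universe u
open CategoryTheory CategoryTheory.Limits AlgebraicGeometry

namespace Groth.Agent.H24

/-- The all-affine core descent statement for étale morphisms. -/
theorem coreDescent_etale : CoreDescent.{u} @Etale := by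
  intro J _ _ D' _ c' hc' j₀ _ X₀' _ h₀ _ hlim
  have hs : Smooth (limMap D' c' j₀ h₀ (𝟙 _)) := inferInstance
  have hu : FormallyUnramified (limMap D' c' j₀ h₀ (𝟙 _)) := inferInstance
  obtain ⟨χ₁, h₁⟩ := coreDescent_smooth D' c' hc' j₀ h₀ hs
  obtain ⟨χ₂, h₂⟩ := coreDescent_formallyUnramified D' c' hc' j₀ h₀ hu
  let χ := IsCofiltered.min χ₁ χ₂
  let b₁ : χ ⟶ χ₁ := IsCofiltered.minToLeft χ₁ χ₂
  let b₂ : χ ⟶ χ₂ := IsCofiltered.minToRight χ₁ χ₂
  have h₁' : Smooth (stageMap D' j₀ h₀ (𝟙 _) χ) :=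
    MorphismProperty.of_isPullback (P := @Smooth) (isPullback_map_stageMap D' j₀ h₀ (𝟙 _) b₁) h₁
  have h₂' : FormallyUnramified (stageMap D' j₀ h₀ (𝟙 _) χ) :=
    MorphismProperty.of_isPullback (P := @FormallyUnramified)
      (isPullback_map_stageMap D' j₀ h₀ (𝟙 _) b₂) h₂
  exact ⟨χ, Etale.of_formallyUnramified_of_flat _⟩

end Groth.Agent.H24
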