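import Mathlib

/-!
# Morphisms from an affine scheme into an affine open (helper24)

Dictionary between ring maps `Γ(X, V) ⟶ R` and morphisms `Spec R ⟶ X` landing in the affine open
`V`.
-/

set_option autoImplicit false
universe u
open CategoryTheory CategoryTheory.Limits AlgebraicGeometry

namespace Groth.Agent.H24

variable {X : Scheme.{u}} {V : X.Opens} (hV : IsAffineOpen V)

/-- The morphism `Spec R ⟶ X` attached to a ring map `Γ(X, V) ⟶ R`. -/
noncomputable def toHomOfAffineOpen {R : CommRingCat.{u}} (y : Γ(X, V) ⟶ R) : Spec R ⟶ X :=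
  Spec.map y ≫ hV.fromSpec

theorem toHomOfAffineOpen_injective {R : CommRingCat.{u}} {y y' : Γ(X, V) ⟶ R}
    (h : toHomOfAffineOpen hV y = toHomOfAffineOpen hV y') : y = y' := by
  unfold toHomOfAffineOpen at h
  exact Spec.map_injective ((cancel_mono hV.fromSpec).mp h)

theorem toHomOfAffineOpen_comp {R R' : CommRingCat.{u}} (y : Γ(X, V) ⟶ R) (r : R ⟶ R') :
    toHomOfAffineOpen hV (y ≫ r) = Spec.map r ≫ toHomOfAffineOpen hV y := by
  unfold toHomOfAffineOpen
  rw [Spec.map_comp, Category.assoc]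

theorem toHomOfAffineOpen_preimage {R : CommRingCat.{u}} (y : Γ(X, V) ⟶ R) :
    toHomOfAffineOpen hV y ⁻¹ᵁ V = ⊤ := by
  rw [eq_top_iff]
  intro z _
  change (toHomOfAffineOpen hV y) z ∈ V
  unfold toHomOfAffineOpen
  rw [Scheme.Hom.comp_apply]
  have : hV.fromSpec (Spec.map y z) ∈ Set.range hV.fromSpec := ⟨_, rfl⟩
  rw [hV.range_fromSpec] at this
  exact this

theorem exists_toHomOfAffineOpen_eq {R : CommRingCat.{u}} (m : Spec R ⟶ X) (hm : m ⁻¹ᵁ V = ⊤) :
    ∃ y : Γ(X, V) ⟶ R, toHomOfAffineOpen hV y = m := by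
  have hrange : Set.range m ⊆ Set.range hV.fromSpec := by
    rw [hV.range_fromSpec]
    rintro _ ⟨z, rfl⟩
    have : z ∈ m ⁻¹ᵁ V := by rw [hm]; trivial
    exact this
  let l : Spec R ⟶ Spec Γ(X, V) := IsOpenImmersion.lift hV.fromSpec m hrange
  refine ⟨Spec.preimage l, ?_⟩
  unfold toHomOfAffineOpen
  rw [Spec.map_preimage]
  exact IsOpenImmersion.lift_fac _ _ _

/-- Compatibility with a morphism `f : X ⟶ S` and affine opens `V ≤ f ⁻¹ᵁ U`. -/
theorem toHomOfAffineOpen_comp_hom {S : Scheme.{u}} (f : X ⟶ S) {U : S.Opens}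
    (hU : IsAffineOpen U) (e : V ≤ f ⁻¹ᵁ U) {R : CommRingCat.{u}} (y : Γ(X, V) ⟶ R) :
    toHomOfAffineOpen hV y ≫ f = toHomOfAffineOpen hU (f.appLE U V e ≫ y) := by
  unfold toHomOfAffineOpen
  rw [Category.assoc, ← IsAffineOpen.SpecMap_appLE_fromSpec f hU hV e, Spec.map_comp,
    Category.assoc]

end Groth.Agent.H24
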