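import Groth.Agent.H24.TorsionFreeEmbed
import Mathlib.RingTheory.Ideal.AssociatedPrime.Basic
import Mathlib.RingTheory.Ideal.AssociatedPrime.Localization
import Mathlib.RingTheory.Ideal.AssociatedPrime.Finiteness
import Mathlib.Order.RelSeries
import Mathlib.Algebra.Module.Torsion.Basic

set_option autoImplicit false
universe u

namespace Groth.Agent.H24

section

variable (A : Type u) [CommRing A] (M : Type u) [AddCommGroup M] [Module A M] (p : Ideal A)

/-- The step relation: `L' ≤ L` and `L / L'` embeds into `A / p`. -/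
def stepRel : SetRel (Submodule A M) (Submodule A M) :=
  {x | x.2 ≤ x.1 ∧ ∃ g : (↥x.1 ⧸ Submodule.comap x.1.subtype x.2) →ₗ[A] (A ⧸ p),
    Function.Injective g}

variable {A M p}

/-- A submodule `N ≤ L` which is the kernel of a map `L → (A/p)^k` can be reached from `L` by a
chain of steps. -/
theorem exists_series_of_coords (k : ℕ) : ∀ (L N : Submodule A M), N ≤ L →
    ∀ φ : ↥L →ₗ[A] (Fin k → A ⧸ p), LinearMap.ker φ = Submodule.comap L.subtype N →
    ∃ s : RelSeries (stepRel A M p), s.head = L ∧ s.last = N := by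
  induction k with
  | zero =>
    intro L N hNL φ hφ
    have hLN : L ≤ N := by
      intro x hx
      have h1 : (⟨x, hx⟩ : L) ∈ LinearMap.ker φ := by
        rw [LinearMap.mem_ker]
        exact Subsingleton.elim _ _
      rw [hφ] at h1
      exact h1
    have : L = N := le_antisymm hLN hNL
    subst this
    exact ⟨RelSeries.singleton _ L, rfl, rfl⟩
  | succ k ih =>
    intro L N hNL φ hφ
    let φ₀ : ↥L →ₗ[A] (A ⧸ p) := (LinearMap.proj (0 : Fin (k + 1))).comp φ
    let L₁ : Submodule A M := Submodule.map L.subtype (LinearMap.ker φ₀)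
    have hL₁L : L₁ ≤ L := Submodule.map_subtype_le L _
    have hNL₁ : N ≤ L₁ := by
      intro x hx
      have h1 : (⟨x, hNL hx⟩ : L) ∈ LinearMap.ker φ := by
        rw [hφ]
        exact hx
      refine ⟨⟨x, hNL hx⟩, ?_, rfl⟩
      change φ₀ ⟨x, hNL hx⟩ = 0
      change (φ ⟨x, hNL hx⟩) 0 = 0
      rw [LinearMap.mem_ker.mp h1]
      rfl
    have hcomap : Submodule.comap L.subtype L₁ = LinearMap.ker φ₀ :=
      Submodule.comap_map_eq_of_injective L.injective_subtype _
    have hstep : (L, L₁) ∈ stepRel A M p := by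
      refine ⟨hL₁L, ?_⟩
      change ∃ g : (↥L ⧸ Submodule.comap L.subtype L₁) →ₗ[A] (A ⧸ p), Function.Injective g
      refine ⟨Submodule.liftQ _ φ₀ (le_of_eq hcomap), ?_⟩
      rw [← LinearMap.ker_eq_bot]
      exact Submodule.ker_liftQ_eq_bot' _ _ hcomap
    let φ' : ↥L₁ →ₗ[A] (Fin k → A ⧸ p) :=
      (LinearMap.funLeft A (A ⧸ p) (Fin.succ : Fin k → Fin (k + 1))).comp
        (φ.comp (Submodule.inclusion hL₁L))
    have hφ' : LinearMap.ker φ' = Submodule.comap L₁.subtype N := by
      ext ⟨x, hx⟩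
      rw [LinearMap.mem_ker, Submodule.mem_comap, Submodule.subtype_apply]
      have hx0 : (φ ⟨x, hL₁L hx⟩) 0 = 0 := by
        have hx' := hx
        obtain ⟨y, hy, hyx⟩ := hx'
        have : y = ⟨x, hL₁L hx⟩ := Subtype.ext hyx
        rw [← this]
        exact hy
      have hmem : x ∈ N ↔ φ ⟨x, hL₁L hx⟩ = 0 := by
        rw [← LinearMap.mem_ker, hφ]
        rfl
      rw [hmem]
      constructor
      · intro h
        funext j
        refine Fin.cases hx0 (fun i => ?_) j
        exact congrFun h i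
      · intro h
        funext i
        change (φ ⟨x, hL₁L hx⟩) i.succ = 0
        rw [h]
        rfl
    obtain ⟨s', hs'head, hs'last⟩ := ih L₁ N hNL₁ φ' hφ'
    refine ⟨s'.cons L (by rw [hs'head]; exact hstep), ?_, ?_⟩
    · rw [RelSeries.head_cons]
    · rw [RelSeries.last_cons, hs'last]

end

section Main

variable {A : Type u} [CommRing A] [IsNoetherianRing A] {M : Type u} [AddCommGroup M] [Module A M]
  [Module.Finite A M] {p : Ideal A}

/-- The submodule `(N : p)` of elements carried into `N` by `p`. -/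
def colonSub (N : Submodule A M) (p : Ideal A) : Submodule A M where
  carrier := {x | ∀ a ∈ p, a • x ∈ N}
  add_mem' := fun hx hy a ha => by rw [smul_add]; exact N.add_mem (hx a ha) (hy a ha)
  zero_mem' := fun a _ => by rw [smul_zero]; exact N.zero_mem
  smul_mem' := fun c x hx a ha => by rw [smul_comm]; exact N.smul_mem c (hx a ha)

theorem mem_colonSub {N : Submodule A M} {p : Ideal A} {x : M} :
    x ∈ colonSub N p ↔ ∀ a ∈ p, a • x ∈ N := Iff.rfl

theorem le_colonSub (N : Submodule A M) (p : Ideal A) : N ≤ colonSub N p :=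
  fun _ hx a _ => N.smul_mem a hx

theorem regular_of_ass_subset (N : Submodule A M) (hN : associatedPrimes A (M ⧸ N) ⊆ {p})
    (a : A) (ha : a ∉ p) (y : M ⧸ N) (hy : a • y = 0) : y = 0 := by
  by_contra hne
  have : a ∈ ⋃ q ∈ associatedPrimes A (M ⧸ N), (q : Set A) := by
    rw [biUnion_associatedPrimes_eq_zero_divisors]
    exact ⟨y, hne, hy⟩
  simp only [Set.mem_iUnion] at this
  obtain ⟨q, hq, haq⟩ := this
  rw [Set.mem_singleton_iff.mp (hN hq)] at haq
  exact ha haq

theorem ass_colonSub_subset (N : Submodule A M) (hp : p.IsPrime)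
    (hN : associatedPrimes A (M ⧸ N) ⊆ {p}) :
    associatedPrimes A (M ⧸ colonSub N p) ⊆ {p} := by
  intro q hq
  rw [Set.mem_singleton_iff]
  have hq' := hq
  rw [AssociatedPrimes.mem_iff, isAssociatedPrime_iff] at hq'
  obtain ⟨hqprime, xbar, hqx⟩ := hq'
  obtain ⟨x, rfl⟩ := Submodule.Quotient.mk_surjective _ xbar
  -- `p ≤ q`
  have hpq : p ≤ q := by
    have h1 : Module.annihilator A (M ⧸ N) ≤ q := by
      refine le_trans ?_ (IsAssociatedPrime.annihilator_le hq)
      intro a ha
      rw [Submodule.mem_annihilator]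
      intro y _
      obtain ⟨y, rfl⟩ := Submodule.Quotient.mk_surjective _ y
      rw [← Submodule.Quotient.mk_smul, Submodule.Quotient.mk_eq_zero]
      apply le_colonSub N p
      have h2 := Module.mem_annihilator.mp ha (Submodule.Quotient.mk y)
      rwa [← Submodule.Quotient.mk_smul, Submodule.Quotient.mk_eq_zero] at h2
    obtain ⟨q', hq'min, hq'le⟩ := Ideal.exists_minimalPrimes_le h1
    have h3 : q' ∈ associatedPrimes A (M ⧸ N) :=
      Module.associatedPrimes.minimalPrimes_annihilator_subset_associatedPrimes A (M ⧸ N) hq'min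
    rw [Set.mem_singleton_iff.mp (hN h3)] at hq'le
    exact hq'le
  -- `q ≤ p`
  have hqp : q ≤ p := by
    intro a haq
    by_contra hap
    have h1 : a • x ∈ colonSub N p := by
      rw [hqx, Submodule.mem_colon_singleton, ← Submodule.Quotient.mk_smul, Submodule.mem_bot,
        Submodule.Quotient.mk_eq_zero] at haq
      exact haq
    have h2 : x ∈ colonSub N p := by
      intro b hb
      have h3 : a • (Submodule.Quotient.mk (b • x) : M ⧸ N) = 0 := by
        rw [← Submodule.Quotient.mk_smul, Submodule.Quotient.mk_eq_zero, smul_comm]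
        exact h1 b hb
      have h4 := regular_of_ass_subset N hN a hap _ h3
      exact (Submodule.Quotient.mk_eq_zero _).mp h4
    have h5 : (1 : A) ∈ q := by
      rw [hqx, Submodule.mem_colon_singleton, one_smul, Submodule.mem_bot,
        Submodule.Quotient.mk_eq_zero]
      exact h2
    exact hqprime.ne_top ((Ideal.eq_top_iff_one q).mpr h5)
  exact le_antisymm hqp hpq

/-- Every `N` with `Ass (M/N) ⊆ {p}` can be reached from `⊤` by a chain of steps. -/
theorem exists_series_to (N : Submodule A M) :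
    associatedPrimes A (M ⧸ N) ⊆ {p} →
      ∃ s : RelSeries (stepRel A M p), s.head = ⊤ ∧ s.last = N := by
  refine IsNoetherian.induction (P := fun N => associatedPrimes A (M ⧸ N) ⊆ {p} →
      ∃ s : RelSeries (stepRel A M p), s.head = ⊤ ∧ s.last = N) ?_ N
  intro N IH hN
  by_cases hNtop : N = ⊤
  · subst hNtop
    exact ⟨RelSeries.singleton _ ⊤, rfl, rfl⟩
  have hnt : Nontrivial (M ⧸ N) :=
    Submodule.Quotient.nontrivial_iff.mpr hNtop
  obtain ⟨q, hq⟩ := associatedPrimes.nonempty A (M ⧸ N)
  have hqp : q = p := Set.mem_singleton_iff.mp (hN hq)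
  subst hqp
  have hprime : q.IsPrime := IsAssociatedPrime.isPrime hq
  -- `N < (N : q)`
  have hlt : N < colonSub N q := by
    refine lt_of_le_of_ne (le_colonSub N q) fun heq => ?_
    have hq' := hq
    rw [AssociatedPrimes.mem_iff, isAssociatedPrime_iff] at hq'
    obtain ⟨_, ybar, hqy⟩ := hq'
    obtain ⟨y, rfl⟩ := Submodule.Quotient.mk_surjective _ ybar
    have hy : y ∈ colonSub N q := by
      intro a ha
      rw [hqy, Submodule.mem_colon_singleton, ← Submodule.Quotient.mk_smul, Submodule.mem_bot,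
        Submodule.Quotient.mk_eq_zero] at ha
      exact ha
    rw [← heq] at hy
    have h1 : (1 : A) ∈ q := by
      rw [hqy, Submodule.mem_colon_singleton, one_smul, Submodule.mem_bot,
        Submodule.Quotient.mk_eq_zero]
      exact hy
    exact hprime.ne_top ((Ideal.eq_top_iff_one q).mpr h1)
  obtain ⟨s₁, hs₁head, hs₁last⟩ := IH (colonSub N q) hlt (ass_colonSub_subset N hprime hN)
  -- the quotient `(N : q) / N` is a finitely generated torsion-free `A/q`-module
  let L := colonSub N q
  let N' : Submodule A L := Submodule.comap L.subtype N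
  have htors : Module.IsTorsionBySet A (↥L ⧸ N') (q : Set A) := by
    intro t a
    obtain ⟨⟨x, hx⟩, rfl⟩ := Submodule.Quotient.mk_surjective _ t
    rw [← Submodule.Quotient.mk_smul, Submodule.Quotient.mk_eq_zero]
    exact hx a.1 a.2
  let _ : Module (A ⧸ q) (↥L ⧸ N') := htors.module
  have : IsScalarTower A (A ⧸ q) (↥L ⧸ N') := htors.isScalarTower
  have : Module.Finite (A ⧸ q) (↥L ⧸ N') :=
    Module.Finite.of_restrictScalars_finite A (A ⧸ q) (↥L ⧸ N')
  have : IsDomain (A ⧸ q) := Ideal.Quotient.isDomain q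
  have htf : ∀ (d : A ⧸ q) (t : ↥L ⧸ N'), d ≠ 0 → d • t = 0 → t = 0 := by
    intro d t hd hdt
    obtain ⟨a, rfl⟩ := Ideal.Quotient.mk_surjective d
    obtain ⟨⟨x, hx⟩, rfl⟩ := Submodule.Quotient.mk_surjective _ t
    have haq : a ∉ q := fun h => hd (Ideal.Quotient.eq_zero_iff_mem.mpr h)
    have h1 : (Ideal.Quotient.mk q a) • (Submodule.Quotient.mk (⟨x, hx⟩ : L) : ↥L ⧸ N') =
        a • (Submodule.Quotient.mk (⟨x, hx⟩ : L) : ↥L ⧸ N') := htors.mk_smul a _
    rw [h1, ← Submodule.Quotient.mk_smul, Submodule.Quotient.mk_eq_zero] at hdt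
    have h2 : a • x ∈ N := hdt
    have h3 : a • (Submodule.Quotient.mk x : M ⧸ N) = 0 := by
      rw [← Submodule.Quotient.mk_smul, Submodule.Quotient.mk_eq_zero]
      exact h2
    have h4 := regular_of_ass_subset N hN a haq _ h3
    rw [Submodule.Quotient.mk_eq_zero] at h4 ⊢
    exact h4
  obtain ⟨r, φbar, hφbar⟩ := exists_injective_fin_of_torsionFree (A ⧸ q) (↥L ⧸ N') htf
  let φ : ↥L →ₗ[A] (Fin r → A ⧸ q) := (φbar.restrictScalars A).comp N'.mkQ
  have hφ : LinearMap.ker φ = Submodule.comap L.subtype N := by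
    have h1 : LinearMap.ker (φbar.restrictScalars A) = ⊥ := by
      rw [LinearMap.ker_eq_bot]
      exact hφbar
    rw [LinearMap.ker_comp_of_ker_eq_bot _ h1, Submodule.ker_mkQ]
  obtain ⟨s₂, hs₂head, hs₂last⟩ := exists_series_of_coords r L N (le_colonSub N q) φ hφ
  refine ⟨s₁.smash s₂ (by rw [hs₁last, hs₂head]), ?_, ?_⟩
  · rw [RelSeries.head_smash, hs₁head]
  · rw [RelSeries.last_smash, hs₂last]

end Main

end Groth.Agent.H24
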