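import Mathlib

/-!
# Base change of schemes over `Spec R` along maps of `R`-algebras

For `p : X ⟶ Spec R` and `R`-algebras `B ⟶ C` (in `CommRingCat`, with a commuting triangle), the
canonical map `X ×_R Spec C ⟶ X ×_R Spec B`, and the base change of a `Spec B`-morphism
`X_B ⟶ Y_B` to `Spec C`.
-/

set_option autoImplicit false
universe u
open CategoryTheory CategoryTheory.Limits AlgebraicGeometry

namespace Groth.Agent.H24.BCAlg

variable {R : CommRingCat.{u}} {X Y : Scheme.{u}} (p : X ⟶ Spec R) (q : Y ⟶ Spec R)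
  {B C : CommRingCat.{u}} (φB : R ⟶ B) (φC : R ⟶ C) (ρ : B ⟶ C) (h : φB ≫ ρ = φC)

/-- The canonical map `X ×_R Spec C ⟶ X ×_R Spec B`. -/
noncomputable def trans : pullback p (Spec.map φC) ⟶ pullback p (Spec.map φB) :=
  pullback.lift (pullback.fst _ _) (pullback.snd _ _ ≫ Spec.map ρ)
    (by rw [Category.assoc, ← Spec.map_comp, h, pullback.condition])

@[reassoc (attr := simp)]
theorem trans_fst : trans p φB φC ρ h ≫ pullback.fst _ _ = pullback.fst _ _ :=
  pullback.lift_fst _ _ _

@[reassoc (attr := simp)]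
theorem trans_snd : trans p φB φC ρ h ≫ pullback.snd _ _ = pullback.snd _ _ ≫ Spec.map ρ :=
  pullback.lift_snd _ _ _

theorem isPullback_trans :
    IsPullback (trans p φB φC ρ h) (pullback.snd _ _) (pullback.snd _ _) (Spec.map ρ) := by
  refine IsPullback.of_right ?_ (trans_snd p φB φC ρ h) (IsPullback.of_hasPullback p (Spec.map φB))
  rw [trans_fst]
  have := IsPullback.of_hasPullback p (Spec.map φC)
  convert this using 2
  rw [← Spec.map_comp, h]

variable (hB : pullback p (Spec.map φB) ⟶ pullback q (Spec.map φB))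
  (hh : hB ≫ pullback.snd _ _ = pullback.snd _ _)

/-- The base change to `Spec C` of a `Spec B`-morphism `X_B ⟶ Y_B`. -/
noncomputable def bcHom : pullback p (Spec.map φC) ⟶ pullback q (Spec.map φC) :=
  pullback.lift (trans p φB φC ρ h ≫ hB ≫ pullback.fst _ _) (pullback.snd _ _)
    (by
      rw [Category.assoc, Category.assoc, pullback.condition, reassoc_of% hh, trans_snd_assoc,
        ← Spec.map_comp, h])

@[reassoc (attr := simp)]
theorem bcHom_fst : bcHom p q φB φC ρ h hB hh ≫ pullback.fst _ _ =
    trans p φB φC ρ h ≫ hB ≫ pullback.fst _ _ :=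
  pullback.lift_fst _ _ _

@[reassoc (attr := simp)]
theorem bcHom_snd : bcHom p q φB φC ρ h hB hh ≫ pullback.snd _ _ = pullback.snd _ _ :=
  pullback.lift_snd _ _ _

theorem trans_comp_eq :
    trans p φB φC ρ h ≫ hB = bcHom p q φB φC ρ h hB hh ≫ trans q φB φC ρ h := by
  apply pullback.hom_ext
  · rw [Category.assoc, Category.assoc, trans_fst, bcHom_fst]
  · rw [Category.assoc, Category.assoc, trans_snd, bcHom_snd_assoc, hh, trans_snd]

theorem isPullback_bcHom :
    IsPullback (trans p φB φC ρ h) (bcHom p q φB φC ρ h hB hh) hB (trans q φB φC ρ h) := by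
  refine IsPullback.of_bot ?_ (trans_comp_eq p q φB φC ρ h hB hh) (isPullback_trans q φB φC ρ h)
  rw [bcHom_snd, hh]
  exact isPullback_trans p φB φC ρ h

/-- A morphism over `Spec C` which is compatible with `hB` is the base change of `hB`. -/
theorem eq_bcHom (e : pullback p (Spec.map φC) ⟶ pullback q (Spec.map φC))
    (he : e ≫ pullback.snd _ _ = pullback.snd _ _)
    (he' : e ≫ pullback.fst _ _ = trans p φB φC ρ h ≫ hB ≫ pullback.fst _ _) :
    e = bcHom p q φB φC ρ h hB hh := by
  apply pullback.hom_ext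
  · rw [he', bcHom_fst]
  · rw [he, bcHom_snd]

end Groth.Agent.H24.BCAlg
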