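import Mathlib

/-!
# Irreducible / connected components from a finite family of disjoint open pieces
-/

set_option autoImplicit false
open Set

namespace Groth.Agent.H24

variable {X : Type*} [TopologicalSpace X]

theorem eq_of_closure_eq_of_disjoint {ι : Type*} (V : ι → Set X) (hVo : ∀ a, IsOpen (V a))
    (hVne : ∀ a, (V a).Nonempty) (hVd : ∀ a b, a ≠ b → Disjoint (V a) (V b)) {a b : ι}
    (h : V a ⊆ closure (V b)) : a = b := by
  by_contra hab
  obtain ⟨x, hx⟩ := hVne a
  obtain ⟨y, hy₁, hy₂⟩ := mem_closure_iff.mp (h hx) (V a) (hVo a) hx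
  exact (hVd a b hab).le_bot ⟨hy₁, hy₂⟩

/-- Finitely many pairwise disjoint irreducible open subsets with dense union: their closures are
exactly the irreducible components. -/
theorem irreducibleComponents_eq_range_closure {ι : Type*} [Finite ι] (V : ι → Set X)
    (hVo : ∀ a, IsOpen (V a)) (hVi : ∀ a, IsIrreducible (V a))
    (hVd : ∀ a b, a ≠ b → Disjoint (V a) (V b)) (hdense : Dense (⋃ a, V a)) :
    irreducibleComponents X = Set.range (fun a => closure (V a)) ∧
      Function.Injective (fun a => closure (V a)) := by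
  classical
  cases nonempty_fintype ι
  have hinj : Function.Injective (fun a => closure (V a)) := by
    intro a b hab
    exact eq_of_closure_eq_of_disjoint V hVo (fun a => (hVi a).nonempty) hVd
      (subset_closure.trans hab.le)
  have hcov : (⋃ a, closure (V a)) = Set.univ := by
    rw [← closure_iUnion_of_finite]
    exact hdense.closure_eq
  have h3 : ∀ Z ∈ irreducibleComponents X, ∃ a, Z = closure (V a) := by
    intro Z hZ
    obtain ⟨z, hz, hZz⟩ := isIrreducible_iff_sUnion_isClosed.mp hZ.1
      (Finset.univ.image fun a => closure (V a))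
      (by
        intro z hz
        obtain ⟨a, -, rfl⟩ := Finset.mem_image.mp hz
        exact isClosed_closure)
      (by
        intro x _
        have : x ∈ ⋃ a, closure (V a) := hcov ▸ Set.mem_univ x
        obtain ⟨a, ha⟩ := Set.mem_iUnion.mp this
        exact Set.mem_sUnion.mpr ⟨closure (V a), by simp, ha⟩)
    obtain ⟨a, -, rfl⟩ := Finset.mem_image.mp hz
    exact ⟨a, hZz.antisymm (hZ.2 (hVi a).closure hZz)⟩
  refine ⟨Set.ext fun Z => ⟨fun hZ => ?_, ?_⟩, hinj⟩
  · obtain ⟨a, rfl⟩ := h3 Z hZ
    exact ⟨a, rfl⟩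
  · rintro ⟨a, rfl⟩
    obtain ⟨x, hx⟩ := (hVi a).nonempty
    obtain ⟨b, hb⟩ := h3 _ (irreducibleComponent_mem_irreducibleComponents x)
    have hxb : x ∈ closure (V b) := hb ▸ mem_irreducibleComponent
    obtain ⟨y, hy₁, hy₂⟩ := mem_closure_iff.mp hxb (V a) (hVo a) hx
    have hab : a = b := by
      by_contra hab
      exact (hVd a b hab).le_bot ⟨hy₁, hy₂⟩
    subst hab
    change closure (V a) ∈ irreducibleComponents X
    rw [← hb]
    exact irreducibleComponent_mem_irreducibleComponents x

/-- Finitely many irreducible closed subsets covering the space, with no inclusions among them,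
are exactly the irreducible components. -/
theorem irreducibleComponents_eq_range_of_closed_cover {ι : Type*} [Finite ι] (Z : ι → Set X)
    (hZc : ∀ a, IsClosed (Z a)) (hZi : ∀ a, IsIrreducible (Z a))
    (hZsub : ∀ a b, Z a ⊆ Z b → a = b) (hcov : (⋃ a, Z a) = Set.univ) :
    irreducibleComponents X = Set.range Z ∧ Function.Injective Z := by
  classical
  cases nonempty_fintype ι
  have hinj : Function.Injective Z := fun a b hab => hZsub a b hab.le
  have h3 : ∀ C ∈ irreducibleComponents X, ∃ a, C = Z a := by
    intro C hC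
    obtain ⟨z, hz, hCz⟩ := isIrreducible_iff_sUnion_isClosed.mp hC.1
      (Finset.univ.image Z)
      (by
        intro z hz
        obtain ⟨a, -, rfl⟩ := Finset.mem_image.mp hz
        exact hZc a)
      (by
        intro x _
        have : x ∈ ⋃ a, Z a := hcov ▸ Set.mem_univ x
        obtain ⟨a, ha⟩ := Set.mem_iUnion.mp this
        exact Set.mem_sUnion.mpr ⟨Z a, by simp, ha⟩)
    obtain ⟨a, -, rfl⟩ := Finset.mem_image.mp hz
    exact ⟨a, hCz.antisymm (hC.2 (hZi a) hCz)⟩
  refine ⟨Set.ext fun C => ⟨fun hC => ?_, ?_⟩, hinj⟩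
  · obtain ⟨a, rfl⟩ := h3 C hC
    exact ⟨a, rfl⟩
  · rintro ⟨a, rfl⟩
    obtain ⟨C, hC, hZC, hmax⟩ := exists_preirreducible (Z a) (hZi a).isPreirreducible
    have hCcomp : C ∈ irreducibleComponents X := by
      refine ⟨⟨(hZi a).nonempty.mono hZC, hC⟩, fun y hy hCy => ?_⟩
      exact (hmax y hy.isPreirreducible hCy).le
    obtain ⟨b, hb⟩ := h3 C hCcomp
    have hab : a = b := hZsub a b (hb ▸ hZC)
    subst hab
    rw [← hb]
    exact hCcomp

theorem isClopen_of_disjoint_open_cover {ι : Type*} (V : ι → Set X)
    (hVo : ∀ a, IsOpen (V a)) (hVd : ∀ a b, a ≠ b → Disjoint (V a) (V b))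
    (hcov : (⋃ a, V a) = Set.univ) (a : ι) : IsClopen (V a) := by
  refine ⟨?_, hVo a⟩
  have : (V a)ᶜ = ⋃ b ∈ {b | b ≠ a}, V b := by
    ext x
    simp only [mem_compl_iff, mem_iUnion, mem_ofPred_eq, exists_prop]
    constructor
    · intro hx
      have : x ∈ ⋃ b, V b := hcov ▸ Set.mem_univ x
      obtain ⟨b, hb⟩ := Set.mem_iUnion.mp this
      exact ⟨b, fun hba => hx (hba ▸ hb), hb⟩
    · rintro ⟨b, hba, hb⟩ hx
      exact (hVd b a hba).le_bot ⟨hb, hx⟩
  rw [← isOpen_compl_iff, this]
  exact isOpen_biUnion fun b _ => hVo b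

/-- In a Noetherian space there are finitely many connected components. -/
theorem finite_range_connectedComponent_of_noetherian [TopologicalSpace.NoetherianSpace X] :
    (Set.range (connectedComponent : X → Set X)).Finite := by
  classical
  have hfin : (irreducibleComponents X).Finite :=
    TopologicalSpace.NoetherianSpace.finite_irreducibleComponents
  let g : Set X → Set X := fun Y => if h : Y.Nonempty then connectedComponent h.some else ∅
  refine (hfin.image g).subset ?_
  rintro _ ⟨x, rfl⟩
  refine ⟨irreducibleComponent x, irreducibleComponent_mem_irreducibleComponents x, ?_⟩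
  have hne : (irreducibleComponent x).Nonempty := ⟨x, mem_irreducibleComponent⟩
  simp only [g, dif_pos hne]
  have hconn : IsPreconnected (irreducibleComponent x) :=
    (isIrreducible_irreducibleComponent (x := x)).isConnected.isPreconnected
  have hx : x ∈ connectedComponent hne.some :=
    hconn.subset_connectedComponent hne.some_mem mem_irreducibleComponent
  exact connectedComponent_eq hx

/-- In a Noetherian space connected components are open. -/
theorem isOpen_connectedComponent_of_noetherian [TopologicalSpace.NoetherianSpace X] (x : X) :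
    IsOpen (connectedComponent x) := by
  have hfin := finite_range_connectedComponent_of_noetherian (X := X)
  have : (connectedComponent x)ᶜ =
      ⋃ C ∈ (Set.range (connectedComponent : X → Set X)) \ {connectedComponent x}, C := by
    ext y
    simp only [mem_compl_iff, mem_iUnion, exists_prop]
    constructor
    · intro hy
      refine ⟨connectedComponent y, ⟨⟨y, rfl⟩, fun h => hy ?_⟩, mem_connectedComponent⟩
      rw [← (Set.mem_singleton_iff.mp h)]
      exact mem_connectedComponent
    · rintro ⟨C, ⟨⟨z, rfl⟩, hne⟩, hy⟩ hyx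
      exact hne ((connectedComponent_eq hy).trans (connectedComponent_eq hyx).symm)
  rw [← isClosed_compl_iff, this]
  exact hfin.sdiff.isClosed_biUnion fun C hC => by
    obtain ⟨⟨z, rfl⟩, -⟩ := hC
    exact isClosed_connectedComponent

/-- Finitely many pairwise disjoint connected open subsets covering the space are exactly the
connected components. -/
theorem range_connectedComponent_eq_range {ι : Type*} [Finite ι] (V : ι → Set X)
    (hVo : ∀ a, IsOpen (V a)) (hVc : ∀ a, IsConnected (V a))
    (hVd : ∀ a b, a ≠ b → Disjoint (V a) (V b)) (hcov : (⋃ a, V a) = Set.univ) :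
    Set.range (connectedComponent : X → Set X) = Set.range V ∧ Function.Injective V := by
  classical
  have hinj : Function.Injective V := by
    intro a b hab
    by_contra hne
    obtain ⟨x, hx⟩ := (hVc a).nonempty
    exact (hVd a b hne).le_bot ⟨hx, hab ▸ hx⟩
  have hclopen : ∀ a, IsClopen (V a) := by
    intro a
    refine ⟨?_, hVo a⟩
    have : (V a)ᶜ = ⋃ b ∈ {b | b ≠ a}, V b := by
      ext x
      simp only [mem_compl_iff, mem_iUnion, mem_ofPred_eq, exists_prop]
      constructor
      · intro hx
        have : x ∈ ⋃ b, V b := hcov ▸ Set.mem_univ x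
        obtain ⟨b, hb⟩ := Set.mem_iUnion.mp this
        exact ⟨b, fun hba => hx (hba ▸ hb), hb⟩
      · rintro ⟨b, hba, hb⟩ hx
        exact (hVd b a hba).le_bot ⟨hb, hx⟩
    rw [← isOpen_compl_iff, this]
    exact isOpen_biUnion fun b _ => hVo b
  have hcomp : ∀ a, ∀ x ∈ V a, connectedComponent x = V a := by
    intro a x hx
    exact ((hclopen a).connectedComponent_subset hx).antisymm
      ((hVc a).isPreconnected.subset_connectedComponent hx)
  refine ⟨Set.ext fun C => ⟨?_, ?_⟩, hinj⟩
  · rintro ⟨x, rfl⟩
    have : x ∈ ⋃ a, V a := hcov ▸ Set.mem_univ x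
    obtain ⟨a, ha⟩ := Set.mem_iUnion.mp this
    exact ⟨a, (hcomp a x ha).symm⟩
  · rintro ⟨a, rfl⟩
    obtain ⟨x, hx⟩ := (hVc a).nonempty
    exact ⟨x, hcomp a x hx⟩

end Groth.Agent.H24
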