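import Mathlib
import Groth.Agent.H24.DescFP7
import Groth.Agent.H24.LimitTop

/-!
# Coverings of a cofiltered limit descend to a stage (helper24)
-/

set_option autoImplicit false
universe u
open CategoryTheory CategoryTheory.Limits AlgebraicGeometry TopologicalSpace

namespace Groth.Agent.H24

section CoverDescent

variable {I : Type u} [Category.{u} I] [IsCofiltered I] (D : I ⥤ Scheme.{u}) (c : Cone D)
  [∀ {i j} (f : i ⟶ j), IsAffineHom (D.map f)]

set_option backward.isDefEq.respectTransparency false in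
/-- A jointly surjective family of finitely presented morphisms with an open property `P` over
`lim S_i` is the base change of a finite such family over some stage. -/
theorem exists_descend_cover (P : MorphismProperty Scheme.{u})
    [P.IsStableUnderBaseChange] [IsZariskiLocalAtSource P] [P.IsStableUnderComposition]
    (hOI : ∀ {A B : Scheme.{u}} (j : A ⟶ B) [IsOpenImmersion j], P j)
    (hcore : CoreDescent P)
    (hopen : ∀ {X Y : Scheme.{u}} (f : X ⟶ Y), P f → LocallyOfFinitePresentation f →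
      IsOpenMap f)
    (hc : IsLimit c) (i₀ : I) [CompactSpace (D.obj i₀)] [QuasiSeparatedSpace (D.obj i₀)]
    {ι : Type u} (U : ι → Scheme.{u}) (u : ∀ a, U a ⟶ c.pt) (hP : ∀ a, P (u a))
    [∀ a, LocallyOfFinitePresentation (u a)] [∀ a, QuasiCompact (u a)]
    [∀ a, QuasiSeparated (u a)]
    (hcov : ∀ x : c.pt, ∃ (a : ι) (y : U a), (u a) y = x) :
    ∃ (i : I) (n : ℕ) (V : Fin n → Scheme.{u}) (v : ∀ j, V j ⟶ D.obj i) (a : Fin n → ι)
      (e : ∀ j, U (a j) ⟶ V j),
      (∀ j, P (v j) ∧ LocallyOfFinitePresentation (v j) ∧ QuasiCompact (v j) ∧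
        QuasiSeparated (v j)) ∧
      (∀ x : D.obj i, ∃ (j : Fin n) (y : V j), (v j) y = x) ∧
      ∀ j, IsPullback (e j) (u (a j)) (v j) (c.π.app i) := by
  classical
  -- restrict the system to `Over i₀`
  let D' : Over i₀ ⥤ Scheme.{u} := Over.forget i₀ ⋙ D
  let c' : Cone D' := c.whisker (Over.forget i₀)
  have hc' : IsLimit c' := isLimitOverCone D c hc i₀
  have haff' : ∀ {j k : Over i₀} (f : j ⟶ k), IsAffineHom (D'.map f) := isAffineHom_over D i₀
  have hcpt' : ∀ j : Over i₀, CompactSpace (D'.obj j) := compactSpace_over D i₀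
  have hqs' : ∀ j : Over i₀, QuasiSeparatedSpace (D'.obj j) := quasiSeparatedSpace_over D i₀
  have hcomp : CompactSpace c'.pt := Scheme.compactSpace_of_isLimit D' c' hc'
  have hcomp2 : CompactSpace c.pt := hcomp
  -- finite subcover
  have hop : ∀ a, IsOpen (Set.range (u a)) := fun a => (hopen (u a) (hP a) inferInstance).isOpen_range
  obtain ⟨t, ht⟩ := isCompact_univ.elim_finite_subcover (fun a : ι => Set.range (u a)) hop
    (fun x _ => by
      obtain ⟨a, y, hy⟩ := hcov x
      exact Set.mem_iUnion.mpr ⟨a, y, hy⟩)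
  let n := t.card
  let a : Fin n → ι := fun j => (t.equivFin.symm j).1
  have hacov : ∀ x : c.pt, ∃ (j : Fin n) (y : U (a j)), (u (a j)) y = x := by
    intro x
    obtain ⟨b, hb⟩ := Set.mem_iUnion.mp (ht (Set.mem_univ x))
    obtain ⟨hbt, y, hy⟩ := Set.mem_iUnion.mp hb
    refine ⟨t.equivFin ⟨b, hbt⟩, ?_⟩
    have : a (t.equivFin ⟨b, hbt⟩) = b := by simp [a]
    rw [this]
    exact ⟨y, hy⟩
  -- descend each member
  have hdesc : ∀ j : Fin n, ∃ (k : Over i₀) (X : Scheme.{u}) (f : X ⟶ D'.obj k)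
      (g : U (a j) ⟶ X), LocallyOfFinitePresentation f ∧ CompactSpace X ∧
        QuasiSeparatedSpace X ∧ P f ∧ IsPullback g (u (a j)) f (c'.π.app k) := fun j =>
    exists_descAt_prop D' c' P hOI hcore hc' (u (a j)) (hP _)
  choose k X f g hf1 hf2 hf3 hf4 hf5 using hdesc
  obtain ⟨k₀, T⟩ := IsCofiltered.inf_objs_exists (Finset.univ.image k)
  have b : ∀ j : Fin n, k₀ ⟶ k j := fun j =>
    (T (Finset.mem_image_of_mem k (Finset.mem_univ j))).some
  -- the open image at stage k₀
  let R : ∀ j, (D'.obj (k j)).Opens := fun j =>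
    ⟨Set.range (f j), (hopen (f j) (hf4 j) (hf1 j)).isOpen_range⟩
  let W : (D'.obj k₀).Opens := ⨆ j, D'.map (b j) ⁻¹ᵁ R j
  have hW : c'.π.app k₀ ⁻¹ᵁ W = ⊤ := by
    rw [eq_top_iff]
    intro x _
    obtain ⟨j, y, hy⟩ := hacov x
    change c'.π.app k₀ x ∈ W
    refine Opens.mem_iSup.mpr ⟨j, ?_⟩
    change D'.map (b j) (c'.π.app k₀ x) ∈ R j
    rw [← Scheme.Hom.comp_apply, c'.w]
    refine ⟨g j y, ?_⟩
    rw [← Scheme.Hom.comp_apply, (hf5 j).w, Scheme.Hom.comp_apply, hy]
    rfl
  obtain ⟨k₁, b₁, hb₁⟩ := exists_map_eq_top D' c' hc' W hW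
  -- the final family at stage k₁
  let ψ : ∀ j, Over (k j) := fun j => Over.mk (b₁ ≫ b j)
  refine ⟨k₁.left, n, fun j => pullback (D'.map (ψ j).hom) (f j),
    fun j => pullback.fst (D'.map (ψ j).hom) (f j), a,
    fun j => rbLift D' c' (ψ j) (f j) (hf5 j), fun j => ⟨?_, ?_, ?_, ?_⟩, ?_, fun j => ?_⟩
  · exact P.pullback_fst _ _ (hf4 j)
  · exact MorphismProperty.pullback_fst (P := @LocallyOfFinitePresentation) _ _ (hf1 j)
  · have := hf2 j
    have : QuasiCompact (f j) := inferInstance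
    exact MorphismProperty.pullback_fst (P := @QuasiCompact) _ _ this
  · have := hf3 j
    have : QuasiSeparated (f j) := inferInstance
    exact MorphismProperty.pullback_fst (P := @QuasiSeparated) _ _ this
  · intro z
    have hz : D'.map b₁ z ∈ W := by
      have : z ∈ D'.map b₁ ⁻¹ᵁ W := by rw [hb₁]; trivial
      exact this
    obtain ⟨j, hj⟩ := Opens.mem_iSup.mp hz
    obtain ⟨y, hy⟩ : D'.map (b j) (D'.map b₁ z) ∈ R j := hj
    have hzy : (D'.map (ψ j).hom) z = (f j) y := by
      rw [hy]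
      change (D'.map (b₁ ≫ b j)) z = _
      rw [D'.map_comp, Scheme.Hom.comp_apply]
    obtain ⟨w, hw1, -⟩ := Scheme.Pullback.exists_preimage_pullback z y hzy
    exact ⟨j, w, hw1⟩
  · exact isPullback_rbLift (ψ j) (hf5 j)

end CoverDescent

end Groth.Agent.H24
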