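import Mathlib
import Groth.Agent.H24.CoverDescent

/-!
# Zariski coverings of a cofiltered limit descend to a stage (helper24)
-/

set_option autoImplicit false
universe u
open CategoryTheory CategoryTheory.Limits AlgebraicGeometry TopologicalSpace

namespace Groth.Agent.H24

section ZariskiCover

set_option backward.isDefEq.respectTransparency false in
theorem exists_isPullback_of_opensRange_eq {X Y U : Scheme.{u}} (π : X ⟶ Y) (V : Y.Opens)
    (u : U ⟶ X) [IsOpenImmersion u] (h : u.opensRange = π ⁻¹ᵁ V) :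
    ∃ e : U ⟶ (V : Scheme.{u}), IsPullback e u V.ι π := by
  let ε : U ≅ (π ⁻¹ᵁ V : Scheme.{u}) := u.isoOpensRange ≪≫ X.isoOfEq h
  have hε : ε.hom ≫ (π ⁻¹ᵁ V).ι = u := by simp [ε]
  refine ⟨ε.hom ≫ π ∣_ V, ?_⟩
  refine IsPullback.of_iso (isPullback_morphismRestrict π V) ε.symm (Iso.refl _) (Iso.refl _)
    (Iso.refl _) ?_ ?_ ?_ ?_
  · simp
  · rw [Iso.refl_hom, Category.comp_id, Iso.symm_hom, ← hε, Iso.inv_hom_id_assoc]
  · simp
  · simp

variable {I : Type u} [Category.{u} I] [IsCofiltered I] (D : I ⥤ Scheme.{u}) (c : Cone D)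
  [∀ {i j} (f : i ⟶ j), IsAffineHom (D.map f)]

set_option backward.isDefEq.respectTransparency false in
/-- A jointly surjective family of quasi-compact open immersions into `lim S_i` is the base change
of a finite such family over some stage. -/
theorem exists_descend_zariski_cover (hc : IsLimit c) (i₀ : I) [CompactSpace (D.obj i₀)]
    [QuasiSeparatedSpace (D.obj i₀)]
    {ι : Type u} (U : ι → Scheme.{u}) (u : ∀ a, U a ⟶ c.pt)
    [∀ a, IsOpenImmersion (u a)] [∀ a, QuasiCompact (u a)]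
    (hcov : ∀ x : c.pt, ∃ (a : ι) (y : U a), (u a) y = x) :
    ∃ (i : I) (n : ℕ) (V : Fin n → Scheme.{u}) (v : ∀ j, V j ⟶ D.obj i) (a : Fin n → ι)
      (e : ∀ j, U (a j) ⟶ V j),
      (∀ j, IsOpenImmersion (v j) ∧ QuasiCompact (v j)) ∧
      (∀ x : D.obj i, ∃ (j : Fin n) (y : V j), (v j) y = x) ∧
      ∀ j, IsPullback (e j) (u (a j)) (v j) (c.π.app i) := by
  classical
  let D' : Over i₀ ⥤ Scheme.{u} := Over.forget i₀ ⋙ D
  let c' : Cone D' := c.whisker (Over.forget i₀)
  have hc' : IsLimit c' := isLimitOverCone D c hc i₀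
  have haff' : ∀ {j k : Over i₀} (f : j ⟶ k), IsAffineHom (D'.map f) := isAffineHom_over D i₀
  have hcpt' : ∀ j : Over i₀, CompactSpace (D'.obj j) := compactSpace_over D i₀
  have hcomp : CompactSpace c'.pt := Scheme.compactSpace_of_isLimit D' c' hc'
  have hcomp2 : CompactSpace c.pt := hcomp
  -- finite subcover
  obtain ⟨t, ht⟩ := isCompact_univ.elim_finite_subcover (fun a : ι => Set.range (u a))
    (fun a => (u a).isOpenEmbedding.isOpen_range)
    (fun x _ => by
      obtain ⟨a, y, hy⟩ := hcov x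
      exact Set.mem_iUnion.mpr ⟨a, y, hy⟩)
  let n := t.card
  let a : Fin n → ι := fun j => (t.equivFin.symm j).1
  have hacov : ∀ x : c.pt, ∃ (j : Fin n) (y : U (a j)), (u (a j)) y = x := by
    intro x
    obtain ⟨b, hb⟩ := Set.mem_iUnion.mp (ht (Set.mem_univ x))
    obtain ⟨hbt, y, hy⟩ := Set.mem_iUnion.mp hb
    refine ⟨t.equivFin ⟨b, hbt⟩, ?_⟩
    have : a (t.equivFin ⟨b, hbt⟩) = b := by simp [a]
    rw [this]
    exact ⟨y, hy⟩
  have hOc : ∀ j : Fin n, IsCompact (((u (a j)).opensRange : c.pt.Opens) : Set c.pt) := by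
    intro j
    have : CompactSpace (U (a j)) := QuasiCompact.compactSpace_of_compactSpace (u (a j))
    exact isCompact_range (u (a j)).continuous
  obtain ⟨i, φ, V', hV'⟩ := exists_preimage_eq_over_of_finite D c hc i₀
    (fun j : Fin n => (u (a j)).opensRange) hOc
  let W : (D.obj i).Opens := ⨆ j, V' j
  have hW : c.π.app i ⁻¹ᵁ W = ⊤ := by
    rw [eq_top_iff]
    intro x _
    obtain ⟨j, y, hy⟩ := hacov x
    change c.π.app i x ∈ W
    refine Opens.mem_iSup.mpr ⟨j, ?_⟩
    have : x ∈ c.π.app i ⁻¹ᵁ V' j := by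
      rw [(hV' j).2]
      exact ⟨y, hy⟩
    exact this
  obtain ⟨i', f, hf⟩ := exists_map_eq_top_over D c hc i₀ φ W hW
  have hqs : QuasiSeparatedSpace (D.obj i') :=
    quasiSeparatedSpace_of_quasiSeparated (D.map (f ≫ φ))
  have hpre : ∀ j, (u (a j)).opensRange = c.π.app i' ⁻¹ᵁ (D.map f ⁻¹ᵁ V' j) := fun j => by
    rw [preimage_preimage_eq hc f (V' j), (hV' j).2]
  choose e he using fun j => exists_isPullback_of_opensRange_eq (c.π.app i')
    (D.map f ⁻¹ᵁ V' j) (u (a j)) (hpre j)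
  refine ⟨i', n, fun j => ((D.map f ⁻¹ᵁ V' j : (D.obj i').Opens) : Scheme.{u}),
    fun j => (D.map f ⁻¹ᵁ V' j).ι, a, e, fun j => ⟨inferInstance, ?_⟩, ?_, he⟩
  · have hVc : IsCompact ((D.map f ⁻¹ᵁ V' j : (D.obj i').Opens) : Set (D.obj i')) :=
      QuasiCompact.isCompact_preimage (f := D.map f) _ (V' j).2 (hV' j).1
    have : CompactSpace ((D.map f ⁻¹ᵁ V' j : (D.obj i').Opens) : Scheme.{u}) :=
      isCompact_iff_compactSpace.mp hVc
    infer_instance
  · intro z
    have hz : z ∈ D.map f ⁻¹ᵁ W := by rw [hf]; trivial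
    obtain ⟨j, hj⟩ := Opens.mem_iSup.mp (show D.map f z ∈ W from hz)
    exact ⟨j, ⟨z, hj⟩, rfl⟩

end ZariskiCover

end Groth.Agent.H24
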