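import Mathlib

/-!
# Recognising directed colimits in `Under A`, `A : CommRingCat`

`isColimit_under_of_directed`: a cocone over a directed diagram in `Under A` is a colimit cocone as
soon as it is jointly surjective and eventual equality detects equality in the cocone point.
-/

set_option autoImplicit false
universe u
open CategoryTheory CategoryTheory.Limits

namespace Groth.Agent.H24

theorem isColimit_under_of_directed {A : CommRingCat.{u}} {J : Type u} [Preorder J]
    [IsDirected J (· ≤ ·)] [Nonempty J] (F : J ⥤ Under A) (c : Cocone F)
    (hsurj : ∀ s : c.pt.right, ∃ (i : J) (x : (F.obj i).right), (c.ι.app i).right x = s)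
    (hinj : ∀ (i : J) (x y : (F.obj i).right), (c.ι.app i).right x = (c.ι.app i).right y →
      ∃ (k : J) (h : i ≤ k), (F.map (homOfLE h)).right x = (F.map (homOfLE h)).right y) :
    Nonempty (IsColimit c) := by
  have : IsConnected J := IsFiltered.isConnected J
  let G : Under A ⥤ Type u := Under.forget A ⋙ forget CommRingCat
  have h1 : IsColimit ((forget CommRingCat).mapCocone ((Under.forget A).mapCocone c)) := by
    refine Types.FilteredColimit.isColimitOf' _ _ ?_ ?_
    · intro x
      obtain ⟨i, y, hy⟩ := hsurj x
      exact ⟨i, y, hy.symm⟩
    · intro i x y hxy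
      obtain ⟨k, h, hk⟩ := hinj i x y hxy
      exact ⟨k, homOfLE h, hk⟩
  have : ReflectsColimit (F ⋙ Under.forget A) (forget CommRingCat) :=
    reflectsColimit_of_reflectsIsomorphisms _ _
  have h2 : IsColimit ((Under.forget A).mapCocone c) := isColimitOfReflects (forget CommRingCat) h1
  exact ⟨isColimitOfReflects (Under.forget A) h2⟩

end Groth.Agent.H24

namespace Groth.Agent.H24

/-- A retract of a finitely presented algebra is finitely presented. -/
theorem finitePresentation_of_retract {A C B : Type*} [CommRing A] [CommRing C] [CommRing B]
    [Algebra A C] [Algebra A B] [Algebra.FinitePresentation A C] (q : C →ₐ[A] B) (s : B →ₐ[A] C)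
    (hqs : ∀ b, q (s b) = b) : Algebra.FinitePresentation A B := by
  classical
  have hq : Function.Surjective q := fun b => ⟨s b, hqs b⟩
  obtain ⟨t, ht⟩ := (inferInstance : Algebra.FiniteType A C)
  let K : Ideal C := Ideal.span ((fun c => c - s (q c)) '' (t : Set C))
  have hK : ∀ c : C, c - s (q c) ∈ K := by
    intro c
    have hc : c ∈ Algebra.adjoin A (t : Set C) := by rw [ht]; trivial
    induction hc using Algebra.adjoin_induction with
    | mem x hx => exact Ideal.subset_span ⟨x, hx, rfl⟩
    | algebraMap r => simp
    | add x y _ _ hx hy =>
      have : x + y - s (q (x + y)) = (x - s (q x)) + (y - s (q y)) := by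
        simp only [map_add]; ring
      rw [this]; exact K.add_mem hx hy
    | mul x y _ _ hx hy =>
      have : x * y - s (q (x * y)) = x * (y - s (q y)) + s (q y) * (x - s (q x)) := by
        simp only [map_mul]; ring
      rw [this]
      exact K.add_mem (K.mul_mem_left _ hy) (K.mul_mem_left _ hx)
  have hker : RingHom.ker q.toRingHom = K := by
    apply le_antisymm
    · intro c hc
      have hc' : q c = 0 := hc
      have := hK c
      rwa [hc', map_zero, sub_zero] at this
    · rw [Ideal.span_le]
      rintro _ ⟨c, _, rfl⟩
      change q (c - s (q c)) = 0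
      rw [map_sub, hqs, sub_self]
  refine Algebra.FinitePresentation.of_surjective (f := q) hq ?_
  rw [hker]
  exact ⟨t.image fun c => c - s (q c), by simp [K]⟩

end Groth.Agent.H24
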