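import Mathlib

/-!
# Replacing a cofiltered index category by a directed poset (helper24)

For a cofiltered diagram of affine schemes `D'` with limit cone `c'` and an index `j₀`, there is a
directed poset `α` with a functor to `(Over j₀)ᵒᵖ` such that `Γ(c'.pt)` is the directed union /
colimit of the `Γ(D' (F a))` in elementwise form.
-/

set_option autoImplicit false
universe u
open CategoryTheory CategoryTheory.Limits AlgebraicGeometry

namespace Groth.Agent.H24

variable {J : Type u} [Category.{u} J] [IsCofiltered J] (D' : J ⥤ Scheme.{u}) (c' : Cone D')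
  [∀ {i j} (f : i ⟶ j), IsAffineHom (D'.map f)] (j₀ : J) [∀ j, IsAffine (D'.obj j)]

set_option backward.isDefEq.respectTransparency false in
theorem exists_directed_stages (hc' : IsLimit c') :
    ∃ (α : Type u) (_ : PartialOrder α) (_ : IsDirected α (· ≤ ·)) (_ : Nonempty α)
      (F : α ⥤ (Over j₀)ᵒᵖ),
      (∀ s : Γ(c'.pt, ⊤), ∃ (a : α) (t : Γ(D'.obj (F.obj a).unop.left, ⊤)),
        (c'.π.app (F.obj a).unop.left).appTop t = s) ∧
      (∀ (a : α) (t : Γ(D'.obj (F.obj a).unop.left, ⊤)),
        (c'.π.app (F.obj a).unop.left).appTop t = 0 →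
        ∃ (b : α) (h : a ≤ b), (D'.map (F.map (homOfLE h)).unop.left).appTop t = 0) := by
  obtain ⟨α, _, hdir, hne, F, hF⟩ := IsFiltered.exists_directed (Over j₀)ᵒᵖ
  refine ⟨α, inferInstance, hdir, hne, F, ?_, ?_⟩
  all_goals
    have : IsFiltered α := by
      have : IsDirected α (· ≤ ·) := hdir
      infer_instance
    let Φ : α ⥤ Jᵒᵖ := F ⋙ (Over.forget j₀).op
    have hΦ : Φ.Final := inferInstance
    have hΓ : IsColimit (Scheme.Γ.mapCocone c'.op) :=
      (nonempty_isColimit_Γ_mapCocone D' c' hc').some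
    have hW : IsColimit ((Scheme.Γ.mapCocone c'.op).whisker Φ) :=
      (Functor.Final.isColimitWhiskerEquiv Φ _).symm hΓ
  · intro s
    obtain ⟨a, t, ht⟩ := Concrete.isColimit_exists_rep (Φ ⋙ D'.op ⋙ Scheme.Γ) hW s
    exact ⟨a, t, ht⟩
  · intro a t ht
    obtain ⟨k, f, g, hfg⟩ := Concrete.isColimit_exists_of_rep_eq (Φ ⋙ D'.op ⋙ Scheme.Γ) hW
      (i := a) (j := a) t 0 (by
        refine Eq.trans ?_ (map_zero _).symm
        exact ht)
    refine ⟨k, leOfHom f, ?_⟩
    have hf : homOfLE (leOfHom f) = f := Subsingleton.elim _ _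
    rw [hf]
    refine Eq.trans ?_ (hfg.trans (map_zero _))
    rfl

end Groth.Agent.H24
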