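import Mathlib

/-!
# Flatness through a module that is faithfully flat over the middle ring
-/

set_option autoImplicit false
universe u
open TensorProduct

namespace Groth.Agent.H24

section alg

variable {A B M : Type u} [CommRing A] [CommRing B] [Algebra A B] [AddCommGroup M]
  [Module A M] [Module B M] [IsScalarTower A B M]

/-- If `M` is faithfully flat over `B` and flat over `A`, then `B` is flat over `A`. -/
theorem flat_of_faithfullyFlat_of_flat [Module.FaithfullyFlat B M] [Module.Flat A M] :
    Module.Flat A B := by
  rw [Module.Flat.iff_lTensor_preserves_injective_linearMap]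
  intro N' N _ _ _ _ u hu
  -- `u.baseChange B` is injective because it is so after tensoring with `M` over `B`
  have h1 : Function.Injective ((u.baseChange B).lTensor M) := by
    let e' := TensorProduct.AlgebraTensorModule.cancelBaseChange A B B M N'
    let e := TensorProduct.AlgebraTensorModule.cancelBaseChange A B B M N
    have hcomm : ∀ t, e ((u.baseChange B).lTensor M t) = (u.lTensor M) (e' t) := by
      intro t
      induction t using TensorProduct.induction_on with
      | zero => simp
      | tmul m bn =>
        induction bn using TensorProduct.induction_on with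
        | zero => simp
        | tmul b n =>
          simp [e, e', TensorProduct.AlgebraTensorModule.cancelBaseChange_tmul]
        | add x y hx hy =>
          rw [TensorProduct.tmul_add, map_add, map_add, hx, hy, map_add, map_add]
      | add x y hx hy => rw [map_add, map_add, hx, hy, map_add, map_add]
    intro s t hst
    apply e'.injective
    apply Module.Flat.lTensor_preserves_injective_linearMap (M := M) u hu
    rw [← hcomm, ← hcomm, hst]
  exact (Module.FaithfullyFlat.lTensor_injective_iff_injective B M (u.baseChange B)).mp h1

end alg

section compHom

variable {A B C M : Type u} [CommRing A] [CommRing B] [CommRing C] [AddCommGroup M] [Module C M]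
  (φ : A →+* B) (ψ : B →+* C) (χ : A →+* C) (hχ : χ = ψ.comp φ)

include hχ in
theorem isScalarTower_compHom :
    letI := φ.toAlgebra
    letI := Module.compHom M ψ
    letI := Module.compHom M χ
    IsScalarTower A B M := by
  letI := φ.toAlgebra
  letI := Module.compHom M ψ
  letI := Module.compHom M χ
  refine ⟨fun a b m => ?_⟩
  change ψ (φ a * b) • m = χ a • (ψ b • m)
  rw [map_mul, mul_smul, hχ]
  rfl

include hχ in
theorem flat_compHom_trans (hB : letI := Module.compHom M ψ; Module.Flat B M) (hφ : φ.Flat) :
    letI := Module.compHom M χ; Module.Flat A M := by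
  letI := φ.toAlgebra
  letI mB := Module.compHom M ψ
  letI mA := Module.compHom M χ
  haveI : IsScalarTower A B M := isScalarTower_compHom φ ψ χ hχ
  haveI : Module.Flat A B := hφ
  haveI : Module.Flat B M := hB
  exact Module.Flat.trans A B M

include hχ in
theorem smul_top_ne_top_compHom [IsLocalRing A] [IsLocalRing B] [IsLocalHom φ]
    (h : letI := Module.compHom M ψ
      IsLocalRing.maximalIdeal B • (⊤ : Submodule B M) ≠ ⊤) :
    letI := Module.compHom M χ
    IsLocalRing.maximalIdeal A • (⊤ : Submodule A M) ≠ ⊤ := by
  letI mB := Module.compHom M ψ
  letI mA := Module.compHom M χ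
  intro htop
  apply h
  rw [eq_top_iff]
  intro m _
  have hm : m ∈ IsLocalRing.maximalIdeal A • (⊤ : Submodule A M) := by rw [htop]; trivial
  refine Submodule.smul_induction_on hm ?_ ?_
  · intro a ha n _
    have : a • n = φ a • n := by
      change χ a • n = ψ (φ a) • n
      rw [hχ]; rfl
    rw [this]
    refine Submodule.smul_mem_smul ?_ trivial
    exact ((IsLocalRing.mem_maximalIdeal _).mpr
      (fun hu => (IsLocalRing.mem_maximalIdeal _).mp ha (isUnit_of_map_unit φ a hu)))
  · intro x y hx hy
    exact add_mem hx hy

include hχ in
theorem flat_of_flat_compHom [IsLocalRing B]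
    (hB : letI := Module.compHom M ψ; Module.Flat B M)
    (hne : letI := Module.compHom M ψ
      IsLocalRing.maximalIdeal B • (⊤ : Submodule B M) ≠ ⊤)
    (hA : letI := Module.compHom M χ; Module.Flat A M) : φ.Flat := by
  letI := φ.toAlgebra
  letI mB := Module.compHom M ψ
  letI mA := Module.compHom M χ
  haveI : IsScalarTower A B M := isScalarTower_compHom φ ψ χ hχ
  haveI : Module.Flat A M := hA
  haveI : Module.Flat B M := hB
  haveI : Module.FaithfullyFlat B M := by
    refine ⟨fun {m} hm => ?_⟩
    rw [IsLocalRing.eq_maximalIdeal hm]
    exact hne
  exact flat_of_faithfullyFlat_of_flat (A := A) (B := B) (M := M)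

end compHom

end Groth.Agent.H24
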