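import Mathlib

/-!
# The system of finitely generated subalgebras and its base change

For an `R`-algebra `A` (with its given `Algebra R A` instance), the finitely generated subalgebras
form a directed system with colimit `A`; for `f : X ⟶ Spec R` the base changes
`X ×_R Spec A'` form a cofiltered system with affine transition maps and limit `X ×_R Spec A`.
-/

set_option autoImplicit false
universe u
open CategoryTheory CategoryTheory.Limits AlgebraicGeometry

namespace Groth.Agent.H24.FGSubAlg

variable (R A : Type u) [CommRing R] [CommRing A] [Algebra R A]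

/-- The directed set of finitely generated `R`-subalgebras of `A`. -/
abbrev Idx : Type u := {A' : Subalgebra R A // A'.FG}

instance : Nonempty (Idx R A) := ⟨⟨⊥, Subalgebra.fg_bot⟩⟩

instance : IsDirected (Idx R A) (· ≤ ·) :=
  ⟨fun a b => ⟨⟨a.1 ⊔ b.1, a.2.sup b.2⟩, (le_sup_left : a.1 ≤ a.1 ⊔ b.1),
    (le_sup_right : b.1 ≤ a.1 ⊔ b.1)⟩⟩

variable {R A}

/-- Inclusion of subalgebras. -/
noncomputable abbrev incl {i j : Idx R A} (h : i ≤ j) :
    CommRingCat.of i.1 ⟶ CommRingCat.of j.1 :=
  CommRingCat.ofHom (Subalgebra.inclusion (show i.1 ≤ j.1 from h)).toRingHom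

/-- Inclusion into `A`. -/
noncomputable abbrev val (i : Idx R A) : CommRingCat.of i.1 ⟶ CommRingCat.of A :=
  CommRingCat.ofHom i.1.val.toRingHom

/-- The structure map `R ⟶ A'`. -/
noncomputable abbrev str (i : Idx R A) : CommRingCat.of R ⟶ CommRingCat.of i.1 :=
  CommRingCat.ofHom (algebraMap R i.1)

theorem str_incl {i j : Idx R A} (h : i ≤ j) : str i ≫ incl h = str j := by
  ext x; rfl

theorem str_val (i : Idx R A) : str i ≫ val i = CommRingCat.ofHom (algebraMap R A) := by
  ext x; rfl

theorem incl_val {i j : Idx R A} (h : i ≤ j) : incl h ≫ val j = val i := by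
  ext x; rfl

theorem incl_refl (i : Idx R A) : incl (le_refl i) = 𝟙 _ := by
  ext x; rfl

theorem incl_trans {i j l : Idx R A} (h : i ≤ j) (h' : j ≤ l) :
    incl h ≫ incl h' = incl (h.trans h') := by
  ext x; rfl

variable (R A)

/-- The diagram of finitely generated subalgebras. -/
noncomputable def diagram : Idx R A ⥤ CommRingCat.{u} where
  obj A' := CommRingCat.of A'.1
  map {X Y} g := incl (leOfHom g)
  map_id X := incl_refl X
  map_comp g g' := (incl_trans _ _).symm

/-- The cocone with point `A`. -/
noncomputable def cocone : Cocone (diagram R A) where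
  pt := CommRingCat.of A
  ι := { app := fun A' => val A'
         naturality := fun X Y g => (incl_val (leOfHom g)).trans (Category.comp_id _).symm }

theorem isColimit_cocone : Nonempty (IsColimit (cocone R A)) := by
  have h1 : IsColimit ((forget CommRingCat).mapCocone (cocone R A)) := by
    refine Types.FilteredColimit.isColimitOf' _ _ ?_ ?_
    · intro (b : A)
      exact ⟨⟨Algebra.adjoin R {b}, Subalgebra.fg_def.mpr ⟨{b}, Set.finite_singleton b, rfl⟩⟩,
        ⟨b, Algebra.subset_adjoin (Set.mem_singleton b)⟩, rfl⟩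
    · intro i x y hxy
      refine ⟨i, 𝟙 i, ?_⟩
      have : x = y := Subtype.ext hxy
      rw [this]
  have : ReflectsColimit (diagram R A) (forget CommRingCat) :=
    reflectsColimit_of_reflectsIsomorphisms _ _
  exact ⟨isColimitOfReflects (forget CommRingCat) h1⟩

/-- The system of spectra. -/
noncomputable def specDiagram : (Idx R A)ᵒᵖ ⥤ Scheme.{u} := (diagram R A).op ⋙ Scheme.Spec

/-- The cone `Spec A ⟶ Spec A'`. -/
noncomputable def specCone : Cone (specDiagram R A) := Scheme.Spec.mapCone (cocone R A).op

/-- `Spec A` is the limit of the `Spec A'`. -/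
noncomputable def isLimitSpecCone : IsLimit (specCone R A) :=
  isLimitOfPreserves Scheme.Spec (isColimit_cocone R A).some.op

variable {R A} {X : Scheme.{u}} (f : X ⟶ Spec (CommRingCat.of R))

/-- The transition maps. -/
noncomputable def bcMap {i j : Idx R A} (h : i ≤ j) :
    pullback f (Spec.map (CommRingCat.ofHom (algebraMap R j.1))) ⟶
      pullback f (Spec.map (CommRingCat.ofHom (algebraMap R i.1))) :=
  pullback.lift (pullback.fst _ _) (pullback.snd _ _ ≫ Spec.map (incl h))
    (by
      rw [Category.assoc, ← Spec.map_comp, pullback.condition]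
      exact congrArg (_ ≫ Spec.map ·) (str_incl h).symm)

@[reassoc (attr := simp)]
theorem bcMap_fst {i j : Idx R A} (h : i ≤ j) :
    bcMap f h ≫ pullback.fst _ _ = pullback.fst _ _ :=
  pullback.lift_fst _ _ _

@[reassoc (attr := simp)]
theorem bcMap_snd {i j : Idx R A} (h : i ≤ j) :
    bcMap f h ≫ pullback.snd _ _ = pullback.snd _ _ ≫ Spec.map (incl h) :=
  pullback.lift_snd _ _ _

/-- The projections from the limit. -/
noncomputable def bcπ (i : Idx R A) :
    pullback f (Spec.map (CommRingCat.ofHom (algebraMap R A))) ⟶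
      pullback f (Spec.map (CommRingCat.ofHom (algebraMap R i.1))) :=
  pullback.lift (pullback.fst _ _) (pullback.snd _ _ ≫ Spec.map (val i))
    (by
      rw [Category.assoc, ← Spec.map_comp, pullback.condition]
      exact congrArg (_ ≫ Spec.map ·) (str_val i).symm)

@[reassoc (attr := simp)]
theorem bcπ_fst (i : Idx R A) :
    bcπ f i ≫ pullback.fst _ _ = pullback.fst _ _ :=
  pullback.lift_fst _ _ _

@[reassoc (attr := simp)]
theorem bcπ_snd (i : Idx R A) :
    bcπ f i ≫ pullback.snd _ _ = pullback.snd _ _ ≫ Spec.map (val i) :=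
  pullback.lift_snd _ _ _

theorem bcπ_bcMap {i j : Idx R A} (h : i ≤ j) : bcπ f j ≫ bcMap f h = bcπ f i := by
  apply pullback.hom_ext
  · rw [Category.assoc, bcMap_fst, bcπ_fst, bcπ_fst]
  · rw [Category.assoc, bcMap_snd, bcπ_snd_assoc, bcπ_snd, ← Spec.map_comp, incl_val]

theorem bcMap_refl (i : Idx R A) : bcMap f (le_refl i) = 𝟙 _ := by
  apply pullback.hom_ext
  · rw [bcMap_fst, Category.id_comp]
  · rw [bcMap_snd, Category.id_comp, incl_refl, Spec.map_id, Category.comp_id]

theorem bcMap_trans {i j l : Idx R A} (h : i ≤ j) (h' : j ≤ l) :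
    bcMap f h' ≫ bcMap f h = bcMap f (h.trans h') := by
  apply pullback.hom_ext
  · rw [Category.assoc, bcMap_fst, bcMap_fst, bcMap_fst]
  · rw [Category.assoc, bcMap_snd, bcMap_snd_assoc, bcMap_snd, ← Spec.map_comp, incl_trans]

variable (A) in
/-- The system `X ×_R Spec A'`. -/
noncomputable def bcDiagram : (Idx R A)ᵒᵖ ⥤ Scheme.{u} where
  obj i := pullback f (Spec.map (CommRingCat.ofHom (algebraMap R i.unop.1)))
  map {i j} g := bcMap f (leOfHom g.unop)
  map_id i := bcMap_refl f i.unop
  map_comp g g' := (bcMap_trans f _ _).symm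

variable (A) in
/-- The cone with point `X ×_R Spec A`. -/
noncomputable def bcCone : Cone (bcDiagram A f) where
  pt := pullback f (Spec.map (CommRingCat.ofHom (algebraMap R A)))
  π :=
    { app := fun i => bcπ f i.unop
      naturality := fun i j g =>
        (Category.id_comp _).trans (bcπ_bcMap f (leOfHom g.unop)).symm }

theorem isPullback_bcπ (i : Idx R A) :
    IsPullback (bcπ f i) (pullback.snd _ _) (pullback.snd _ _) (Spec.map (val i)) := by
  refine IsPullback.of_right ?_ (bcπ_snd f i)
    (IsPullback.of_hasPullback f (Spec.map (CommRingCat.ofHom (algebraMap R i.1))))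
  rw [bcπ_fst]
  have := IsPullback.of_hasPullback f (Spec.map (CommRingCat.ofHom (algebraMap R A)))
  convert this using 2
  rw [← Spec.map_comp, str_val]

theorem isPullback_bcMap {i j : Idx R A} (h : i ≤ j) :
    IsPullback (bcMap f h) (pullback.snd _ _) (pullback.snd _ _) (Spec.map (incl h)) := by
  refine IsPullback.of_right ?_ (bcMap_snd f h)
    (IsPullback.of_hasPullback f (Spec.map (CommRingCat.ofHom (algebraMap R i.1))))
  rw [bcMap_fst]
  have := IsPullback.of_hasPullback f (Spec.map (CommRingCat.ofHom (algebraMap R j.1)))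
  convert this using 2
  rw [← Spec.map_comp, str_incl]

instance {i j : (Idx R A)ᵒᵖ} (g : i ⟶ j) : IsAffineHom ((bcDiagram A f).map g) :=
  MorphismProperty.of_isPullback (P := @IsAffineHom) (isPullback_bcMap f (leOfHom g.unop)).flip
    inferInstance

/-- The natural transformation to the system of spectra. -/
noncomputable def bcDiagramι : bcDiagram A f ⟶ specDiagram R A where
  app _ := pullback.snd _ _
  naturality _ _ g := bcMap_snd f (leOfHom g.unop)

/-- `X ×_R Spec A` is the limit of the `X ×_R Spec A'`. -/
noncomputable def isLimitBcCone : IsLimit (bcCone A f) :=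
  haveI : IsConnected (Idx R A)ᵒᵖ := IsCofiltered.isConnected _
  isLimitOfIsPullbackOfIsConnected (bcDiagramι f) _ (specCone R A)
    { hom := pullback.snd _ _
      w := fun i => (bcπ_snd f i.unop).symm }
    (fun i => isPullback_bcπ f i.unop) (isLimitSpecCone R A)

end Groth.Agent.H24.FGSubAlg
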