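import Mathlib
import Groth.Agent.S0392
import Groth.Agent.H24.FFComp

/-!
# Fibrewise flatness criterion in `compHom` form
-/

set_option autoImplicit false
universe u
open TensorProduct

namespace Groth.Agent.H24

/-- Flatness of `M/IM` over `B/I` can be tested on `(B/I) ⊗ M`. -/
theorem flat_quotient_iff_flat_tensor {B M : Type u} [CommRing B] [AddCommGroup M] [Module B M]
    (I : Ideal B) :
    Module.Flat (B ⧸ I) (M ⧸ (I • ⊤ : Submodule B M)) ↔ Module.Flat (B ⧸ I) ((B ⧸ I) ⊗[B] M) := by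
  let e : ((B ⧸ I) ⊗[B] M) ≃ₗ[B ⧸ I] (M ⧸ (I • ⊤ : Submodule B M)) :=
    (TensorProduct.quotTensorEquivQuotSMul M I).extendScalarsOfSurjective
      Ideal.Quotient.mk_surjective
  exact ⟨fun h => Module.Flat.of_linearEquiv e, fun h => Module.Flat.of_linearEquiv e.symm⟩

section

variable {A B C M : Type u} [CommRing A] [CommRing B] [CommRing C] [AddCommGroup M] [Module C M]
  [IsLocalRing A] [IsLocalRing B] [IsLocalRing C]
  [IsNoetherianRing A] [IsNoetherianRing B] [IsNoetherianRing C]
  (φ : A →+* B) (ψ : B →+* C) (χ : A →+* C) (hχ : χ = ψ.comp φ)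
  [IsLocalHom φ] [IsLocalHom ψ] [Module.Finite C M] [Nontrivial M]

include hχ in
/-- Fibrewise flatness criterion (EGA IV 11.3.10, Noetherian case), `compHom` form. -/
theorem fibre_flat_iff :
    letI := Module.compHom M ψ
    ((letI := Module.compHom M χ; Module.Flat A M) ∧
      Module.Flat (B ⧸ (IsLocalRing.maximalIdeal A).map φ)
        (M ⧸ ((IsLocalRing.maximalIdeal A).map φ • (⊤ : Submodule B M)))) ↔
    (φ.Flat ∧ Module.Flat B M) := by
  letI mB := Module.compHom M ψ
  letI mA := Module.compHom M χ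
  letI algAB := φ.toAlgebra
  letI algBC := ψ.toAlgebra
  letI algAC := χ.toAlgebra
  haveI t1 : IsScalarTower A B M := isScalarTower_compHom φ ψ χ hχ
  haveI t2 : IsScalarTower A B C := IsScalarTower.of_algebraMap_eq (fun a => by
    change χ a = ψ (φ a)
    rw [hχ]; rfl)
  haveI t3 : IsScalarTower B C M := ⟨fun b c m => by
    change (ψ b * c) • m = ψ b • (c • m)
    rw [mul_smul]⟩
  haveI l1 : IsLocalHom (algebraMap A B) := ‹IsLocalHom φ›
  haveI l2 : IsLocalHom (algebraMap B C) := ‹IsLocalHom ψ›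
  change (Module.Flat A M ∧ Module.Flat (B ⧸ (IsLocalRing.maximalIdeal A).map φ)
        (M ⧸ ((IsLocalRing.maximalIdeal A).map φ • (⊤ : Submodule B M)))) ↔
    (φ.Flat ∧ Module.Flat B M)
  rw [flat_quotient_iff_flat_tensor]
  constructor
  · rintro ⟨hA, hq⟩
    haveI := hA
    exact Groth.Agent.S0392.result (R := A) (S := B) (S' := C) (M := M) hq
  · rintro ⟨hφ, hB⟩
    haveI : Module.Flat A B := hφ
    haveI := hB
    exact ⟨Module.Flat.trans A B M, inferInstance⟩

end

end Groth.Agent.H24
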