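import Mathlib
import Groth.Agent.H24.UnivOpen

/-!
# Tools for finding a field point with a descending property

* `chainDiagram`, `chainCone`, `isLimitChainCone`: the closed subscheme cut out by the supremum of
  a family of ideal sheaves is the limit (in `Over T`) of the closed subschemes of the family.
* `exists_no_generalization`: a nonempty scheme has a point without proper generalizations.
* `subsingleton_spec_stalk`: the spectrum of the local ring at such a point is a single point.
* `nhdDiagram`, `nhdCone`, `isLimitNhdCone`: `Spec 𝒪_{X,η}` is the limit (in `Over T`) of the affine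
  open neighbourhoods of `η`.
-/

set_option autoImplicit false
universe u
open CategoryTheory CategoryTheory.Limits AlgebraicGeometry Opposite

namespace Groth.Agent.H24.FieldPoint

section Chain

variable {T : Scheme.{u}} (C : Set T.IdealSheafData)

/-- The diagram of closed subschemes of a family of ideal sheaves. -/
noncomputable def chainDiagram : (↥C)ᵒᵖ ⥤ Over T :=
  (Subtype.mono_coe C).functor.op ⋙ Scheme.IdealSheafData.subschemeFunctor T

theorem chainDiagram_obj_hom (i : (↥C)ᵒᵖ) :
    ((chainDiagram C).obj i).hom = i.unop.1.subschemeι := rfl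

/-- The cone with point the closed subscheme of the supremum. -/
noncomputable def chainCone : Cone (chainDiagram C) where
  pt := Over.mk (sSup C).subschemeι
  π :=
    { app := fun i => Over.homMk (Scheme.IdealSheafData.inclusion (le_sSup i.unop.2))
        (Scheme.IdealSheafData.inclusion_subschemeι _)
      naturality := fun i j m => by
        ext
        change 𝟙 _ ≫ Scheme.IdealSheafData.inclusion _ =
          Scheme.IdealSheafData.inclusion _ ≫ Scheme.IdealSheafData.inclusion _
        rw [Category.id_comp, Scheme.IdealSheafData.inclusion_comp] }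

theorem le_ker_of_cone (s : Cone (chainDiagram C)) :
    (sSup C).subschemeι.ker ≤ s.pt.hom.ker := by
  rw [Scheme.IdealSheafData.ker_subschemeι]
  refine sSup_le fun J hJ => ?_
  have h : (s.π.app (op ⟨J, hJ⟩)).left ≫ J.subschemeι = s.pt.hom := Over.w (s.π.app (op ⟨J, hJ⟩))
  rw [← h]
  refine le_trans (le_of_eq ?_) (Scheme.Hom.le_ker_comp _ _)
  exact (Scheme.IdealSheafData.ker_subschemeι J).symm

/-- The lift of a cone to the closed subscheme of the supremum. -/
noncomputable def liftAux (s : Cone (chainDiagram C)) : s.pt.left ⟶ (sSup C).subscheme :=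
  IsClosedImmersion.lift (sSup C).subschemeι s.pt.hom (le_ker_of_cone C s)

theorem liftAux_fac (s : Cone (chainDiagram C)) :
    liftAux C s ≫ (sSup C).subschemeι = s.pt.hom :=
  IsClosedImmersion.lift_fac _ _ _

/-- The closed subscheme of the supremum is the limit of the closed subschemes. -/
noncomputable def isLimitChainCone : IsLimit (chainCone C) where
  lift s := Over.homMk (liftAux C s) (liftAux_fac C s)
  fac s i := by
    ext
    haveI : Mono ((chainDiagram C).obj i).hom := by
      change Mono (Scheme.IdealSheafData.subschemeι (i.unop.1))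
      infer_instance
    rw [← cancel_mono ((chainDiagram C).obj i).hom, Over.w, Over.w]
  uniq s m hm := by
    ext
    haveI : Mono (chainCone C).pt.hom := by
      change Mono (sSup C).subschemeι
      infer_instance
    rw [← cancel_mono (chainCone C).pt.hom, Over.w, Over.w]

end Chain

section Generic

/-- A nonempty scheme has a point without proper generalizations. -/
theorem exists_no_generalization (X : Scheme.{u}) [Nonempty X] :
    ∃ η : X, ∀ y : X, y ⤳ η → y = η := by
  obtain ⟨x⟩ := ‹Nonempty X›
  have hS : IsIrreducible (irreducibleComponent x) := isIrreducible_irreducibleComponent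
  have hSc : IsClosed (irreducibleComponent x) := isClosed_irreducibleComponent
  have hη := hS.isGenericPoint_genericPoint hSc
  refine ⟨hS.genericPoint, fun y hy => ?_⟩
  have h1 : irreducibleComponent x ⊆ closure {y} := by
    rw [← hη.def]
    exact closure_minimal (Set.singleton_subset_iff.mpr hy.mem_closure) isClosed_closure
  have h2 : closure {y} = irreducibleComponent x :=
    eq_irreducibleComponent (isIrreducible_singleton.closure).isPreirreducible h1
  exact IsGenericPoint.eq h2 hη

/-- The spectrum of the local ring at a point without proper generalizations is a singleton. -/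
theorem subsingleton_spec_stalk (X : Scheme.{u}) (η : X) (h : ∀ y : X, y ⤳ η → y = η) :
    Subsingleton ↥(Spec (X.presheaf.stalk η)) := by
  refine ⟨fun a b => (X.fromSpecStalk η).isEmbedding.injective ?_⟩
  have ha : (X.fromSpecStalk η).base a ∈ Set.range (X.fromSpecStalk η).base := ⟨a, rfl⟩
  have hb : (X.fromSpecStalk η).base b ∈ Set.range (X.fromSpecStalk η).base := ⟨b, rfl⟩
  rw [Scheme.range_fromSpecStalk] at ha hb
  exact (h _ ha).trans (h _ hb).symm

end Generic

section Nhd

variable (X : Scheme.{u}) (η : X)

/-- Affine open neighbourhoods of `η`, ordered by reverse inclusion. -/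
abbrev Nhd : Type u := {U : X.Opens // IsAffineOpen U ∧ η ∈ U}ᵒᵈ

variable {X η} in
/-- The underlying open. -/
abbrev Nhd.opens (U : Nhd X η) : X.Opens := (OrderDual.ofDual U).1

variable {X η} in
theorem Nhd.isAffineOpen (U : Nhd X η) : IsAffineOpen U.opens := (OrderDual.ofDual U).2.1

variable {X η} in
theorem Nhd.mem (U : Nhd X η) : η ∈ U.opens := (OrderDual.ofDual U).2.2

variable {X η} in
theorem Nhd.opens_le {U V : Nhd X η} (h : U ≤ V) : V.opens ≤ U.opens := h

theorem exists_nhd_le (W : X.Opens) (hW : η ∈ W) : ∃ U : Nhd X η, U.opens ≤ W := by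
  obtain ⟨_, ⟨U, hU, rfl⟩, hη, hUW⟩ :=
    (X.isBasis_affineOpens).exists_subset_of_mem_open (show η ∈ (W : Set X) from hW) W.2
  exact ⟨OrderDual.toDual ⟨U, hU, hη⟩, hUW⟩

instance : Nonempty (Nhd X η) := by
  obtain ⟨U, -⟩ := exists_nhd_le X η ⊤ trivial
  exact ⟨U⟩

instance : IsDirected (Nhd X η) (· ≤ ·) :=
  ⟨fun U V => by
    obtain ⟨W, hW⟩ := exists_nhd_le X η (U.opens ⊓ V.opens) ⟨U.mem, V.mem⟩
    exact ⟨W, hW.trans inf_le_left, hW.trans inf_le_right⟩⟩

/-- The diagram of rings of sections on affine open neighbourhoods. -/
noncomputable def nhdRing : Nhd X η ⥤ CommRingCat.{u} where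
  obj U := Γ(X, U.opens)
  map {U V} h := X.presheaf.map (homOfLE (Nhd.opens_le (leOfHom h))).op
  map_id U := X.presheaf.map_id _
  map_comp f g := by
    rw [← X.presheaf.map_comp]
    rfl

/-- The cocone of germs. -/
noncomputable def nhdCocone : Cocone (nhdRing X η) where
  pt := X.presheaf.stalk η
  ι :=
    { app := fun U => X.presheaf.germ U.opens η U.mem
      naturality := fun U V h => by
        change X.presheaf.map _ ≫ X.presheaf.germ V.opens η V.mem = _ ≫ 𝟙 _
        rw [Category.comp_id, X.presheaf.germ_res] }

theorem isColimit_nhdCocone : Nonempty (IsColimit (nhdCocone X η)) := by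
  apply isColimit_commRingCat_of_directed
  · intro (s : X.presheaf.stalk η)
    obtain ⟨W, hW, s', rfl⟩ := X.presheaf.exists_germ_eq s
    obtain ⟨U, hU⟩ := exists_nhd_le X η W hW
    exact ⟨U, X.presheaf.map (homOfLE hU).op s', X.presheaf.germ_res_apply (homOfLE hU) η U.mem s'⟩
  · intro U x y hxy
    obtain ⟨W, hW, iU, iV, h⟩ := X.presheaf.germ_eq η U.mem U.mem x y hxy
    obtain ⟨V, hV⟩ := exists_nhd_le X η W hW
    refine ⟨V, hV.trans iU.le, ?_⟩
    have h' := congrArg (X.presheaf.map (homOfLE hV).op) h
    change X.presheaf.map (homOfLE hV).op (X.presheaf.map iU.op x) =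
      X.presheaf.map (homOfLE hV).op (X.presheaf.map iV.op y) at h'
    rw [← ConcreteCategory.comp_apply, ← ConcreteCategory.comp_apply, ← X.presheaf.map_comp,
      ← X.presheaf.map_comp] at h'
    exact h'

variable {T : Scheme.{u}} (a : X ⟶ T)

/-- The diagram (in `Over T`) of the affine open neighbourhoods of `η`. -/
noncomputable def nhdDiagram : (Nhd X η)ᵒᵖ ⥤ Over T where
  obj U := Over.mk (U.unop.isAffineOpen.fromSpec ≫ a)
  map {U V} m := Over.homMk (Spec.map ((nhdRing X η).map m.unop)) (by
    change Spec.map (X.presheaf.map _) ≫ V.unop.isAffineOpen.fromSpec ≫ a =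
      U.unop.isAffineOpen.fromSpec ≫ a
    rw [← Category.assoc, IsAffineOpen.map_fromSpec])
  map_id U := by
    ext
    change Spec.map ((nhdRing X η).map (𝟙 _)) = 𝟙 _
    rw [(nhdRing X η).map_id, Spec.map_id]
  map_comp f g := by
    ext
    change Spec.map ((nhdRing X η).map (g.unop ≫ f.unop)) =
      Spec.map ((nhdRing X η).map f.unop) ≫ Spec.map ((nhdRing X η).map g.unop)
    rw [(nhdRing X η).map_comp, Spec.map_comp]

/-- The cone with point `Spec 𝒪_{X,η}`. -/
noncomputable def nhdCone : Cone (nhdDiagram X η a) where
  pt := Over.mk (X.fromSpecStalk η ≫ a)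
  π :=
    { app := fun U => Over.homMk (Spec.map (X.presheaf.germ U.unop.opens η U.unop.mem)) (by
        change Spec.map _ ≫ U.unop.isAffineOpen.fromSpec ≫ a = X.fromSpecStalk η ≫ a
        rw [← Category.assoc, ← U.unop.isAffineOpen.fromSpecStalk_eq_fromSpecStalk U.unop.mem]
        rfl)
      naturality := fun U V m => by
        ext
        change 𝟙 _ ≫ Spec.map (X.presheaf.germ V.unop.opens η V.unop.mem) =
          Spec.map (X.presheaf.germ U.unop.opens η U.unop.mem) ≫
            Spec.map ((nhdRing X η).map m.unop)
        rw [Category.id_comp, ← Spec.map_comp]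
        exact congrArg Spec.map ((nhdCocone X η).w m.unop).symm }

/-- `Spec 𝒪_{X,η}` is the limit of the affine open neighbourhoods of `η`. -/
noncomputable def isLimitNhdCone : IsLimit (nhdCone X η a) := by
  haveI : IsConnected (Nhd X η)ᵒᵖ := IsCofiltered.isConnected _
  refine isLimitOfReflects (Over.forget T) ?_
  exact (isLimitOfPreserves Scheme.Spec (isColimit_nhdCocone X η).some.op :)

end Nhd

end Groth.Agent.H24.FieldPoint
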