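import Mathlib.RingTheory.Flat.FaithfullyFlat.Basic
import Mathlib.RingTheory.Flat.FaithfullyFlat.Algebra
import Mathlib.RingTheory.RingHom.FaithfullyFlat
import Mathlib.RingTheory.RingHom.Flat

set_option autoImplicit false

namespace Groth.Agent.H24

open TensorProduct

/-- If `A → B → C` with `C` faithfully flat over `B` and flat over `A`, then `B` is flat over `A`.
(Same statement and proof as `Groth.Agent.H10.flat_of_flat_of_faithfullyFlat`; duplicated here so
that this library is self-contained.) -/
theorem flat_of_flat_of_faithfullyFlat (A B C : Type*) [CommRing A] [CommRing B] [CommRing C]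
    [Algebra A B] [Algebra B C] [Algebra A C] [IsScalarTower A B C] [Module.FaithfullyFlat B C]
    [Module.Flat A C] : Module.Flat A B := by
  rw [Module.Flat.iff_lTensor_preserves_injective_linearMap]
  intro N P _ _ _ _ f hf
  let F : B ⊗[A] N →ₗ[B] B ⊗[A] P := TensorProduct.AlgebraTensorModule.lTensor B B f
  have hF : ⇑F = ⇑(LinearMap.lTensor B f) := rfl
  rw [← hF, ← Module.FaithfullyFlat.lTensor_injective_iff_injective B C F]
  let eN := TensorProduct.AlgebraTensorModule.cancelBaseChange A B B C N
  let eP := TensorProduct.AlgebraTensorModule.cancelBaseChange A B B C P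
  have h : ∀ x, eP (LinearMap.lTensor C F x) = LinearMap.lTensor C f (eN x) := by
    intro x
    induction x using TensorProduct.induction_on with
    | zero => simp
    | tmul c y =>
      induction y using TensorProduct.induction_on with
      | zero => simp
      | tmul b n => simp [eN, eP, F]
      | add y z hy hz =>
        rw [TensorProduct.tmul_add, map_add, map_add, hy, hz, map_add, map_add]
    | add y z hy hz => rw [map_add, map_add, hy, hz, map_add, map_add]
  intro x y hxy
  apply eN.injective
  apply Module.Flat.lTensor_preserves_injective_linearMap f hf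
  rw [← h, ← h, hxy]

/-- If `C` is faithfully flat over `B`, then `B ⊗[A] N → C ⊗[A] N` is injective for every `A`-module
`N`. -/
theorem rTensor_algebraMap_injective_of_faithfullyFlat (A B C : Type*) [CommRing A] [CommRing B]
    [CommRing C] [Algebra A B] [Algebra B C] [Algebra A C] [IsScalarTower A B C]
    [Module.FaithfullyFlat B C] (N : Type*) [AddCommGroup N] [Module A N] :
    Function.Injective (LinearMap.rTensor N (IsScalarTower.toAlgHom A B C).toLinearMap) := by
  have h1 := Module.FaithfullyFlat.tensorProduct_mk_injective (A := B) (B := C) (B ⊗[A] N)
  let e := TensorProduct.AlgebraTensorModule.cancelBaseChange A B B C N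
  have h : ∀ x : B ⊗[A] N, LinearMap.rTensor N (IsScalarTower.toAlgHom A B C).toLinearMap x =
      e (TensorProduct.mk B C (B ⊗[A] N) 1 x) := by
    intro x
    induction x using TensorProduct.induction_on with
    | zero => simp
    | tmul b n => simp [e, Algebra.smul_def]
    | add y z hy hz => rw [map_add, map_add, hy, hz, map_add]
  intro x y hxy
  rw [h, h] at hxy
  exact h1 (e.injective hxy)

/-- If `C` is faithfully flat over `B`, then `N ⊗[A] B → N ⊗[A] C` is injective for every `A`-module
`N`. -/
theorem lTensor_algebraMap_injective_of_faithfullyFlat (A B C : Type*) [CommRing A] [CommRing B]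
    [CommRing C] [Algebra A B] [Algebra B C] [Algebra A C] [IsScalarTower A B C]
    [Module.FaithfullyFlat B C] (N : Type*) [AddCommGroup N] [Module A N] :
    Function.Injective (LinearMap.lTensor N (IsScalarTower.toAlgHom A B C).toLinearMap) := by
  have h1 := rTensor_algebraMap_injective_of_faithfullyFlat A B C N
  have h : ∀ x : N ⊗[A] B, LinearMap.lTensor N (IsScalarTower.toAlgHom A B C).toLinearMap x =
      TensorProduct.comm A C N (LinearMap.rTensor N (IsScalarTower.toAlgHom A B C).toLinearMap
        (TensorProduct.comm A N B x)) := by
    intro x
    induction x using TensorProduct.induction_on with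
    | zero => simp
    | tmul n b => simp
    | add y z hy hz => rw [map_add, map_add, hy, hz, map_add, map_add]
  intro x y hxy
  rw [h, h] at hxy
  exact (TensorProduct.comm A N B).injective (h1 ((TensorProduct.comm A C N).injective hxy))

end Groth.Agent.H24
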