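import Mathlib

/-!
# Flatness of the projection of a fibre product of affine schemes, in terms of tensor products
(helper24)
-/

set_option autoImplicit false
universe u
open CategoryTheory CategoryTheory.Limits AlgebraicGeometry TensorProduct

namespace Groth.Agent.H24

set_option backward.isDefEq.respectTransparency false in
theorem flat_fst_iff {T X₀ S₀ : Scheme.{u}} [IsAffine T] [IsAffine X₀] [IsAffine S₀]
    (t : T ⟶ S₀) (h₀ : X₀ ⟶ S₀) :
    Flat (pullback.fst t h₀) ↔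
      letI := t.appTop.hom.toAlgebra
      letI := h₀.appTop.hom.toAlgebra
      Module.Flat Γ(T, ⊤) (Γ(T, ⊤) ⊗[Γ(S₀, ⊤)] Γ(X₀, ⊤)) := by
  let _ := t.appTop.hom.toAlgebra
  let _ := h₀.appTop.hom.toAlgebra
  have hpush : IsPushout t.appTop h₀.appTop (pullback.fst t h₀).appTop (pullback.snd t h₀).appTop :=
    isPushout_appTop_of_isPullback (IsPullback.of_hasPullback t h₀)
  have htens := CommRingCat.isPushout_tensorProduct Γ(S₀, ⊤) Γ(T, ⊤) Γ(X₀, ⊤)
  let e := htens.isoIsPushout _ _ hpush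
  have he : CommRingCat.ofHom (Algebra.TensorProduct.includeLeftRingHom :
      Γ(T, ⊤) →+* Γ(T, ⊤) ⊗[Γ(S₀, ⊤)] Γ(X₀, ⊤)) ≫ e.hom = (pullback.fst t h₀).appTop :=
    htens.inl_isoIsPushout_hom _ _ hpush
  have he' : (pullback.fst t h₀).appTop ≫ e.inv = CommRingCat.ofHom
      (Algebra.TensorProduct.includeLeftRingHom :
        Γ(T, ⊤) →+* Γ(T, ⊤) ⊗[Γ(S₀, ⊤)] Γ(X₀, ⊤)) :=
    htens.inl_isoIsPushout_inv _ _ hpush
  rw [HasRingHomProperty.iff_of_isAffine (P := @Flat),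
    ← RingHom.flat_algebraMap_iff (R := Γ(T, ⊤)) (S := Γ(T, ⊤) ⊗[Γ(S₀, ⊤)] Γ(X₀, ⊤))]
  have halg : algebraMap Γ(T, ⊤) (Γ(T, ⊤) ⊗[Γ(S₀, ⊤)] Γ(X₀, ⊤)) =
      Algebra.TensorProduct.includeLeftRingHom := rfl
  rw [halg]
  constructor
  · intro h
    have h2 : (Algebra.TensorProduct.includeLeftRingHom :
        Γ(T, ⊤) →+* Γ(T, ⊤) ⊗[Γ(S₀, ⊤)] Γ(X₀, ⊤)) =
        e.inv.hom.comp (pullback.fst t h₀).appTop.hom := by
      rw [← CommRingCat.hom_comp, he']; rfl
    rw [h2]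
    exact h.comp (RingHom.Flat.of_bijective
      (ConcreteCategory.bijective_of_isIso e.inv))
  · intro h
    have h2 : (pullback.fst t h₀).appTop.hom = e.hom.hom.comp
        (Algebra.TensorProduct.includeLeftRingHom :
        Γ(T, ⊤) →+* Γ(T, ⊤) ⊗[Γ(S₀, ⊤)] Γ(X₀, ⊤)) := by
      rw [← he]; rfl
    rw [h2]
    exact h.comp (RingHom.Flat.of_bijective
      (ConcreteCategory.bijective_of_isIso e.hom))

end Groth.Agent.H24
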