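import Mathlib

/-!
# Flat surjective morphisms are injective on sections
-/

set_option autoImplicit false
universe u
open CategoryTheory AlgebraicGeometry

namespace Groth.Agent.H24

set_option backward.isDefEq.respectTransparency.types false in
theorem stalkMap_injective_of_flat {X Y : Scheme.{u}} (f : X ⟶ Y) [Flat f] (x : X) :
    Function.Injective (f.stalkMap x).hom := by
  algebraize [(f.stalkMap x).hom]
  have : Module.FaithfullyFlat (Y.presheaf.stalk (f x)) (X.presheaf.stalk x) :=
    @Module.FaithfullyFlat.of_flat_of_isLocalHom _ _ _ _ _ _ _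
      (Flat.stalkMap f x) (f.toLRSHom.prop x)
  exact ‹RingHom.FaithfullyFlat _›.injective

/-- A flat surjective morphism of schemes is injective on sections over any open. -/
theorem app_injective_of_flat_of_surjective {X Y : Scheme.{u}} (f : X ⟶ Y) [Flat f]
    [Surjective f] (V : Y.Opens) : Function.Injective (f.app V).hom := by
  rw [injective_iff_map_eq_zero]
  intro s hs
  refine TopCat.Presheaf.section_ext Y.sheaf V s 0 fun y hy => ?_
  obtain ⟨x, rfl⟩ := f.surjective y
  apply stalkMap_injective_of_flat f x
  change f.stalkMap x (Y.presheaf.germ V (f x) hy s) = f.stalkMap x (Y.presheaf.germ V (f x) hy 0)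
  rw [Scheme.Hom.germ_stalkMap_apply, Scheme.Hom.germ_stalkMap_apply]
  have h0 : (f.app V) 0 = 0 := map_zero _
  have hs' : (f.app V) s = 0 := hs
  rw [hs', h0]

end Groth.Agent.H24
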