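import Groth.Agent.H24.GenericFlat
import Groth.Agent.H24.FPDescent

/-!
# Generic flatness over an arbitrary domain, finitely presented case (helper24)

* `isLocalizedModule_baseChange`: base change of a localization map of modules is a localization.
* `TorTorsion.baseChange`.
* `exists_torTorsion_of_finitePresentation`: `A` a domain, `B` a finitely presented `A`-algebra,
  `M` a finitely presented `B`-module: there is `f ≠ 0` with `TorTorsion f M` (EGA IV 8.9.4 /
  Stacks 051S, flat version), by descent to a finitely generated `ℤ`-subalgebra of `A`.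
-/

set_option autoImplicit false
universe u
open TensorProduct

namespace Groth.Agent.H24.GenericFlat

section baseChange

variable {R : Type*} [CommRing R] (S : Submonoid R) (A : Type*) [CommRing A] [Algebra R A]
  {M M' : Type*} [AddCommGroup M] [Module R M] [AddCommGroup M'] [Module R M']

theorem isLocalizedModule_lTensor (g : M →ₗ[R] M') [IsLocalizedModule S g] (N : Type*)
    [AddCommGroup N] [Module R N] : IsLocalizedModule S (g.lTensor N) := by
  have h1 : IsLocalizedModule S (AlgebraTensorModule.rTensor R N g) := inferInstance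
  have h2 : g.lTensor N = (TensorProduct.comm R M' N).toLinearMap ∘ₗ
      ((AlgebraTensorModule.rTensor R N g) ∘ₗ (TensorProduct.comm R N M).toLinearMap) := by
    ext n m
    simp
  rw [h2]
  infer_instance

theorem isLocalizedModule_baseChange (g : M →ₗ[R] M') [IsLocalizedModule S g] :
    IsLocalizedModule (Algebra.algebraMapSubmonoid A S) (g.baseChange A) := by
  have : IsLocalizedModule S ((g.baseChange A).restrictScalars R) :=
    isLocalizedModule_lTensor S g A
  exact IsLocalizedModule.of_restrictScalars S (g.baseChange A)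

end baseChange

theorem TorTorsion.baseChange {A₀ : Type*} {A : Type*} [CommRing A₀] [CommRing A] [Algebra A₀ A]
    {f₀ : A₀} {M₀ : Type*} [AddCommGroup M₀] [Module A₀ M₀] (h : TorTorsion f₀ M₀) :
    TorTorsion (algebraMap A₀ A f₀) (A ⊗[A₀] M₀) := by
  have hflat : Module.Flat A₀ (LocalizedModule (Submonoid.powers f₀) M₀) :=
    h.flat_of_isLocalizedModule (B := A₀) (Submonoid.powers f₀) (Submonoid.mem_powers f₀)
      (LocalizedModule.mkLinearMap (Submonoid.powers f₀) M₀)
  have hloc : IsLocalizedModule (Submonoid.powers (algebraMap A₀ A f₀))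
      ((LocalizedModule.mkLinearMap (Submonoid.powers f₀) M₀).baseChange A) := by
    have := isLocalizedModule_baseChange (Submonoid.powers f₀) A
      (LocalizedModule.mkLinearMap (Submonoid.powers f₀) M₀)
    rwa [Algebra.algebraMapSubmonoid_powers] at this
  exact TorTorsion.of_isLocalizedModule_flat
    ((LocalizedModule.mkLinearMap (Submonoid.powers f₀) M₀).baseChange A)

section fp

variable (A : Type u) [CommRing A] [IsDomain A]

attribute [local instance] MvPolynomial.algebraMvPolynomial

/-- Generic flatness for finitely presented modules over a polynomial ring over any domain. -/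
theorem exists_torTorsion_mvPolynomial (n : ℕ) (M : Type u) [AddCommGroup M] [Module A M]
    [Module (MvPolynomial (Fin n) A) M] [IsScalarTower A (MvPolynomial (Fin n) A) M]
    [Module.FinitePresentation (MvPolynomial (Fin n) A) M] :
    ∃ f : A, f ≠ 0 ∧ TorTorsion f M := by
  classical
  obtain ⟨m, K, e, hK⟩ := Module.FinitePresentation.exists_fin (MvPolynomial (Fin n) A) M
  obtain ⟨s, hs⟩ := hK
  let C : Finset A := s.biUnion (fun w => Finset.univ.biUnion (fun a => (w a).coeffs))
  let A₀ : Subalgebra ℤ A := Algebra.adjoin ℤ (C : Set A)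
  have hfg : A₀.FG := Subalgebra.fg_adjoin_finset C
  have : Algebra.FiniteType ℤ A₀ := (Subalgebra.fg_iff_finiteType A₀).mp hfg
  have : IsNoetherianRing A₀ := Algebra.FiniteType.isNoetherianRing ℤ A₀
  have hlift : ∀ (w : s) (a : Fin m), ∃ p : MvPolynomial (Fin n) A₀,
      MvPolynomial.map (algebraMap A₀ A) p = w.1 a := by
    intro w a
    have : w.1 a ∈ Set.range (MvPolynomial.map (algebraMap A₀ A)) := by
      rw [MvPolynomial.mem_range_map_iff_coeffs_subset]
      intro c hc
      have hcC : c ∈ C := Finset.mem_biUnion.mpr
        ⟨w.1, w.2, Finset.mem_biUnion.mpr ⟨a, Finset.mem_univ _, hc⟩⟩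
      exact ⟨⟨c, Algebra.subset_adjoin hcC⟩, rfl⟩
    exact this
  choose ρ hρ using hlift
  obtain ⟨hfp₀, ⟨e'⟩⟩ := exists_equiv_tensor_of_lift (R := MvPolynomial (Fin n) A₀)
    (S := MvPolynomial (Fin n) A) K e s hs ρ (fun r a => hρ r a)
  obtain ⟨f₀, hf₀, hT₀⟩ := exists_torTorsion (↥A₀) (MvPolynomial (Fin n) A₀)
    ((Fin m → MvPolynomial (Fin n) A₀) ⧸
      LinearMap.range (Fintype.linearCombination (MvPolynomial (Fin n) A₀) ρ))
  refine ⟨algebraMap A₀ A f₀, ?_, ?_⟩
  · intro h
    apply hf₀
    exact Subtype.val_injective (by simpa using h)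
  · have h1 := hT₀.baseChange (A := A)
    exact h1.of_linearEquiv ((e'.restrictScalars A) ≪≫ₗ
      (Algebra.IsPushout.cancelBaseChange A₀ A (MvPolynomial (Fin n) A₀) (MvPolynomial (Fin n) A) _))

/-- **Generic flatness** over an arbitrary domain: `B` a finitely presented `A`-algebra and `M` a
finitely presented `B`-module. -/
theorem exists_torTorsion_of_finitePresentation (B M : Type u) [CommRing B] [Algebra A B]
    [Algebra.FinitePresentation A B] [AddCommGroup M] [Module A M] [Module B M]
    [IsScalarTower A B M] [Module.FinitePresentation B M] :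
    ∃ f : A, f ≠ 0 ∧ TorTorsion f M := by
  obtain ⟨n, φ, hφ, hker⟩ := Algebra.FinitePresentation.out (R := A) (A := B)
  let _ : Algebra (MvPolynomial (Fin n) A) B := φ.toRingHom.toAlgebra
  let _ : Module (MvPolynomial (Fin n) A) M :=
    Module.compHom M (algebraMap (MvPolynomial (Fin n) A) B)
  have : IsScalarTower (MvPolynomial (Fin n) A) B M := ⟨fun x y z => by
    change (algebraMap (MvPolynomial (Fin n) A) B x * y) • z =
      algebraMap (MvPolynomial (Fin n) A) B x • (y • z)
    rw [mul_smul]⟩
  have : IsScalarTower A (MvPolynomial (Fin n) A) M := ⟨fun a x m => by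
    change φ (a • x) • m = a • (φ x • m)
    rw [map_smul, smul_assoc]⟩
  have : Module.FinitePresentation (MvPolynomial (Fin n) A) B := by
    refine Module.finitePresentation_of_surjective
      (Algebra.linearMap (MvPolynomial (Fin n) A) B) hφ ?_
    have hk : LinearMap.ker (Algebra.linearMap (MvPolynomial (Fin n) A) B) =
        RingHom.ker φ.toRingHom := Submodule.ext fun x => Iff.rfl
    rw [hk]
    exact hker
  have : Module.FinitePresentation (MvPolynomial (Fin n) A) M :=
    Module.FinitePresentation.trans (MvPolynomial (Fin n) A) M B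
  exact exists_torTorsion_mvPolynomial A n M

end fp

end Groth.Agent.H24.GenericFlat
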