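import Groth.Agent.H24.GenericFlat
import Groth.Agent.H8.QCohStalk
import Groth.Prelude.Def_FlatMod2

/-!
# Generic flatness: transfer to schemes (helper24)

* `germ_appLE`: germ of `appLE` is the stalk map of the germ.
* `isFlatOverAt_of_torTorsion`: if `W ⊆ Y`, `V ⊆ u⁻¹ W` are affine opens, `F` is quasi-coherent
  and `Γ(F, V)` (as a `Γ(Y, W)`-module through `appLE`) satisfies `TorTorsion f`, then `F` is flat
  over `Y` at all points `x ∈ V` with `u x ∈ D(f)`.
-/

set_option autoImplicit false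
universe u
open CategoryTheory AlgebraicGeometry TopologicalSpace Opposite

namespace Groth.Agent.H24.GenericFlat

variable {X Y : Scheme.{u}} (u : X ⟶ Y)

lemma germ_appLE {W : Y.Opens} {V : X.Opens} (e : V ≤ u ⁻¹ᵁ W) (x : X) (hxV : x ∈ V)
    (a : Γ(Y, W)) :
    X.presheaf.germ V x hxV (u.appLE W V e a) =
      u.stalkMap x (Y.presheaf.germ W (u.base x) (e hxV) a) := by
  rw [Scheme.Hom.germ_stalkMap_apply]
  simp only [Scheme.Hom.appLE, CommRingCat.comp_apply]
  exact TopCat.Presheaf.germ_res_apply _ _ _ _ _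

/-- The `Γ(Y, W)`-module structure on `Γ(F, V)` through `appLE`. -/
@[reducible] noncomputable def sectionsModuleOver (F : X.Modules) {W : Y.Opens} {V : X.Opens}
    (e : V ≤ u ⁻¹ᵁ W) : Module Γ(Y, W) Γ(F, V) :=
  Module.compHom _ (u.appLE W V e).hom

set_option backward.isDefEq.respectTransparency false in
theorem isFlatOverAt_of_torTorsion (F : X.Modules) [F.IsQuasicoherent] {W : Y.Opens} {V : X.Opens}
    (e : V ≤ u ⁻¹ᵁ W) (hW : IsAffineOpen W) (hV : IsAffineOpen V) (f : Γ(Y, W))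
    (hT : letI := sectionsModuleOver u F e; TorTorsion f Γ(F, V))
    (x : X) (hxV : x ∈ V) (hx : u.base x ∈ Y.basicOpen f) : FlatMod.IsFlatOverAt u F x := by
  let : Algebra Γ(Y, W) Γ(X, V) := (u.appLE W V e).hom.toAlgebra
  let mA : Module Γ(Y, W) Γ(F, V) := sectionsModuleOver u F e
  have : IsScalarTower Γ(Y, W) Γ(X, V) Γ(F, V) := ⟨fun a b m => by
    change (algebraMap Γ(Y, W) Γ(X, V) a * b) • m = algebraMap Γ(Y, W) Γ(X, V) a • b • m
    rw [mul_smul]⟩
  let mB' : Module Γ(X, V) (F.presheaf.stalk x) := Groth.Agent.H8.stalkModule F hxV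
  let mA' : Module Γ(Y, W) (F.presheaf.stalk x) :=
    Module.compHom _ (algebraMap Γ(Y, W) Γ(X, V))
  have : IsScalarTower Γ(Y, W) Γ(X, V) (F.presheaf.stalk x) := ⟨fun a b m => by
    change (algebraMap Γ(Y, W) Γ(X, V) a * b) • m = algebraMap Γ(Y, W) Γ(X, V) a • b • m
    rw [mul_smul]⟩
  have hloc := Groth.Agent.H8.isLocalizedModule_germₗ F hV hxV
  have hunit : IsUnit (X.presheaf.germ V x hxV (u.appLE W V e f)) := by
    rw [germ_appLE]
    exact ((Y.mem_basicOpen f (u.base x) (e hxV)).mp hx).map _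
  have hfS : algebraMap Γ(Y, W) Γ(X, V) f ∈ (hV.primeIdealOf ⟨x, hxV⟩).asIdeal.primeCompl :=
    (Groth.Agent.H8.notMem_primeIdealOf_iff hV hxV _).mpr ((X.mem_basicOpen _ x hxV).mpr hunit)
  have hflatA : Module.Flat Γ(Y, W) (F.presheaf.stalk x) :=
    hT.flat_of_isLocalizedModule _ hfS (Groth.Agent.H8.germₗ F hxV)
  unfold FlatMod.IsFlatOverAt
  let := FlatMod.moduleStalkOver u F x
  let : Algebra Γ(Y, W) (Y.presheaf.stalk (u.base x)) :=
    TopCat.Presheaf.algebra_section_stalk Y.presheaf ⟨u.base x, e hxV⟩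
  have : IsLocalization.AtPrime (Y.presheaf.stalk (u.base x))
      (hW.primeIdealOf ⟨u.base x, e hxV⟩).asIdeal := hW.isLocalization_stalk ⟨u.base x, e hxV⟩
  have : IsScalarTower Γ(Y, W) (Y.presheaf.stalk (u.base x)) (F.presheaf.stalk x) :=
    ⟨fun a s m => by
      change (u.stalkMap x).hom (Y.presheaf.germ W (u.base x) (e hxV) a * s) • m =
        (X.presheaf.germ V x hxV).hom ((u.appLE W V e).hom a) • ((u.stalkMap x).hom s • m)
      rw [map_mul, mul_smul]
      congr 1
      exact (germ_appLE u e x hxV a).symm⟩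
  exact (Module.flat_iff_of_isLocalization (Y.presheaf.stalk (u.base x))
    (hW.primeIdealOf ⟨u.base x, e hxV⟩).asIdeal.primeCompl (F.presheaf.stalk x)).mpr hflatA

end Groth.Agent.H24.GenericFlat
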