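import Mathlib
import Groth.Agent.S4848
import Groth.Agent.H24.LimitLocus
import Groth.Agent.H24.LimitLocusSmooth
import Groth.Agent.H24.DirectedStage
import Groth.Agent.H24.FlatFstAffine

/-!
# Flat morphisms descend to a stage of a cofiltered limit (helper24)

All-affine core from the ring-level statement S4848 (helper1), via a directed-poset replacement of
the index category.
-/

set_option autoImplicit false
universe u
open CategoryTheory CategoryTheory.Limits AlgebraicGeometry TensorProduct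

namespace Groth.Agent.H24

set_option backward.isDefEq.respectTransparency false in
/-- The all-affine core descent statement for flat morphisms. -/
theorem coreDescent_flat : CoreDescent.{u} @Flat := by
  intro J _ _ D' _ c' hc' j₀ _ X₀' _ h₀ _ hlim
  have h1 := (prop_limMap_id_iff_fst D' c' j₀ h₀ @Flat).mp hlim
  obtain ⟨α, _, hdir, hne, F, hsurj, hinj⟩ := exists_directed_stages D' c' j₀ hc'
  have hπaff : IsAffineHom (c'.π.app j₀) := isAffineHom_π_app D' c' hc' j₀
  have hpt : IsAffine c'.pt := isAffine_of_isAffineHom (c'.π.app j₀)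
  have hpt' : IsAffine (((Functor.const J).obj c'.pt).obj j₀) := hpt
  let G : α → Type u := fun a => Γ(D'.obj (F.obj a).unop.left, ⊤)
  let iB : Algebra Γ(D'.obj j₀, ⊤) Γ(X₀', ⊤) := h₀.appTop.hom.toAlgebra
  let iA : Algebra Γ(D'.obj j₀, ⊤) Γ(c'.pt, ⊤) := (c'.π.app j₀).appTop.hom.toAlgebra
  let iG : ∀ a, Algebra Γ(D'.obj j₀, ⊤) (G a) := fun a =>
    (D'.map (F.obj a).unop.hom).appTop.hom.toAlgebra
  let iGA : ∀ a, Algebra (G a) Γ(c'.pt, ⊤) := fun a =>
    (c'.π.app (F.obj a).unop.left).appTop.hom.toAlgebra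
  have tower : ∀ a, IsScalarTower Γ(D'.obj j₀, ⊤) (G a) Γ(c'.pt, ⊤) := fun a =>
    IsScalarTower.of_algebraMap_eq' (by
      change (c'.π.app j₀).appTop.hom =
        (c'.π.app (F.obj a).unop.left).appTop.hom.comp (D'.map (F.obj a).unop.hom).appTop.hom
      rw [← CommRingCat.hom_comp, ← Scheme.Hom.comp_appTop, c'.w])
  let g : ∀ a b, a ≤ b → G a →ₐ[Γ(D'.obj j₀, ⊤)] G b := fun a b h =>
    { toRingHom := (D'.map (F.map (homOfLE h)).unop.left).appTop.hom
      commutes' := fun r => by
        change ((D'.map (F.map (homOfLE h)).unop.left).appTop.hom.comp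
          (D'.map (F.obj a).unop.hom).appTop.hom) r = (D'.map (F.obj b).unop.hom).appTop.hom r
        rw [← CommRingCat.hom_comp, ← Scheme.Hom.comp_appTop, ← D'.map_comp,
          Over.w (F.map (homOfLE h)).unop] }
  have hcolim : FlatCA.IsDirectedColimitRing G (fun i j h => (g i j h).toRingHom) Γ(c'.pt, ⊤) := by
    refine ⟨hdir, hne, ?_, ?_, ?_, ?_, ?_⟩
    · intro i
      change (D'.map (F.map (homOfLE le_rfl)).unop.left).appTop.hom = RingHom.id _
      have : homOfLE (le_refl i) = 𝟙 i := Subsingleton.elim _ _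
      rw [this, F.map_id]
      simp
    · intro i j k hij hjk
      change (D'.map (F.map (homOfLE hjk)).unop.left).appTop.hom.comp
        (D'.map (F.map (homOfLE hij)).unop.left).appTop.hom =
        (D'.map (F.map (homOfLE (hij.trans hjk))).unop.left).appTop.hom
      have : homOfLE (hij.trans hjk) = homOfLE hij ≫ homOfLE hjk := Subsingleton.elim _ _
      rw [this, F.map_comp, ← CommRingCat.hom_comp, ← Scheme.Hom.comp_appTop, ← D'.map_comp]
      rfl
    · intro i j h
      change (c'.π.app (F.obj j).unop.left).appTop.hom.comp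
        (D'.map (F.map (homOfLE h)).unop.left).appTop.hom =
        (c'.π.app (F.obj i).unop.left).appTop.hom
      rw [← CommRingCat.hom_comp, ← Scheme.Hom.comp_appTop, c'.w]
    · intro a
      obtain ⟨i, t, ht⟩ := hsurj a
      exact ⟨i, t, ht⟩
    · intro i x hx
      obtain ⟨b, h, hb⟩ := hinj i x hx
      exact ⟨b, h, hb⟩
  have hfp : Algebra.FinitePresentation Γ(D'.obj j₀, ⊤) Γ(X₀', ⊤) :=
    (HasRingHomProperty.iff_of_isAffine (P := @LocallyOfFinitePresentation)).mp inferInstance
  have key := Groth.Agent.S4848.result G g Γ(c'.pt, ⊤) hcolim (B₀ := Γ(X₀', ⊤)) Γ(X₀', ⊤)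
  have hflatA : Module.Flat Γ(c'.pt, ⊤) (Γ(c'.pt, ⊤) ⊗[Γ(D'.obj j₀, ⊤)] Γ(X₀', ⊤)) :=
    (flat_fst_iff (c'.π.app j₀) h₀).mp h1
  obtain ⟨a, ha⟩ := key.mp hflatA
  refine ⟨(F.obj a).unop, (prop_stageMap_id_iff_fst D' j₀ h₀ @Flat _).mpr ?_⟩
  exact (flat_fst_iff (D'.map (F.obj a).unop.hom) h₀).mpr ha

end Groth.Agent.H24
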