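import Mathlib
import Groth.Agent.H24.LimitLocus
import Groth.Agent.H24.LimitIff

/-!
# "iff eventually" wrappers for source-local properties (global and pointwise)
-/

set_option autoImplicit false
universe u
open CategoryTheory CategoryTheory.Limits AlgebraicGeometry

namespace Groth.Agent.H24

variable {I : Type u} [Category.{u} I] (D : I ⥤ Scheme.{u}) (c : Cone D) (i₀ : I)
  {X₀ Y₀ : Scheme.{u}} (f₀ : X₀ ⟶ Y₀) (g₀ : Y₀ ⟶ D.obj i₀)

/-- Strengthening of `exists_iso_limMap` which also records the first projection. -/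
theorem exists_iso_limMap' {X Y : Scheme.{u}} (f : X ⟶ Y) (g : Y ⟶ c.pt)
    (qY : Y ⟶ Y₀) (qX : X ⟶ X₀) (hY : IsPullback qY g g₀ (c.π.app i₀))
    (hX : IsPullback qX f f₀ qY) :
    ∃ (e₁ : pullback (c.π.app i₀) (f₀ ≫ g₀) ≅ X) (e₂ : Y ≅ pullback (c.π.app i₀) g₀),
      limMap D c i₀ f₀ g₀ = e₁.hom ≫ f ≫ e₂.hom ∧
      e₁.hom ≫ qX = pullback.snd (c.π.app i₀) (f₀ ≫ g₀) ∧
      e₂.hom ≫ pullback.snd (c.π.app i₀) g₀ = qY ∧
      e₂.hom ≫ pullback.fst (c.π.app i₀) g₀ = g := by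
  let e₂ := hY.flip.isoPullback
  have he₂s : e₂.hom ≫ pullback.snd (c.π.app i₀) g₀ = qY := hY.flip.isoPullback_hom_snd
  have he₂f : e₂.hom ≫ pullback.fst (c.π.app i₀) g₀ = g := hY.flip.isoPullback_hom_fst
  have hX2 : IsPullback qX (f ≫ e₂.hom) f₀ (pullback.snd (c.π.app i₀) g₀) := by
    have hX3 : IsPullback qX (f ≫ e₂.hom) f₀ (e₂.inv ≫ qY) := by
      refine IsPullback.of_iso hX (Iso.refl _) (Iso.refl _) e₂ (Iso.refl _) ?_ ?_ ?_ ?_ <;> simp
    have : e₂.inv ≫ qY = pullback.snd (c.π.app i₀) g₀ := by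
      rw [Iso.inv_comp_eq, he₂s]
    rwa [this] at hX3
  let e₁ := (isPullback_limMap D c i₀ f₀ g₀).isoIsPullback _ _ hX2
  refine ⟨e₁, e₂, ?_, ?_, he₂s, he₂f⟩
  · have := IsPullback.isoIsPullback_hom_snd _ _ (isPullback_limMap D c i₀ f₀ g₀) hX2
    rw [← this]
  · exact IsPullback.isoIsPullback_hom_fst _ _ (isPullback_limMap D c i₀ f₀ g₀) hX2

variable [IsCofiltered I] [∀ {i j} (f : i ⟶ j), IsAffineHom (D.map f)]

set_option backward.isDefEq.respectTransparency false in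
/-- Global "iff eventually" for a source-local property with an all-affine core descent. -/
theorem iff_exists_stage_of_core (P : MorphismProperty Scheme.{u})
    [P.IsStableUnderBaseChange] [IsZariskiLocalAtSource P] [P.IsStableUnderComposition]
    (hOI : ∀ {A B : Scheme.{u}} (j : A ⟶ B) [IsOpenImmersion j], P j)
    (hcore : CoreDescent P) (hc : IsLimit c) [LocallyOfFinitePresentation f₀] [CompactSpace X₀]
    {X Y : Scheme.{u}} (f : X ⟶ Y) (g : Y ⟶ c.pt) (qY : Y ⟶ Y₀) (qX : X ⟶ X₀)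
    (hY : IsPullback qY g g₀ (c.π.app i₀)) (hX : IsPullback qX f f₀ qY) :
    P f ↔
      ∃ (j : I) (φ : j ⟶ i₀) (Xj Yj : Scheme.{u}) (fj : Xj ⟶ Yj) (gj : Yj ⟶ D.obj j)
        (pY : Yj ⟶ Y₀) (pX : Xj ⟶ X₀),
        IsPullback pY gj g₀ (D.map φ) ∧ IsPullback pX fj f₀ pY ∧ P fj := by
  constructor
  · intro hf
    obtain ⟨e₁, e₂, he, -, -, -⟩ := exists_iso_limMap' D c i₀ f₀ g₀ f g qY qX hY hX
    have hlim : P (limMap D c i₀ f₀ g₀) := by
      rw [he, P.cancel_left_of_respectsIso, P.cancel_right_of_respectsIso]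
      exact hf
    obtain ⟨ψ, hψ⟩ := exists_stageMap_of_core D c i₀ f₀ g₀ P hOI hcore hc hlim
    exact ⟨ψ.left, ψ.hom, pullback (D.map ψ.hom) (f₀ ≫ g₀), pullback (D.map ψ.hom) g₀,
      stageMap D i₀ f₀ g₀ ψ, pullback.fst (D.map ψ.hom) g₀,
      pullback.snd (D.map ψ.hom) g₀, pullback.snd (D.map ψ.hom) (f₀ ≫ g₀),
      (IsPullback.of_hasPullback (D.map ψ.hom) g₀).flip,
      isPullback_stageMap D i₀ f₀ g₀ ψ, hψ⟩
  · rintro ⟨j, φ, Xj, Yj, fj, gj, pY, pX, hYj, hXj, hfj⟩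
    exact prop_of_isPullback_stage D c i₀ f₀ g₀ P f g qY qX hY hX φ fj gj pY pX hYj hXj hfj

end Groth.Agent.H24
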