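import Mathlib
import Groth.Agent.H24.LimitLocusIff

/-!
# Pointwise "iff eventually" wrapper for source-local properties
-/

set_option autoImplicit false
universe u
open CategoryTheory CategoryTheory.Limits AlgebraicGeometry

namespace Groth.Agent.H24

variable {I : Type u} [Category.{u} I] [IsCofiltered I] (D : I ⥤ Scheme.{u}) (c : Cone D)
  [∀ {i j} (f : i ⟶ j), IsAffineHom (D.map f)] (i₀ : I)
  {X₀ Y₀ : Scheme.{u}} (f₀ : X₀ ⟶ Y₀) (g₀ : Y₀ ⟶ D.obj i₀)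

set_option backward.isDefEq.respectTransparency false in
/-- Pointwise "iff eventually" for a source-local property with an all-affine core descent. -/
theorem iff_exists_stage_pointwise_of_core (P : MorphismProperty Scheme.{u})
    [P.IsStableUnderBaseChange] [IsZariskiLocalAtSource P] [P.IsStableUnderComposition]
    (hOI : ∀ {A B : Scheme.{u}} (j : A ⟶ B) [IsOpenImmersion j], P j)
    (hcore : CoreDescent P) (hc : IsLimit c) [LocallyOfFinitePresentation f₀]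
    {X Y : Scheme.{u}} (f : X ⟶ Y) (g : Y ⟶ c.pt) (qY : Y ⟶ Y₀) (qX : X ⟶ X₀)
    (hY : IsPullback qY g g₀ (c.π.app i₀)) (hX : IsPullback qX f f₀ qY) (x : X) :
    (∃ U : X.Opens, x ∈ U ∧ P (U.ι ≫ f)) ↔
      ∃ (j : I) (φ : j ⟶ i₀) (Xj Yj : Scheme.{u}) (fj : Xj ⟶ Yj) (gj : Yj ⟶ D.obj j)
        (pY : Yj ⟶ Y₀) (pX : Xj ⟶ X₀) (rX : X ⟶ Xj),
        IsPullback pY gj g₀ (D.map φ) ∧ IsPullback pX fj f₀ pY ∧
          rX ≫ pX = qX ∧ rX ≫ fj ≫ gj = f ≫ g ≫ c.π.app j ∧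
            ∃ V : Xj.Opens, rX.base x ∈ V ∧ P (V.ι ≫ fj) := by
  constructor
  · rintro ⟨U, hxU, hU⟩
    obtain ⟨e₁, e₂, he, he₁, he₂s, he₂f⟩ := exists_iso_limMap' D c i₀ f₀ g₀ f g qY qX hY hX
    let cX := pullbackCone D c i₀ (f₀ ≫ g₀)
    let U' : cX.pt.Opens := e₁.hom ⁻¹ᵁ U
    let x' : cX.pt := e₁.inv x
    have hx' : x' ∈ U' := by
      change e₁.hom (e₁.inv x) ∈ U
      rw [← Scheme.Hom.comp_apply, e₁.inv_hom_id]
      exact hxU
    have hU' : P (U'.ι ≫ limMap D c i₀ f₀ g₀) := by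
      have h1 : U'.ι ≫ limMap D c i₀ f₀ g₀ = (e₁.hom ∣_ U) ≫ (U.ι ≫ f) ≫ e₂.hom := by
        rw [he, ← Category.assoc, ← morphismRestrict_ι]
        simp only [Category.assoc]
      rw [h1, P.cancel_left_of_respectsIso, P.cancel_right_of_respectsIso]
      exact hU
    obtain ⟨ψ, W, hxW, hW⟩ := exists_stage_of_mem D c i₀ f₀ g₀ P hOI hcore hc U' hU' x' hx'
    refine ⟨ψ.left, ψ.hom, pullback (D.map ψ.hom) (f₀ ≫ g₀), pullback (D.map ψ.hom) g₀,
      stageMap D i₀ f₀ g₀ ψ, pullback.fst (D.map ψ.hom) g₀,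
      pullback.snd (D.map ψ.hom) g₀, pullback.snd (D.map ψ.hom) (f₀ ≫ g₀),
      e₁.inv ≫ cX.π.app ψ,
      (IsPullback.of_hasPullback (D.map ψ.hom) g₀).flip,
      isPullback_stageMap D i₀ f₀ g₀ ψ, ?_, ?_, W, hxW, hW⟩
    · rw [Category.assoc, pullbackCone_π_snd, Iso.inv_comp_eq, he₁]
    · rw [Category.assoc, stageMap_fst, pullbackCone_π_fst, Iso.inv_comp_eq,
        ← limMap_fst_assoc D c i₀ f₀ g₀, he]
      simp only [Category.assoc]
      rw [reassoc_of% he₂f]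
  · rintro ⟨j, φ, Xj, Yj, fj, gj, pY, pX, rX, hYj, hXj, h1, h2, V, hxV, hV⟩
    let k : Y ⟶ Yj := hYj.lift qY (g ≫ c.π.app j) (by rw [hY.w, Category.assoc, c.w])
    have hk : k ≫ pY = qY := hYj.lift_fst _ _ _
    have hk' : k ≫ gj = g ≫ c.π.app j := hYj.lift_snd _ _ _
    have hsq : rX ≫ fj = f ≫ k := by
      apply hYj.hom_ext
      · rw [Category.assoc, ← hXj.w, reassoc_of% h1, Category.assoc, hk, hX.w]
      · rw [Category.assoc, h2, Category.assoc, hk']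
    have hX' : IsPullback (rX ≫ pX) f f₀ (k ≫ pY) := by rw [hk, h1]; exact hX
    have hsq' : IsPullback rX f fj k := IsPullback.of_right hX' hsq hXj
    refine ⟨rX ⁻¹ᵁ V, hxV, ?_⟩
    exact P.of_isPullback ((isPullback_morphismRestrict rX V).paste_vert hsq') hV

end Groth.Agent.H24
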