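import Mathlib

/-!
# Base change of modules along a filtered colimit of rings (helper24)

`R : J ⥤ CommRingCat` filtered with colimit `c`, `A` a ring with compatible maps `α j : A ⟶ R j`
and `αI : A ⟶ c.pt`.  For `A`-modules, `c.pt ⊗[A] M = colim R j ⊗[A] M`; we record the elementwise
consequences for `ModuleCat.extendScalars`.
-/

set_option autoImplicit false
universe u
open CategoryTheory CategoryTheory.Limits MonoidalCategory TensorProduct

namespace Groth.Agent.H24.ModLimAlg

variable {J : Type u} [SmallCategory J] [IsFiltered J] {R : J ⥤ CommRingCat.{u}} {c : Cocone R}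
  (hc : IsColimit c) {A : CommRingCat.{u}} (α : ∀ j, A ⟶ R.obj j)
  (hαn : ∀ {j j' : J} (f : j ⟶ j'), α j ≫ R.map f = α j')
  (αI : A ⟶ c.pt) (hα : ∀ j, α j ≫ c.ι.app j = αI)

include hαn in
theorem α_map {j j' : J} (f : j ⟶ j') (x : A) :
    (R.map f).hom ((α j).hom x) = (α j').hom x := by
  rw [← hαn f]
  rfl

include hα in
theorem α_ι (j : J) (x : A) : (c.ι.app j).hom ((α j).hom x) = αI.hom x := by
  rw [← hα j]
  rfl

/-- `R j` as an `A`-module. -/
noncomputable abbrev Q₀ (j : J) : ModuleCat.{u} A :=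
  (ModuleCat.restrictScalars (α j).hom).obj (ModuleCat.of (R.obj j) (R.obj j))

/-- `c.pt` as an `A`-module. -/
noncomputable abbrev QI : ModuleCat.{u} A :=
  (ModuleCat.restrictScalars αI.hom).obj (ModuleCat.of c.pt c.pt)

/-- The diagram of `A`-modules `j ↦ R j`. -/
noncomputable def Q : J ⥤ ModuleCat.{u} A where
  obj j := Q₀ α j
  map {j j'} f := ModuleCat.ofHom (X := ↑(Q₀ α j)) (Y := ↑(Q₀ α j'))
    { toFun := fun x => (R.map f).hom x
      map_add' := fun x y => map_add (R.map f).hom x y
      map_smul' := fun a x => by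
        change (R.map f).hom ((α j).hom a * (show R.obj j from x)) =
          (α j').hom a * (R.map f).hom (show R.obj j from x)
        rw [map_mul, α_map α hαn] }
  map_id j := by
    ext x
    change (R.map (𝟙 j)).hom x = x
    rw [R.map_id]; rfl
  map_comp f g := by
    ext x
    change (R.map (f ≫ g)).hom x = (R.map g).hom ((R.map f).hom x)
    rw [R.map_comp]; rfl

/-- The cocone `R j → c.pt` of `A`-modules. -/
noncomputable def cQ : Cocone (Q α hαn) where
  pt := QI αI
  ι :=
    { app := fun j => ModuleCat.ofHom (X := ↑(Q₀ α j)) (Y := ↑(QI αI))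
        { toFun := fun x => (c.ι.app j).hom x
          map_add' := fun x y => map_add (c.ι.app j).hom x y
          map_smul' := fun a x => by
            change (c.ι.app j).hom ((α j).hom a * (show R.obj j from x)) =
              αI.hom a * (show c.pt from (c.ι.app j).hom (show R.obj j from x))
            rw [map_mul, α_ι α αI hα] }
      naturality := fun j j' f => by
        ext x
        change (c.ι.app j').hom ((R.map f).hom x) = (c.ι.app j).hom x
        rw [← c.w f]; rfl }

include hc in
theorem isColimit_cQ : Nonempty (IsColimit (cQ α hαn αI hα)) := by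
  have : ReflectsFilteredColimits (forget (ModuleCat.{u} A)) :=
    ⟨fun _ ↦ reflectsColimitsOfShape_of_reflectsIsomorphisms⟩
  refine ReflectsColimit.reflects (F := forget _) (Types.FilteredColimit.isColimitOf' _ _ ?_ ?_)
  · intro (x : c.pt)
    obtain ⟨j, y, hy⟩ := Concrete.isColimit_exists_rep R hc x
    exact ⟨j, y, hy.symm⟩
  · intro j (x : R.obj j) (y : R.obj j) (h : (c.ι.app j).hom x = (c.ι.app j).hom y)
    obtain ⟨k, f, g, hk⟩ := Concrete.isColimit_exists_of_rep_eq R hc x y h
    refine ⟨IsFiltered.coeq f g, f ≫ IsFiltered.coeqHom f g, ?_⟩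
    change (R.map (f ≫ IsFiltered.coeqHom f g)).hom x = (R.map (f ≫ IsFiltered.coeqHom f g)).hom y
    have h2 : (R.map (f ≫ IsFiltered.coeqHom f g)).hom y =
        (R.map (g ≫ IsFiltered.coeqHom f g)).hom y := by
      rw [IsFiltered.coeq_condition]
    rw [h2, R.map_comp, R.map_comp]
    change (R.map (IsFiltered.coeqHom f g)).hom ((R.map f).hom x) =
      (R.map (IsFiltered.coeqHom f g)).hom ((R.map g).hom y)
    exact congrArg _ hk

section Tensor

variable (M : ModuleCat.{u} A)

/-- The transition maps `R j ⊗ M → R j' ⊗ M`. -/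
noncomputable def tr {j j' : J} (f : j ⟶ j') :
    ((Q α hαn).obj j ⊗ M : ModuleCat.{u} A) ⟶ ((Q α hαn).obj j' ⊗ M : ModuleCat.{u} A) :=
  (Q α hαn).map f ▷ M

/-- The maps `R j ⊗ M → c.pt ⊗ M`. -/
noncomputable def trI (j : J) :
    ((Q α hαn).obj j ⊗ M : ModuleCat.{u} A) ⟶ ((cQ α hαn αI hα).pt ⊗ M : ModuleCat.{u} A) :=
  (cQ α hαn αI hα).ι.app j ▷ M

theorem tr_tmul {j j' : J} (f : j ⟶ j') (x : R.obj j) (m : M) :
    (tr α hαn M f).hom ((show ↑((Q α hαn).obj j) from x) ⊗ₜ[A] m) =
      (show ↑((Q α hαn).obj j') from (R.map f).hom x) ⊗ₜ[A] m :=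
  ModuleCat.MonoidalCategory.whiskerRight_apply _ _ _ _

theorem trI_tmul (j : J) (x : R.obj j) (m : M) :
    (trI α hαn αI hα M j).hom ((show ↑((Q α hαn).obj j) from x) ⊗ₜ[A] m) =
      (show ↑((cQ α hαn αI hα).pt) from (c.ι.app j).hom x) ⊗ₜ[A] m :=
  ModuleCat.MonoidalCategory.whiskerRight_apply _ _ _ _

theorem tr_comp {j j' j'' : J} (f : j ⟶ j') (g : j' ⟶ j'') :
    tr α hαn M (f ≫ g) = tr α hαn M f ≫ tr α hαn M g := by
  unfold tr
  rw [Functor.map_comp, MonoidalCategory.comp_whiskerRight]

theorem tr_trI {j j' : J} (f : j ⟶ j') :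
    tr α hαn M f ≫ trI α hαn αI hα M j' = trI α hαn αI hα M j := by
  unfold tr trI
  rw [← MonoidalCategory.comp_whiskerRight, Cocone.w]

include hc in
theorem exists_rep (z : ((cQ α hαn αI hα).pt ⊗ M : ModuleCat.{u} A)) :
    ∃ (j : J) (y : ((Q α hαn).obj j ⊗ M : ModuleCat.{u} A)), (trI α hαn αI hα M j).hom y = z := by
  obtain ⟨h⟩ := isColimit_cQ hc α hαn αI hα
  exact Concrete.isColimit_exists_rep (Q α hαn ⋙ tensorRight M)
    (isColimitOfPreserves (tensorRight M) h) z

include hc in
theorem exists_of_rep_eq {j : J} (x y : ((Q α hαn).obj j ⊗ M : ModuleCat.{u} A))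
    (hxy : (trI α hαn αI hα M j).hom x = (trI α hαn αI hα M j).hom y) :
    ∃ (k : J) (f : j ⟶ k), (tr α hαn M f).hom x = (tr α hαn M f).hom y := by
  obtain ⟨h⟩ := isColimit_cQ hc α hαn αI hα
  obtain ⟨k, f, g, hk⟩ := Concrete.isColimit_exists_of_rep_eq (Q α hαn ⋙ tensorRight M)
    (isColimitOfPreserves (tensorRight M) h) x y hxy
  refine ⟨IsFiltered.coeq f g, f ≫ IsFiltered.coeqHom f g, ?_⟩
  have h2 : tr α hαn M (f ≫ IsFiltered.coeqHom f g) = tr α hαn M (g ≫ IsFiltered.coeqHom f g) := by
    rw [IsFiltered.coeq_condition]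
  rw [tr_comp]
  have h3 : (tr α hαn M (f ≫ IsFiltered.coeqHom f g)).hom y =
      (tr α hαn M (g ≫ IsFiltered.coeqHom f g)).hom y := by rw [h2]
  rw [tr_comp, tr_comp] at h3
  change (tr α hαn M (IsFiltered.coeqHom f g)).hom ((tr α hαn M f).hom x) =
    (tr α hαn M (IsFiltered.coeqHom f g)).hom ((tr α hαn M f).hom y)
  rw [show (tr α hαn M (IsFiltered.coeqHom f g)).hom ((tr α hαn M f).hom y) =
    (tr α hαn M (IsFiltered.coeqHom f g)).hom ((tr α hαn M g).hom y) from h3]
  exact congrArg _ hk

end Tensor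

section Extend

variable {M N : ModuleCat.{u} A}

/-- `1 ⊗ n` in `R j ⊗ N`. -/
noncomputable def oneT (j : J) (n : N) : ((Q α hαn).obj j ⊗ N : ModuleCat.{u} A) :=
  (show ↑((Q α hαn).obj j) from (1 : R.obj j)) ⊗ₜ[A] n

theorem tr_oneT {j j' : J} (f : j ⟶ j') (n : N) :
    (tr α hαn N f).hom (oneT α hαn j n) = oneT α hαn j' n := by
  unfold oneT
  rw [tr_tmul, map_one]

/-- `1 ⊗ n` in `S ⊗ N`. -/
noncomputable def oneE {S : Type u} [CommRing S] (g : A →+* S) (n : N) :
    ((ModuleCat.extendScalars g).obj N) :=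
  (show ↑((ModuleCat.restrictScalars g).obj (ModuleCat.of S S)) from (1 : S)) ⊗ₜ[A] n

include hc hα in
theorem exists_oneT_eq (n n' : N) (h : oneE αI.hom n = oneE αI.hom n') :
    ∃ k : J, ∀ (k' : J) (_ : k ⟶ k'), oneT α hαn k' n = oneT α hαn k' n' := by
  obtain ⟨j₀⟩ := IsFiltered.nonempty (C := J)
  have hxy : (trI α hαn αI hα N j₀).hom (oneT α hαn j₀ n) =
      (trI α hαn αI hα N j₀).hom (oneT α hαn j₀ n') := by
    unfold oneT
    rw [trI_tmul, trI_tmul, map_one]
    exact h
  obtain ⟨k, f, hk⟩ := exists_of_rep_eq hc α hαn αI hα N _ _ hxy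
  refine ⟨k, fun k' g => ?_⟩
  have := congrArg (tr α hαn N g).hom hk
  rwa [tr_oneT, tr_oneT, tr_oneT, tr_oneT] at this

theorem map_oneE {S : Type u} [CommRing S] (g : A →+* S) (u : M ⟶ N) (m : M) :
    ((ModuleCat.extendScalars g).map u).hom (oneE g m) = oneE g (u.hom m) :=
  ModuleCat.ExtendScalars.map_tmul _ _ _ _

include hc hα hαn in
theorem extendScalars_map_eq_of_colimit [Module.Finite A M] (u v : M ⟶ N)
    (h : (ModuleCat.extendScalars αI.hom).map u = (ModuleCat.extendScalars αI.hom).map v) :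
    ∃ j : J, ∀ (j' : J) (_ : j ⟶ j'),
      (ModuleCat.extendScalars (α j').hom).map u = (ModuleCat.extendScalars (α j').hom).map v := by
  classical
  obtain ⟨s, hs⟩ := (Module.Finite.fg_top : (⊤ : Submodule A M).FG)
  have key : ∀ m : M, ∃ k : J, ∀ (k' : J) (_ : k ⟶ k'),
      oneT α hαn k' (u.hom m) = oneT α hαn k' (v.hom m) := by
    intro m
    apply exists_oneT_eq hc α hαn αI hα
    have := congrArg (fun w => w.hom (oneE αI.hom m)) h
    simp only [map_oneE] at this
    exact this
  choose k hk using key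
  obtain ⟨S, hS⟩ := IsFiltered.sup_objs_exists (s.image k)
  refine ⟨S, fun j' g => ?_⟩
  have h1 : ∀ m ∈ s, oneT α hαn j' (u.hom m) = oneT α hαn j' (v.hom m) := fun m hm => by
    obtain ⟨f⟩ := hS (Finset.mem_image_of_mem k hm)
    exact hk m j' (f ≫ g)
  have h2 : ∀ m : M, oneT α hαn j' (u.hom m) = oneT α hαn j' (v.hom m) := by
    intro m
    have hm : m ∈ Submodule.span A (s : Set M) := by rw [hs]; trivial
    induction hm using Submodule.span_induction with
    | mem x hx => exact h1 x hx
    | zero => simp only [map_zero]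
    | add x y _ _ hx hy =>
      simp only [map_add, oneT, TensorProduct.tmul_add] at *
      rw [hx, hy]
    | smul a x _ hx =>
      simp only [map_smul, oneT, TensorProduct.tmul_smul] at *
      rw [hx]
  have h3 : ∀ m : M, oneE (α j').hom (u.hom m) = oneE (α j').hom (v.hom m) := fun m => h2 m
  ext m
  exact (map_oneE (α j').hom u m).trans ((h3 m).trans (map_oneE (α j').hom v m).symm)

theorem whiskerLeft_eq_map (j : J) (u : M ⟶ N) (y : ((Q α hαn).obj j ⊗ M : ModuleCat.{u} A)) :
    (show ↑((ModuleCat.extendScalars (α j).hom).obj N) from ((Q α hαn).obj j ◁ u).hom y) =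
      ((ModuleCat.extendScalars (α j).hom).map u).hom
        (show ↑((ModuleCat.extendScalars (α j).hom).obj M) from y) := by
  induction y using TensorProduct.induction_on with
  | zero => simp only [map_zero]; rfl
  | tmul x m =>
    rw [ModuleCat.MonoidalCategory.whiskerLeft_apply]
    exact (ModuleCat.ExtendScalars.map_tmul (α j).hom u (show R.obj j from x) m).symm
  | add x y hx hy =>
    rw [map_add]
    exact (congrArg₂ (· + ·) hx hy).trans (map_add _ _ _).symm

theorem whiskerLeft_eq_mapI (u : M ⟶ N) (y : ((cQ α hαn αI hα).pt ⊗ M : ModuleCat.{u} A)) :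
    (show ↑((ModuleCat.extendScalars αI.hom).obj N) from ((cQ α hαn αI hα).pt ◁ u).hom y) =
      ((ModuleCat.extendScalars αI.hom).map u).hom
        (show ↑((ModuleCat.extendScalars αI.hom).obj M) from y) := by
  induction y using TensorProduct.induction_on with
  | zero => simp only [map_zero]; rfl
  | tmul x m =>
    rw [ModuleCat.MonoidalCategory.whiskerLeft_apply]
    exact (ModuleCat.ExtendScalars.map_tmul αI.hom u (show c.pt from x) m).symm
  | add x y hx hy =>
    rw [map_add]
    exact (congrArg₂ (· + ·) hx hy).trans (map_add _ _ _).symm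

theorem tmul_eq_smul_oneE {S : Type u} [CommRing S] (g : A →+* S) (x : S) (n : N) :
    x • oneE g n = (show ↑((ModuleCat.restrictScalars g).obj (ModuleCat.of S S)) from x) ⊗ₜ[A] n := by
  have := ModuleCat.ExtendScalars.smul_tmul g x 1 n
  rw [mul_one] at this
  exact this

theorem oneE_smul {S : Type u} [CommRing S] (g : A →+* S) (a : A) (n : N) :
    oneE g (a • n) = g a • oneE g n := by
  rw [tmul_eq_smul_oneE]
  have h1 : (show ↑((ModuleCat.restrictScalars g).obj (ModuleCat.of S S)) from g a) =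
      a • (show ↑((ModuleCat.restrictScalars g).obj (ModuleCat.of S S)) from (1 : S)) := by
    rw [ModuleCat.restrictScalars.smul_def]
    exact (mul_one (g a)).symm
  rw [h1, TensorProduct.smul_tmul]
  rfl

include hc hα hαn in
theorem extendScalars_map_surjective_of_colimit [Module.Finite A N] (u : M ⟶ N)
    (h : Function.Surjective ((ModuleCat.extendScalars αI.hom).map u).hom) :
    ∃ j : J, ∀ (j' : J) (_ : j ⟶ j'),
      Function.Surjective ((ModuleCat.extendScalars (α j').hom).map u).hom := by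
  classical
  obtain ⟨s, hs⟩ := (Module.Finite.fg_top : (⊤ : Submodule A N).FG)
  have key : ∀ n : N, ∃ k : J, ∀ (k' : J) (_ : k ⟶ k'),
      oneE (α k').hom n ∈ LinearMap.range ((ModuleCat.extendScalars (α k').hom).map u).hom := by
    intro n
    obtain ⟨z, hz⟩ := h (oneE αI.hom n)
    obtain ⟨j, y, hy⟩ := exists_rep hc α hαn αI hα M z
    let w := ((Q α hαn).obj j ◁ u).hom y
    have hw : (trI α hαn αI hα N j).hom w = (trI α hαn αI hα N j).hom (oneT α hαn j n) := by
      have e1 : (trI α hαn αI hα N j).hom w =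
          ((cQ α hαn αI hα).pt ◁ u).hom ((trI α hαn αI hα M j).hom y) := by
        change ((((Q α hαn).obj j ◁ u) ≫ trI α hαn αI hα N j).hom y) =
          ((trI α hαn αI hα M j ≫ ((cQ α hαn αI hα).pt ◁ u)).hom y)
        unfold trI
        rw [MonoidalCategory.whisker_exchange]
        rfl
      rw [e1, hy]
      have e2 := whiskerLeft_eq_mapI α hαn αI hα u z
      have e3 : (trI α hαn αI hα N j).hom (oneT α hαn j n) = oneE αI.hom n := by
        unfold oneT
        rw [trI_tmul, map_one]
        rfl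
      rw [e3]
      exact e2.trans hz
    obtain ⟨k, f, hk⟩ := exists_of_rep_eq hc α hαn αI hα N _ _ hw
    refine ⟨k, fun k' g => ?_⟩
    have hk' := congrArg (tr α hαn N g).hom hk
    rw [tr_oneT, tr_oneT] at hk'
    have e4 : (tr α hαn N g).hom ((tr α hαn N f).hom w) =
        ((Q α hαn).obj k' ◁ u).hom ((tr α hαn M (f ≫ g)).hom y) := by
      change ((((Q α hαn).obj j ◁ u) ≫ tr α hαn N f ≫ tr α hαn N g).hom y) =
        ((tr α hαn M (f ≫ g) ≫ ((Q α hαn).obj k' ◁ u)).hom y)
      rw [← tr_comp]
      unfold tr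
      rw [MonoidalCategory.whisker_exchange]
    rw [e4] at hk'
    refine ⟨(show ↑((ModuleCat.extendScalars (α k').hom).obj M) from
      (tr α hαn M (f ≫ g)).hom y), ?_⟩
    exact (whiskerLeft_eq_map α hαn k' u _).symm.trans hk'
  choose k hk using key
  obtain ⟨S, hS⟩ := IsFiltered.sup_objs_exists (s.image k)
  refine ⟨S, fun j' g => ?_⟩
  have h1 : ∀ n ∈ s, oneE (α j').hom n ∈
      LinearMap.range ((ModuleCat.extendScalars (α j').hom).map u).hom := fun n hn => by
    obtain ⟨f⟩ := hS (Finset.mem_image_of_mem k hn)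
    exact hk n j' (f ≫ g)
  have h2 : ∀ n : N, oneE (α j').hom n ∈
      LinearMap.range ((ModuleCat.extendScalars (α j').hom).map u).hom := by
    intro n
    have hn : n ∈ Submodule.span A (s : Set N) := by rw [hs]; trivial
    induction hn using Submodule.span_induction with
    | mem x hx => exact h1 x hx
    | zero =>
      have : oneE (α j').hom (0 : N) = 0 := TensorProduct.tmul_zero _ _
      rw [this]; exact Submodule.zero_mem _
    | add x y _ _ hx hy =>
      have : oneE (α j').hom (x + y) = oneE (α j').hom x + oneE (α j').hom y :=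
        TensorProduct.tmul_add _ _ _
      rw [this]; exact Submodule.add_mem _ hx hy
    | smul a x _ hx =>
      rw [oneE_smul]
      exact Submodule.smul_mem _ _ hx
  intro z
  have : z ∈ LinearMap.range ((ModuleCat.extendScalars (α j').hom).map u).hom := by
    induction z using TensorProduct.induction_on with
    | zero => exact Submodule.zero_mem _
    | tmul x n =>
      have := Submodule.smul_mem _ (show R.obj j' from x) (h2 n)
      rwa [tmul_eq_smul_oneE] at this
    | add x y hx hy => exact Submodule.add_mem _ hx hy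
  exact this

end Extend


end Groth.Agent.H24.ModLimAlg
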