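import Mathlib
import Groth.Agent.H44.QCohEpi

/-!
# Local-to-global principles for morphisms of (quasi-coherent) modules via charts (helper24)
-/

set_option autoImplicit false
universe u
open CategoryTheory AlgebraicGeometry Scheme.Modules TopologicalSpace

namespace Groth.Agent.H24.ModLimLoc

variable {X : Scheme.{u}}

theorem restrict_map_app {W : Scheme.{u}} (a : W ⟶ X) [IsOpenImmersion a] {F G : X.Modules}
    (θ : F ⟶ G) (V : W.Opens) :
    ((restrictFunctor a).map θ).app V = θ.app (a ''ᵁ V) := rfl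

/-- Two morphisms of modules which agree after restriction to the members of an open cover
are equal. -/
theorem hom_ext_of_restrict {F G : X.Modules} (θ θ' : F ⟶ G) {ι : Type*} {W : ι → Scheme.{u}}
    (a : ∀ k, W k ⟶ X) [∀ k, IsOpenImmersion (a k)]
    (hcov : ∀ x : X, ∃ k, x ∈ Set.range (a k).base)
    (h : ∀ k, (restrictFunctor (a k)).map θ = (restrictFunctor (a k)).map θ') : θ = θ' := by
  refine Scheme.Modules.hom_ext _ _ fun U => ?_
  ext s
  refine Groth.Agent.H12.QCohIso.modules_eq_of_locally_eq G _ _ fun x hx => ?_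
  obtain ⟨k, y, hy⟩ := hcov x
  let V : (W k).Opens := (a k) ⁻¹ᵁ U
  have hVU : (a k) ''ᵁ V ≤ U := (a k).image_preimage_le U
  refine ⟨(a k) ''ᵁ V, hVU, ⟨y, by change (a k).base y ∈ U; rw [hy]; exact hx, hy⟩, ?_⟩
  have e1 := Groth.Agent.H12.QCohExt.app_mres θ hVU s
  have e2 := Groth.Agent.H12.QCohExt.app_mres θ' hVU s
  have := congrArg (fun t => t.app V) (h k)
  simp only [restrict_map_app] at this
  exact e1.trans ((congrArg (fun t => t.hom (Groth.Agent.H18.mres F hVU s)) this).trans e2.symm)

section QCoh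

variable {F G : X.Modules} [F.IsQuasicoherent] [G.IsQuasicoherent] (θ : F ⟶ G) {ι : Type*}
  {B : ι → CommRingCat.{u}} (a : ∀ k, Spec (B k) ⟶ X) [∀ k, IsOpenImmersion (a k)]
  (hcov : ∀ x : X, ∃ k, x ∈ Set.range (a k).base)

include hcov in
theorem epi_of_restrict (h : ∀ k, Epi ((restrictFunctor (a k)).map θ)) : Epi θ := by
  refine Groth.Agent.H44.epi_of_surjective_on_cover θ (fun k => (a k) ''ᵁ ⊤) ?_ ?_ ?_
  · intro x
    obtain ⟨k, y, hy⟩ := hcov x
    exact ⟨k, y, trivial, hy⟩
  · intro k
    exact (isAffineOpen_top (Spec (B k))).image_of_isOpenImmersion (a k)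
  · intro k
    have := h k
    exact Groth.Agent.H44.app_surjective_of_epi ((restrictFunctor (a k)).map θ)
      (isAffineOpen_top (Spec (B k)))

include hcov in
theorem isIso_of_restrict (h : ∀ k, IsIso ((restrictFunctor (a k)).map θ)) : IsIso θ := by
  refine Groth.Agent.H12.QCohIso.isIso_of_bijective_on_cover θ (fun k => (a k) ''ᵁ ⊤) ?_ ?_ ?_
  · intro x
    obtain ⟨k, y, hy⟩ := hcov x
    exact ⟨k, y, trivial, hy⟩
  · intro k
    exact (isAffineOpen_top (Spec (B k))).image_of_isOpenImmersion (a k)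
  · intro k
    have := h k
    have h2 : IsIso (((restrictFunctor (a k)).map θ).app ⊤) := inferInstance
    exact ConcreteCategory.bijective_of_isIso (((restrictFunctor (a k)).map θ).app ⊤)

end QCoh

end Groth.Agent.H24.ModLimLoc
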