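import Mathlib
import Groth.Agent.H44.PullbackTilde

/-!
# Restriction of a pulled back quasi-coherent module to an affine chart (helper24)

For `f : X ⟶ Y`, open immersions `a : Spec B ⟶ X`, `b : Spec A ⟶ Y` and `φ : A ⟶ B` with
`a ≫ f = Spec.map φ ≫ b`, and `F` quasi-coherent on `Y`:
`(f^* F)|_{Spec B} ≅ (B ⊗_A Γ(Spec A, F|_{Spec A}))^~`, naturally in `F`.
-/

set_option autoImplicit false
universe u
open CategoryTheory AlgebraicGeometry Scheme.Modules

namespace Groth.Agent.H24.ModLimRes

variable {X Y : Scheme.{u}} (f : X ⟶ Y) {A B : CommRingCat.{u}} (a : Spec B ⟶ X) (b : Spec A ⟶ Y)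
  [IsOpenImmersion a] [IsOpenImmersion b] (φ : A ⟶ B) (h : a ≫ f = Spec.map φ ≫ b)

/-- Restricting `f^* F` to `Spec B` is pulling back `F|_{Spec A}` along `Spec φ`. -/
noncomputable def resPullIso :
    pullback f ⋙ restrictFunctor a ≅ restrictFunctor b ⋙ pullback (Spec.map φ) :=
  Functor.isoWhiskerLeft (pullback f) (restrictFunctorIsoPullback a) ≪≫ pullbackComp a f ≪≫
    pullbackCongr h ≪≫ (pullbackComp (Spec.map φ) b).symm ≪≫
    Functor.isoWhiskerRight (restrictFunctorIsoPullback b).symm (pullback (Spec.map φ))

/-- Sections over the chart `b`, as a functor to `A`-modules. -/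
noncomputable def secFunctor : Y.Modules ⥤ ModuleCat.{u} A :=
  restrictFunctor b ⋙ moduleSpecΓFunctor

/-- `F|_{Spec A} ≅ Γ(F|_{Spec A})^~` for quasi-coherent `F`. -/
noncomputable def tildeIso' (F : Y.Modules) [F.IsQuasicoherent] :=
  asIso (fromTildeΓ ((restrictFunctor b).obj F))

/-- `F|_{Spec A} ≅ Γ(F|_{Spec A})^~` for quasi-coherent `F`. -/
noncomputable def tildeIso (F : Y.Modules) [F.IsQuasicoherent] :
    (tilde.functor A).obj ((secFunctor b).obj F) ≅ (restrictFunctor b).obj F :=
  tildeIso' b F

theorem tildeIso_hom_naturality {F G : Y.Modules} [F.IsQuasicoherent] [G.IsQuasicoherent]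
    (θ : F ⟶ G) :
    (tilde.functor A).map ((secFunctor b).map θ) ≫ (tildeIso b G).hom =
      (tildeIso b F).hom ≫ (restrictFunctor b).map θ :=
  (fromTildeΓNatTrans (R := A)).naturality ((restrictFunctor b).map θ)

/-- The chart isomorphism `(f^* F)|_{Spec B} ≅ (B ⊗_A Γ(F|_{Spec A}))^~`. -/
noncomputable def chartIso (F : Y.Modules) [F.IsQuasicoherent] :
    (restrictFunctor a).obj ((pullback f).obj F) ≅
      (tilde.functor B).obj ((ModuleCat.extendScalars φ.hom).obj ((secFunctor b).obj F)) :=
  (resPullIso f a b φ h).app F ≪≫ (pullback (Spec.map φ)).mapIso (tildeIso b F).symm ≪≫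
    (Groth.Agent.H44.pullbackTildeIso φ).app ((secFunctor b).obj F)

theorem chartIso_hom_naturality {F G : Y.Modules} [F.IsQuasicoherent] [G.IsQuasicoherent]
    (θ : F ⟶ G) :
    (restrictFunctor a).map ((pullback f).map θ) ≫ (chartIso f a b φ h G).hom =
      (chartIso f a b φ h F).hom ≫
        (tilde.functor B).map ((ModuleCat.extendScalars φ.hom).map ((secFunctor b).map θ)) := by
  have n1 := (resPullIso f a b φ h).hom.naturality θ
  have n2 : (restrictFunctor b).map θ ≫ (tildeIso b G).inv =
      (tildeIso b F).inv ≫ (tilde.functor A).map ((secFunctor b).map θ) := by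
    rw [Iso.comp_inv_eq, Category.assoc, tildeIso_hom_naturality, Iso.inv_hom_id_assoc]
  have n3 := (Groth.Agent.H44.pullbackTildeIso φ).hom.naturality ((secFunctor b).map θ)
  simp only [Functor.comp_map] at n1 n3
  simp only [chartIso, Iso.trans_hom, Iso.app_hom, Functor.mapIso_hom, Iso.symm_hom, Category.assoc]
  rw [← n3, ← Functor.map_comp_assoc, ← n2, Functor.map_comp_assoc, ← reassoc_of% n1]

section Transfer

variable {F G : Y.Modules} [F.IsQuasicoherent] [G.IsQuasicoherent] (θ θ' : F ⟶ G)

/-- The module map `B ⊗_A Γ(F|_{Spec A}) → B ⊗_A Γ(G|_{Spec A})` attached to `θ`. -/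
noncomputable abbrev extMap : (ModuleCat.extendScalars φ.hom).obj ((secFunctor b).obj F) ⟶
    (ModuleCat.extendScalars φ.hom).obj ((secFunctor b).obj G) :=
  (ModuleCat.extendScalars φ.hom).map ((secFunctor b).map θ)

theorem restrict_pullback_map_eq :
    (restrictFunctor a).map ((pullback f).map θ) =
      (chartIso f a b φ h F).hom ≫ (tilde.functor B).map (extMap b φ θ) ≫
        (chartIso f a b φ h G).inv := by
  rw [← Category.assoc, ← chartIso_hom_naturality, Category.assoc, Iso.hom_inv_id, Category.comp_id]

theorem tilde_map_extMap_eq :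
    (tilde.functor B).map (extMap b φ θ) =
      (chartIso f a b φ h F).inv ≫ (restrictFunctor a).map ((pullback f).map θ) ≫
        (chartIso f a b φ h G).hom := by
  rw [chartIso_hom_naturality, Iso.inv_hom_id_assoc]

include h in
theorem extMap_eq_of_pullback_map_eq [IsOpenImmersion a]
    (hθ : (pullback f).map θ = (pullback f).map θ') : extMap b φ θ = extMap b φ θ' := by
  apply (tilde.functor B).map_injective
  rw [tilde_map_extMap_eq f a b φ h θ, tilde_map_extMap_eq f a b φ h θ', hθ]

include h in
theorem restrict_pullback_map_eq_of_extMap_eq (hθ : extMap b φ θ = extMap b φ θ') :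
    (restrictFunctor a).map ((pullback f).map θ) = (restrictFunctor a).map ((pullback f).map θ') := by
  rw [restrict_pullback_map_eq f a b φ h θ, restrict_pullback_map_eq f a b φ h θ', hθ]

include h in
theorem surjective_extMap_of_epi (hθ : Epi ((pullback f).map θ)) :
    Function.Surjective (extMap b φ θ).hom := by
  have h1 : Epi ((restrictFunctor a).map ((pullback f).map θ)) := inferInstance
  have h2 : Epi ((tilde.functor B).map (extMap b φ θ)) := by
    rw [tilde_map_extMap_eq f a b φ h θ]
    infer_instance
  have h3 : Epi (extMap b φ θ) := (tilde.functor B).epi_of_epi_map h2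
  exact (ModuleCat.epi_iff_surjective _).mp h3

include h in
theorem epi_restrict_of_surjective_extMap (hθ : Function.Surjective (extMap b φ θ).hom) :
    Epi ((restrictFunctor a).map ((pullback f).map θ)) := by
  have h3 : Epi (extMap b φ θ) := (ModuleCat.epi_iff_surjective _).mpr hθ
  have h2 : Epi ((tilde.functor B).map (extMap b φ θ)) := inferInstance
  rw [restrict_pullback_map_eq f a b φ h θ]
  infer_instance

include h in
theorem isIso_extMap_of_isIso (hθ : IsIso ((pullback f).map θ)) : IsIso (extMap b φ θ) := by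
  have h1 : IsIso ((restrictFunctor a).map ((pullback f).map θ)) := inferInstance
  have h2 : IsIso ((tilde.functor B).map (extMap b φ θ)) := by
    rw [tilde_map_extMap_eq f a b φ h θ]
    infer_instance
  exact isIso_of_fully_faithful (tilde.functor B) _

include h in
theorem isIso_restrict_of_isIso_extMap (hθ : IsIso (extMap b φ θ)) :
    IsIso ((restrictFunctor a).map ((pullback f).map θ)) := by
  rw [restrict_pullback_map_eq f a b φ h θ]
  infer_instance

end Transfer

end Groth.Agent.H24.ModLimRes
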