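import Mathlib
import Groth.Agent.H24.ModLimAlg
import Groth.Agent.H24.ModLimRes
import Groth.Agent.H24.ModLimLoc

/-!
# Charts for a cofiltered limit of schemes with affine transition maps (helper24)
-/

set_option autoImplicit false
universe u
open CategoryTheory CategoryTheory.Limits AlgebraicGeometry

namespace Groth.Agent.H24.ModLimGeom

section Chart

variable {X Y : Scheme.{u}} (f : X ⟶ Y) {P Q : Scheme.{u}} [IsAffine P] [IsAffine Q]
  (a' : P ⟶ X) (b' : Q ⟶ Y) [IsOpenImmersion a'] [IsOpenImmersion b'] (g : P ⟶ Q)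
  (hg : a' ≫ f = g ≫ b')

/-- The chart `Spec Γ(P, ⊤) ⟶ X` of an affine open subscheme `P` of `X`. -/
noncomputable abbrev chartMap : Spec Γ(P, ⊤) ⟶ X := P.isoSpec.inv ≫ a'

include hg in
theorem chart_comm : chartMap a' ≫ f = Spec.map g.appTop ≫ chartMap b' := by
  rw [Category.assoc, hg, Scheme.isoSpec_inv_naturality_assoc]

theorem range_chartMap : Set.range (chartMap a').base = Set.range a'.base := by
  have hs : Function.Surjective P.isoSpec.inv.base := Scheme.Hom.surjective P.isoSpec.inv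
  rw [Scheme.Hom.comp_base, TopCat.coe_comp, Set.range_comp,
    Set.range_eq_univ.mpr hs, Set.image_univ]

end Chart

variable {I : Type u} [SmallCategory I] [IsCofiltered I] (D : I ⥤ Scheme.{u}) (c : Cone D)
  [∀ {i j : I} (f : i ⟶ j), IsAffineHom (D.map f)] (i₀ : I)
  (V : (D.obj i₀).Opens) [hV : Fact (IsAffineOpen V)] [IsAffineHom (c.π.app i₀)]

/-- The terminal object of `Over i₀`. -/
abbrev tI : Over i₀ := Over.mk (𝟙 i₀)

/-- The map to the terminal object. -/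
abbrev toT (ψ : Over i₀) : ψ ⟶ tI i₀ := Over.homMk ψ.hom

instance isAffine_opensDiagram_obj (ψ : Over i₀) : IsAffine ((opensDiagram D i₀ V).obj ψ) :=
  hV.out.preimage (D.map ψ.hom)

instance isAffine_opensCone_pt : IsAffine (opensCone D c i₀ V).pt :=
  hV.out.preimage (c.π.app i₀)

instance isAffine_preimage_map (ψ : Over i₀) : IsAffine (D.map ψ.hom ⁻¹ᵁ V : Scheme.{u}) :=
  hV.out.preimage (D.map ψ.hom)

instance isAffine_preimage_π : IsAffine (c.π.app i₀ ⁻¹ᵁ V : Scheme.{u}) :=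
  hV.out.preimage (c.π.app i₀)

/-- The system of rings `Γ((D ψ)⁻¹ V)`. -/
noncomputable abbrev R : (Over i₀)ᵒᵖ ⥤ CommRingCat.{u} := (opensDiagram D i₀ V).op ⋙ Scheme.Γ

/-- The cocone `Γ((D ψ)⁻¹ V) → Γ(π⁻¹ V)`. -/
noncomputable abbrev cR : Cocone (R D i₀ V) := Scheme.Γ.mapCocone (opensCone D c i₀ V).op

theorem isColimit_cR (hc : IsLimit c) : Nonempty (IsColimit (cR D c i₀ V)) := by
  have h1 : ∀ ψ, CompactSpace ((opensDiagram D i₀ V).obj ψ) := fun ψ => inferInstance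
  have h2 : ∀ ψ, QuasiSeparatedSpace ((opensDiagram D i₀ V).obj ψ) := fun ψ => inferInstance
  exact nonempty_isColimit_Γ_mapCocone (opensDiagram D i₀ V) (opensCone D c i₀ V)
    (isLimitOpensCone D c hc i₀ V)

/-- The base ring `Γ(V)`. -/
noncomputable abbrev A : CommRingCat.{u} := (R D i₀ V).obj (Opposite.op (tI i₀))

/-- The structure maps `Γ(V) → Γ((D ψ)⁻¹ V)`. -/
noncomputable def α (j : (Over i₀)ᵒᵖ) : A D i₀ V ⟶ (R D i₀ V).obj j :=
  (R D i₀ V).map (toT i₀ j.unop).op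

theorem α_naturality {j j' : (Over i₀)ᵒᵖ} (f : j ⟶ j') :
    α D i₀ V j ≫ (R D i₀ V).map f = α D i₀ V j' := by
  unfold α
  rw [← Functor.map_comp]
  congr 1
  apply Quiver.Hom.unop_inj
  ext
  simp

/-- The structure map `Γ(V) → Γ(π⁻¹ V)`. -/
noncomputable def αI : A D i₀ V ⟶ (cR D c i₀ V).pt := (cR D c i₀ V).ι.app (Opposite.op (tI i₀))

theorem α_ι (j : (Over i₀)ᵒᵖ) : α D i₀ V j ≫ (cR D c i₀ V).ι.app j = αI D c i₀ V := by
  unfold α αI
  exact (cR D c i₀ V).w (toT i₀ j.unop).op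

/-- The chart of `D ψ` over `V`. -/
noncomputable def chartA (ψ : Over i₀) : Spec ((R D i₀ V).obj (Opposite.op ψ)) ⟶ D.obj ψ.left :=
  chartMap (D.map ψ.hom ⁻¹ᵁ V).ι

/-- The chart of `D i₀` given by `V`. -/
noncomputable def chartB : Spec (A D i₀ V) ⟶ D.obj i₀ := chartA D i₀ V (tI i₀)

/-- The chart of the limit over `V`. -/
noncomputable def chartAI : Spec (cR D c i₀ V).pt ⟶ c.pt :=
  chartMap (c.π.app i₀ ⁻¹ᵁ V).ι

instance (ψ : Over i₀) : IsOpenImmersion (chartA D i₀ V ψ) := by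
  change IsOpenImmersion ((D.map ψ.hom ⁻¹ᵁ V : Scheme.{u}).isoSpec.inv ≫ (D.map ψ.hom ⁻¹ᵁ V).ι)
  infer_instance

instance : IsOpenImmersion (chartB D i₀ V) := by
  unfold chartB; infer_instance

instance : IsOpenImmersion (chartAI D c i₀ V) := by
  change IsOpenImmersion ((c.π.app i₀ ⁻¹ᵁ V : Scheme.{u}).isoSpec.inv ≫ (c.π.app i₀ ⁻¹ᵁ V).ι)
  infer_instance

theorem chartA_comm (ψ : Over i₀) :
    chartA D i₀ V ψ ≫ D.map ψ.hom = Spec.map (α D i₀ V (Opposite.op ψ)) ≫ chartB D i₀ V := by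
  refine chart_comm (D.map ψ.hom) (D.map ψ.hom ⁻¹ᵁ V).ι (D.map (tI i₀).hom ⁻¹ᵁ V).ι
    ((opensDiagram D i₀ V).map (toT i₀ ψ)) ?_
  have := (opensDiagramι D i₀ V).naturality (toT i₀ ψ)
  simpa using this.symm

theorem chartAI_comm :
    chartAI D c i₀ V ≫ c.π.app i₀ = Spec.map (αI D c i₀ V) ≫ chartB D i₀ V := by
  refine chart_comm (c.π.app i₀) (c.π.app i₀ ⁻¹ᵁ V).ι (D.map (tI i₀).hom ⁻¹ᵁ V).ι
    ((opensCone D c i₀ V).π.app (tI i₀)) ?_
  simp

theorem range_chartA (ψ : Over i₀) :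
    Set.range (chartA D i₀ V ψ).base = (D.map ψ.hom ⁻¹ᵁ V : Set (D.obj ψ.left)) := by
  exact (range_chartMap (D.map ψ.hom ⁻¹ᵁ V).ι).trans (Scheme.Opens.range_ι _)

end Groth.Agent.H24.ModLimGeom
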