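import Mathlib
import Groth.Agent.H12.QCohIso
import Groth.Agent.H44.FPSections
import Groth.Agent.H44.FiniteSections
import Groth.Agent.H71.QCoh.PushFT

/-!
# The kernel of an epimorphism from a finite type module onto a finitely presented one (helper24)
-/

set_option autoImplicit false
universe u
open CategoryTheory CategoryTheory.Limits AlgebraicGeometry Scheme.Modules

namespace Groth.Agent.H24.ModLimKer

variable {X : Scheme.{u}} {F G : X.Modules} [F.IsQuasicoherent] [G.IsQuasicoherent]

/-- A morphism of modules as a linear map on sections. -/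
noncomputable def appLin (p : F ⟶ G) (W : X.Opens) : Γ(F, W) →ₗ[Γ(X, W)] Γ(G, W) where
  toFun := p.app W
  map_add' := fun x y => map_add _ x y
  map_smul' := fun r x => Scheme.Modules.Hom.app_smul p r x

theorem isFiniteType_kernel_of_epi
    [SheafOfModules.IsFiniteType (R := X.ringCatSheaf) F]
    [SheafOfModules.IsFinitePresentation (R := X.ringCatSheaf) G] (p : F ⟶ G) [Epi p] :
    SheafOfModules.IsFiniteType (R := X.ringCatSheaf) (kernel p) := by
  haveI : (kernel p).IsQuasicoherent := Groth.Agent.H12.QCohAbelian.isQuasicoherent_kernel p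
  refine Groth.Agent.H71.QCoh.isFiniteType_of_finite_sections_cover (kernel p)
    (fun W : X.affineOpens => W.1) (iSup_affineOpens_eq_top X) (fun W => W.2) (fun W => ?_)
  let S : ShortComplex X.Modules := ShortComplex.mk (kernel.ι p) p (kernel.condition p)
  have hS : S.ShortExact := by
    have h1 : S.Exact := ShortComplex.exact_of_f_is_kernel S (kernelIsKernel p)
    have : Mono S.f := inferInstanceAs (Mono (kernel.ι p))
    have : Epi S.g := inferInstanceAs (Epi p)
    exact ShortComplex.ShortExact.mk h1
  haveI : S.X₁.IsQuasicoherent := inferInstanceAs (kernel p).IsQuasicoherent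
  have hsurj : Function.Surjective (appLin p W.1) :=
    Groth.Agent.H12.QCohExt.app_surjective_of_isAffineOpen S hS W.2
  have hinj : Function.Injective (appLin (kernel.ι p) W.1) :=
    Groth.Agent.H12.QCohExt.app_injective S hS W.1
  have hF : Module.Finite Γ(X, W.1) Γ(F, W.1) :=
    Groth.Agent.H44.finite_sections_of_isFiniteType F W.2
  have hG : Module.FinitePresentation Γ(X, W.1) Γ(G, W.1) :=
    Groth.Agent.H44.finitePresentation_sections_of_isFinitePresentation G W.2
  have hker : (LinearMap.ker (appLin p W.1)).FG := Module.FinitePresentation.fg_ker _ hsurj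
  have hrange : LinearMap.range (appLin (kernel.ι p) W.1) = LinearMap.ker (appLin p W.1) := by
    ext y
    constructor
    · rintro ⟨x, rfl⟩
      exact Groth.Agent.H12.QCohExt.app_zero_apply S W.1 x
    · intro hy
      exact Groth.Agent.H12.QCohExt.app_exact S hS W.1 y hy
  have hfin : Module.Finite Γ(X, W.1) ↥(LinearMap.range (appLin (kernel.ι p) W.1)) := by
    rw [hrange]
    exact Module.Finite.iff_fg.mpr hker
  exact Module.Finite.equiv (LinearEquiv.ofInjective (appLin (kernel.ι p) W.1) hinj).symm

end Groth.Agent.H24.ModLimKer
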