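import Mathlib
import Groth.Agent.H24.ModLimGeom
import Groth.Agent.H44.FiniteSections
import Groth.Agent.H12.CohOpen

/-!
# Stage theorems for pulled back morphisms of modules on a limit of schemes (helper24)
-/

set_option autoImplicit false
universe u
open CategoryTheory CategoryTheory.Limits AlgebraicGeometry Scheme.Modules

namespace Groth.Agent.H24.ModLimStage

open Groth.Agent.H24.ModLimGeom Groth.Agent.H24.ModLimRes Groth.Agent.H24.ModLimAlg

section Finite

variable {Y : Scheme.{u}} {A : CommRingCat.{u}} (b : Spec A ⟶ Y) [IsOpenImmersion b]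

theorem surjective_algebraMap_top : Function.Surjective (algebraMap A Γ(Spec A, ⊤)) := by
  rw [IsAffineOpen.algebraMap_Spec_obj]
  have : IsIso ((Scheme.ΓSpecIso A).inv ≫
      (Spec A).presheaf.map (homOfLE (le_top : (⊤ : (Spec A).Opens) ≤ ⊤)).op) := by
    have : (homOfLE (le_top : (⊤ : (Spec A).Opens) ≤ ⊤)) = 𝟙 _ := rfl
    rw [this, op_id, CategoryTheory.Functor.map_id]
    infer_instance
  exact (ConcreteCategory.bijective_of_isIso _).2

theorem finite_secFunctor (F : Y.Modules) [F.IsQuasicoherent]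
    [SheafOfModules.IsFiniteType (R := Y.ringCatSheaf) F] :
    Module.Finite A ((secFunctor b).obj F) := by
  have h0 : Module.Finite Γ(Y, b ''ᵁ ⊤) Γ(F, b ''ᵁ ⊤) :=
    Groth.Agent.H44.finite_sections_of_isFiniteType F
      ((isAffineOpen_top (Spec A)).image_of_isOpenImmersion b)
  have h1 : Module.Finite Γ(Spec A, ⊤) Γ(F.restrict b, ⊤) :=
    Groth.Agent.H12.CohOpen.finite_sections_restrict b F ⊤ h0
  have h2 : Module.Finite A Γ(Spec A, ⊤) :=
    Module.Finite.of_surjective (Algebra.linearMap A Γ(Spec A, ⊤)) surjective_algebraMap_top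
  have h3 : Module.Finite A Γ(F.restrict b, ⊤) :=
    Module.Finite.trans Γ(Spec A, ⊤) Γ(F.restrict b, ⊤)
  exact h3

end Finite

variable {I : Type u} [SmallCategory I] [IsCofiltered I] (D : I ⥤ Scheme.{u}) (c : Cone D)
  (hc : IsLimit c) [∀ {i j : I} (f : i ⟶ j), IsAffineHom (D.map f)] (i₀ : I)
  (V : (D.obj i₀).Opens) [hV : Fact (IsAffineOpen V)] [IsAffineHom (c.π.app i₀)]
  {F G : (D.obj i₀).Modules} [F.IsQuasicoherent] [G.IsQuasicoherent]

include hc in
theorem exists_stage_restrict_eq [SheafOfModules.IsFiniteType (R := (D.obj i₀).ringCatSheaf) F]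
    (θ θ' : F ⟶ G)
    (h : (Scheme.Modules.pullback (c.π.app i₀)).map θ = (Scheme.Modules.pullback (c.π.app i₀)).map θ') :
    ∃ ψ₁ : Over i₀, ∀ (ψ : Over i₀) (_ : ψ ⟶ ψ₁),
      (restrictFunctor (chartA D i₀ V ψ)).map ((Scheme.Modules.pullback (D.map ψ.hom)).map θ) =
        (restrictFunctor (chartA D i₀ V ψ)).map ((Scheme.Modules.pullback (D.map ψ.hom)).map θ') := by
  obtain ⟨hcR⟩ := isColimit_cR D c i₀ V hc
  have h1 := extMap_eq_of_pullback_map_eq (c.π.app i₀) (chartAI D c i₀ V) (chartB D i₀ V)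
    (αI D c i₀ V) (chartAI_comm D c i₀ V) θ θ' h
  have := finite_secFunctor (chartB D i₀ V) F
  obtain ⟨j, hj⟩ := extendScalars_map_eq_of_colimit hcR (α D i₀ V)
    (fun f => α_naturality D i₀ V f) (αI D c i₀ V) (α_ι D c i₀ V) _ _ h1
  refine ⟨j.unop, fun ψ g => ?_⟩
  exact restrict_pullback_map_eq_of_extMap_eq (D.map ψ.hom) (chartA D i₀ V ψ) (chartB D i₀ V)
    (α D i₀ V (Opposite.op ψ)) (chartA_comm D i₀ V ψ) θ θ' (hj (Opposite.op ψ) g.op)

include hc in
theorem exists_stage_restrict_epi [SheafOfModules.IsFiniteType (R := (D.obj i₀).ringCatSheaf) G]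
    (θ : F ⟶ G) (h : Epi ((Scheme.Modules.pullback (c.π.app i₀)).map θ)) :
    ∃ ψ₁ : Over i₀, ∀ (ψ : Over i₀) (_ : ψ ⟶ ψ₁),
      Epi ((restrictFunctor (chartA D i₀ V ψ)).map ((Scheme.Modules.pullback (D.map ψ.hom)).map θ)) := by
  obtain ⟨hcR⟩ := isColimit_cR D c i₀ V hc
  have h1 := surjective_extMap_of_epi (c.π.app i₀) (chartAI D c i₀ V) (chartB D i₀ V)
    (αI D c i₀ V) (chartAI_comm D c i₀ V) θ h
  have := finite_secFunctor (chartB D i₀ V) G
  obtain ⟨j, hj⟩ := extendScalars_map_surjective_of_colimit hcR (α D i₀ V)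
    (fun f => α_naturality D i₀ V f) (αI D c i₀ V) (α_ι D c i₀ V) _ h1
  refine ⟨j.unop, fun ψ g => ?_⟩
  exact epi_restrict_of_surjective_extMap (D.map ψ.hom) (chartA D i₀ V ψ) (chartB D i₀ V)
    (α D i₀ V (Opposite.op ψ)) (chartA_comm D i₀ V ψ) θ (hj (Opposite.op ψ) g.op)

end Groth.Agent.H24.ModLimStage
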