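import Mathlib
import Groth.Agent.H24.ModLimStage
import Groth.Agent.H44.PullbackAffine

/-!
# Morphisms of quasi-coherent modules on a limit of schemes: "iff eventually" (helper24)
-/

set_option autoImplicit false
universe u
open CategoryTheory CategoryTheory.Limits AlgebraicGeometry Scheme.Modules

namespace Groth.Agent.H24.ModLimMain

open Groth.Agent.H24.ModLimGeom Groth.Agent.H24.ModLimStage Groth.Agent.H24.ModLimLoc

section NatIso

variable {C E : Type*} [Category C] [Category E] {P Q : C ⥤ E} (e : P ≅ Q)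

include e in
theorem map_eq_of_natIso {X Y : C} {θ θ' : X ⟶ Y} (h : P.map θ = P.map θ') :
    Q.map θ = Q.map θ' := by
  rw [← NatIso.naturality_1 e θ, ← NatIso.naturality_1 e θ', h]

include e in
theorem epi_map_of_natIso {X Y : C} {θ : X ⟶ Y} (h : Epi (P.map θ)) : Epi (Q.map θ) := by
  rw [← NatIso.naturality_1 e θ]
  infer_instance

include e in
theorem isIso_map_of_natIso {X Y : C} {θ : X ⟶ Y} (h : IsIso (P.map θ)) : IsIso (Q.map θ) := by
  rw [← NatIso.naturality_1 e θ]
  infer_instance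

include e in
theorem mono_map_of_natIso {X Y : C} {θ : X ⟶ Y} (h : Mono (P.map θ)) : Mono (Q.map θ) := by
  rw [← NatIso.naturality_1 e θ]
  infer_instance

end NatIso

variable {I : Type u} [SmallCategory I] [IsCofiltered I] (D : I ⥤ Scheme.{u}) (c : Cone D)
  (hc : IsLimit c) [∀ {i j : I} (f : i ⟶ j), IsAffineHom (D.map f)] (i₀ : I)

/-- The canonical isomorphism `(D φ)^* ⋙ π_j^* ≅ π_{i₀}^*`. -/
noncomputable def stageIso {j : I} (φ : j ⟶ i₀) :
    Scheme.Modules.pullback (D.map φ) ⋙ Scheme.Modules.pullback (c.π.app j) ≅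
      Scheme.Modules.pullback (c.π.app i₀) :=
  Scheme.Modules.pullbackComp (c.π.app j) (D.map φ) ≪≫ Scheme.Modules.pullbackCongr (c.w φ)

section Cover

variable [CompactSpace (D.obj i₀)]

/-- A finite affine open cover of the stage `D i₀`, together with a common refinement lemma. -/
theorem exists_common_stage (Pr : (V : (D.obj i₀).Opens) → IsAffineOpen V → Over i₀ → Prop)
    (hPr : ∀ (V : (D.obj i₀).Opens) (hV : IsAffineOpen V),
      ∃ ψ₁ : Over i₀, ∀ (ψ : Over i₀) (_ : ψ ⟶ ψ₁), Pr V hV ψ) :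
    ∃ (s : Set (D.obj i₀).affineOpens) (_ : s.Finite) (ψ : Over i₀),
      (∀ x : D.obj i₀, ∃ V ∈ s, x ∈ V.1) ∧ ∀ V ∈ s, Pr V.1 V.2 ψ := by
  classical
  obtain ⟨s, hs, hcov⟩ := isCompact_and_isOpen_iff_finite_and_eq_biUnion_affineOpens.mp
    ⟨(isCompact_univ : IsCompact (Set.univ : Set (D.obj i₀))), isOpen_univ⟩
  choose ψ₁ hψ₁ using hPr
  obtain ⟨S, hS⟩ := IsCofiltered.inf_objs_exists
    (hs.toFinset.image (fun V : (D.obj i₀).affineOpens => ψ₁ V.1 V.2))
  refine ⟨s, hs, S, ?_, ?_⟩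
  · intro x
    have hx : x ∈ (Set.univ : Set (D.obj i₀)) := trivial
    rw [hcov] at hx
    simp only [Set.mem_iUnion, exists_prop] at hx
    obtain ⟨V, hV, hxV⟩ := hx
    exact ⟨V, hV, hxV⟩
  · intro V hV
    obtain ⟨g⟩ := hS (show ψ₁ V.1 V.2 ∈ _ from
      Finset.mem_image_of_mem _ (hs.mem_toFinset.mpr hV))
    exact hψ₁ V.1 V.2 S g

end Cover

section Main

variable [CompactSpace (D.obj i₀)] {F G : (D.obj i₀).Modules} [F.IsQuasicoherent]
  [G.IsQuasicoherent]

include hc in
/-- Equality of pulled back morphisms descends to a finite stage (source of finite type). -/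
theorem pullback_map_eq_iff [SheafOfModules.IsFiniteType (R := (D.obj i₀).ringCatSheaf) F]
    (θ θ' : F ⟶ G) :
    (Scheme.Modules.pullback (c.π.app i₀)).map θ = (Scheme.Modules.pullback (c.π.app i₀)).map θ' ↔
      ∃ (j : I) (φ : j ⟶ i₀), (Scheme.Modules.pullback (D.map φ)).map θ =
        (Scheme.Modules.pullback (D.map φ)).map θ' := by
  constructor
  · intro h
    haveI := isAffineHom_π_app D c hc i₀
    obtain ⟨s, hs, ψ, hcov, hψ⟩ := exists_common_stage D i₀
      (fun V hV ψ => haveI : Fact (IsAffineOpen V) := ⟨hV⟩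
        (restrictFunctor (chartA D i₀ V ψ)).map ((Scheme.Modules.pullback (D.map ψ.hom)).map θ) =
          (restrictFunctor (chartA D i₀ V ψ)).map ((Scheme.Modules.pullback (D.map ψ.hom)).map θ'))
      (fun V hV => haveI : Fact (IsAffineOpen V) := ⟨hV⟩
        exists_stage_restrict_eq D c hc i₀ V θ θ' h)
    refine ⟨ψ.left, ψ.hom, ?_⟩
    haveI : ∀ V : ↥s, Fact (IsAffineOpen V.1.1) := fun V => ⟨V.1.2⟩
    refine hom_ext_of_restrict _ _ (ι := ↥s) (fun V => chartA D i₀ V.1.1 ψ) ?_ ?_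
    · intro x
      obtain ⟨V, hV, hxV⟩ := hcov ((D.map ψ.hom).base x)
      refine ⟨⟨V, hV⟩, ?_⟩
      rw [range_chartA]
      exact hxV
    · intro V
      exact hψ V.1 V.2
  · rintro ⟨j, φ, h⟩
    exact map_eq_of_natIso (stageIso D c i₀ φ)
      (congrArg (Scheme.Modules.pullback (c.π.app j)).map h)

include hc in
/-- Surjectivity of a pulled back morphism descends to a finite stage (target of finite type). -/
theorem epi_pullback_map_iff [SheafOfModules.IsFiniteType (R := (D.obj i₀).ringCatSheaf) G]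
    (θ : F ⟶ G) :
    Epi ((Scheme.Modules.pullback (c.π.app i₀)).map θ) ↔
      ∃ (j : I) (φ : j ⟶ i₀), Epi ((Scheme.Modules.pullback (D.map φ)).map θ) := by
  constructor
  · intro h
    haveI := isAffineHom_π_app D c hc i₀
    obtain ⟨s, hs, ψ, hcov, hψ⟩ := exists_common_stage D i₀
      (fun V hV ψ => haveI : Fact (IsAffineOpen V) := ⟨hV⟩
        Epi ((restrictFunctor (chartA D i₀ V ψ)).map
          ((Scheme.Modules.pullback (D.map ψ.hom)).map θ)))
      (fun V hV => haveI : Fact (IsAffineOpen V) := ⟨hV⟩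
        exists_stage_restrict_epi D c hc i₀ V θ h)
    refine ⟨ψ.left, ψ.hom, ?_⟩
    haveI : ∀ V : ↥s, Fact (IsAffineOpen V.1.1) := fun V => ⟨V.1.2⟩
    refine epi_of_restrict _ (ι := ↥s) (fun V => chartA D i₀ V.1.1 ψ) ?_ ?_
    · intro x
      obtain ⟨V, hV, hxV⟩ := hcov ((D.map ψ.hom).base x)
      refine ⟨⟨V, hV⟩, ?_⟩
      rw [range_chartA]
      exact hxV
    · intro V
      exact hψ V.1 V.2
  · rintro ⟨j, φ, h⟩
    have h2 : Epi ((Scheme.Modules.pullback (D.map φ) ⋙ Scheme.Modules.pullback (c.π.app j)).map θ) := by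
      rw [Functor.comp_map]
      infer_instance
    exact epi_map_of_natIso (stageIso D c i₀ φ) h2

end Main

end Groth.Agent.H24.ModLimMain
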