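import Mathlib
import Groth.Agent.H24.ModLimMain
import Groth.Agent.H24.ModLimKer
import Groth.Agent.H44.FpqcFP
import Groth.Agent.H44.PullbackFT

/-!
# Isomorphisms of pulled back modules on a limit of schemes descend to a finite stage (helper24)
-/

set_option autoImplicit false
universe u
open CategoryTheory CategoryTheory.Limits AlgebraicGeometry Scheme.Modules

namespace Groth.Agent.H24.ModLimMain

variable {I : Type u} [SmallCategory I] [IsCofiltered I] (D : I ⥤ Scheme.{u}) (c : Cone D)
  (hc : IsLimit c) [∀ {i j : I} (f : i ⟶ j), IsAffineHom (D.map f)] (i₀ : I)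

/-- The canonical isomorphism `(D φ₁)^* ⋙ (D φ₂)^* ≅ (D (φ₂ ≫ φ₁))^*`. -/
noncomputable def transIso {j₁ j₂ : I} (φ₁ : j₁ ⟶ i₀) (φ₂ : j₂ ⟶ j₁) :
    Scheme.Modules.pullback (D.map φ₁) ⋙ Scheme.Modules.pullback (D.map φ₂) ≅
      Scheme.Modules.pullback (D.map (φ₂ ≫ φ₁)) :=
  Scheme.Modules.pullbackComp (D.map φ₂) (D.map φ₁) ≪≫
    Scheme.Modules.pullbackCongr (D.map_comp φ₂ φ₁).symm

/-- If `θ₁` is an epimorphism with kernel inclusion `ι` and `L` is a left adjoint functor with
`L ι = 0`, then `L θ₁` is an isomorphism. -/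
theorem isIso_map_of_map_kernel_ι_eq_zero {C E : Type*} [Category C] [Category E] [Abelian C]
    [Abelian E] (L : C ⥤ E) [L.Additive] [PreservesFiniteColimits L] {X Y : C} (p : X ⟶ Y) [Epi p]
    (h : L.map (kernel.ι p) = 0) : IsIso (L.map p) := by
  let S : ShortComplex C := ShortComplex.mk (kernel.ι p) p (kernel.condition p)
  have hS : S.Exact := ShortComplex.exact_of_f_is_kernel S (kernelIsKernel p)
  have hepi : Epi S.g := inferInstanceAs (Epi p)
  have hex : (S.map L).Exact := hS.map_of_epi_of_preservesCokernel L hepi inferInstance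
  have hmono : Mono (S.map L).g := hex.mono_g h
  have hmono' : Mono (L.map p) := hmono
  have hepi' : Epi (L.map p) := inferInstance
  exact isIso_of_mono_of_epi _

variable [CompactSpace (D.obj i₀)] {F G : (D.obj i₀).Modules} [F.IsQuasicoherent]
  [G.IsQuasicoherent]

include hc in
/-- A pulled back morphism (finite type source, finitely presented target) is an isomorphism on
the limit iff it is one at a finite stage. -/
theorem isIso_pullback_map_iff [SheafOfModules.IsFiniteType (R := (D.obj i₀).ringCatSheaf) F]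
    [SheafOfModules.IsFinitePresentation (R := (D.obj i₀).ringCatSheaf) G] (θ : F ⟶ G) :
    IsIso ((Scheme.Modules.pullback (c.π.app i₀)).map θ) ↔
      ∃ (j : I) (φ : j ⟶ i₀), IsIso ((Scheme.Modules.pullback (D.map φ)).map θ) := by
  constructor
  · intro h
    obtain ⟨j₁, φ₁, hepi⟩ := (epi_pullback_map_iff D c hc i₀ θ).mp inferInstance
    obtain ⟨θ₁, hθ₁⟩ : ∃ θ₁, θ₁ = (Scheme.Modules.pullback (D.map φ₁)).map θ := ⟨_, rfl⟩
    haveI : CompactSpace (D.obj j₁) := QuasiCompact.compactSpace_of_compactSpace (D.map φ₁)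
    haveI : SheafOfModules.IsFinitePresentation (R := (D.obj j₁).ringCatSheaf)
        ((Scheme.Modules.pullback (D.map φ₁)).obj G) :=
      Groth.Agent.H44.isFinitePresentation_pullback (D.map φ₁) G
    haveI : Epi θ₁ := hθ₁ ▸ hepi
    haveI : (kernel θ₁).IsQuasicoherent := Groth.Agent.H12.QCohAbelian.isQuasicoherent_kernel θ₁
    have hKft : SheafOfModules.IsFiniteType (R := (D.obj j₁).ringCatSheaf) (kernel θ₁) :=
      Groth.Agent.H24.ModLimKer.isFiniteType_kernel_of_epi θ₁
    have h1 : IsIso ((Scheme.Modules.pullback (c.π.app j₁)).map θ₁) :=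
      hθ₁ ▸ isIso_map_of_natIso (stageIso D c i₀ φ₁).symm h
    have h2 : (Scheme.Modules.pullback (c.π.app j₁)).map (kernel.ι θ₁) =
        (Scheme.Modules.pullback (c.π.app j₁)).map 0 := by
      rw [Functor.map_zero, ← cancel_mono ((Scheme.Modules.pullback (c.π.app j₁)).map θ₁),
        ← Functor.map_comp, kernel.condition, Functor.map_zero, zero_comp]
    obtain ⟨j₂, φ₂, h3⟩ := (@pullback_map_eq_iff I _ _ D c hc _ j₁ _ (kernel θ₁) _ _ _ hKft
      (kernel.ι θ₁) 0).mp h2
    rw [Functor.map_zero] at h3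
    have h4 : IsIso ((Scheme.Modules.pullback (D.map φ₂)).map θ₁) :=
      isIso_map_of_map_kernel_ι_eq_zero (Scheme.Modules.pullback (D.map φ₂)) θ₁ h3
    subst hθ₁
    exact ⟨j₂, φ₂ ≫ φ₁, isIso_map_of_natIso (transIso D i₀ φ₁ φ₂) h4⟩
  · rintro ⟨j, φ, h⟩
    have h2 : IsIso ((Scheme.Modules.pullback (D.map φ) ⋙
        Scheme.Modules.pullback (c.π.app j)).map θ) := by
      rw [Functor.comp_map]
      infer_instance
    exact isIso_map_of_natIso (stageIso D c i₀ φ) h2

end Groth.Agent.H24.ModLimMain
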