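import Mathlib

/-!
# Integrality of an element as an equation among finitely many elements (helper24)
-/

set_option autoImplicit false
open Polynomial

namespace Groth.Agent.H24

theorem isIntegralElem_iff_exists_pow_eq {R T : Type*} [CommRing R] [CommRing T] (φ : R →+* T)
    (b : T) :
    φ.IsIntegralElem b ↔
      ∃ (d : ℕ) (a : Fin d → R), b ^ d + ∑ l : Fin d, φ (a l) * b ^ (l : ℕ) = 0 := by
  constructor
  · rintro ⟨P, hP, hPb⟩
    refine ⟨P.natDegree, fun l => P.coeff l, ?_⟩
    have h1 := hP.as_sum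
    have h2 : eval₂ φ b P = b ^ P.natDegree +
        ∑ l ∈ Finset.range P.natDegree, φ (P.coeff l) * b ^ l := by
      conv_lhs => rw [h1]
      simp [eval₂_add, eval₂_finset_sum]
    rw [hPb] at h2
    rw [Fin.sum_univ_eq_sum_range (fun l => φ (P.coeff l) * b ^ l) P.natDegree]
    exact h2.symm
  · rintro ⟨d, a, h⟩
    refine ⟨X ^ d + ∑ l : Fin d, C (a l) * X ^ (l : ℕ), ?_, ?_⟩
    · exact monic_X_pow_add (degree_sum_fin_lt a)
    · simpa [eval₂_add, eval₂_finset_sum] using h

end Groth.Agent.H24
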