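import Groth.Agent.H24.LPMod
import Groth.Agent.H24.ModFlat.Stage

/-!
# Limit preservation of the flatness functor `F_flat` (helper24)
-/

set_option autoImplicit false
universe u
open CategoryTheory CategoryTheory.Limits AlgebraicGeometry Opposite

namespace Groth.Agent.H24.LPFlat

open Groth.Agent.H24.LPMod Groth.Agent.H24.ModFlat

variable {X S : Scheme.{u}} (f : X ⟶ S) (F : X.Modules) [F.IsQuasicoherent]

theorem flat_stable {T T₀ : Over S} (g : T ⟶ T₀)
    (h : FlatMod.IsFlatOver (pullback.snd f T₀.hom)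
      ((Scheme.Modules.pullback (pullback.fst f T₀.hom)).obj F)) :
    FlatMod.IsFlatOver (pullback.snd f T.hom)
      ((Scheme.Modules.pullback (pullback.fst f T.hom)).obj F) :=
  isFlatOver_of_isPullback (IsPullback.of_hasPullback f T₀.hom) (IsPullback.of_hasPullback f T.hom)
    g.left (Over.w g) F h

variable {I : Type u} [SmallCategory I] [IsCofiltered I]

set_option maxHeartbeats 800000 in
theorem flat_eventually [QuasiCompact f] [LocallyOfFinitePresentation f]
    [SheafOfModules.IsFinitePresentation (R := X.ringCatSheaf) F]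
    (D : I ⥤ Over S) (c : Cone D) (hc : IsLimit ((Over.forget S).mapCone c))
    (hD : ∀ i, IsAffine (D.obj i).left)
    (h : FlatMod.IsFlatOver (pullback.snd f c.pt.hom)
      ((Scheme.Modules.pullback (pullback.fst f c.pt.hom)).obj F)) :
    ∃ i, FlatMod.IsFlatOver (pullback.snd f (D.obj i).hom)
      ((Scheme.Modules.pullback (pullback.fst f (D.obj i).hom)).obj F) := by
  classical
  have i₀ : I := Classical.choice IsCofiltered.nonempty
  let D' : I ⥤ Scheme.{u} := D ⋙ Over.forget S
  let c' : Cone D' := (Over.forget S).mapCone c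
  haveI : ∀ {i j : I} (φ : i ⟶ j), IsAffineHom (D'.map φ) := fun {i j} φ => by
    haveI := hD i
    haveI := hD j
    show IsAffineHom (D.map φ).left
    infer_instance
  let f₀ : pullback f (D.obj i₀).hom ⟶ D'.obj i₀ := pullback.snd f (D.obj i₀).hom
  let F₀ : (pullback f (D.obj i₀).hom).Modules :=
    (Scheme.Modules.pullback (pullback.fst f (D.obj i₀).hom)).obj F
  haveI : CompactSpace ↥(pullback f (D.obj i₀).hom) :=
    haveI := hD i₀
    compactSpace_bc f (D.obj i₀)
  haveI : SheafOfModules.IsFinitePresentation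
      (R := (pullback f (D.obj i₀).hom).ringCatSheaf) F₀ :=
    Groth.Agent.H44.isFinitePresentation_pullback _ F
  haveI : LocallyOfFinitePresentation f₀ := by
    show LocallyOfFinitePresentation (pullback.snd f (D.obj i₀).hom)
    infer_instance
  have hsql : IsPullback (pullback.fst f₀ (c'.π.app i₀) ≫ pullback.fst f (D.obj i₀).hom)
      (pullback.snd f₀ (c'.π.app i₀)) f c.pt.hom := by
    have := (IsPullback.of_hasPullback f₀ (c'.π.app i₀)).paste_horiz
      (IsPullback.of_hasPullback f (D.obj i₀).hom)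
    have hw : c'.π.app i₀ ≫ (D.obj i₀).hom = c.pt.hom := Over.w (c.π.app i₀)
    rwa [hw] at this
  have h1 := isFlatOver_of_isPullback (IsPullback.of_hasPullback f c.pt.hom) hsql (𝟙 _)
    (Category.id_comp _) F h
  have h2 : FlatMod.IsFlatOver (pullback.snd f₀ (c'.π.app i₀))
      ((Scheme.Modules.pullback (pullback.fst f₀ (c'.π.app i₀))).obj F₀) := fun x =>
    Groth.Agent.H70.RelFlatBC.isFlatOverAt_of_iso _
      ((Scheme.Modules.pullbackComp (pullback.fst f₀ (c'.π.app i₀))
        (pullback.fst f (D.obj i₀).hom)).app F).symm x (h1 x)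
  obtain ⟨ψ, hψ⟩ := exists_isFlatOver_stage_canonical D' c' i₀ hc f₀ F₀ h2
  refine ⟨ψ.left, ?_⟩
  have hsqψ : IsPullback (pullback.fst f₀ (D'.map ψ.hom) ≫ pullback.fst f (D.obj i₀).hom)
      (pullback.snd f₀ (D'.map ψ.hom)) f (D.obj ψ.left).hom := by
    have := (IsPullback.of_hasPullback f₀ (D'.map ψ.hom)).paste_horiz
      (IsPullback.of_hasPullback f (D.obj i₀).hom)
    have hw : D'.map ψ.hom ≫ (D.obj i₀).hom = (D.obj ψ.left).hom := Over.w (D.map ψ.hom)
    rwa [hw] at this
  have h3 : FlatMod.IsFlatOver (pullback.snd f₀ (D'.map ψ.hom))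
      ((Scheme.Modules.pullback (pullback.fst f₀ (D'.map ψ.hom) ≫
        pullback.fst f (D.obj i₀).hom)).obj F) := fun x =>
    Groth.Agent.H70.RelFlatBC.isFlatOverAt_of_iso _
      ((Scheme.Modules.pullbackComp (pullback.fst f₀ (D'.map ψ.hom))
        (pullback.fst f (D.obj i₀).hom)).app F) x (hψ x)
  exact isFlatOver_of_isPullback hsqψ (IsPullback.of_hasPullback f (D.obj ψ.left).hom) (𝟙 _)
    (Category.id_comp _) F h3

theorem isLimitPreserving_flat [QuasiCompact f] [LocallyOfFinitePresentation f]
    [SheafOfModules.IsFinitePresentation (R := X.ringCatSheaf) F] :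
    AlgSp.IsLimitPreserving (FlatFun.genPSp S (fun T =>
      FlatMod.IsFlatOver (pullback.snd f T.hom)
        ((Scheme.Modules.pullback (pullback.fst f T.hom)).obj F))) :=
  isLimitPreserving_genPSp _ (fun _ _ g h => flat_stable f F g h)
    (fun _ _ _ D c hc hD _ h => flat_eventually f F D c hc hD h)

end Groth.Agent.H24.LPFlat
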