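import Mathlib
import Groth.Prelude.Def_FlatFun
import Groth.Agent.H24.ModLimIso

/-!
# Limit preservation of the module functors `F_surj`, `F_zero`, `F_iso` (helper24)

* `isLimitPreserving_genPSp`: a stable condition `P` that descends to a finite stage of every
  cofiltered system of affine schemes gives a limit preserving `FlatFun.genPSp S P`.
* `bcDiag`, `bcCone`, `isLimitBcCone`: the base change `X ×_S T_i` of a system over `S`.
* `epi_eventually`, `eq_zero_eventually`, `isIso_eventually`.
-/

set_option autoImplicit false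
universe u
open CategoryTheory CategoryTheory.Limits AlgebraicGeometry Opposite

namespace Groth.Agent.H24.LPMod

variable {S : Scheme.{u}}

/-- A stable condition that descends to finite stages generates a limit preserving presheaf. -/
theorem isLimitPreserving_genPSp (P : Over S → Prop)
    (hstab : ∀ ⦃T T₀ : Over S⦄ (_ : T ⟶ T₀), P T₀ → P T)
    (hev : ∀ ⦃I : Type u⦄ [SmallCategory I] [IsCofiltered I] (D : I ⥤ Over S) (c : Cone D),
      IsLimit ((Over.forget S).mapCone c) → (∀ i, IsAffine (D.obj i).left) → IsAffine c.pt.left →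
        P c.pt → ∃ i, P (D.obj i)) :
    AlgSp.IsLimitPreserving (FlatFun.genPSp S P) := by
  intro I _ _ D c hc hD hT
  refine ⟨Types.FilteredColimit.isColimitOf _ _ ?_ ?_⟩
  · intro x
    obtain ⟨T₀, g, hT₀⟩ := x.down.down
    obtain ⟨i, hi⟩ := hev D c hc hD hT (hstab g hT₀)
    exact ⟨op i, ⟨⟨⟨D.obj i, 𝟙 _, hi⟩⟩⟩, @Subsingleton.elim _ (FlatFun.genPSp_subsingleton S P _) _ _⟩
  · intro i j xi xj _
    exact ⟨op (IsCofiltered.min i.unop j.unop), (IsCofiltered.minToLeft _ _).op,
      (IsCofiltered.minToRight _ _).op,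
      @Subsingleton.elim _ (FlatFun.genPSp_subsingleton S P _) _ _⟩

variable {X : Scheme.{u}} (f : X ⟶ S)

/-- The map `X ×_S T ⟶ X ×_S T'` induced by a morphism `T ⟶ T'` over `S`. -/
noncomputable def bcMap {T T' : Over S} (g : T ⟶ T') : pullback f T.hom ⟶ pullback f T'.hom :=
  pullback.map f T.hom f T'.hom (𝟙 X) g.left (𝟙 S) (by simp) (by simp)

@[reassoc (attr := simp)]
theorem bcMap_fst {T T' : Over S} (g : T ⟶ T') :
    bcMap f g ≫ pullback.fst f T'.hom = pullback.fst f T.hom := by
  unfold bcMap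
  exact (pullback.lift_fst _ _ _).trans (Category.comp_id _)

@[reassoc (attr := simp)]
theorem bcMap_snd {T T' : Over S} (g : T ⟶ T') :
    bcMap f g ≫ pullback.snd f T'.hom = pullback.snd f T.hom ≫ g.left := by
  unfold bcMap
  exact pullback.lift_snd _ _ _

@[simp]
theorem bcMap_id (T : Over S) : bcMap f (𝟙 T) = 𝟙 _ := by
  apply pullback.hom_ext
  · rw [bcMap_fst, Category.id_comp]
  · rw [bcMap_snd, Category.id_comp]
    exact Category.comp_id _

@[reassoc (attr := simp)]
theorem bcMap_comp {T T' T'' : Over S} (g : T ⟶ T') (g' : T' ⟶ T'') :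
    bcMap f (g ≫ g') = bcMap f g ≫ bcMap f g' := by
  apply pullback.hom_ext
  · rw [bcMap_fst, Category.assoc, bcMap_fst, bcMap_fst]
  · rw [bcMap_snd, Category.assoc, bcMap_snd, bcMap_snd_assoc]
    rfl

variable {I : Type u} [SmallCategory I]

/-- The base-changed system `i ↦ X ×_S T_i`. -/
@[reducible] noncomputable def bcDiag (D : I ⥤ Over S) : I ⥤ Scheme.{u} where
  obj i := pullback f (D.obj i).hom
  map φ := bcMap f (D.map φ)
  map_id i := by rw [D.map_id, bcMap_id]
  map_comp φ ψ := by rw [D.map_comp, bcMap_comp]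

/-- The base-changed cone with vertex `X ×_S T`. -/
noncomputable def bcCone {D : I ⥤ Over S} (c : Cone D) : Cone (bcDiag f D) where
  pt := pullback f c.pt.hom
  π :=
    { app := fun i => bcMap f (c.π.app i)
      naturality := fun i j φ => by
        show 𝟙 _ ≫ bcMap f (c.π.app j) = bcMap f (c.π.app i) ≫ bcMap f (D.map φ)
        rw [Category.id_comp, ← bcMap_comp, c.w] }

variable [IsCofiltered I]

/-- Core of "base change commutes with cofiltered limits", on plain data. -/
theorem existsUnique_lift_bc {D : I ⥤ Over S} (T : Over S) (p : ∀ i, T ⟶ D.obj i)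
    (hT : ∀ (W : Scheme.{u}) (q : ∀ i, W ⟶ (D.obj i).left)
      (_ : ∀ ⦃i j : I⦄ (φ : i ⟶ j), q i ≫ (D.map φ).left = q j),
      ∃! l : W ⟶ T.left, ∀ i, l ≫ (p i).left = q i)
    (W : Scheme.{u}) (r : ∀ i, W ⟶ pullback f (D.obj i).hom)
    (hr : ∀ ⦃i j : I⦄ (φ : i ⟶ j), r i ≫ bcMap f (D.map φ) = r j) :
    ∃! l : W ⟶ pullback f T.hom, ∀ i, l ≫ bcMap f (p i) = r i := by
  classical
  have i₀ : I := Classical.choice IsCofiltered.nonempty
  have hfst : ∀ i, r i ≫ pullback.fst f (D.obj i).hom = r i₀ ≫ pullback.fst f (D.obj i₀).hom := by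
    intro i
    rw [← hr (IsCofiltered.minToLeft i i₀), ← hr (IsCofiltered.minToRight i i₀),
      Category.assoc, Category.assoc, bcMap_fst, bcMap_fst]
  obtain ⟨b, hb, hbu⟩ := hT W (fun i => r i ≫ pullback.snd f (D.obj i).hom) (fun i j φ => by
    rw [← hr φ, Category.assoc, Category.assoc, bcMap_snd])
  have hcond : (r i₀ ≫ pullback.fst f (D.obj i₀).hom) ≫ f = b ≫ T.hom := by
    have h2 : T.hom = (p i₀).left ≫ (D.obj i₀).hom := (Over.w (p i₀)).symm
    rw [h2, ← Category.assoc b, hb i₀, Category.assoc, Category.assoc, pullback.condition]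
  refine ⟨pullback.lift (r i₀ ≫ pullback.fst f (D.obj i₀).hom) b hcond, fun i => ?_,
    fun m hm => ?_⟩
  · apply pullback.hom_ext
    · rw [Category.assoc, bcMap_fst, pullback.lift_fst, hfst i]
    · rw [Category.assoc, bcMap_snd, pullback.lift_snd_assoc, hb i]
  · apply pullback.hom_ext
    · rw [pullback.lift_fst, ← hm i₀, Category.assoc, bcMap_fst]
    · rw [pullback.lift_snd]
      refine hbu _ (fun i => ?_)
      rw [← hm i, Category.assoc, Category.assoc, bcMap_snd]

/-- Base change commutes with cofiltered limits. -/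
noncomputable def isLimitBcCone {D : I ⥤ Over S} (c : Cone D)
    (hc : IsLimit ((Over.forget S).mapCone c)) : IsLimit (bcCone f c) := by
  refine IsLimit.ofExistsUnique (fun s => ?_)
  refine existsUnique_lift_bc f c.pt (fun i => c.π.app i) (fun W q hq => ?_) s.pt
    (fun i => s.π.app i) (fun i j φ => s.w φ)
  let sc : Cone (D ⋙ Over.forget S) :=
    { pt := W
      π :=
        { app := fun i => q i
          naturality := fun i j φ => by
            show 𝟙 _ ≫ q j = q i ≫ (D.map φ).left
            rw [Category.id_comp, hq φ] } }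
  exact ⟨hc.lift sc, fun i => hc.fac sc i, fun m hm => hc.uniq sc m hm⟩

omit [IsCofiltered I] in
theorem isAffineHom_bcMap {T T' : Over S} (g : T ⟶ T') [IsAffineHom g.left] :
    IsAffineHom (bcMap f g) :=
  MorphismProperty.pullbackMap (P := @IsAffineHom) (f := f) (g := T.hom) (f' := f) (g' := T'.hom)
    (i₁ := 𝟙 X) (i₂ := g.left) inferInstance inferInstance (Category.id_comp f).symm
    (Over.w g).symm

omit [IsCofiltered I] in
theorem compactSpace_bc [QuasiCompact f] (T : Over S) [CompactSpace T.left] :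
    CompactSpace ↥(pullback f T.hom) :=
  QuasiCompact.compactSpace_of_compactSpace (pullback.snd f T.hom)

/-- `(X ×_S T' ⟶ X)^* ⋙ (X ×_S T ⟶ X ×_S T')^* ≅ (X ×_S T ⟶ X)^*`. -/
noncomputable def bcIso {T T' : Over S} (g : T ⟶ T') :
    Scheme.Modules.pullback (pullback.fst f T'.hom) ⋙ Scheme.Modules.pullback (bcMap f g) ≅
      Scheme.Modules.pullback (pullback.fst f T.hom) :=
  Scheme.Modules.pullbackComp (bcMap f g) (pullback.fst f T'.hom) ≪≫
    Scheme.Modules.pullbackCongr (bcMap_fst f g)

open Groth.Agent.H24.ModLimMain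

section Stable

variable {F G : X.Modules} (u : F ⟶ G)

omit [IsCofiltered I] in
theorem epi_stable {T T₀ : Over S} (g : T ⟶ T₀)
    (h : Epi ((Scheme.Modules.pullback (pullback.fst f T₀.hom)).map u)) :
    Epi ((Scheme.Modules.pullback (pullback.fst f T.hom)).map u) := by
  refine epi_map_of_natIso (bcIso f g) ?_
  rw [Functor.comp_map]
  infer_instance

omit [IsCofiltered I] in
theorem isIso_stable {T T₀ : Over S} (g : T ⟶ T₀)
    (h : IsIso ((Scheme.Modules.pullback (pullback.fst f T₀.hom)).map u)) :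
    IsIso ((Scheme.Modules.pullback (pullback.fst f T.hom)).map u) := by
  refine isIso_map_of_natIso (bcIso f g) ?_
  rw [Functor.comp_map]
  infer_instance

omit [IsCofiltered I] in
theorem eq_zero_stable {T T₀ : Over S} (g : T ⟶ T₀)
    (h : (Scheme.Modules.pullback (pullback.fst f T₀.hom)).map u = 0) :
    (Scheme.Modules.pullback (pullback.fst f T.hom)).map u = 0 := by
  have := map_eq_of_natIso (bcIso f g) (θ := u) (θ' := 0) (by
    simp only [Functor.comp_map, h, Functor.map_zero])
  rw [this, Functor.map_zero]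

end Stable

section Eventually

variable [QuasiCompact f] {F G : X.Modules} [F.IsQuasicoherent] [G.IsQuasicoherent] (u : F ⟶ G)
  (D : I ⥤ Over S) (c : Cone D) (hc : IsLimit ((Over.forget S).mapCone c))
  (hD : ∀ i, IsAffine (D.obj i).left)

include hc hD in
theorem epi_eventually [SheafOfModules.IsFiniteType (R := X.ringCatSheaf) G]
    (h : Epi ((Scheme.Modules.pullback (pullback.fst f c.pt.hom)).map u)) :
    ∃ i, Epi ((Scheme.Modules.pullback (pullback.fst f (D.obj i).hom)).map u) := by
  classical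
  have i₀ : I := Classical.choice IsCofiltered.nonempty
  haveI : ∀ {i j : I} (φ : i ⟶ j), IsAffineHom ((bcDiag f D).map φ) := fun {i j} φ =>
    haveI := hD i
    haveI := hD j
    isAffineHom_bcMap f (D.map φ)
  haveI : CompactSpace ((bcDiag f D).obj i₀) :=
    haveI := hD i₀
    compactSpace_bc f (D.obj i₀)
  obtain ⟨θ₀, hθ₀⟩ : ∃ θ₀ : (Scheme.Modules.pullback (pullback.fst f (D.obj i₀).hom)).obj F ⟶
      (Scheme.Modules.pullback (pullback.fst f (D.obj i₀).hom)).obj G,
      θ₀ = (Scheme.Modules.pullback (pullback.fst f (D.obj i₀).hom)).map u := ⟨_, rfl⟩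
  have h1 : Epi ((Scheme.Modules.pullback ((bcCone f c).π.app i₀)).map θ₀) := by
    subst hθ₀
    exact epi_map_of_natIso (bcIso f (c.π.app i₀)).symm h
  obtain ⟨j, φ, h2⟩ := (epi_pullback_map_iff (bcDiag f D) (bcCone f c) (isLimitBcCone f c hc) i₀
    θ₀).mp h1
  subst hθ₀
  exact ⟨j, epi_map_of_natIso (bcIso f (D.map φ)) h2⟩

include hc hD in
theorem eq_zero_eventually [SheafOfModules.IsFiniteType (R := X.ringCatSheaf) F]
    (h : (Scheme.Modules.pullback (pullback.fst f c.pt.hom)).map u = 0) :
    ∃ i, (Scheme.Modules.pullback (pullback.fst f (D.obj i).hom)).map u = 0 := by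
  classical
  have i₀ : I := Classical.choice IsCofiltered.nonempty
  haveI : ∀ {i j : I} (φ : i ⟶ j), IsAffineHom ((bcDiag f D).map φ) := fun {i j} φ =>
    haveI := hD i
    haveI := hD j
    isAffineHom_bcMap f (D.map φ)
  haveI : CompactSpace ((bcDiag f D).obj i₀) :=
    haveI := hD i₀
    compactSpace_bc f (D.obj i₀)
  obtain ⟨θ₀, hθ₀⟩ : ∃ θ₀ : (Scheme.Modules.pullback (pullback.fst f (D.obj i₀).hom)).obj F ⟶
      (Scheme.Modules.pullback (pullback.fst f (D.obj i₀).hom)).obj G,
      θ₀ = (Scheme.Modules.pullback (pullback.fst f (D.obj i₀).hom)).map u := ⟨_, rfl⟩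
  have h1 : (Scheme.Modules.pullback ((bcCone f c).π.app i₀)).map θ₀ =
      (Scheme.Modules.pullback ((bcCone f c).π.app i₀)).map 0 := by
    subst hθ₀
    have h' : (Scheme.Modules.pullback (pullback.fst f c.pt.hom)).map u =
        (Scheme.Modules.pullback (pullback.fst f c.pt.hom)).map 0 := by
      rw [h, Functor.map_zero]
    have := map_eq_of_natIso (bcIso f (c.π.app i₀)).symm (θ := u) (θ' := 0) h'
    rw [Functor.map_zero]
    refine Eq.trans this ?_
    exact Functor.map_zero _ _ _
  obtain ⟨j, φ, h2⟩ := (pullback_map_eq_iff (bcDiag f D) (bcCone f c) (isLimitBcCone f c hc) i₀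
    θ₀ 0).mp h1
  subst hθ₀
  refine ⟨j, ?_⟩
  have := map_eq_of_natIso (bcIso f (D.map φ)) (θ := u) (θ' := 0) (by
    simpa only [Functor.comp_map, Functor.map_zero] using h2)
  rw [this, Functor.map_zero]

include hc hD in
theorem isIso_eventually [SheafOfModules.IsFiniteType (R := X.ringCatSheaf) F]
    [SheafOfModules.IsFinitePresentation (R := X.ringCatSheaf) G]
    (h : IsIso ((Scheme.Modules.pullback (pullback.fst f c.pt.hom)).map u)) :
    ∃ i, IsIso ((Scheme.Modules.pullback (pullback.fst f (D.obj i).hom)).map u) := by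
  classical
  have i₀ : I := Classical.choice IsCofiltered.nonempty
  haveI : ∀ {i j : I} (φ : i ⟶ j), IsAffineHom ((bcDiag f D).map φ) := fun {i j} φ =>
    haveI := hD i
    haveI := hD j
    isAffineHom_bcMap f (D.map φ)
  haveI : CompactSpace ((bcDiag f D).obj i₀) :=
    haveI := hD i₀
    compactSpace_bc f (D.obj i₀)
  haveI : SheafOfModules.IsFinitePresentation
      (R := (pullback f (D.obj i₀).hom).ringCatSheaf)
      ((Scheme.Modules.pullback (pullback.fst f (D.obj i₀).hom)).obj G) :=
    Groth.Agent.H44.isFinitePresentation_pullback (pullback.fst f (D.obj i₀).hom) G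
  obtain ⟨θ₀, hθ₀⟩ : ∃ θ₀ : (Scheme.Modules.pullback (pullback.fst f (D.obj i₀).hom)).obj F ⟶
      (Scheme.Modules.pullback (pullback.fst f (D.obj i₀).hom)).obj G,
      θ₀ = (Scheme.Modules.pullback (pullback.fst f (D.obj i₀).hom)).map u := ⟨_, rfl⟩
  have h1 : IsIso ((Scheme.Modules.pullback ((bcCone f c).π.app i₀)).map θ₀) := by
    subst hθ₀
    exact isIso_map_of_natIso (bcIso f (c.π.app i₀)).symm h
  obtain ⟨j, φ, h2⟩ := (isIso_pullback_map_iff (bcDiag f D) (bcCone f c) (isLimitBcCone f c hc) i₀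
    θ₀).mp h1
  subst hθ₀
  exact ⟨j, isIso_map_of_natIso (bcIso f (D.map φ)) h2⟩

end Eventually

section Main

variable [QuasiCompact f] {F G : X.Modules} [F.IsQuasicoherent] [G.IsQuasicoherent] (u : F ⟶ G)

theorem isLimitPreserving_surj [SheafOfModules.IsFiniteType (R := X.ringCatSheaf) G] :
    AlgSp.IsLimitPreserving (FlatFun.genPSp S (fun T =>
      Epi ((Scheme.Modules.pullback (pullback.fst f T.hom)).map u))) :=
  isLimitPreserving_genPSp _ (fun _ _ g h => epi_stable f u g h)
    (fun _ _ _ D c hc hD _ h => epi_eventually f u D c hc hD h)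

theorem isLimitPreserving_zero [SheafOfModules.IsFiniteType (R := X.ringCatSheaf) F] :
    AlgSp.IsLimitPreserving (FlatFun.genPSp S (fun T =>
      (Scheme.Modules.pullback (pullback.fst f T.hom)).map u = 0)) :=
  isLimitPreserving_genPSp _ (fun _ _ g h => eq_zero_stable f u g h)
    (fun _ _ _ D c hc hD _ h => eq_zero_eventually f u D c hc hD h)

theorem isLimitPreserving_iso [SheafOfModules.IsFiniteType (R := X.ringCatSheaf) F]
    [SheafOfModules.IsFinitePresentation (R := X.ringCatSheaf) G] :
    AlgSp.IsLimitPreserving (FlatFun.genPSp S (fun T =>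
      IsIso ((Scheme.Modules.pullback (pullback.fst f T.hom)).map u))) :=
  isLimitPreserving_genPSp _ (fun _ _ g h => isIso_stable f u g h)
    (fun _ _ _ D c hc hD _ h => isIso_eventually f u D c hc hD h)

end Main

end Groth.Agent.H24.LPMod
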