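import Mathlib
import Groth.Agent.H24.LimitRebase
import Groth.Agent.H24.LimitAffine
import Groth.Agent.H24.IntegralElemEq

/-!
# Finite morphisms descend to a stage: affine case (helper24)

`X₀`, `Y₀` affine, `f₀` of finite type; if the base change of `f₀` to the limit is finite then so is
the base change to some stage.
-/

set_option autoImplicit false
universe u
open CategoryTheory CategoryTheory.Limits AlgebraicGeometry

namespace Groth.Agent.H24

/-- Integral elements are preserved along a commutative square of ring maps. -/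
theorem isIntegralElem_of_comm_sq {R T R' T' : Type*} [CommRing R] [CommRing T] [CommRing R']
    [CommRing T'] (φ : R →+* T) (φ' : R' →+* T') (ρR : R →+* R') (ρT : T →+* T')
    (hsq : ρT.comp φ = φ'.comp ρR) {b : T} (hb : φ.IsIntegralElem b) :
    φ'.IsIntegralElem (ρT b) := by
  obtain ⟨P, hP, hPb⟩ := hb
  refine ⟨P.map ρR, hP.map _, ?_⟩
  rw [Polynomial.eval₂_map, ← hsq, ← Polynomial.hom_eval₂, hPb, map_zero]

variable {I : Type u} [Category.{u} I] [IsCofiltered I] (D : I ⥤ Scheme.{u}) (c : Cone D)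
  [∀ {i j} (f : i ⟶ j), IsAffineHom (D.map f)] (i₀ : I)
  {X₀ Y₀ : Scheme.{u}} (f₀ : X₀ ⟶ Y₀) (g₀ : Y₀ ⟶ D.obj i₀)

/-- The section `b` of `X₀` is integral over the base at stage `ψ`. -/
def IntAt (ψ : Over i₀) (b : Γ(X₀, ⊤)) : Prop :=
  (stageMap D i₀ f₀ g₀ ψ).appTop.hom.IsIntegralElem ((stageSnd D i₀ f₀ g₀ ψ).appTop b)

omit [IsCofiltered I] [∀ {i j} (f : i ⟶ j), IsAffineHom (D.map f)] in
set_option backward.isDefEq.respectTransparency false in
theorem intAt_map {ψ ψ' : Over i₀} (u : ψ' ⟶ ψ) (b : Γ(X₀, ⊤)) (h : IntAt D i₀ f₀ g₀ ψ b) :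
    IntAt D i₀ f₀ g₀ ψ' b := by
  have h1 := isIntegralElem_of_comm_sq (stageMap D i₀ f₀ g₀ ψ).appTop.hom
    (stageMap D i₀ f₀ g₀ ψ').appTop.hom ((pullbackDiagram D i₀ g₀).map u).appTop.hom
    ((pullbackDiagram D i₀ (f₀ ≫ g₀)).map u).appTop.hom (by
      rw [← CommRingCat.hom_comp, ← CommRingCat.hom_comp, ← Scheme.Hom.comp_appTop,
        ← Scheme.Hom.comp_appTop, map_stageMap]) h
  have h2 : ((pullbackDiagram D i₀ (f₀ ≫ g₀)).map u).appTop.hom
      ((stageSnd D i₀ f₀ g₀ ψ).appTop b) = (stageSnd D i₀ f₀ g₀ ψ').appTop b := by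
    rw [← map_stageSnd D i₀ f₀ g₀ u, Scheme.Hom.comp_appTop]
    rfl
  unfold IntAt
  rw [← h2]
  exact h1

end Groth.Agent.H24

namespace Groth.Agent.H24

variable {I : Type u} [Category.{u} I] [IsCofiltered I] (D : I ⥤ Scheme.{u}) (c : Cone D)
  [∀ {i j} (f : i ⟶ j), IsAffineHom (D.map f)] (i₀ : I)
  {X₀ Y₀ : Scheme.{u}} (f₀ : X₀ ⟶ Y₀) (g₀ : Y₀ ⟶ D.obj i₀)

set_option backward.isDefEq.respectTransparency false in
/-- Integrality of a section of `X₀` over the base descends from the limit to a stage. -/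
theorem exists_intAt (hc : IsLimit c) [IsAffine X₀] [IsAffine Y₀] (b : Γ(X₀, ⊤))
    (h : (limMap D c i₀ f₀ g₀).appTop.hom.IsIntegralElem
      ((pullback.snd (c.π.app i₀) (f₀ ≫ g₀)).appTop b)) :
    ∃ ψ : Over i₀, IntAt D i₀ f₀ g₀ ψ b := by
  classical
  let FY := pullbackDiagram D i₀ g₀
  let cY := pullbackCone D c i₀ g₀
  have hcY : IsLimit cY := isLimitPullbackCone D c i₀ g₀ hc
  let FX := pullbackDiagram D i₀ (f₀ ≫ g₀)
  let cX := pullbackCone D c i₀ (f₀ ≫ g₀)
  have hcX : IsLimit cX := isLimitPullbackCone D c i₀ (f₀ ≫ g₀) hc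
  have hFYaff : ∀ {φ ψ : Over i₀} (f : φ ⟶ ψ), IsAffineHom (FY.map f) := fun f =>
    MorphismProperty.of_isPullback (P := @IsAffineHom)
      (isPullback_pullbackDiagram_map D i₀ g₀ f).flip inferInstance
  have hFXaff : ∀ {φ ψ : Over i₀} (f : φ ⟶ ψ), IsAffineHom (FX.map f) := fun f =>
    MorphismProperty.of_isPullback (P := @IsAffineHom)
      (isPullback_pullbackDiagram_map D i₀ (f₀ ≫ g₀) f).flip inferInstance
  have hYaff : ∀ ψ : Over i₀, IsAffine (FY.obj ψ) := fun ψ =>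
    have : IsAffineHom (pullback.snd (D.map ψ.hom) g₀) :=
      MorphismProperty.pullback_snd (P := @IsAffineHom) _ _ inferInstance
    isAffine_of_isAffineHom (pullback.snd (D.map ψ.hom) g₀)
  have hXaff : ∀ ψ : Over i₀, IsAffine (FX.obj ψ) := fun ψ =>
    isAffine_of_isAffineHom (stageSnd D i₀ f₀ g₀ ψ)
  obtain ⟨d, a, ha⟩ := (isIntegralElem_iff_exists_pow_eq _ _).mp h
  have h1 : ∀ l : Fin d, ∃ (ψ : Over i₀) (t : Γ(FY.obj ψ, ⊤)), (cY.π.app ψ).appTop t = a l :=
    fun l => exists_appTop_π_eq_of_isAffine_of_isLimit FY cY hcY (a l)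
  choose ψl tl htl using h1
  obtain ⟨ψ₁, T⟩ := IsCofiltered.inf_objs_exists (Finset.univ.image ψl)
  have u : ∀ l : Fin d, ψ₁ ⟶ ψl l := fun l =>
    (T (Finset.mem_image_of_mem ψl (Finset.mem_univ l))).some
  let a' : Fin d → Γ(FY.obj ψ₁, ⊤) := fun l => (FY.map (u l)).appTop (tl l)
  have ha' : ∀ l, (cY.π.app ψ₁).appTop (a' l) = a l := by
    intro l
    rw [← htl l, ← cY.w (u l), Scheme.Hom.comp_appTop]
    rfl
  let bψ : ∀ ψ : Over i₀, Γ(FX.obj ψ, ⊤) := fun ψ => (stageSnd D i₀ f₀ g₀ ψ).appTop b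
  let sm : ∀ ψ : Over i₀, Γ(FY.obj ψ, ⊤) → Γ(FX.obj ψ, ⊤) := fun ψ r =>
    (stageMap D i₀ f₀ g₀ ψ).appTop r
  let z : Γ(FX.obj ψ₁, ⊤) := bψ ψ₁ ^ d +
    ∑ l : Fin d, sm ψ₁ (a' l) * bψ ψ₁ ^ (l : ℕ)
  have e1 : ∀ (ψ : Over i₀) (r : Γ(FY.obj ψ, ⊤)),
      (cX.π.app ψ).appTop (sm ψ r) =
        (limMap D c i₀ f₀ g₀).appTop ((cY.π.app ψ).appTop r) := by
    intro ψ r
    have := congrArg (fun m => m.appTop r) (cone_stageMap D c i₀ f₀ g₀ ψ)
    simp only [Scheme.Hom.comp_appTop, CommRingCat.comp_apply] at this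
    exact this
  have e2 : ∀ ψ : Over i₀, (cX.π.app ψ).appTop (bψ ψ) =
      (pullback.snd (c.π.app i₀) (f₀ ≫ g₀)).appTop b := by
    intro ψ
    have := congrArg (fun m => m.appTop b) (cone_stageSnd D c i₀ f₀ g₀ ψ)
    simp only [Scheme.Hom.comp_appTop, CommRingCat.comp_apply] at this
    exact this
  have hz : (cX.π.app ψ₁).appTop z = 0 := by
    rw [← ha]
    simp only [z, map_add, map_pow, map_sum, map_mul, e1, e2, ha']
  have hcomp : CompactSpace (FX.obj ψ₁) := inferInstance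
  obtain ⟨ψ₂, v, hv⟩ := exists_appTop_map_eq_zero_of_isLimit FX cX hcX z hz
  refine ⟨ψ₂, (isIntegralElem_iff_exists_pow_eq _ _).mpr
    ⟨d, fun l => (FY.map v).appTop (a' l), ?_⟩⟩
  have e3 : ∀ r : Γ(FY.obj ψ₁, ⊤), (FX.map v).appTop (sm ψ₁ r) =
      sm ψ₂ ((FY.map v).appTop r) := by
    intro r
    have := congrArg (fun m => m.appTop r) (map_stageMap D i₀ f₀ g₀ v)
    simp only [Scheme.Hom.comp_appTop, CommRingCat.comp_apply] at this
    exact this
  have e4 : (FX.map v).appTop (bψ ψ₁) = bψ ψ₂ := by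
    have := congrArg (fun m => m.appTop b) (map_stageSnd D i₀ f₀ g₀ v)
    simp only [Scheme.Hom.comp_appTop, CommRingCat.comp_apply] at this
    exact this
  rw [← hv]
  simp only [z, map_add, map_pow, map_sum, map_mul, e3, e4]
  rfl

end Groth.Agent.H24

namespace Groth.Agent.H24

variable {I : Type u} [Category.{u} I] [IsCofiltered I] (D : I ⥤ Scheme.{u}) (c : Cone D)
  [∀ {i j} (f : i ⟶ j), IsAffineHom (D.map f)] (i₀ : I)
  {X₀ Y₀ : Scheme.{u}} (f₀ : X₀ ⟶ Y₀) (g₀ : Y₀ ⟶ D.obj i₀)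

set_option backward.isDefEq.respectTransparency false in
/-- **Finite morphisms descend to a stage** (affine case). -/
theorem exists_isFinite_stageMap_of_isAffine (hc : IsLimit c) [IsAffine X₀] [IsAffine Y₀]
    [LocallyOfFiniteType f₀] (h : IsFinite (limMap D c i₀ f₀ g₀)) :
    ∃ ψ : Over i₀, IsFinite (stageMap D i₀ f₀ g₀ ψ) := by
  classical
  have hft : RingHom.FiniteType f₀.appTop.hom :=
    (HasRingHomProperty.iff_of_isAffine (P := @LocallyOfFiniteType)).mp inferInstance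
  let _ := f₀.appTop.hom.toAlgebra
  obtain ⟨t, ht⟩ : ∃ t : Finset Γ(X₀, ⊤), Algebra.adjoin Γ(Y₀, ⊤) (t : Set Γ(X₀, ⊤)) = ⊤ :=
    hft.out
  have hπaff : IsAffineHom (c.π.app i₀) := isAffineHom_π_app D c hc i₀
  have hsndaff : IsAffineHom (pullback.snd (c.π.app i₀) g₀) :=
    MorphismProperty.pullback_snd (P := @IsAffineHom) _ _ inferInstance
  have hYlim : IsAffine (pullback (c.π.app i₀) g₀) :=
    isAffine_of_isAffineHom (pullback.snd (c.π.app i₀) g₀)
  have hint : (limMap D c i₀ f₀ g₀).appTop.hom.IsIntegral := by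
    have : IsIntegralHom (limMap D c i₀ f₀ g₀) := inferInstance
    exact ((HasAffineProperty.iff_of_isAffine (P := @IsIntegralHom)).mp this).2
  have hgen : ∀ b : t, ∃ ψ : Over i₀, IntAt D i₀ f₀ g₀ ψ b.1 := fun b =>
    exists_intAt D c i₀ f₀ g₀ hc b.1 (hint _)
  choose ψb hψb using hgen
  obtain ⟨ψ, T⟩ := IsCofiltered.inf_objs_exists (Finset.univ.image ψb)
  have hψ : ∀ b : t, IntAt D i₀ f₀ g₀ ψ b.1 := fun b =>
    intAt_map D i₀ f₀ g₀ (T (Finset.mem_image_of_mem ψb (Finset.mem_univ b))).some b.1 (hψb b)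
  refine ⟨ψ, ?_⟩
  have hYaff : IsAffine (pullback (D.map ψ.hom) g₀) :=
    have : IsAffineHom (pullback.snd (D.map ψ.hom) g₀) :=
      MorphismProperty.pullback_snd (P := @IsAffineHom) _ _ inferInstance
    isAffine_of_isAffineHom (pullback.snd (D.map ψ.hom) g₀)
  have hXaff : IsAffine (pullback (D.map ψ.hom) (f₀ ≫ g₀)) :=
    isAffine_of_isAffineHom (stageSnd D i₀ f₀ g₀ ψ)
  have hsq : ∀ r : Γ(Y₀, ⊤), (stageSnd D i₀ f₀ g₀ ψ).appTop (f₀.appTop r) =
      (stageMap D i₀ f₀ g₀ ψ).appTop ((pullback.snd (D.map ψ.hom) g₀).appTop r) := by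
    intro r
    have := congrArg (fun m => m.appTop r) (stageMap_snd D i₀ f₀ g₀ ψ)
    simp only [Scheme.Hom.comp_appTop, CommRingCat.comp_apply] at this
    exact this.symm
  have hall : ∀ x : Γ(X₀, ⊤), IntAt D i₀ f₀ g₀ ψ x := by
    intro x
    have hx : x ∈ Algebra.adjoin Γ(Y₀, ⊤) (t : Set Γ(X₀, ⊤)) := by rw [ht]; trivial
    induction hx using Algebra.adjoin_induction with
    | mem x hx => exact hψ ⟨x, hx⟩
    | algebraMap r =>
      unfold IntAt
      change (stageMap D i₀ f₀ g₀ ψ).appTop.hom.IsIntegralElem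
        ((stageSnd D i₀ f₀ g₀ ψ).appTop (f₀.appTop r))
      rw [hsq]
      exact RingHom.isIntegralElem_map _
    | add x y _ _ hx hy =>
      unfold IntAt at *
      rw [map_add]
      exact RingHom.IsIntegralElem.add _ hx hy
    | mul x y _ _ hx hy =>
      unfold IntAt at *
      rw [map_mul]
      exact RingHom.IsIntegralElem.mul _ hx hy
  have hint' : (stageMap D i₀ f₀ g₀ ψ).appTop.hom.IsIntegral := by
    intro y
    have hpush := isPushout_appTop_of_isPullback (isPullback_stageMap D i₀ f₀ g₀ ψ)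
    have hcl := CommRingCat.closure_range_union_range_eq_top_of_isPushout hpush
    have hy : y ∈ Subring.closure
        (Set.range (pullback.snd (D.map ψ.hom) (f₀ ≫ g₀)).appTop ∪
          Set.range (stageMap D i₀ f₀ g₀ ψ).appTop) := by
      rw [hcl]; trivial
    induction hy using Subring.closure_induction with
    | mem y hy =>
      rcases hy with ⟨x, rfl⟩ | ⟨r, rfl⟩
      · exact hall x
      · exact RingHom.isIntegralElem_map _
    | zero => exact RingHom.isIntegralElem_zero _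
    | one => exact RingHom.isIntegralElem_one _
    | add x y _ _ hx hy => exact RingHom.IsIntegralElem.add _ hx hy
    | neg x _ hx => exact RingHom.IsIntegralElem.neg _ hx
    | mul x y _ _ hx hy => exact RingHom.IsIntegralElem.mul _ hx hy
  have hintj : IsIntegralHom (stageMap D i₀ f₀ g₀ ψ) := by
    rw [HasAffineProperty.iff_of_isAffine (P := @IsIntegralHom)]
    exact ⟨hXaff, hint'⟩
  have hlft : LocallyOfFiniteType (stageMap D i₀ f₀ g₀ ψ) :=
    MorphismProperty.of_isPullback (P := @LocallyOfFiniteType)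
      (isPullback_stageMap D i₀ f₀ g₀ ψ) inferInstance
  exact (IsFinite.iff_isIntegralHom_and_locallyOfFiniteType _).mpr ⟨hintj, hlft⟩

end Groth.Agent.H24
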