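import Mathlib
import Groth.Agent.H24.LimitFiniteStage
import Groth.Agent.H24.LimitIsoLocal

/-!
# Finite morphisms descend to a stage (helper24)
-/

set_option autoImplicit false
universe u
open CategoryTheory CategoryTheory.Limits AlgebraicGeometry

namespace Groth.Agent.H24

variable {I : Type u} [Category.{u} I] [IsCofiltered I] (D : I ⥤ Scheme.{u}) (c : Cone D)
  [∀ {i j} (f : i ⟶ j), IsAffineHom (D.map f)] (i₀ : I)
  {X₀ Y₀ : Scheme.{u}} (f₀ : X₀ ⟶ Y₀) (g₀ : Y₀ ⟶ D.obj i₀)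

set_option backward.isDefEq.respectTransparency false in
/-- **Finite morphisms descend to a stage.** -/
theorem exists_isFinite_stageMap (hc : IsLimit c) [CompactSpace X₀]
    [QuasiSeparatedSpace X₀] [CompactSpace Y₀] [QuasiSeparatedSpace Y₀] [LocallyOfFiniteType f₀]
    (h : IsFinite (limMap D c i₀ f₀ g₀)) :
    ∃ ψ : Over i₀, IsFinite (stageMap D i₀ f₀ g₀ ψ) := by
  let FY := pullbackDiagram D i₀ g₀
  let cY := pullbackCone D c i₀ g₀
  have hcY : IsLimit cY := isLimitPullbackCone D c i₀ g₀ hc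
  have hFYaff : ∀ {φ ψ : Over i₀} (f : φ ⟶ ψ), IsAffineHom (FY.map f) := fun f =>
    MorphismProperty.of_isPullback (P := @IsAffineHom)
      (isPullback_pullbackDiagram_map D i₀ g₀ f).flip inferInstance
  -- first make the stage map affine
  obtain ⟨ψ₀, hψ₀⟩ := exists_isAffineHom_stageMap D c i₀ f₀ g₀ hc (limMap D c i₀ f₀ g₀)
    (pullback.fst (c.π.app i₀) g₀) (pullback.snd (c.π.app i₀) g₀)
    (pullback.snd (c.π.app i₀) (f₀ ≫ g₀)) (IsPullback.of_hasPullback (c.π.app i₀) g₀).flip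
    (isPullback_limMap D c i₀ f₀ g₀)
  have hc0 : CompactSpace (FY.obj ψ₀) := by
    have : IsAffineHom (pullback.snd (D.map ψ₀.hom) g₀) :=
      MorphismProperty.pullback_snd (P := @IsAffineHom) _ _ inferInstance
    exact QuasiCompact.compactSpace_of_compactSpace (pullback.snd (D.map ψ₀.hom) g₀)
  obtain ⟨s, hs, hcov⟩ := isCompact_iff_finite_and_eq_biUnion_affineOpens.mp
    (show IsCompact ((⊤ : (FY.obj ψ₀).Opens) : Set (FY.obj ψ₀)) from isCompact_univ)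
  have hsf : Finite s := hs
  have hft0 : LocallyOfFiniteType (stageMap D i₀ f₀ g₀ ψ₀) :=
    MorphismProperty.of_isPullback (P := @LocallyOfFiniteType)
      (isPullback_stageMap D i₀ f₀ g₀ ψ₀) inferInstance
  refine exists_stageMap_of_cover D c i₀ f₀ g₀ @IsFinite ψ₀
    (fun k : s => k.1.1) ?_ ?_ h
  · rw [eq_top_iff]
    intro x _
    have hx : x ∈ (⊤ : (FY.obj ψ₀).Opens) := trivial
    rw [hcov] at hx
    simp only [TopologicalSpace.Opens.mem_iSup] at hx ⊢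
    obtain ⟨W, hWs, hxW⟩ := hx
    exact ⟨⟨W, hWs⟩, hxW⟩
  · intro k hk
    have hVaff : IsAffineOpen (rbV D i₀ g₀ ψ₀ k.1.1) := by
      rw [rbV_eq]; exact k.1.2
    have hA1 : IsAffine (stageMap D i₀ f₀ g₀ ψ₀ ⁻¹ᵁ rbV D i₀ g₀ ψ₀ k.1.1 : Scheme.{u}) :=
      hVaff.preimage (stageMap D i₀ f₀ g₀ ψ₀)
    have hA : IsAffine ((rbD D i₀ g₀ ψ₀ k.1.1).obj (rbI i₀ ψ₀)) := hVaff
    have hft : LocallyOfFiniteType (rbF D i₀ f₀ g₀ ψ₀ k.1.1) :=
      MorphismProperty.of_isPullback (P := @LocallyOfFiniteType)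
        (isPullback_rbF D i₀ f₀ g₀ ψ₀ k.1.1) hft0
    exact exists_isFinite_stageMap_of_isAffine (rbD D i₀ g₀ ψ₀ k.1.1)
      (rbC D c i₀ g₀ ψ₀ k.1.1) (rbI i₀ ψ₀) (rbF D i₀ f₀ g₀ ψ₀ k.1.1) (𝟙 _)
      (isLimitOpensCone FY cY hcY ψ₀ k.1.1) hk

end Groth.Agent.H24
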