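import Mathlib
import Groth.Agent.H24.LimitFinite
import Groth.Agent.H24.LimitLocusFlat
import Groth.Agent.H24.LimitLocusIff

/-!
# Finite locally free morphisms of given degree descend to a stage (helper24)
-/

set_option autoImplicit false
universe u
open CategoryTheory CategoryTheory.Limits AlgebraicGeometry

namespace Groth.Agent.H24

variable {I : Type u} [Category.{u} I] [IsCofiltered I] (D : I ⥤ Scheme.{u}) (c : Cone D)
  [∀ {i j} (f : i ⟶ j), IsAffineHom (D.map f)] (i₀ : I)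
  {X₀ Y₀ : Scheme.{u}} (f₀ : X₀ ⟶ Y₀) (g₀ : Y₀ ⟶ D.obj i₀)

set_option backward.isDefEq.respectTransparency false in
/-- Finite + flat + constant rank `d` descends to a stage. -/
theorem exists_finite_flat_finrank_stageMap (hc : IsLimit c) [CompactSpace X₀]
    [QuasiSeparatedSpace X₀] [CompactSpace Y₀] [QuasiSeparatedSpace Y₀]
    [LocallyOfFinitePresentation f₀] (d : ℕ)
    (hfin : IsFinite (limMap D c i₀ f₀ g₀)) (hflat : Flat (limMap D c i₀ f₀ g₀))
    (hrank : ∀ y, (limMap D c i₀ f₀ g₀).finrank y = d) :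
    ∃ ψ : Over i₀, IsFinite (stageMap D i₀ f₀ g₀ ψ) ∧ Flat (stageMap D i₀ f₀ g₀ ψ) ∧
      ∀ y, (stageMap D i₀ f₀ g₀ ψ).finrank y = d := by
  let FY := pullbackDiagram D i₀ g₀
  let cY := pullbackCone D c i₀ g₀
  have hcY : IsLimit cY := isLimitPullbackCone D c i₀ g₀ hc
  have hFYaff : ∀ {φ ψ : Over i₀} (f : φ ⟶ ψ), IsAffineHom (FY.map f) := fun f =>
    MorphismProperty.of_isPullback (P := @IsAffineHom)
      (isPullback_pullbackDiagram_map D i₀ g₀ f).flip inferInstance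
  have hYc : ∀ ψ, CompactSpace (FY.obj ψ) := fun ψ => by
    have : IsAffineHom (pullback.snd (D.map ψ.hom) g₀) :=
      MorphismProperty.pullback_snd (P := @IsAffineHom) _ _ inferInstance
    exact QuasiCompact.compactSpace_of_compactSpace (pullback.snd (D.map ψ.hom) g₀)
  obtain ⟨ψ₁, h₁⟩ := exists_isFinite_stageMap D c i₀ f₀ g₀ hc hfin
  obtain ⟨ψ₂, h₂⟩ := exists_stageMap_of_core D c i₀ f₀ g₀ @Flat (fun j _ => inferInstance)
    coreDescent_flat hc hflat
  let ψ₃ := IsCofiltered.min ψ₁ ψ₂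
  have h₁' : IsFinite (stageMap D i₀ f₀ g₀ ψ₃) :=
    MorphismProperty.of_isPullback (P := @IsFinite)
      (isPullback_map_stageMap D i₀ f₀ g₀ (IsCofiltered.minToLeft ψ₁ ψ₂)) h₁
  have h₂' : Flat (stageMap D i₀ f₀ g₀ ψ₃) :=
    MorphismProperty.of_isPullback (P := @Flat)
      (isPullback_map_stageMap D i₀ f₀ g₀ (IsCofiltered.minToRight ψ₁ ψ₂)) h₂
  have h₃ : LocallyOfFinitePresentation (stageMap D i₀ f₀ g₀ ψ₃) :=
    MorphismProperty.of_isPullback (P := @LocallyOfFinitePresentation)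
      (isPullback_stageMap D i₀ f₀ g₀ ψ₃) inferInstance
  have hlc := Scheme.Hom.isLocallyConstant_finrank (stageMap D i₀ f₀ g₀ ψ₃)
  let W : (FY.obj ψ₃).Opens := ⟨(stageMap D i₀ f₀ g₀ ψ₃).finrank ⁻¹' {d}, hlc.isOpen_fiber d⟩
  have hW : cY.π.app ψ₃ ⁻¹ᵁ W = ⊤ := by
    rw [eq_top_iff]
    intro y _
    change (stageMap D i₀ f₀ g₀ ψ₃).finrank (cY.π.app ψ₃ y) = d
    have := Scheme.Hom.finrank_of_isPullback _ _ _ _ (isPullback_cone_stageMap D c i₀ f₀ g₀ ψ₃) y
    exact this.symm.trans (hrank y)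
  obtain ⟨ψ₄, v, hv⟩ := exists_map_eq_top FY cY hcY W hW
  refine ⟨ψ₄, MorphismProperty.of_isPullback (P := @IsFinite)
      (isPullback_map_stageMap D i₀ f₀ g₀ v) h₁',
    MorphismProperty.of_isPullback (P := @Flat) (isPullback_map_stageMap D i₀ f₀ g₀ v) h₂', ?_⟩
  intro y
  have h5 := Scheme.Hom.finrank_of_isPullback _ _ _ _ (isPullback_map_stageMap D i₀ f₀ g₀ v) y
  have : y ∈ FY.map v ⁻¹ᵁ W := by rw [hv]; trivial
  exact h5.trans this

end Groth.Agent.H24
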