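import Mathlib
import Groth.Agent.H4.DirFlat

/-!
# Flatness of the projections from a cofiltered limit of schemes with flat affine transition maps
-/

set_option autoImplicit false
universe u w
open CategoryTheory CategoryTheory.Limits AlgebraicGeometry

namespace Groth.Agent.H24

/-- Ring-hom version of `Groth.Agent.H4.DirFlat.flat_of_cover`. -/
theorem flat_of_ringHom_cover {A B : Type u} [CommRing A] [CommRing B] (φ : A →+* B)
    {J : Type w} (C : J → Type u) [∀ j, CommRing (C j)] (a : ∀ j, A →+* C j)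
    (ι : ∀ j, C j →+* B) (hι : ∀ j, (ι j).comp (a j) = φ)
    (hd : ∀ j1 j2, ∃ (j3 : J) (u1 : C j1 →+* C j3) (u2 : C j2 →+* C j3),
      u1.comp (a j1) = a j3 ∧ u2.comp (a j2) = a j3 ∧
      (ι j3).comp u1 = ι j1 ∧ (ι j3).comp u2 = ι j2)
    (hs : ∀ b : B, ∃ (j : J) (c : C j), ι j c = b)
    (hi : ∀ (j : J) (c : C j), ι j c = 0 → ∃ (j' : J) (u : C j →+* C j'),
      u.comp (a j) = a j' ∧ (ι j').comp u = ι j ∧ u c = 0)
    (hflat : ∀ j, (a j).Flat) : φ.Flat := by
  letI := φ.toAlgebra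
  letI : ∀ j, Algebra A (C j) := fun j => (a j).toAlgebra
  let ι' : ∀ j, C j →ₐ[A] B := fun j =>
    { ι j with commutes' := fun r => congrArg (fun f : A →+* B => f r) (hι j) }
  have mk : ∀ {j j' : J} (u : C j →+* C j') (_ : u.comp (a j) = a j'), C j →ₐ[A] C j' :=
    fun {j j'} u hu => { u with commutes' := fun r => congrArg (fun f : A →+* C j' => f r) hu }
  show Module.Flat A B
  refine Groth.Agent.H4.DirFlat.flat_of_cover (ι := ι') ?_ ?_ ?_ (fun j => hflat j)
  · intro j1 j2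
    obtain ⟨j3, u1, u2, h1, h2, h3, h4⟩ := hd j1 j2
    refine ⟨j3, { u1 with commutes' := fun r => congrArg (fun f : A →+* C j3 => f r) h1 },
      { u2 with commutes' := fun r => congrArg (fun f : A →+* C j3 => f r) h2 }, ?_, ?_⟩
    · ext x; exact congrArg (fun f : C j1 →+* B => f x) h3
    · ext x; exact congrArg (fun f : C j2 →+* B => f x) h4
  · intro b
    obtain ⟨j, c, hc⟩ := hs b
    exact ⟨j, c, hc⟩
  · intro j c hc
    obtain ⟨j', u, h1, h2, h3⟩ := hi j c hc
    refine ⟨j', { u with commutes' := fun r => congrArg (fun f : A →+* C j' => f r) h1 }, ?_, h3⟩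
    ext x; exact congrArg (fun f : C j →+* B => f x) h2

variable {I : Type u} [Category.{u} I] [IsCofiltered I] (D : I ⥤ Scheme.{u}) (c : Cone D)

/-- Affine case: the map on global sections of the projection from the limit is flat if all
transition maps to that stage are flat. -/
theorem flat_appTop_π_of_isAffine (hc : IsLimit c) [∀ i, IsAffine (D.obj i)] [IsAffine c.pt]
    (i : I) (hf : ∀ (j : I) (φ : j ⟶ i), Flat (D.map φ)) :
    (c.π.app i).appTop.hom.Flat := by
  refine flat_of_ringHom_cover (J := Over i) (c.π.app i).appTop.hom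
    (fun j => Γ(D.obj j.left, ⊤)) (fun j => (D.map j.hom).appTop.hom)
    (fun j => (c.π.app j.left).appTop.hom) ?_ ?_ ?_ ?_ ?_
  · intro j
    rw [← CommRingCat.hom_comp, ← Scheme.Hom.comp_appTop, c.w]
  · intro j1 j2
    refine ⟨IsCofiltered.min j1 j2, (D.map (IsCofiltered.minToLeft j1 j2).left).appTop.hom,
      (D.map (IsCofiltered.minToRight j1 j2).left).appTop.hom, ?_, ?_, ?_, ?_⟩
    · rw [← CommRingCat.hom_comp, ← Scheme.Hom.comp_appTop, ← D.map_comp, Over.w]
    · rw [← CommRingCat.hom_comp, ← Scheme.Hom.comp_appTop, ← D.map_comp, Over.w]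
    · rw [← CommRingCat.hom_comp, ← Scheme.Hom.comp_appTop, c.w]
    · rw [← CommRingCat.hom_comp, ← Scheme.Hom.comp_appTop, c.w]
  · intro b
    obtain ⟨i', t, ht⟩ := exists_appTop_π_eq_of_isAffine_of_isLimit D c hc b
    refine ⟨Over.mk (IsCofiltered.minToRight i' i), (D.map (IsCofiltered.minToLeft i' i)).appTop t, ?_⟩
    rw [← ht]
    show ((D.map (IsCofiltered.minToLeft i' i)).appTop ≫ (c.π.app _).appTop) t = _
    rw [← Scheme.Hom.comp_appTop, c.w]
  · intro j s hs
    obtain ⟨k, f, hk⟩ := exists_appTop_map_eq_zero_of_isAffine_of_isLimit D c hc j.left s hs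
    refine ⟨Over.mk (f ≫ j.hom), (D.map f).appTop.hom, ?_, ?_, hk⟩
    · rw [← CommRingCat.hom_comp, ← Scheme.Hom.comp_appTop, ← D.map_comp]; rfl
    · rw [← CommRingCat.hom_comp, ← Scheme.Hom.comp_appTop, c.w]
  · intro j
    exact HasRingHomProperty.appTop (P := @Flat) _ (hf j.left j.hom)

set_option backward.isDefEq.respectTransparency false in
/-- General case: sections over the preimage of an affine open. -/
theorem flat_app_π_of_isAffineOpen [∀ {i j} (f : i ⟶ j), IsAffineHom (D.map f)] (hc : IsLimit c)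
    (i : I) (hf : ∀ (j : I) (φ : j ⟶ i), Flat (D.map φ)) (U : (D.obj i).Opens)
    (hU : IsAffineOpen U) : ((c.π.app i).app U).hom.Flat := by
  have : IsAffineHom (c.π.app i) := isAffineHom_π_app D c hc i
  have hD' : ∀ j : Over i, IsAffine ((opensDiagram D i U).obj j) :=
    fun j => hU.preimage (D.map _)
  have hc'pt : IsAffine (opensCone D c i U).pt := hU.preimage (c.π.app i)
  have hf' : ∀ (j : Over i) (φ : j ⟶ Over.mk (𝟙 i)), Flat ((opensDiagram D i U).map φ) := by
    intro j φ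
    exact IsZariskiLocalAtSource.resLE _ (hf j.left φ.left)
  have key := flat_appTop_π_of_isAffine (opensDiagram D i U)
    (opensCone D c i U) (isLimitOpensCone D c hc i U) (Over.mk (𝟙 i)) hf'
  have e1 : (D.map (𝟙 i) ⁻¹ᵁ U).ι ''ᵁ ⊤ = U := by simp
  have e2 : (c.π.app i ⁻¹ᵁ U).ι ''ᵁ ⊤ = c.π.app i ⁻¹ᵁ U := by simp
  have hEq : ((opensCone D c i U).π.app (Over.mk (𝟙 i))).appTop =
      (c.π.app i).appLE ((D.map (𝟙 i) ⁻¹ᵁ U).ι ''ᵁ ⊤) ((c.π.app i ⁻¹ᵁ U).ι ''ᵁ ⊤)
        (by simp) := by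
    change ((c.π.app i).resLE _ _ _).appTop = _
    rw [Scheme.Hom.appTop, Scheme.Hom.app_eq_appLE, Scheme.Hom.resLE_appLE]
    rfl
  rw [hEq] at key
  rw [Scheme.Hom.app_eq_appLE]
  exact (Scheme.Hom.appLE_congr (f := c.π.app i) _ e1 e2 (fun f => f.hom.Flat)).mp key

end Groth.Agent.H24
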