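import Mathlib

/-!
# The underlying space of a cofiltered limit of schemes with affine transition maps

For a cofiltered diagram `D` of schemes with affine transition maps and limit cone `c`, the
underlying topological space of `c.pt` is the limit of the underlying spaces.
The key point is surjectivity onto compatible families of points, which we get from
`Scheme.nonempty_of_isLimit` applied to the diagram of spectra of residue fields.
-/

set_option autoImplicit false
universe u
open CategoryTheory CategoryTheory.Limits AlgebraicGeometry

namespace Groth.Agent.H24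

section ResField

variable {I : Type u} [Category.{u} I] (D : I ⥤ Scheme.{u})
  (s : ∀ i, D.obj i) (hs : ∀ {i j : I} (f : i ⟶ j), D.map f (s i) = s j)

/-- The transition map `Spec κ(s i) ⟶ Spec κ(s j)` of the residue field diagram. -/
noncomputable def resFieldMap {i j : I} (f : i ⟶ j) :
    Spec ((D.obj i).residueField (s i)) ⟶ Spec ((D.obj j).residueField (s j)) :=
  Spec.map (((D.obj j).residueFieldCongr (hs f)).inv ≫ (D.map f).residueFieldMap (s i))

@[reassoc]
theorem resFieldMap_fromSpecResidueField {i j : I} (f : i ⟶ j) :
    resFieldMap D s hs f ≫ (D.obj j).fromSpecResidueField (s j) =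
      (D.obj i).fromSpecResidueField (s i) ≫ D.map f := by
  simp [resFieldMap]

/-- The diagram `i ↦ Spec κ(s i)` attached to a compatible family of points. -/
noncomputable def resFieldDiagram : I ⥤ Scheme.{u} where
  obj i := Spec ((D.obj i).residueField (s i))
  map f := resFieldMap D s hs f
  map_id i := by
    rw [← cancel_mono ((D.obj i).fromSpecResidueField (s i)),
      resFieldMap_fromSpecResidueField]
    simp
  map_comp {i j k} f g := by
    rw [← cancel_mono ((D.obj k).fromSpecResidueField (s k)),
      resFieldMap_fromSpecResidueField, Category.assoc, resFieldMap_fromSpecResidueField,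
      resFieldMap_fromSpecResidueField_assoc]
    simp

/-- The natural map from the residue field diagram to `D`. -/
noncomputable def resFieldDiagramι : resFieldDiagram D s hs ⟶ D where
  app i := (D.obj i).fromSpecResidueField (s i)
  naturality i j f := resFieldMap_fromSpecResidueField D s hs f

end ResField

section Main

variable {I : Type u} [Category.{u} I] [IsCofiltered I] (D : I ⥤ Scheme.{u})
  [∀ {i j} (f : i ⟶ j), IsAffineHom (D.map f)] (c : Cone D) (hc : IsLimit c)

include hc in
/-- Every compatible family of points of the `D i` comes from a point of the limit. -/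
theorem exists_point_of_compatible (s : ∀ i, D.obj i)
    (hs : ∀ {i j : I} (f : i ⟶ j), D.map f (s i) = s j) :
    ∃ x : c.pt, ∀ i, c.π.app i x = s i := by
  let F := resFieldDiagram D s hs
  have hF (i : I) : IsAffine (F.obj i) := inferInstanceAs (IsAffine (Spec _))
  have : ∀ {i j} (f : i ⟶ j), IsAffineHom (F.map f) := fun f => inferInstance
  have (i : I) : Nonempty (F.obj i) :=
    inferInstanceAs (Nonempty (Spec ((D.obj i).residueField (s i))))
  have (i : I) : CompactSpace (F.obj i) := inferInstance
  let e : F ⟶ (F ⋙ Scheme.Γ.rightOp) ⋙ Scheme.Spec := Functor.whiskerLeft F ΓSpec.adjunction.unit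
  have (i : _) : IsIso (e.app i) := IsAffine.affine
  have : IsIso e := NatIso.isIso_of_isIso_app e
  let c' : LimitCone F := ⟨_, (IsLimit.postcomposeInvEquiv (asIso e) _).symm
      (isLimitOfPreserves Scheme.Spec (limit.isLimit (F ⋙ Scheme.Γ.rightOp)))⟩
  obtain ⟨z⟩ := Scheme.nonempty_of_isLimit F c'.cone c'.isLimit
  let g : c'.cone.pt ⟶ c.pt := hc.lift ((Cone.postcompose (resFieldDiagramι D s hs)).obj c'.cone)
  refine ⟨g z, fun i => ?_⟩
  have : g ≫ c.π.app i = c'.cone.π.app i ≫ (D.obj i).fromSpecResidueField (s i) := hc.fac _ i
  rw [← Scheme.Hom.comp_apply, this, Scheme.Hom.comp_apply]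
  exact Scheme.fromSpecResidueField_apply (s i) _

include hc in
/-- Specialization in the limit is detected on the stages. -/
theorem specializes_iff_forall {x y : c.pt} :
    x ⤳ y ↔ ∀ i, c.π.app i x ⤳ c.π.app i y := by
  refine ⟨fun h i => h.map (c.π.app i).continuous, fun h => ?_⟩
  rw [specializes_iff_forall_open]
  intro U hU hy
  obtain ⟨_, ⟨_, ⟨i, V, hV, rfl⟩, rfl⟩, hyV, hVU⟩ :=
    (isBasis_preimage_isAffineOpen D c hc).exists_subset_of_mem_open hy hU
  exact hVU ((h i).mem_open V.2 hyV)

include hc in
/-- Points of the limit are determined by their images in the stages. -/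
theorem ext_point {x y : c.pt} (h : ∀ i, c.π.app i x = c.π.app i y) : x = y :=
  (((specializes_iff_forall D c hc).mpr fun i => (h i) ▸ specializes_rfl).antisymm
    ((specializes_iff_forall D c hc).mpr fun i => (h i) ▸ specializes_rfl)).eq

include hc in
/-- The topology of the limit is the initial topology for the projections. -/
theorem topology_eq_iInf :
    c.pt.carrier.str = ⨅ i, (D.obj i).carrier.str.induced (c.π.app i) := by
  refine le_antisymm (le_iInf fun i => continuous_iff_le_induced.mp (c.π.app i).continuous) ?_
  have := (isBasis_preimage_isAffineOpen D c hc).eq_generateFrom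
  change c.pt.carrier.str = _ at this
  rw [this]
  refine le_generateFrom ?_
  rintro _ ⟨_, ⟨i, V, hV, rfl⟩, rfl⟩
  exact IsOpen.mono (t₂ := (D.obj i).carrier.str.induced (c.π.app i))
    ⟨(V : Set (D.obj i)), V.2, rfl⟩ (iInf_le _ i)

include hc in
/-- The underlying space of a cofiltered limit of schemes with affine transition maps is the
limit of the underlying spaces. -/
theorem nonempty_isLimit_forgetToTop :
    Nonempty (IsLimit (Scheme.forgetToTop.mapCone c)) := by
  have h1 : Nonempty (IsLimit ((forget TopCat).mapCone (Scheme.forgetToTop.mapCone c))) := by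
    rw [Types.isLimit_iff]
    intro s hs
    obtain ⟨x, hx⟩ := exists_point_of_compatible D c hc s (fun f => hs f)
    exact ⟨x, hx, fun y hy => ext_point D c hc fun i => (hy i).trans (hx i).symm⟩
  obtain ⟨h1⟩ := h1
  rw [TopCat.nonempty_isLimit_iff_eq_induced _ h1]
  exact topology_eq_iInf D c hc

end Main

end Groth.Agent.H24
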