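import Mathlib
import Groth.Agent.H24.LimitTopLimit

/-!
# Maximal points and dense opens in cofiltered limits of schemes (EGA IV 8.4-ish)
-/

set_option autoImplicit false
universe u
open CategoryTheory CategoryTheory.Limits AlgebraicGeometry

namespace Groth.Agent.H24

section top

variable {X : Type*} [TopologicalSpace X]

/-- A point with no proper generization. -/
abbrev IsMaxPt (x : X) : Prop := ∀ z : X, z ⤳ x → z = x

/-- In a quasi-sober `T0` space every point has a maximal generization. -/
theorem exists_isMaxPt_specializes [QuasiSober X] [T0Space X] (x : X) :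
    ∃ m : X, m ⤳ x ∧ IsMaxPt m := by
  obtain ⟨η, hη⟩ := QuasiSober.sober (isIrreducible_irreducibleComponent (x := x))
    isClosed_irreducibleComponent
  refine ⟨η, ?_, ?_⟩
  · rw [specializes_iff_mem_closure, hη.def]
    exact mem_irreducibleComponent
  · intro z hz
    have hy : closure {η} ∈ irreducibleComponents X := by
      rw [hη.def]
      exact irreducibleComponent_mem_irreducibleComponents x
    have hsub : closure {η} ⊆ closure {z} := hz.closure_subset
    have hle : closure {z} ⊆ closure {η} := hy.2 (isIrreducible_singleton.closure) hsub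
    have : Inseparable z η := by
      rw [inseparable_iff_closure_eq]
      exact Set.Subset.antisymm hle hsub
    exact this.eq

/-- An open set containing all maximal points is dense. -/
theorem dense_of_forall_isMaxPt_mem [QuasiSober X] [T0Space X] {U : Set X}
    (h : ∀ m : X, IsMaxPt m → m ∈ U) : Dense U := by
  rw [dense_iff_inter_open]
  rintro W hW ⟨w, hw⟩
  obtain ⟨m, hmw, hm⟩ := exists_isMaxPt_specializes w
  exact ⟨m, hmw.mem_open hW hw, h m hm⟩

/-- If there are finitely many maximal points, a dense open set contains all of them. -/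
theorem isMaxPt_mem_of_dense [QuasiSober X] [T0Space X]
    (hfin : {m : X | IsMaxPt m}.Finite) {U : Set X} (hU : IsOpen U) (hd : Dense U) {m : X}
    (hm : IsMaxPt m) : m ∈ U := by
  classical
  let Z : Set X := ⋃ m' ∈ {m' : X | IsMaxPt m' ∧ m' ≠ m}, closure {m'}
  have hZ : IsClosed Z :=
    Set.Finite.isClosed_biUnion (hfin.subset fun _ h => h.1) fun _ _ => isClosed_closure
  have hmZ : m ∈ Zᶜ := by
    intro hmem
    simp only [Z, Set.mem_iUnion] at hmem
    obtain ⟨m', ⟨hm', hne⟩, hmm'⟩ := hmem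
    rw [← specializes_iff_mem_closure] at hmm'
    exact hne (hm m' hmm')
  obtain ⟨w, hwZ, hwU⟩ := hd.inter_open_nonempty _ hZ.isOpen_compl ⟨m, hmZ⟩
  obtain ⟨m'', hm''w, hm''⟩ := exists_isMaxPt_specializes w
  have : m'' = m := by
    by_contra hne
    refine hwZ ?_
    simp only [Z, Set.mem_iUnion]
    exact ⟨m'', ⟨hm'', hne⟩, specializes_iff_mem_closure.mp hm''w⟩
  subst this
  exact hm''w.mem_open hU hwU

end top

section Main

variable {I : Type u} [Category.{u} I] [IsCofiltered I] (D : I ⥤ Scheme.{u})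
  [∀ {i j} (f : i ⟶ j), IsAffineHom (D.map f)] (c : Cone D) (hc : IsLimit c)

include hc in
/-- A compatible system of nonempty finite sets of points contains the image of a point of the
limit. -/
theorem exists_point_mem_of_finite (B : ∀ i, Set (D.obj i)) (hfin : ∀ i, (B i).Finite)
    (hne : ∀ i, (B i).Nonempty)
    (hmap : ∀ {i j : I} (f : i ⟶ j), Set.MapsTo (D.map f) (B i) (B j)) :
    ∃ x : c.pt, ∀ i, c.π.app i x ∈ B i := by
  let G : I ⥤ Type u :=
    { obj i := ↥(B i)
      map f := ↾(hmap f).restrict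
      map_id i := by
        ext ⟨x, hx⟩
        simp [Set.MapsTo.restrict, Subtype.map]
      map_comp f g := by
        ext ⟨x, hx⟩
        simp [Set.MapsTo.restrict, Subtype.map] }
  have : ∀ i, Finite (G.obj i) := fun i => (hfin i).to_subtype
  have : ∀ i, Nonempty (G.obj i) := fun i => (hne i).to_subtype
  obtain ⟨m, hm⟩ := nonempty_sections_of_finite_cofiltered_system G
  obtain ⟨x, hx⟩ := exists_point_of_compatible D c hc (fun i => (m i).1)
    (fun {i j} f => congrArg Subtype.val (hm f))
  exact ⟨x, fun i => (hx i) ▸ (m i).2⟩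

include hc in
/-- If all images of `s` in the stages are maximal points, `s` is a maximal point. -/
theorem isMaxPt_of_forall (s : c.pt) (h : ∀ i, IsMaxPt (c.π.app i s)) : IsMaxPt s := by
  intro z hz
  exact ext_point D c hc fun i => h i _ (hz.map (c.π.app i).continuous)

include hc in
/-- If the stages have finitely many maximal points and the transition maps preserve maximal
points, then the projections send maximal points to maximal points. -/
theorem isMaxPt_app_of_isMaxPt
    (hfin : ∀ i : I, {s : D.obj i | IsMaxPt s}.Finite)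
    (hsys : ∀ {i j : I} (g : i ⟶ j) (s : D.obj i), IsMaxPt s → IsMaxPt (D.map g s))
    (s : c.pt) (hs : IsMaxPt s) (i : I) : IsMaxPt (c.π.app i s) := by
  obtain ⟨x, hx⟩ := exists_point_mem_of_finite D c hc
    (fun i => {m | IsMaxPt m ∧ m ⤳ c.π.app i s})
    (fun i => (hfin i).subset fun _ h => h.1)
    (fun i => by
      obtain ⟨m, h1, h2⟩ := exists_isMaxPt_specializes (c.π.app i s)
      exact ⟨m, h2, h1⟩)
    (fun {i j} f m hm => ⟨hsys f m hm.1, by
      have := hm.2.map (D.map f).continuous
      rwa [← Scheme.Hom.comp_apply, c.w] at this⟩)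
  have h1 : x ⤳ s := (specializes_iff_forall D c hc).mpr fun i => (hx i).2
  have h2 := hs x h1
  subst h2
  exact (hx i).1

include hc in
/-- If `V₀` is dense in `D i₀`, so are its preimages in all `D i` over `i₀` and in the limit. -/
theorem dense_preimage_of_dense
    (hfin : ∀ i : I, {s : D.obj i | IsMaxPt s}.Finite)
    (hsys : ∀ {i j : I} (g : i ⟶ j) (s : D.obj i), IsMaxPt s → IsMaxPt (D.map g s))
    (i₀ : I) (V₀ : (D.obj i₀).Opens) (hd : Dense (V₀ : Set (D.obj i₀))) :
    (∀ (i : I) (g : i ⟶ i₀), Dense ((D.map g ⁻¹ᵁ V₀ : (D.obj i).Opens) : Set (D.obj i))) ∧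
      Dense ((c.π.app i₀ ⁻¹ᵁ V₀ : c.pt.Opens) : Set c.pt) := by
  constructor
  · intro i g
    refine dense_of_forall_isMaxPt_mem fun m hm => ?_
    exact isMaxPt_mem_of_dense (hfin i₀) V₀.2 hd (hsys g m hm)
  · refine dense_of_forall_isMaxPt_mem fun m hm => ?_
    exact isMaxPt_mem_of_dense (hfin i₀) V₀.2 hd
      (isMaxPt_app_of_isMaxPt D c hc hfin hsys m hm i₀)

include hc in
/-- If the preimage of `V₀` is dense in the limit and the limit has finitely many maximal points,
then the preimage of `V₀` is dense in some stage. -/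
theorem exists_dense_preimage_of_dense
    (hfin : ∀ i : I, {s : D.obj i | IsMaxPt s}.Finite)
    (hsys : ∀ {i j : I} (g : i ⟶ j) (s : D.obj i), IsMaxPt s → IsMaxPt (D.map g s))
    (i₀ : I) (V₀ : (D.obj i₀).Opens)
    (hd : Dense ((c.π.app i₀ ⁻¹ᵁ V₀ : c.pt.Opens) : Set c.pt))
    (hfinc : {s : c.pt | IsMaxPt s}.Finite) :
    ∃ (i : I) (g : i ⟶ i₀), Dense ((D.map g ⁻¹ᵁ V₀ : (D.obj i).Opens) : Set (D.obj i)) := by
  by_contra! H
  have hne : ∀ j : Over i₀,
      {m : D.obj j.left | IsMaxPt m ∧ D.map j.hom m ∉ V₀}.Nonempty := by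
    intro j
    by_contra hemp
    rw [Set.not_nonempty_iff_eq_empty] at hemp
    refine H j.left j.hom (dense_of_forall_isMaxPt_mem fun m hm => ?_)
    by_contra hmV
    have : m ∈ ({m : D.obj j.left | IsMaxPt m ∧ D.map j.hom m ∉ V₀} : Set _) := ⟨hm, hmV⟩
    rw [hemp] at this
    exact this
  have : ∀ {i j : Over i₀} (f : i ⟶ j), IsAffineHom ((Over.forget i₀ ⋙ D).map f) := by
    intro i j f
    dsimp
    infer_instance
  obtain ⟨x, hx⟩ := exists_point_mem_of_finite (Over.forget i₀ ⋙ D)
    (c.whisker (Over.forget i₀))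
    ((Functor.Initial.isLimitWhiskerEquiv (Over.forget i₀) c).symm hc)
    (fun j => {m : D.obj j.left | IsMaxPt m ∧ D.map j.hom m ∉ V₀})
    (fun j => (hfin j.left).subset fun _ h => h.1) hne
    (fun {i j} f m hm => ⟨hsys f.left m hm.1, by
      change ¬ (D.map j.hom (D.map f.left m) ∈ V₀)
      rw [← Scheme.Hom.comp_apply, ← D.map_comp, Over.w f]
      exact hm.2⟩)
  have hx' : ∀ j : Over i₀, IsMaxPt (c.π.app j.left x) ∧ D.map j.hom (c.π.app j.left x) ∉ V₀ :=
    hx
  have hxmax : IsMaxPt (x : c.pt) := by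
    refine isMaxPt_of_forall D c hc x fun i => ?_
    have h1 : IsMaxPt (c.π.app (IsCofiltered.min i i₀) x) :=
      (hx' (Over.mk (IsCofiltered.minToRight i i₀))).1
    have h2 := hsys (IsCofiltered.minToLeft i i₀) _ h1
    rwa [← Scheme.Hom.comp_apply, c.w] at h2
  have h3 : x ∈ (c.π.app i₀ ⁻¹ᵁ V₀ : c.pt.Opens) :=
    isMaxPt_mem_of_dense hfinc (c.π.app i₀ ⁻¹ᵁ V₀).2 hd hxmax
  have h4 : ¬ (D.map (𝟙 i₀) (c.π.app i₀ x) ∈ V₀) := (hx' (Over.mk (𝟙 i₀))).2
  rw [D.map_id] at h4
  exact h4 h3

end Main

end Groth.Agent.H24
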