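import Mathlib
import Groth.Agent.H24.AffineOpenHom

/-!
# Limit preserving ⇒ locally of finite presentation: the system of spectra (helper24)
-/

set_option autoImplicit false
universe u
open CategoryTheory CategoryTheory.Limits AlgebraicGeometry Opposite

namespace Groth.Agent.H24

section SpecSys

variable {S : Scheme.{u}} {U : S.Opens} (hU : IsAffineOpen U)
  {J : Type u} [Category.{u} J] (F : J ⥤ Under Γ(S, U))

/-- The system of affine `U`-schemes attached to a system of `Γ(S,U)`-algebras. -/
noncomputable def specSystem : Jᵒᵖ ⥤ Over (U : Scheme.{u}) where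
  obj j := Over.mk (Spec.map (F.obj j.unop).hom ≫ hU.isoSpec.inv)
  map g := Over.homMk (Spec.map (F.map g.unop).right) (by
    dsimp
    rw [← Category.assoc, ← Spec.map_comp, Under.w])
  map_id j := by
    ext
    change Spec.map (F.map (𝟙 j).unop).right = 𝟙 _
    rw [unop_id, F.map_id]
    exact Spec.map_id _
  map_comp g g' := by
    ext
    change Spec.map (F.map (g ≫ g').unop).right =
      Spec.map (F.map g.unop).right ≫ Spec.map (F.map g'.unop).right
    rw [unop_comp, F.map_comp]
    exact Spec.map_comp _ _

/-- The cone over the system of spectra attached to a cocone of algebras. -/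
noncomputable def specCone (c : Cocone F) : Cone (specSystem hU F) where
  pt := Over.mk (Spec.map c.pt.hom ≫ hU.isoSpec.inv)
  π :=
    { app := fun j => Over.homMk (Spec.map (c.ι.app j.unop).right) (by
        dsimp [specSystem]
        rw [← Category.assoc, ← Spec.map_comp, Under.w])
      naturality := fun j j' g => by
        ext
        change 𝟙 _ ≫ Spec.map (c.ι.app j'.unop).right =
          Spec.map (c.ι.app j.unop).right ≫ Spec.map (F.map g.unop).right
        rw [Category.id_comp, ← Spec.map_comp, ← Under.comp_right, c.w] }

end SpecSys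

section Limit

variable {S : Scheme.{u}} {U : S.Opens} (hU : IsAffineOpen U)
  {J : Type u} [Category.{u} J] [IsFiltered J] (F : J ⥤ Under Γ(S, U))

attribute [local instance] IsFiltered.isConnected in
set_option backward.isDefEq.respectTransparency false in
/-- The cone of spectra attached to a colimit cocone is a limit cone in `Over S`. -/
noncomputable def isLimitMapConeSpecCone (c : Cocone F) (hc : IsColimit c) :
    IsLimit ((Over.map U.ι).mapCone (specCone hU F c)) := by
  have : IsConnected Jᵒᵖ := inferInstance
  apply isLimitOfReflects (Over.forget S)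
  have h1 : IsColimit ((Under.forget _).mapCocone c) := isColimitOfPreserves _ hc
  have h2 : IsLimit (Scheme.Spec.mapCone ((Under.forget _).mapCocone c).op) :=
    isLimitOfPreserves _ h1.op
  exact h2

end Limit

end Groth.Agent.H24

namespace Groth.Agent.H24

section Main

variable {X S : Scheme.{u}} (f : X ⟶ S) {U : S.Opens} (hU : IsAffineOpen U) {V : X.Opens}
  (hV : IsAffineOpen V) (e : V ≤ f ⁻¹ᵁ U)
  {J : Type u} [Preorder J] [IsDirected J (· ≤ ·)] [Nonempty J] (F : J ⥤ Under Γ(S, U))

/-- The scheme-valued diagram of spectra. -/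
noncomputable abbrev specDiag : Jᵒᵖ ⥤ Scheme.{u} := (specSystem hU F ⋙ Over.map U.ι) ⋙ Over.forget S

instance (j : Jᵒᵖ) : IsAffine ((specDiag hU F).obj j) := by
  change IsAffine (Spec _)
  infer_instance

instance {j j' : Jᵒᵖ} (g : j ⟶ j') : IsAffineHom ((specDiag hU F).map g) := by
  change IsAffineHom (Spec.map _)
  infer_instance

/-- The morphism over `S` attached to an algebra map out of `Γ(X, V)`. -/
noncomputable def overHomOfUnderHom {R : Under Γ(S, U)} (x : Under.mk (f.appLE U V e) ⟶ R) :
    (Over.map U.ι).obj (Over.mk (Spec.map R.hom ≫ hU.isoSpec.inv)) ⟶ Over.mk f :=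
  Over.homMk (toHomOfAffineOpen hV x.right) (by
    change toHomOfAffineOpen hV x.right ≫ f = (Spec.map R.hom ≫ hU.isoSpec.inv) ≫ U.ι
    rw [toHomOfAffineOpen_comp_hom hV f hU e, Category.assoc]
    have := Under.w x
    change f.appLE U V e ≫ x.right = R.hom at this
    rw [this]
    rfl)

theorem overHomOfUnderHom_left {R : Under Γ(S, U)} (x : Under.mk (f.appLE U V e) ⟶ R) :
    (overHomOfUnderHom f hU hV e x).left = toHomOfAffineOpen hV x.right := rfl

end Main

end Groth.Agent.H24
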