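import Mathlib
import Groth.Agent.H24.LimitPreservingLFP

/-!
# Limit preserving ⇒ locally of finite presentation: transfer of the colimit condition (helper24)
-/

set_option autoImplicit false
universe u
open CategoryTheory CategoryTheory.Limits AlgebraicGeometry Opposite

namespace Groth.Agent.H24

variable {X S : Scheme.{u}} (f : X ⟶ S) {U : S.Opens} (hU : IsAffineOpen U) {V : X.Opens}
  (hV : IsAffineOpen V) (e : V ≤ f ⁻¹ᵁ U)
  {J : Type u} [Preorder J] [IsDirected J (· ≤ ·)] [Nonempty J] (F : J ⥤ Under Γ(S, U))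

include hV in
attribute [local instance] IsFiltered.isConnected in
set_option backward.isDefEq.respectTransparency false in
theorem preservesColimit_coyoneda_of_preservesColimit_yoneda
    [PreservesColimit (specSystem hU F ⋙ Over.map U.ι).op (yoneda.obj (Over.mk f))] :
    PreservesColimit F (coyoneda.obj (op (Under.mk (f.appLE U V e)))) := by
  have hfil : IsFiltered J := inferInstance
  have hconn : IsConnected Jᵒᵖ := inferInstance
  let c := colimit.cocone F
  have hc : IsColimit c := colimit.isColimit F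
  let cone := (Over.map U.ι).mapCone (specCone hU F c)
  have hlim : IsLimit cone := isLimitMapConeSpecCone hU F c hc
  have hT : IsColimit ((yoneda.obj (Over.mk f)).mapCocone cone.op) :=
    isColimitOfPreserves _ hlim.op
  have hlimS : IsLimit ((Over.forget S).mapCone cone) := isLimitOfPreserves _ hlim
  apply preservesColimit_of_preserves_colimit_cocone hc
  apply Types.FilteredColimit.isColimitOf'
  · intro (x : Under.mk (f.appLE U V e) ⟶ c.pt)
    let m : cone.pt ⟶ Over.mk f := overHomOfUnderHom f hU hV e x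
    obtain ⟨jj, mj, hmj⟩ := Types.jointly_surjective_of_isColimit hT m
    obtain ⟨j, rfl⟩ : ∃ j : J, jj = op (op j) := ⟨jj.unop.unop, rfl⟩
    change cone.π.app (op j) ≫ mj = m at hmj
    have hleft : Spec.map (c.ι.app j).right ≫ mj.left = toHomOfAffineOpen hV x.right :=
      congrArg (·.left) hmj
    let W : ((specDiag hU F).obj (op j)).Opens := mj.left ⁻¹ᵁ V
    have hW : ((Over.forget S).mapCone cone).π.app (op j) ⁻¹ᵁ W = ⊤ := by
      change (Spec.map (c.ι.app j).right) ⁻¹ᵁ (mj.left ⁻¹ᵁ V) = ⊤
      rw [← Scheme.Hom.comp_preimage, hleft]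
      exact toHomOfAffineOpen_preimage hV _
    obtain ⟨kk, g, hk⟩ := exists_map_eq_top (specDiag hU F) _ hlimS W hW
    obtain ⟨k, rfl⟩ : ∃ k : J, kk = op k := ⟨kk.unop, rfl⟩
    have hmk : ((specDiag hU F).map g ≫ mj.left) ⁻¹ᵁ V = ⊤ := by
      rw [Scheme.Hom.comp_preimage]; exact hk
    obtain ⟨y, hy⟩ := exists_toHomOfAffineOpen_eq hV ((specDiag hU F).map g ≫ mj.left) hmk
    have hmjw : mj.left ≫ f = (Spec.map (F.obj j).hom ≫ hU.isoSpec.inv) ≫ U.ι := Over.w mj
    have hyU : f.appLE U V e ≫ y = (F.obj k).hom := by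
      apply toHomOfAffineOpen_injective hU
      rw [← toHomOfAffineOpen_comp_hom hV f hU e, hy, Category.assoc, hmjw]
      change Spec.map (F.map g.unop).right ≫ (Spec.map (F.obj j).hom ≫ hU.isoSpec.inv) ≫ U.ι = _
      rw [← Category.assoc, ← Category.assoc, ← Spec.map_comp, Under.w, Category.assoc]
      rfl
    refine ⟨k, Under.homMk y hyU, ?_⟩
    apply Under.UnderMorphism.ext
    apply toHomOfAffineOpen_injective hV
    change toHomOfAffineOpen hV x.right = toHomOfAffineOpen hV (y ≫ (c.ι.app k).right)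
    rw [toHomOfAffineOpen_comp, hy, ← hleft]
    change _ = Spec.map (c.ι.app k).right ≫ Spec.map (F.map g.unop).right ≫ mj.left
    rw [← Category.assoc, ← Spec.map_comp, ← Under.comp_right, c.w]
  · intro ii (x : Under.mk (f.appLE U V e) ⟶ F.obj ii) (y : Under.mk (f.appLE U V e) ⟶ F.obj ii) hxy
    change x ≫ c.ι.app ii = y ≫ c.ι.app ii at hxy
    let mx : (specSystem hU F ⋙ Over.map U.ι).obj (op ii) ⟶ Over.mk f :=
      overHomOfUnderHom f hU hV e x
    let my : (specSystem hU F ⋙ Over.map U.ι).obj (op ii) ⟶ Over.mk f :=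
      overHomOfUnderHom f hU hV e y
    have h1 : cone.π.app (op ii) ≫ mx = cone.π.app (op ii) ≫ my := by
      ext
      change Spec.map (c.ι.app ii).right ≫ toHomOfAffineOpen hV x.right =
        Spec.map (c.ι.app ii).right ≫ toHomOfAffineOpen hV y.right
      rw [← toHomOfAffineOpen_comp, ← toHomOfAffineOpen_comp, ← Under.comp_right,
        ← Under.comp_right, hxy]
    obtain ⟨kk, a, b, hab⟩ := (Types.FilteredColimit.isColimit_eq_iff _ hT
      (i := op (op ii)) (j := op (op ii)) (xi := mx) (xj := my)).mp h1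
    obtain ⟨k, rfl⟩ : ∃ k : J, kk = op (op k) := ⟨kk.unop.unop, rfl⟩
    have hab' : b.unop.unop = a.unop.unop := Subsingleton.elim _ _
    change (specSystem hU F ⋙ Over.map U.ι).map a.unop ≫ mx =
      (specSystem hU F ⋙ Over.map U.ι).map b.unop ≫ my at hab
    have hab2 := congrArg (·.left) hab
    change Spec.map (F.map a.unop.unop).right ≫ toHomOfAffineOpen hV x.right =
      Spec.map (F.map b.unop.unop).right ≫ toHomOfAffineOpen hV y.right at hab2
    rw [hab'] at hab2
    refine ⟨k, a.unop.unop, ?_⟩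
    apply Under.UnderMorphism.ext
    apply toHomOfAffineOpen_injective hV
    change toHomOfAffineOpen hV (x.right ≫ (F.map a.unop.unop).right) =
      toHomOfAffineOpen hV (y.right ≫ (F.map a.unop.unop).right)
    rw [toHomOfAffineOpen_comp, toHomOfAffineOpen_comp]
    exact hab2

end Groth.Agent.H24
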