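import Mathlib
import Groth.Agent.H24.DirColimUnder
import Groth.Agent.H24.LimitPreservingLFP

/-!
# Surjectivity of the colimit comparison suffices for finite presentation (helper24)
-/

set_option autoImplicit false
universe u
open CategoryTheory CategoryTheory.Limits AlgebraicGeometry Opposite

namespace Groth.Agent.H24

/-- If every algebra map from `B` to a directed colimit of `A`-algebras factors through a stage,
then `B` is a finitely presented `A`-algebra. -/
theorem finitePresentation_of_forall_exists_factor {A B : CommRingCat.{u}} (f : A ⟶ B)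
    (h : ∀ (J : Type u) [Preorder J] [IsDirected J (· ≤ ·)] [Nonempty J] (F : J ⥤ Under A)
      (c : Cocone F) (_ : IsColimit c) (x : Under.mk f ⟶ c.pt),
      ∃ (i : J) (s : Under.mk f ⟶ F.obj i), s ≫ c.ι.app i = x) :
    f.hom.FinitePresentation := by
  classical
  let alg : Algebra A B := f.hom.toAlgebra
  -- Step 1: `B` is of finite type.
  have hft : Algebra.FiniteType A B := by
    let J₁ := {B' : Subalgebra A B // B'.FG}
    have : Nonempty J₁ := ⟨⟨⊥, Subalgebra.fg_bot⟩⟩
    have : IsDirected J₁ (· ≤ ·) := ⟨fun a b =>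
      ⟨⟨a.1 ⊔ b.1, a.2.sup b.2⟩, (le_sup_left : a.1 ≤ a.1 ⊔ b.1), (le_sup_right : b.1 ≤ a.1 ⊔ b.1)⟩⟩
    let F₁ : J₁ ⥤ Under A :=
      { obj := fun B' => Under.mk (CommRingCat.ofHom (algebraMap A B'.1))
        map := fun {X Y} g => Under.homMk
          (CommRingCat.ofHom (Subalgebra.inclusion (show X.1 ≤ Y.1 from leOfHom g)).toRingHom)
          (by ext x; rfl)
        map_id := fun X => by ext x; rfl
        map_comp := fun g g' => by ext x; rfl }
    let c₁ : Limits.Cocone F₁ :=
      { pt := Under.mk f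
        ι := { app := fun B' => Under.homMk (CommRingCat.ofHom B'.1.val.toRingHom) (by ext x; rfl)
               naturality := fun X Y g => by ext x; rfl } }
    obtain ⟨hc₁⟩ : Nonempty (Limits.IsColimit c₁) := by
      apply Groth.Agent.H24.isColimit_under_of_directed
      · intro (b : B)
        exact ⟨⟨Algebra.adjoin A {b}, Subalgebra.fg_def.mpr ⟨{b}, Set.finite_singleton b, rfl⟩⟩,
          ⟨b, Algebra.subset_adjoin (Set.mem_singleton b)⟩, rfl⟩
      · intro i x y hxy
        exact ⟨i, le_rfl, by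
          have : x = y := Subtype.ext hxy
          rw [this]⟩
    obtain ⟨i, s, hs⟩ := h J₁ F₁ c₁ hc₁ (𝟙 _)
    have htop : i.1 = ⊤ := by
      rw [eq_top_iff]
      intro b _
      have := congr_arg (fun g => g.right.hom b) hs
      have hb : i.1.val (s.right.hom b) = b := this
      rw [← hb]
      exact Subtype.property _
    exact ⟨htop ▸ i.2⟩
  -- Step 2: present `B` as a quotient of a polynomial ring and approximate the kernel.
  obtain ⟨n, π, hπ⟩ := Algebra.FiniteType.iff_quotient_mvPolynomial''.mp hft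
  let P := MvPolynomial (Fin n) A
  let I : Ideal P := RingHom.ker π.toRingHom
  let J₂ := {I' : Ideal P // I'.FG ∧ I' ≤ I}
  have : Nonempty J₂ := ⟨⟨⊥, Submodule.fg_bot, bot_le⟩⟩
  have : IsDirected J₂ (· ≤ ·) := ⟨fun a b =>
    ⟨⟨a.1 ⊔ b.1, Submodule.FG.sup a.2.1 b.2.1, sup_le a.2.2 b.2.2⟩,
      (le_sup_left : a.1 ≤ a.1 ⊔ b.1), (le_sup_right : b.1 ≤ a.1 ⊔ b.1)⟩⟩
  let q : ∀ I' : J₂, (P ⧸ I'.1) →ₐ[A] B := fun I' =>
    Ideal.Quotient.liftₐ I'.1 π (fun a ha => I'.2.2 ha)
  let F₂ : J₂ ⥤ Under A :=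
    { obj := fun I' => Under.mk (CommRingCat.ofHom (algebraMap A (P ⧸ I'.1)))
      map := fun {X Y} g => Under.homMk
        (CommRingCat.ofHom (Ideal.Quotient.factor (show X.1 ≤ Y.1 from leOfHom g)))
        (by ext x; rfl)
      map_id := fun X => by
        ext x
        obtain ⟨x, rfl⟩ := Ideal.Quotient.mk_surjective x
        rfl
      map_comp := fun g g' => by
        ext x
        obtain ⟨x, rfl⟩ := Ideal.Quotient.mk_surjective x
        rfl }
  let c₂ : Limits.Cocone F₂ :=
    { pt := Under.mk f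
      ι := { app := fun I' => Under.homMk (CommRingCat.ofHom (q I').toRingHom)
               (by ext x; exact (q I').commutes x)
             naturality := fun X Y g => by
               ext x
               obtain ⟨x, rfl⟩ := Ideal.Quotient.mk_surjective x
               rfl } }
  obtain ⟨hc₂⟩ : Nonempty (Limits.IsColimit c₂) := by
    apply Groth.Agent.H24.isColimit_under_of_directed
    · intro (b : B)
      obtain ⟨p, rfl⟩ := hπ b
      exact ⟨⟨⊥, Submodule.fg_bot, bot_le⟩, Ideal.Quotient.mk _ p, rfl⟩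
    · intro i x y hxy
      obtain ⟨p, rfl⟩ := Ideal.Quotient.mk_surjective x
      obtain ⟨p', rfl⟩ := Ideal.Quotient.mk_surjective y
      have hpp : p - p' ∈ I := by
        have : π p = π p' := hxy
        change π (p - p') = 0
        rw [map_sub, this, sub_self]
      refine ⟨⟨i.1 ⊔ Ideal.span {p - p'}, Submodule.FG.sup i.2.1 ⟨{p - p'}, by simp⟩,
        sup_le i.2.2 ((Ideal.span_singleton_le_iff_mem _).mpr hpp)⟩,
        (le_sup_left : i.1 ≤ i.1 ⊔ Ideal.span {p - p'}), ?_⟩
      change Ideal.Quotient.mk _ p = Ideal.Quotient.mk _ p'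
      rw [Ideal.Quotient.eq]
      exact Ideal.mem_sup_right (Ideal.mem_span_singleton_self _)
  obtain ⟨i, s, hs⟩ := h J₂ F₂ c₂ hc₂ (𝟙 _)
  -- the section as an algebra map
  let s' : B →ₐ[A] (P ⧸ i.1) :=
    { s.right.hom with
      commutes' := fun a => by
        have := congr_arg (fun g => g.hom a) (Under.w s)
        exact this }
  have hqs : ∀ b, q i (s' b) = b := by
    intro b
    have := congr_arg (fun g => g.right.hom b) hs
    exact this
  have : Algebra.FinitePresentation A (P ⧸ i.1) := Algebra.FinitePresentation.quotient i.2.1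
  exact Groth.Agent.H24.finitePresentation_of_retract (q i) s' hqs

end Groth.Agent.H24

namespace Groth.Agent.H24

variable {X S : Scheme.{u}} (f : X ⟶ S) {U : S.Opens} (hU : IsAffineOpen U) {V : X.Opens}
  (hV : IsAffineOpen V) (e : V ≤ f ⁻¹ᵁ U)

include hU hV in
attribute [local instance] IsFiltered.isConnected in
set_option backward.isDefEq.respectTransparency false in
/-- Transfer of the surjectivity condition from schemes to rings. -/
theorem exists_factor_of_surj
    (h : ∀ (J : Type u) [Preorder J] [IsDirected J (· ≤ ·)] [Nonempty J] (D : Jᵒᵖ ⥤ Scheme.{u})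
      (t : D ⟶ (Functor.const Jᵒᵖ).obj S) (c : Limits.Cone D) (_ : Limits.IsLimit c),
      (∀ j, IsAffine (D.obj j)) → ∀ (j₀ : Jᵒᵖ) (g : c.pt ⟶ X), g ≫ f = c.π.app j₀ ≫ t.app j₀ →
        ∃ (j : Jᵒᵖ) (gj : D.obj j ⟶ X), gj ≫ f = t.app j ∧ c.π.app j ≫ gj = g)
    {J : Type u} [Preorder J] [IsDirected J (· ≤ ·)] [Nonempty J] (F : J ⥤ Under Γ(S, U))
    (c : Cocone F) (hc : IsColimit c) (x : Under.mk (f.appLE U V e) ⟶ c.pt) :
    ∃ (k : J) (y : Under.mk (f.appLE U V e) ⟶ F.obj k), y ≫ c.ι.app k = x := by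
  have hfil : IsFiltered J := inferInstance
  have hconn : IsConnected Jᵒᵖ := inferInstance
  let cone := (Over.map U.ι).mapCone (specCone hU F c)
  have hlim : IsLimit cone := isLimitMapConeSpecCone hU F c hc
  have hlimS : IsLimit ((Over.forget S).mapCone cone) := isLimitOfPreserves _ hlim
  let m : cone.pt ⟶ Over.mk f := overHomOfUnderHom f hU hV e x
  let t : specDiag hU F ⟶ (Functor.const Jᵒᵖ).obj S :=
    { app := fun j => ((specSystem hU F ⋙ Over.map U.ι).obj j).hom
      naturality := fun j j' g => by simp }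
  let j₀ : Jᵒᵖ := op (Classical.arbitrary J)
  have hm : m.left ≫ f = ((Over.forget S).mapCone cone).π.app j₀ ≫ t.app j₀ := by
    have h1 := Over.w m
    have h2 := Over.w (cone.π.app j₀)
    change m.left ≫ f = cone.pt.hom at h1
    change (cone.π.app j₀).left ≫ ((specSystem hU F ⋙ Over.map U.ι).obj j₀).hom = cone.pt.hom at h2
    rw [h1, ← h2]
    rfl
  obtain ⟨jj, gj, hgj1, hgj2⟩ := h J (specDiag hU F) t _ hlimS (fun j => inferInstance) j₀ m.left hm
  obtain ⟨j, rfl⟩ : ∃ j : J, jj = op j := ⟨jj.unop, rfl⟩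
  have hleft : Spec.map (c.ι.app j).right ≫ gj = toHomOfAffineOpen hV x.right := hgj2
  let W : ((specDiag hU F).obj (op j)).Opens := gj ⁻¹ᵁ V
  have hW : ((Over.forget S).mapCone cone).π.app (op j) ⁻¹ᵁ W = ⊤ := by
    change (Spec.map (c.ι.app j).right) ⁻¹ᵁ (gj ⁻¹ᵁ V) = ⊤
    rw [← Scheme.Hom.comp_preimage, hleft]
    exact toHomOfAffineOpen_preimage hV _
  obtain ⟨kk, g, hk⟩ := exists_map_eq_top (specDiag hU F) _ hlimS W hW
  obtain ⟨k, rfl⟩ : ∃ k : J, kk = op k := ⟨kk.unop, rfl⟩
  have hmk : ((specDiag hU F).map g ≫ gj) ⁻¹ᵁ V = ⊤ := by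
    rw [Scheme.Hom.comp_preimage]; exact hk
  obtain ⟨y, hy⟩ := exists_toHomOfAffineOpen_eq hV ((specDiag hU F).map g ≫ gj) hmk
  have hmjw : gj ≫ f = (Spec.map (F.obj j).hom ≫ hU.isoSpec.inv) ≫ U.ι := hgj1
  have hyU : f.appLE U V e ≫ y = (F.obj k).hom := by
    apply toHomOfAffineOpen_injective hU
    rw [← toHomOfAffineOpen_comp_hom hV f hU e, hy, Category.assoc, hmjw]
    change Spec.map (F.map g.unop).right ≫ (Spec.map (F.obj j).hom ≫ hU.isoSpec.inv) ≫ U.ι = _
    rw [← Category.assoc, ← Category.assoc, ← Spec.map_comp, Under.w, Category.assoc]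
    rfl
  refine ⟨k, Under.homMk y hyU, ?_⟩
  apply Under.UnderMorphism.ext
  apply toHomOfAffineOpen_injective hV
  change toHomOfAffineOpen hV (y ≫ (c.ι.app k).right) = toHomOfAffineOpen hV x.right
  rw [toHomOfAffineOpen_comp, hy, ← hleft]
  change Spec.map (c.ι.app k).right ≫ Spec.map (F.map g.unop).right ≫ gj = _
  rw [← Category.assoc, ← Spec.map_comp, ← Under.comp_right, c.w]

end Groth.Agent.H24
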