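import Mathlib
import Groth.Agent.H24.LimitCons
import Groth.Agent.H17.ProConsScheme

/-!
# Pro-constructible sets and cofiltered limits of schemes with affine transition maps
-/

set_option autoImplicit false
universe u
open CategoryTheory CategoryTheory.Limits AlgebraicGeometry Topology Set Set.Notation

namespace Groth.Agent.H24

open Groth.Agent.H17

theorem isIndConstructible_empty {X : Type*} [TopologicalSpace X] :
    ProCons.IsIndConstructible (∅ : Set X) := by
  intro x
  refine ⟨univ, isOpen_univ, trivial, ∅, by simp, by simp⟩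

/-- The complement of an ind-constructible subset of a scheme is pro-constructible. -/
theorem isProConstructible_compl {X : Scheme.{u}} {F : Set X} (hF : ProCons.IsIndConstructible F) :
    ProCons.IsProConstructible Fᶜ := by
  apply pro_of_consClosed_restrict (goodBasis_scheme X)
  intro x
  obtain ⟨W, hW, hxW⟩ := (goodBasis_scheme X).exists_mem x
  refine ⟨W, hW, hxW, ?_⟩
  have := consOpen_restrict_of_ind (goodBasis_scheme X) hF hW
  rw [preimage_compl, ← consOpen_iff_compl]
  exact this

/-- The intersection of two pro-constructible subsets of a scheme is pro-constructible. -/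
theorem isProConstructible_inter {X : Scheme.{u}} {E F : Set X}
    (hE : ProCons.IsProConstructible E) (hF : ProCons.IsProConstructible F) :
    ProCons.IsProConstructible (E ∩ F) := by
  apply pro_of_consClosed_restrict (goodBasis_scheme X)
  intro x
  obtain ⟨W, hW, hxW⟩ := (goodBasis_scheme X).exists_mem x
  refine ⟨W, hW, hxW, ?_⟩
  have h1 := consClosed_restrict_of_pro (goodBasis_scheme X) hE hW
  have h2 := consClosed_restrict_of_pro (goodBasis_scheme X) hF hW
  rw [preimage_inter]
  exact h1.inter h2

/-- The preimage of a pro-constructible subset under a morphism of schemes is pro-constructible. -/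
theorem isProConstructible_preimage {X Y : Scheme.{u}} (f : X ⟶ Y) {T : Set Y}
    (hT : ProCons.IsProConstructible T) : ProCons.IsProConstructible (f.base ⁻¹' T) := by
  apply pro_of_consClosed_restrict (goodBasis_scheme X)
  intro x
  obtain ⟨W, hW, hxW⟩ := (goodBasis_scheme Y).exists_mem (f.base x)
  obtain ⟨W', hW', hxW', hW'W⟩ := (goodBasis_scheme X).basis x (f.base ⁻¹' W)
    (((goodBasis_scheme Y).isOpen W hW).preimage f.continuous) hxW
  refine ⟨W', hW', hxW', ?_⟩
  have hmaps : MapsTo f.base W' W := hW'W
  have hsp := isSpectralMap_restrict f W' W hmaps hW' hW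
  have hcl := consClosed_restrict_of_pro (goodBasis_scheme Y) hT hW
  have := (goodBasis_scheme X).spectralSpace hW'
  have := (goodBasis_scheme Y).spectralSpace hW
  exact ConsClosed.preimage hsp hcl

/-- In a scheme, a point in the closure of a pro-constructible set is a specialization of a point
of the set (same proof as `Groth.Agent.H73.SubtrProCons.exists_specializes_of_mem_closure`). -/
theorem exists_specializes_of_mem_closure {X : Scheme.{u}} {Z : Set X}
    (hZ : ProCons.IsProConstructible Z) {y : X} (hy : y ∈ closure Z) : ∃ z ∈ Z, z ⤳ y := by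
  have hB := goodBasis_scheme X
  obtain ⟨W, hW, hyW⟩ := hB.exists_mem y
  have := hB.spectralSpace hW
  have hcons : ConsClosed (W ↓∩ Z) := consClosed_restrict_of_pro hB hZ hW
  obtain ⟨z, hzZ, hz⟩ := exists_specializes_of_forall_nhd hcons (⟨y, hyW⟩ : ↥W) (by
    intro V hVo _ hyV
    have h1 : IsOpen (Subtype.val '' V) := (hB.isOpen _ hW).isOpenMap_subtype_val V hVo
    obtain ⟨_, ⟨v, hvV, rfl⟩, hvZ⟩ := mem_closure_iff.mp hy _ h1 ⟨⟨y, hyW⟩, hyV, rfl⟩
    exact ⟨v, hvV, hvZ⟩)
  exact ⟨z.1, hzZ, hz.map continuous_subtype_val⟩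

/-- For a flat morphism, taking closures of pro-constructible sets commutes with preimages. -/
theorem closure_preimage_eq_of_flat {X Y : Scheme.{u}} (f : X ⟶ Y) [Flat f] {Z : Set Y}
    (hZ : ProCons.IsProConstructible Z) :
    closure (f.base ⁻¹' Z) = f.base ⁻¹' (closure Z) := by
  apply subset_antisymm
  · exact f.continuous.closure_preimage_subset Z
  · intro x hx
    obtain ⟨z, hzZ, hz⟩ := exists_specializes_of_mem_closure hZ hx
    obtain ⟨x', hx', rfl⟩ := Flat.generalizingMap f hz
    exact hx'.mem_closed isClosed_closure (subset_closure hzZ)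

theorem isProConstructible_univ {X : Type*} [TopologicalSpace X] :
    ProCons.IsProConstructible (univ : Set X) := by
  intro x
  refine ⟨univ, isOpen_univ, trivial, ∅, by simp, by simp⟩

/-- The image of a pro-constructible set under a quasi-compact morphism is pro-constructible
(same proof as `Groth.Agent.S3398.result`). -/
theorem isProConstructible_image {X' X : Scheme.{u}} (f : X' ⟶ X) [QuasiCompact f]
    {E' : Set X'} (hE' : ProCons.IsProConstructible E') :
    ProCons.IsProConstructible (f.base '' E') :=
  pro_image (goodBasis_scheme X') (goodBasis_scheme X)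
    (fun W hW => by
      obtain ⟨U, hU, rfl⟩ := hW
      exact QuasiCompact.isCompact_preimage (f := f) _ U.isOpen hU.isCompact)
    f.continuous
    (fun W' W h hW' hW => isSpectralMap_restrict f W' W h hW' hW) hE'

/-- A flat base change `f₁` of a quasi-compact morphism `f₀` along `pY` is dominant iff the
complement of the closure of the image of `f₀` has empty preimage under `pY`. -/
theorem isDominant_iff_preimage_compl_closure_eq_empty {X₀ Y₀ X₁ Y₁ : Scheme.{u}} {f₀ : X₀ ⟶ Y₀}
    [QuasiCompact f₀] {pX : X₁ ⟶ X₀} {f₁ : X₁ ⟶ Y₁} {pY : Y₁ ⟶ Y₀} [Flat pY]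
    (h : IsPullback pX f₁ f₀ pY) :
    IsDominant f₁ ↔ pY.base ⁻¹' (closure (Set.range f₀.base))ᶜ = ∅ := by
  have hZ : ProCons.IsProConstructible (Set.range f₀.base) := by
    rw [← Set.image_univ]
    exact isProConstructible_image f₀ isProConstructible_univ
  have hr : Set.range f₁.base = pY.base ⁻¹' Set.range f₀.base := by
    have := Scheme.image_preimage_eq_of_isPullback h Set.univ
    simpa using this
  rw [isDominant_iff, DenseRange, dense_iff_closure_eq, hr, closure_preimage_eq_of_flat pY hZ,
    Set.preimage_compl, Set.compl_empty_iff]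

/-- A locally constructible subset of a scheme is pro-constructible. -/
theorem isProConstructible_of_isLocallyConstructible {X : Scheme.{u}} {E : Set X}
    (hE : IsLocallyConstructible E) : ProCons.IsProConstructible E :=
  ((lc_iff_ind_and_pro (goodBasis_scheme X) E).mp hE).2

variable {I : Type u} [Category.{u} I] [IsCofiltered I] (D : I ⥤ Scheme.{u}) (c : Cone D)
  [∀ {i j} (f : i ⟶ j), IsAffineHom (D.map f)]

omit [∀ {i j} (f : i ⟶ j), IsAffineHom (D.map f)] in
theorem eventuallyEmpty_empty {i : I} : EventuallyEmpty D c (∅ : Set (D.obj i)) :=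
  fun _ => ⟨i, 𝟙 i, preimage_empty⟩

omit [∀ {i j} (f : i ⟶ j), IsAffineHom (D.map f)] in
variable {D c} in
theorem EventuallyEmpty.mono_eq {i : I} {A B : Set (D.obj i)} (hA : EventuallyEmpty D c A)
    (h : A = B) : EventuallyEmpty D c B := h ▸ hA

/-- The image in `D_i` of a constructible subset of a compact open subspace is eventually empty. -/
theorem eventuallyEmpty_image_of_isConstructible (hc : IsLimit c) {i : I}
    (B : (D.obj i).Opens) (hB : IsCompact (B : Set (D.obj i)))
    {T : Set ↥(B : Set (D.obj i))} (hT : IsConstructible T) :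
    EventuallyEmpty D c (Subtype.val '' T) := by
  have : CompactSpace ↥(B : Set (D.obj i)) := isCompact_iff_compactSpace.mp hB
  refine isConstructible_sdiff_union_induction
    (p := fun T : Set ↥(B : Set (D.obj i)) => EventuallyEmpty D c (Subtype.val '' T)) ?_ ?_ hT
  · intro U W hU hU' hW hW' h
    let U' : (D.obj i).Opens := ⟨Subtype.val '' U, B.2.isOpenMap_subtype_val U hU⟩
    let W' : (D.obj i).Opens := ⟨Subtype.val '' W, B.2.isOpenMap_subtype_val W hW⟩
    have hUc : IsCompact (U' : Set (D.obj i)) := by
      have : IsCompact U := by simpa using hU' isCompact_univ isOpen_univ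
      exact this.image continuous_subtype_val
    have H : c.π.app i ⁻¹ᵁ U' ≤ c.π.app i ⁻¹ᵁ W' := by
      intro x hx
      by_contra hx'
      have : x ∈ (c.π.app i) ⁻¹' (Subtype.val '' (U \ W)) := by
        rw [Set.image_sdiff Subtype.val_injective]
        exact ⟨hx, hx'⟩
      rw [h] at this
      exact this
    obtain ⟨j, f, hf⟩ := exists_map_preimage_le_map_preimage D c hc hUc H
    refine ⟨j, f, ?_⟩
    rw [Set.image_sdiff Subtype.val_injective]
    ext x
    simp only [Set.mem_preimage, Set.mem_sdiff, Set.mem_empty_iff_false, iff_false, not_and,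
      not_not]
    intro hxU
    exact hf hxU
  · intro s t hs ht
    rw [Set.image_union]
    exact hs.union ht

/-- A pro-constructible subset of a quasi-compact stage whose preimage in the limit is empty
already has empty preimage at some stage. -/
theorem eventuallyEmpty_of_isProConstructible (hc : IsLimit c) {l : I} [CompactSpace (D.obj l)]
    {C : Set (D.obj l)} (hC : ProCons.IsProConstructible C) : EventuallyEmpty D c C := by
  classical
  -- the local statement
  have hloc : ∀ W : (D.obj l).Opens, IsAffineOpen W →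
      EventuallyEmpty D c (C ∩ (W : Set (D.obj l))) := by
    intro W hW h
    have hWaff : IsAffSet (D.obj l) W := ⟨W, hW, rfl⟩
    have : IsAffineHom (c.π.app l) := isAffineHom_π_app D c hc l
    have hW'aff : IsAffSet c.pt ((c.π.app l ⁻¹ᵁ W : c.pt.Opens) : Set c.pt) :=
      ⟨c.π.app l ⁻¹ᵁ W, hW.preimage (c.π.app l), rfl⟩
    have := (goodBasis_scheme (D.obj l)).spectralSpace hWaff
    have := (goodBasis_scheme c.pt).spectralSpace hW'aff
    have hmaps : MapsTo (c.π.app l).base ((c.π.app l ⁻¹ᵁ W : c.pt.Opens) : Set c.pt) (W : Set (D.obj l)) :=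
      fun x hx => hx
    have hsp := isSpectralMap_restrict (c.π.app l) _ _ hmaps hW'aff hWaff
    obtain ⟨S, hS, hCS⟩ := consClosed_iff_exists_sInter.mp
      (consClosed_restrict_of_pro (goodBasis_scheme _) hC hWaff)
    have hcl : ∀ T : S, ConsClosed (hmaps.restrict _ _ _ ⁻¹' T.1) := fun T =>
      ConsClosed.preimage hsp (consClosed_of_isConstructible (hS T.1 T.2))
    have hfin : ∃ J : Finset S, ⋂ T ∈ J, hmaps.restrict _ _ _ ⁻¹' T.1 = ∅ := by
      by_contra hne
      push Not at hne
      obtain ⟨z, hz⟩ := cons_fip _ hcl (fun J => hne J)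
      have hzC : hmaps.restrict _ _ _ z ∈ (W : Set (D.obj l)) ↓∩ C := by
        rw [hCS]
        intro T hT
        exact mem_iInter.mp hz ⟨T, hT⟩
      have : z.1 ∈ (c.π.app l) ⁻¹' (C ∩ (W : Set (D.obj l))) := ⟨hzC, z.2⟩
      rw [h] at this
      exact this
    obtain ⟨J, hJ⟩ := hfin
    have hT' : IsConstructible (⋂ T ∈ J, T.1 : Set ↥(W : Set (D.obj l))) :=
      IsConstructible.biInter J.finite_toSet (fun T _ => hS T.1 T.2)
    have hsub : (W : Set (D.obj l)) ↓∩ C ⊆ ⋂ T ∈ J, T.1 := by
      rw [hCS]
      intro z hz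
      simp only [mem_iInter]
      intro T _
      exact hz T.1 T.2
    have hpre : (c.π.app l) ⁻¹' (Subtype.val '' (⋂ T ∈ J, T.1 : Set ↥(W : Set (D.obj l)))) = ∅ := by
      rw [← subset_empty_iff]
      rintro s ⟨z, hz, hzs⟩
      have hsW : s ∈ ((c.π.app l ⁻¹ᵁ W : c.pt.Opens) : Set c.pt) := by
        show (c.π.app l).base s ∈ (W : Set (D.obj l))
        rw [← hzs]; exact z.2
      have : (⟨s, hsW⟩ : ↥((c.π.app l ⁻¹ᵁ W : c.pt.Opens) : Set c.pt)) ∈
          ⋂ T ∈ J, hmaps.restrict _ _ _ ⁻¹' T.1 := by
        simp only [mem_iInter, mem_preimage] at hz ⊢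
        intro T hT
        have : hmaps.restrict _ _ _ ⟨s, hsW⟩ = z := Subtype.ext hzs.symm
        rw [this]
        exact hz T hT
      rw [hJ] at this
      exact this
    obtain ⟨k, f, hf⟩ := eventuallyEmpty_image_of_isConstructible D c hc W hW.isCompact hT' hpre
    refine ⟨k, f, ?_⟩
    rw [← subset_empty_iff, ← hf]
    rintro x ⟨hxC, hxW⟩
    exact ⟨⟨_, hxW⟩, hsub hxC, rfl⟩
  -- globalise over a finite affine cover
  have hcov : ∀ x : D.obj l, ∃ W : (D.obj l).Opens, IsAffineOpen W ∧ x ∈ W := by
    intro x
    obtain ⟨_, ⟨W, hW, rfl⟩, hxW, -⟩ :=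
      (D.obj l).isBasis_affineOpens.exists_subset_of_mem_open (mem_univ x) isOpen_univ
    exact ⟨W, hW, hxW⟩
  choose W hW hxW using hcov
  obtain ⟨t, ht⟩ := CompactSpace.elim_nhds_subcover (fun x => (W x : Set (D.obj l)))
    (fun x => (W x).2.mem_nhds (hxW x))
  have hfin : ∀ t : Finset (D.obj l),
      EventuallyEmpty D c (⋃ x ∈ t, C ∩ (W x : Set (D.obj l))) := by
    intro t
    induction t using Finset.induction_on with
    | empty => simpa using eventuallyEmpty_empty D c
    | insert a t _ ih =>
      rw [Finset.set_biUnion_insert]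
      exact (hloc _ (hW a)).union ih
  refine (hfin t).mono_eq ?_
  rw [← inter_iUnion₂, ht]
  exact inter_univ C

end Groth.Agent.H24
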