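import Mathlib
import Groth.Agent.H24.LimitAffine
import Groth.Agent.H7.IndQuasiAffine
import Groth.Agent.H6.QuasiAffineHom
import Groth.Prelude.Def_Mor2

/-!
# Quasi-affineness descends to a stage of a cofiltered limit (helper24)
-/

set_option autoImplicit false
universe u
open CategoryTheory CategoryTheory.Limits AlgebraicGeometry

namespace Groth.Agent.H24

variable {I : Type u} [Category.{u} I] [IsCofiltered I] (D : I ⥤ Scheme.{u}) (c : Cone D)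
  [∀ {i j} (f : i ⟶ j), IsAffineHom (D.map f)] (i₀ : I)
  {X₀ Y₀ : Scheme.{u}} (f₀ : X₀ ⟶ Y₀) (g₀ : Y₀ ⟶ D.obj i₀)

/-- Quasi-affineness of an open is inherited by its preimage under an affine morphism. -/
theorem isQuasiAffine_preimage {X Y : Scheme.{u}} (f : X ⟶ Y) [IsAffineHom f] (U : Y.Opens)
    [hU : Scheme.IsQuasiAffine (U : Scheme.{u})] : Scheme.IsQuasiAffine (f ⁻¹ᵁ U : Scheme.{u}) :=
  have : IsAffineHom (f ∣_ U) := IsZariskiLocalAtTarget.restrict ‹IsAffineHom f› U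
  Scheme.IsQuasiAffine.of_isAffineHom (f ∣_ U)

set_option backward.isDefEq.respectTransparency false in
/-- For a quasi-compact open `U ⊆ X₀` whose preimage in the limit is quasi-affine, the preimage in
some stage is quasi-affine. -/
theorem exists_isQuasiAffine_stageOpen (hc : IsLimit c) [QuasiSeparatedSpace X₀] (U : X₀.Opens)
    (hU : IsCompact (U : Set X₀))
    (hlim : Scheme.IsQuasiAffine
      (pullback.snd (c.π.app i₀) (f₀ ≫ g₀) ⁻¹ᵁ U : Scheme.{u})) :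
    ∃ ψ : Over i₀, Scheme.IsQuasiAffine (stageOpen D i₀ f₀ g₀ ψ U : Scheme.{u}) := by
  let F := pullbackDiagram D i₀ (f₀ ≫ g₀)
  let cF := pullbackCone D c i₀ (f₀ ≫ g₀)
  have hcF : IsLimit cF := isLimitPullbackCone D c i₀ (f₀ ≫ g₀) hc
  have hFaff : ∀ {φ ψ : Over i₀} (f : φ ⟶ ψ), IsAffineHom (F.map f) := fun f =>
    MorphismProperty.of_isPullback (P := @IsAffineHom)
      (isPullback_pullbackDiagram_map D i₀ (f₀ ≫ g₀) f).flip inferInstance
  let φ₀ : Over i₀ := Over.mk (𝟙 i₀)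
  let U' : (F.obj φ₀).Opens := stageOpen D i₀ f₀ g₀ φ₀ U
  have hobj : ∀ j : Over φ₀, F.map j.hom ⁻¹ᵁ U' = stageOpen D i₀ f₀ g₀ j.left U :=
    fun j => stageOpen_map D i₀ f₀ g₀ j.hom U
  have hcpt : ∀ j : Over φ₀, CompactSpace ((opensDiagram F φ₀ U').obj j) := by
    intro j
    change CompactSpace ↥(F.map j.hom ⁻¹ᵁ U')
    rw [hobj]
    exact isCompact_iff_compactSpace.mp ((stageSnd D i₀ f₀ g₀ j.left).isCompact_preimage hU)
  have hqs : ∀ j : Over φ₀, QuasiSeparatedSpace ((opensDiagram F φ₀ U').obj j) := by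
    intro j
    have : QuasiSeparatedSpace (F.obj j.left) :=
      quasiSeparatedSpace_of_quasiSeparated (stageSnd D i₀ f₀ g₀ j.left)
    exact QuasiSeparatedSpace.of_isOpenEmbedding (F.map j.hom ⁻¹ᵁ U').ι.isOpenEmbedding
  have haffpt : Scheme.IsQuasiAffine (opensCone F cF φ₀ U').pt := by
    change Scheme.IsQuasiAffine (cF.π.app φ₀ ⁻¹ᵁ U' : Scheme.{u})
    have : cF.π.app φ₀ ⁻¹ᵁ U' = pullback.snd (c.π.app i₀) (f₀ ≫ g₀) ⁻¹ᵁ U := by
      change cF.π.app φ₀ ⁻¹ᵁ (stageSnd D i₀ f₀ g₀ φ₀ ⁻¹ᵁ U) = _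
      rw [← Scheme.Hom.comp_preimage, cone_stageSnd]
    rw [this]
    exact hlim
  obtain ⟨j, hj⟩ := Scheme.exists_isQuasiAffine_of_isLimit (opensDiagram F φ₀ U')
    (opensCone F cF φ₀ U') (isLimitOpensCone F cF hcF φ₀ U')
  refine ⟨j.left, ?_⟩
  rw [← hobj]
  exact hj

set_option backward.isDefEq.respectTransparency false in
/-- **Quasi-affineness descends to a stage.** -/
theorem exists_isQuasiAffine_stageMap (hc : IsLimit c) [CompactSpace X₀] [QuasiSeparatedSpace X₀]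
    [CompactSpace Y₀] [QuasiSeparatedSpace Y₀] {X Y : Scheme.{u}} (f : X ⟶ Y) (g : Y ⟶ c.pt)
    (qY : Y ⟶ Y₀) (qX : X ⟶ X₀) (hY : IsPullback qY g g₀ (c.π.app i₀))
    (hX : IsPullback qX f f₀ qY) (hf : Groth.Agent.H6.QuasiAffineHom.P f) :
    ∃ ψ : Over i₀, Groth.Agent.H6.QuasiAffineHom.P (stageMap D i₀ f₀ g₀ ψ) := by
  classical
  let F := pullbackDiagram D i₀ (f₀ ≫ g₀)
  have hFaff : ∀ {φ ψ : Over i₀} (f : φ ⟶ ψ), IsAffineHom (F.map f) := fun f =>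
    MorphismProperty.of_isPullback (P := @IsAffineHom)
      (isPullback_pullbackDiagram_map D i₀ (f₀ ≫ g₀) f).flip inferInstance
  let sc := pullback.snd (c.π.app i₀) (f₀ ≫ g₀)
  let f' := hY.lift (sc ≫ f₀) (pullback.fst (c.π.app i₀) (f₀ ≫ g₀))
    (by rw [Category.assoc, ← pullback.condition])
  have hX' : IsPullback sc f' f₀ qY :=
    IsPullback.of_bot' (IsPullback.of_hasPullback (c.π.app i₀) (f₀ ≫ g₀)).flip hY
  have hf'P : Groth.Agent.H6.QuasiAffineHom.P f' := by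
    have e : f' = (hX'.isoIsPullback _ _ hX).hom ≫ f :=
      (IsPullback.isoIsPullback_hom_snd _ _ hX' hX).symm
    rw [e]
    exact (MorphismProperty.cancel_left_of_respectsIso
      (P := Groth.Agent.H6.QuasiAffineHom.P) _ f).mpr hf
  have hf'2 := ((Groth.Agent.H6.QuasiAffineHom.P_iff f').mp hf'P).2
  have hπaff : IsAffineHom (c.π.app i₀) := isAffineHom_π_app D c hc i₀
  have hqYaff : IsAffineHom qY := MorphismProperty.of_isPullback (P := @IsAffineHom) hY.flip hπaff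
  obtain ⟨s, hs, hcov⟩ := isCompact_iff_finite_and_eq_biUnion_affineOpens.mp
    (show IsCompact ((⊤ : Y₀.Opens) : Set Y₀) from isCompact_univ)
  have key : ∀ V : s, ∃ ψ : Over i₀,
      Scheme.IsQuasiAffine (stageOpen D i₀ f₀ g₀ ψ (f₀ ⁻¹ᵁ V.1.1) : Scheme.{u}) := by
    intro V
    refine exists_isQuasiAffine_stageOpen D c i₀ f₀ g₀ hc (f₀ ⁻¹ᵁ V.1.1)
      (f₀.isCompact_preimage V.1.2.isCompact) ?_
    have : sc ⁻¹ᵁ (f₀ ⁻¹ᵁ V.1.1) = f' ⁻¹ᵁ (qY ⁻¹ᵁ V.1.1) := by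
      rw [← Scheme.Hom.comp_preimage, ← Scheme.Hom.comp_preimage, hX'.w]
    rw [this]
    exact hf'2 _ (V.1.2.preimage qY)
  choose ψV hψV using key
  have := hs.fintype
  obtain ⟨ψ, hψ⟩ := IsCofiltered.inf_objs_exists (Finset.univ.image ψV)
  have hall : ∀ V : s,
      Scheme.IsQuasiAffine (stageOpen D i₀ f₀ g₀ ψ (f₀ ⁻¹ᵁ V.1.1) : Scheme.{u}) := by
    intro V
    let b : ψ ⟶ ψV V := (hψ (Finset.mem_image_of_mem _ (Finset.mem_univ V))).some
    rw [← stageOpen_map D i₀ f₀ g₀ b]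
    have := hψV V
    exact isQuasiAffine_preimage (F.map b) _
  refine ⟨ψ, ?_⟩
  have hsnd : IsAffineHom (pullback.snd (D.map ψ.hom) g₀) :=
    MorphismProperty.pullback_snd (P := @IsAffineHom) _ _ inferInstance
  let W : s → (pullback (D.map ψ.hom) g₀).affineOpens := fun V =>
    ⟨pullback.snd (D.map ψ.hom) g₀ ⁻¹ᵁ V.1.1, V.1.2.preimage _⟩
  have hW : ⨆ V : s, (W V : (pullback (D.map ψ.hom) g₀).Opens) = ⊤ := by
    rw [eq_top_iff]
    intro y _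
    have hy : (pullback.snd (D.map ψ.hom) g₀).base y ∈ (⊤ : Y₀.Opens) := trivial
    rw [hcov] at hy
    simp only [TopologicalSpace.Opens.mem_iSup] at hy ⊢
    obtain ⟨V, hVs, hyV⟩ := hy
    exact ⟨⟨V, hVs⟩, hyV⟩
  rw [HasAffineProperty.iff_of_iSup_eq_top (P := Groth.Agent.H6.QuasiAffineHom.P) W hW]
  intro V
  change Scheme.IsQuasiAffine (stageMap D i₀ f₀ g₀ ψ ⁻¹ᵁ (W V).1 : Scheme.{u})
  have : stageMap D i₀ f₀ g₀ ψ ⁻¹ᵁ (pullback.snd (D.map ψ.hom) g₀ ⁻¹ᵁ V.1.1) =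
      stageOpen D i₀ f₀ g₀ ψ (f₀ ⁻¹ᵁ V.1.1) := by
    change _ = pullback.snd (D.map ψ.hom) (f₀ ≫ g₀) ⁻¹ᵁ (f₀ ⁻¹ᵁ V.1.1)
    rw [← Scheme.Hom.comp_preimage, ← Scheme.Hom.comp_preimage,
      (isPullback_stageMap D i₀ f₀ g₀ ψ).w]
  change Scheme.IsQuasiAffine
    (stageMap D i₀ f₀ g₀ ψ ⁻¹ᵁ (pullback.snd (D.map ψ.hom) g₀ ⁻¹ᵁ V.1.1) : Scheme.{u})
  rw [this]
  exact hall V

end Groth.Agent.H24
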