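import Mathlib
import Groth.Agent.H24.LimitDescent
import Groth.Agent.H24.LimitOpenMap
import Groth.Agent.H17.QFLocus
import Groth.Agent.H17.ProConsClosed

/-!
# Locally quasi-finite morphisms descend to a stage of a cofiltered limit (helper24)

Uses helper17's `quasiFiniteAt_iff_of_isPullback` (the quasi-finite locus commutes with base change)
and `isProConstructible_of_isClosed`.
-/

set_option autoImplicit false
universe u
open CategoryTheory CategoryTheory.Limits AlgebraicGeometry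

namespace Groth.Agent.H24

variable {I : Type u} [SmallCategory I] [IsCofiltered I]
  (D : I ⥤ Scheme.{u}) (c : Cone D) (hc : IsLimit c)
  [∀ (i j : I) (f : i ⟶ j), IsAffineHom (D.map f)] (i₀ : I) [CompactSpace (D.obj i₀)]
  {X₀ Y₀ : Scheme.{u}} (f₀ : X₀ ⟶ Y₀) (g₀ : Y₀ ⟶ D.obj i₀)

include hc in
/-- **Locally quasi-finite morphisms descend to a stage.** -/
theorem exists_locallyQuasiFinite_stageMap [QuasiCompact (f₀ ≫ g₀)] [LocallyOfFiniteType f₀]
    {X Y : Scheme.{u}} (f : X ⟶ Y) (g : Y ⟶ c.pt)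
    (qY : Y ⟶ Y₀) (qX : X ⟶ X₀) (hY : IsPullback qY g g₀ (c.π.app i₀))
    (hX : IsPullback qX f f₀ qY) [LocallyQuasiFinite f] :
    ∃ ψ : Over i₀, LocallyQuasiFinite (stageMap D i₀ f₀ g₀ ψ) := by
  let E₀ : Set X₀ := ((f₀.quasiFiniteLocus : X₀.Opens) : Set X₀)ᶜ
  have hE₀ : ProCons.IsProConstructible E₀ :=
    Groth.Agent.H17.isProConstructible_of_isClosed f₀.quasiFiniteLocus.2.isClosed_compl
  have hft : LocallyOfFiniteType f :=
    MorphismProperty.of_isPullback (P := @LocallyOfFiniteType) hX inferInstance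
  have hempty : qX.base ⁻¹' E₀ = ∅ := by
    rw [← Set.subset_empty_iff]
    intro p hp
    have h1 : f.QuasiFiniteAt p := Scheme.Hom.quasiFiniteAt f p
    have h2 := (Groth.Agent.H17.quasiFiniteAt_iff_of_isPullback hX p).mp h1
    exact hp h2
  obtain ⟨ψ, hψ⟩ := exists_preimage_snd_eq_empty D c hc i₀ (f₀ ≫ g₀) (f ≫ g) qX
    (hX.paste_vert hY) hE₀ hempty
  refine ⟨ψ, ?_⟩
  have hftψ : LocallyOfFiniteType (stageMap D i₀ f₀ g₀ ψ) :=
    MorphismProperty.of_isPullback (P := @LocallyOfFiniteType)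
      (isPullback_stageMap D i₀ f₀ g₀ ψ) inferInstance
  rw [← Scheme.Hom.quasiFiniteLocus_eq_top_iff, eq_top_iff]
  intro p _
  rw [Scheme.Hom.mem_quasiFiniteLocus,
    Groth.Agent.H17.quasiFiniteAt_iff_of_isPullback (isPullback_stageMap D i₀ f₀ g₀ ψ) p]
  by_contra hcon
  have : p ∈ (pullback.snd (D.map ψ.hom) (f₀ ≫ g₀)).base ⁻¹' E₀ := hcon
  rw [hψ] at this
  exact this

end Groth.Agent.H24
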