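import Groth.Agent.S4860
import Groth.Agent.S4861
import Mathlib.RingTheory.Spectrum.Prime.Topology
import Mathlib.AlgebraicGeometry.Noetherian
import Mathlib.Topology.LocallyClosed

set_option autoImplicit false
universe u

namespace Groth.Agent.H24

open AlgebraicGeometry

/-- In the spectrum of a Noetherian ring, proper specializations of a locally closed point are
closed points. -/
theorem primeSpectrum_isClosed_singleton_of_specializes {A : Type u} [CommRing A]
    [IsNoetherianRing A] (x y : PrimeSpectrum A)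
    (hx : IsLocallyClosed ({x} : Set (PrimeSpectrum A))) (hxy : x ⤳ y) (hne : y ≠ x) :
    IsClosed ({y} : Set (PrimeSpectrum A)) := by
  have hprime : x.asIdeal.IsPrime := x.isPrime
  let φ : PrimeSpectrum (A ⧸ x.asIdeal) → PrimeSpectrum A :=
    PrimeSpectrum.comap (Ideal.Quotient.mk x.asIdeal)
  have hφcont : Continuous φ := PrimeSpectrum.continuous_comap _
  have hφinj : Function.Injective φ :=
    PrimeSpectrum.comap_injective_of_surjective _ Ideal.Quotient.mk_surjective
  have hbot : φ ⟨⊥, Ideal.isPrime_bot⟩ = x := by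
    apply PrimeSpectrum.ext
    change Ideal.comap (Ideal.Quotient.mk x.asIdeal) ⊥ = x.asIdeal
    rw [← RingHom.ker_eq_comap_bot, Ideal.mk_ker]
  have hpre : φ ⁻¹' {x} = {⟨⊥, Ideal.isPrime_bot⟩} := by
    ext q
    simp only [Set.mem_preimage, Set.mem_singleton_iff]
    constructor
    · intro h
      exact hφinj (h.trans hbot.symm)
    · rintro rfl
      exact hbot
  have hlc : IsLocallyClosed ({⟨⊥, Ideal.isPrime_bot⟩} : Set (PrimeSpectrum (A ⧸ x.asIdeal))) := by
    rw [← hpre]
    exact hx.preimage hφcont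
  have hopen : IsOpen ({⟨⊥, Ideal.isPrime_bot⟩} : Set (PrimeSpectrum (A ⧸ x.asIdeal))) := by
    obtain ⟨U, F, hU, hF, h⟩ := hlc
    have hbF : (⟨⊥, Ideal.isPrime_bot⟩ : PrimeSpectrum (A ⧸ x.asIdeal)) ∈ F := by
      have : (⟨⊥, Ideal.isPrime_bot⟩ : PrimeSpectrum (A ⧸ x.asIdeal)) ∈ U ∩ F := by
        rw [← h]; exact Set.mem_singleton _
      exact this.2
    have hFuniv : F = Set.univ := by
      rw [Set.eq_univ_iff_forall]
      intro q
      have hsp : (⟨⊥, Ideal.isPrime_bot⟩ : PrimeSpectrum (A ⧸ x.asIdeal)) ⤳ q := by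
        rw [← PrimeSpectrum.le_iff_specializes]
        change (⊥ : Ideal (A ⧸ x.asIdeal)) ≤ q.asIdeal
        exact bot_le
      exact hsp.mem_closed hF hbF
    rw [h, hFuniv, Set.inter_univ]
    exact hU
  obtain ⟨f, hf, hfield⟩ := Groth.Agent.S4860.step41 (A ⧸ x.asIdeal) hopen
  have hdim := (Groth.Agent.S4861.step23 (A ⧸ x.asIdeal)
    (Groth.Agent.S4861.step12 (A ⧸ x.asIdeal) ⟨f, hf, hfield⟩)).2
  have hk : Ring.KrullDimLE 1 (A ⧸ x.asIdeal) := Ring.krullDimLE_iff.mpr hdim
  have hpq : x.asIdeal ≤ y.asIdeal := (PrimeSpectrum.le_iff_specializes x y).mpr hxy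
  have hq'prime : (y.asIdeal.map (Ideal.Quotient.mk x.asIdeal)).IsPrime :=
    Ideal.map_isPrime_of_surjective Ideal.Quotient.mk_surjective (by rwa [Ideal.mk_ker])
  have hcomap : (y.asIdeal.map (Ideal.Quotient.mk x.asIdeal)).comap (Ideal.Quotient.mk x.asIdeal) =
      y.asIdeal := by
    rw [Ideal.comap_map_of_surjective _ Ideal.Quotient.mk_surjective,
      ← RingHom.ker_eq_comap_bot, Ideal.mk_ker]
    exact sup_eq_left.mpr hpq
  have hq'ne : y.asIdeal.map (Ideal.Quotient.mk x.asIdeal) ≠ ⊥ := by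
    intro h
    rw [h, ← RingHom.ker_eq_comap_bot, Ideal.mk_ker] at hcomap
    exact hne (PrimeSpectrum.ext hcomap.symm)
  have hq'max : (y.asIdeal.map (Ideal.Quotient.mk x.asIdeal)).IsMaximal :=
    Ideal.IsPrime.isMaximal_of_ne_bot hq'prime hq'ne
  have hqmax : y.asIdeal.IsMaximal := by
    rw [← hcomap]
    exact Ideal.comap_isMaximal_of_surjective _ Ideal.Quotient.mk_surjective
  exact (PrimeSpectrum.isClosed_singleton_iff_isMaximal _).mpr hqmax

/-- Transfer of `primeSpectrum_isClosed_singleton_of_specializes` along a homeomorphism. -/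
theorem isClosed_singleton_of_specializes_of_homeomorph {T : Type*} [TopologicalSpace T]
    {A : Type u} [CommRing A] [IsNoetherianRing A] (e : T ≃ₜ PrimeSpectrum A) (x y : T)
    (hx : IsLocallyClosed ({x} : Set T)) (hxy : x ⤳ y) (hne : y ≠ x) :
    IsClosed ({y} : Set T) := by
  have h1 : IsLocallyClosed ({e x} : Set (PrimeSpectrum A)) := by
    have : ({e x} : Set (PrimeSpectrum A)) = e.symm ⁻¹' {x} := by
      ext a
      simp only [Set.mem_singleton_iff, Set.mem_preimage]
      constructor
      · rintro rfl; simp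
      · intro h; rw [← h]; simp
    rw [this]
    exact hx.preimage e.symm.continuous
  have h2 : e x ⤳ e y := hxy.map e.continuous
  have h3 : e y ≠ e x := fun h => hne (e.injective h)
  have h4 := primeSpectrum_isClosed_singleton_of_specializes (e x) (e y) h1 h2 h3
  have : ({y} : Set T) = e ⁻¹' {e y} := by
    ext a
    simp only [Set.mem_singleton_iff, Set.mem_preimage]
    constructor
    · rintro rfl; rfl
    · intro h; exact e.injective h
  rw [this]
  exact h4.preimage e.continuous

/-- In a locally Noetherian scheme, proper specializations of a locally closed point are closed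
points. -/
theorem isClosed_singleton_of_specializes (X : Scheme.{u}) [IsLocallyNoetherian X] (x y : X)
    (hx : IsLocallyClosed ({x} : Set X)) (hxy : x ⤳ y) (hne : y ≠ x) :
    IsClosed ({y} : Set X) := by
  apply isClosed_of_closure_subset
  intro z hz
  have hyz : y ⤳ z := specializes_iff_mem_closure.mpr hz
  obtain ⟨W, hW, hzW⟩ : ∃ W : X.Opens, IsAffineOpen W ∧ z ∈ W := by
    obtain ⟨_, ⟨W, hW, rfl⟩, hzW, -⟩ :=
      X.isBasis_affineOpens.exists_subset_of_mem_open (Set.mem_univ z) isOpen_univ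
    exact ⟨W, hW, hzW⟩
  have hyW : y ∈ W := hyz.mem_open W.isOpen hzW
  have hxW : x ∈ W := hxy.mem_open W.isOpen hyW
  have : IsNoetherianRing Γ(X, W) := IsLocallyNoetherian.component_noetherian ⟨W, hW⟩
  let e : ↥W ≃ₜ PrimeSpectrum Γ(X, W) := Scheme.homeoOfIso hW.isoSpec
  have h1 : IsLocallyClosed ({⟨x, hxW⟩} : Set W) := by
    have : ({⟨x, hxW⟩} : Set W) = Subtype.val ⁻¹' {x} := by
      ext ⟨a, ha⟩
      constructor
      · intro h
        exact congrArg Subtype.val h
      · intro h
        exact Subtype.ext h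
    rw [this]
    exact hx.preimage continuous_subtype_val
  have h2 : (⟨x, hxW⟩ : W) ⤳ ⟨y, hyW⟩ := (subtype_specializes_iff _ _).mpr hxy
  have h3 : IsClosed ({⟨y, hyW⟩} : Set W) :=
    isClosed_singleton_of_specializes_of_homeomorph e _ _ h1 h2
      (by simpa [Subtype.ext_iff] using hne)
  have h4 : (⟨y, hyW⟩ : W) ⤳ ⟨z, hzW⟩ := (subtype_specializes_iff _ _).mpr hyz
  have h5 := h4.mem_closed h3 (Set.mem_singleton _)
  exact congrArg Subtype.val h5

end Groth.Agent.H24
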