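import Mathlib
import Groth.Agent.H24.ModLimIso
import Groth.Agent.H71.QCoh.ExactSections

/-!
# Right exactness / factorisation of pulled back modules on a limit of schemes (helper24)
-/

set_option autoImplicit false
universe u
open CategoryTheory CategoryTheory.Limits AlgebraicGeometry Scheme.Modules

namespace Groth.Agent.H24.ModLimMain

section General

variable {C E : Type*} [Category C] [Category E]

/-- A cofork `g` on `f` is a cokernel iff the comparison map from a chosen cokernel is an iso. -/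
theorem nonempty_isColimit_iff_isIso [HasZeroMorphisms C] {X Y Z : C} {f : X ⟶ Y}
    (c : CokernelCofork f) (hc : IsColimit c) (g : Y ⟶ Z) (w : f ≫ g = 0) (d : c.pt ⟶ Z)
    (hd : c.π ≫ d = g) :
    Nonempty (IsColimit (CokernelCofork.ofπ g w)) ↔ IsIso d := by
  constructor
  · rintro ⟨h⟩
    have : d = (hc.coconePointUniqueUpToIso h).hom := by
      apply Cofork.IsColimit.hom_ext hc
      rw [hd]
      have := hc.comp_coconePointUniqueUpToIso_hom h WalkingParallelPair.one
      simpa using this.symm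
    rw [this]
    infer_instance
  · intro h
    exact ⟨IsColimit.ofIsoColimit hc (Cofork.ext (asIso d) (by simp [hd]))⟩

variable [Abelian C] [Abelian E]

/-- Right exactness of `X ⟶ Y ⟶ Z ⟶ 0`. -/
def RightExact {X Y Z : C} (f : X ⟶ Y) (g : Y ⟶ Z) : Prop :=
  ∃ w : f ≫ g = 0, (ShortComplex.mk f g w).Exact ∧ Epi g

theorem rightExact_iff {X Y Z : C} (f : X ⟶ Y) (g : Y ⟶ Z) (w : f ≫ g = 0) :
    RightExact f g ↔ Nonempty (IsColimit (CokernelCofork.ofπ g w)) := by
  constructor
  · rintro ⟨w', h⟩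
    exact (ShortComplex.exact_and_epi_g_iff_g_is_cokernel (ShortComplex.mk f g w')).mp h
  · intro h
    exact ⟨w, (ShortComplex.exact_and_epi_g_iff_g_is_cokernel (ShortComplex.mk f g w)).mpr h⟩

theorem rightExact_map_iff_isIso (L : C ⥤ E) [L.Additive] [PreservesFiniteColimits L]
    {X Y Z : C} (f : X ⟶ Y) (g : Y ⟶ Z) (w : f ≫ g = 0) :
    RightExact (L.map f) (L.map g) ↔ IsIso (L.map (cokernel.desc f g w)) := by
  have w' : L.map f ≫ L.map g = 0 := by rw [← L.map_comp, w, L.map_zero]
  rw [rightExact_iff _ _ w']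
  let c := CokernelCofork.ofπ (cokernel.π f) (cokernel.condition f)
  have hc : IsColimit c := cokernelIsCokernel f
  exact nonempty_isColimit_iff_isIso (c.map L) (CokernelCofork.mapIsColimit c hc L) (L.map g) w'
    (L.map (cokernel.desc f g w)) (by
      show L.map (cokernel.π f) ≫ L.map (cokernel.desc f g w) = L.map g
      rw [← L.map_comp, cokernel.π_desc])

theorem rightExact_map (L : C ⥤ E) [L.Additive] [PreservesFiniteColimits L]
    {X Y Z : C} (f : X ⟶ Y) (g : Y ⟶ Z) (h : RightExact f g) :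
    RightExact (L.map f) (L.map g) := by
  obtain ⟨w, hex, hepi⟩ := h
  have w' : L.map f ≫ L.map g = 0 := by rw [← L.map_comp, w, L.map_zero]
  refine ⟨w', ?_, inferInstance⟩
  exact hex.map_of_epi_of_preservesCokernel L hepi inferInstance

theorem rightExact_of_natIso {L L' : C ⥤ E} (e : L ≅ L') {X Y Z : C} (f : X ⟶ Y) (g : Y ⟶ Z)
    (h : RightExact (L.map f) (L.map g)) : RightExact (L'.map f) (L'.map g) := by
  obtain ⟨w, hex, hepi⟩ := h
  have w' : L'.map f ≫ L'.map g = 0 := by
    rw [← NatIso.naturality_1 e f, ← NatIso.naturality_1 e g]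
    simp only [Category.assoc, Iso.app_hom, Iso.app_inv, Iso.hom_inv_id_app_assoc]
    rw [reassoc_of% w]
    simp
  refine ⟨w', ?_, epi_map_of_natIso e hepi⟩
  refine (ShortComplex.exact_iff_of_iso (ShortComplex.isoMk (e.app X) (e.app Y) (e.app Z) ?_ ?_)).mp
    hex
  · simp
  · simp

/-- For a right exact additive functor `L` and an epimorphism `p₁`, `L p₂` factors through `L p₁`
iff `L` kills `ker p₁ ⟶ X ⟶ Z`. -/
theorem exists_fac_map_iff (L : C ⥤ E) [L.Additive] [PreservesFiniteColimits L]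
    {X Y Z : C} (p₁ : X ⟶ Y) [Epi p₁] (p₂ : X ⟶ Z) :
    (∃ k : L.obj Y ⟶ L.obj Z, L.map p₁ ≫ k = L.map p₂) ↔ L.map (kernel.ι p₁ ≫ p₂) = L.map 0 := by
  rw [L.map_zero]
  constructor
  · rintro ⟨k, hk⟩
    rw [L.map_comp, ← hk, ← Category.assoc, ← L.map_comp, kernel.condition, L.map_zero, zero_comp]
  · intro h
    let c := CokernelCofork.ofπ p₁ (kernel.condition p₁)
    have hc : IsColimit c := Abelian.epiIsCokernelOfKernel _ (limit.isLimit _)
    have hc' := CokernelCofork.mapIsColimit c hc L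
    rw [L.map_comp] at h
    exact ⟨hc'.desc (CokernelCofork.ofπ (L.map p₂) h),
      hc'.fac (CokernelCofork.ofπ (L.map p₂) h) WalkingParallelPair.one⟩

end General

variable {I : Type u} [SmallCategory I] [IsCofiltered I] (D : I ⥤ Scheme.{u}) (c : Cone D)
  (hc : IsLimit c) [∀ {i j : I} (f : i ⟶ j), IsAffineHom (D.map f)] (i₀ : I)
  [CompactSpace (D.obj i₀)]

include hc in
/-- The pulled back sequence `F ⟶ G ⟶ H ⟶ 0` (F, G of finite type, H finitely presented) is right
exact on the limit iff it is right exact at a finite stage. -/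
theorem rightExact_pullback_iff {F G H : (D.obj i₀).Modules} [F.IsQuasicoherent]
    [G.IsQuasicoherent] [H.IsQuasicoherent]
    [SheafOfModules.IsFiniteType (R := (D.obj i₀).ringCatSheaf) F]
    [SheafOfModules.IsFiniteType (R := (D.obj i₀).ringCatSheaf) G]
    [SheafOfModules.IsFinitePresentation (R := (D.obj i₀).ringCatSheaf) H]
    (f : F ⟶ G) (g : G ⟶ H) :
    RightExact ((Scheme.Modules.pullback (c.π.app i₀)).map f)
        ((Scheme.Modules.pullback (c.π.app i₀)).map g) ↔
      ∃ (j : I) (φ : j ⟶ i₀), RightExact ((Scheme.Modules.pullback (D.map φ)).map f)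
        ((Scheme.Modules.pullback (D.map φ)).map g) := by
  constructor
  · intro h
    obtain ⟨w, -⟩ := id h
    have h0 : (Scheme.Modules.pullback (c.π.app i₀)).map (f ≫ g) =
        (Scheme.Modules.pullback (c.π.app i₀)).map 0 := by
      rw [Functor.map_comp, w, Functor.map_zero]
    obtain ⟨j₁, φ₁, h1⟩ := (pullback_map_eq_iff D c hc i₀ (f ≫ g) 0).mp h0
    rw [Functor.map_comp, Functor.map_zero] at h1
    obtain ⟨f₁, hf₁⟩ : ∃ f₁, f₁ = (Scheme.Modules.pullback (D.map φ₁)).map f := ⟨_, rfl⟩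
    obtain ⟨g₁, hg₁⟩ : ∃ g₁, g₁ = (Scheme.Modules.pullback (D.map φ₁)).map g := ⟨_, rfl⟩
    have w₁ : f₁ ≫ g₁ = 0 := by rw [hf₁, hg₁]; exact h1
    haveI : CompactSpace (D.obj j₁) := QuasiCompact.compactSpace_of_compactSpace (D.map φ₁)
    haveI : SheafOfModules.IsFinitePresentation (R := (D.obj j₁).ringCatSheaf)
        ((Scheme.Modules.pullback (D.map φ₁)).obj H) :=
      Groth.Agent.H44.isFinitePresentation_pullback (D.map φ₁) H
    haveI : (cokernel f₁).IsQuasicoherent :=
      Groth.Agent.H12.QCohAbelian.isQuasicoherent_cokernel f₁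
    have hCft : SheafOfModules.IsFiniteType (R := (D.obj j₁).ringCatSheaf) (cokernel f₁) := by
      have hh := @Groth.Agent.H71.QCoh.isFiniteType_of_epi _ _ _ _ this _ (cokernel.π f₁) _
      exact hh
    have h2 : RightExact ((Scheme.Modules.pullback (c.π.app j₁)).map f₁)
        ((Scheme.Modules.pullback (c.π.app j₁)).map g₁) := by
      subst hf₁ hg₁
      exact rightExact_of_natIso (stageIso D c i₀ φ₁).symm f g h
    have h3 : IsIso ((Scheme.Modules.pullback (c.π.app j₁)).map (cokernel.desc f₁ g₁ w₁)) :=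
      (rightExact_map_iff_isIso _ f₁ g₁ w₁).mp h2
    obtain ⟨j₂, φ₂, h4⟩ := (@isIso_pullback_map_iff I _ _ D c hc _ j₁ _ (cokernel f₁) _ _ _ hCft _
      (cokernel.desc f₁ g₁ w₁)).mp h3
    have h5 : RightExact ((Scheme.Modules.pullback (D.map φ₂)).map f₁)
        ((Scheme.Modules.pullback (D.map φ₂)).map g₁) :=
      (rightExact_map_iff_isIso _ f₁ g₁ w₁).mpr h4
    subst hf₁ hg₁
    exact ⟨j₂, φ₂ ≫ φ₁, rightExact_of_natIso (transIso D i₀ φ₁ φ₂) f g h5⟩
  · rintro ⟨j, φ, h⟩
    have h2 := rightExact_map (Scheme.Modules.pullback (c.π.app j)) _ _ h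
    exact rightExact_of_natIso (stageIso D c i₀ φ) f g h2

include hc in
/-- For an epimorphism `p₁ : F ⟶ G₁` (F of finite type, G₁ finitely presented), the pullback of
`p₂ : F ⟶ G₂` to the limit factors through that of `p₁` iff this holds at a finite stage. -/
theorem exists_fac_pullback_iff {F G₁ G₂ : (D.obj i₀).Modules} [F.IsQuasicoherent]
    [G₁.IsQuasicoherent] [G₂.IsQuasicoherent]
    [SheafOfModules.IsFiniteType (R := (D.obj i₀).ringCatSheaf) F]
    [SheafOfModules.IsFinitePresentation (R := (D.obj i₀).ringCatSheaf) G₁]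
    (p₁ : F ⟶ G₁) (p₂ : F ⟶ G₂) [Epi p₁] :
    (∃ k : (Scheme.Modules.pullback (c.π.app i₀)).obj G₁ ⟶
        (Scheme.Modules.pullback (c.π.app i₀)).obj G₂,
        (Scheme.Modules.pullback (c.π.app i₀)).map p₁ ≫ k =
          (Scheme.Modules.pullback (c.π.app i₀)).map p₂) ↔
      ∃ (j : I) (φ : j ⟶ i₀) (k : (Scheme.Modules.pullback (D.map φ)).obj G₁ ⟶
        (Scheme.Modules.pullback (D.map φ)).obj G₂),
        (Scheme.Modules.pullback (D.map φ)).map p₁ ≫ k =
          (Scheme.Modules.pullback (D.map φ)).map p₂ := by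
  haveI : (kernel p₁).IsQuasicoherent := Groth.Agent.H12.QCohAbelian.isQuasicoherent_kernel p₁
  have hKft : SheafOfModules.IsFiniteType (R := (D.obj i₀).ringCatSheaf) (kernel p₁) :=
    Groth.Agent.H24.ModLimKer.isFiniteType_kernel_of_epi p₁
  rw [exists_fac_map_iff, @pullback_map_eq_iff I _ _ D c hc _ i₀ _ (kernel p₁) _ _ _ hKft
    (kernel.ι p₁ ≫ p₂) 0]
  refine exists_congr fun j => exists_congr fun φ => ?_
  rw [exists_fac_map_iff]

end Groth.Agent.H24.ModLimMain
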