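import Mathlib
import Groth.Agent.H24.ModLimExact
import Groth.Agent.H33.SchemeDer.FlatPull
import Groth.Agent.S4764

/-!
# Injectivity / exactness of pulled back modules on a limit of schemes with flat affine
transition maps (helper24)
-/

set_option autoImplicit false
universe u
open CategoryTheory CategoryTheory.Limits AlgebraicGeometry Scheme.Modules

namespace Groth.Agent.H24.ModLimMain

section General

variable {C E : Type*} [Category C] [Category E] [Abelian C] [Abelian E]

theorem mono_map_iff (L : C ⥤ E) [L.Additive] [PreservesFiniteLimits L] {X Y : C} (f : X ⟶ Y) :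
    Mono (L.map f) ↔ L.map (kernel.ι f) = L.map 0 := by
  rw [L.map_zero]
  constructor
  · intro h
    rw [← cancel_mono (L.map f), ← L.map_comp, kernel.condition, L.map_zero, zero_comp]
  · intro h
    have : kernel.ι (L.map f) = 0 := by rw [← PreservesKernel.iso_inv_ι, h, comp_zero]
    exact Preadditive.mono_of_kernel_zero this

theorem exact_map_iff (L : C ⥤ E) [L.Additive] [PreservesFiniteLimits L]
    [PreservesFiniteColimits L] {X Y Z : C} (f : X ⟶ Y) (g : Y ⟶ Z) :
    (∃ w : L.map f ≫ L.map g = 0, (ShortComplex.mk (L.map f) (L.map g) w).Exact) ↔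
      L.map (image.ι f ≫ g) = L.map 0 ∧ L.map (kernel.ι g ≫ cokernel.π f) = L.map 0 := by
  rw [L.map_zero, L.map_zero]
  have hz : L.map f ≫ L.map g = 0 ↔ L.map (image.ι f ≫ g) = 0 := by
    have : L.map f ≫ L.map g = L.map (factorThruImage f) ≫ L.map (image.ι f ≫ g) := by
      rw [← L.map_comp, ← L.map_comp, image.fac_assoc]
    rw [this]
    haveI : Epi (L.map (factorThruImage f)) := inferInstance
    constructor
    · intro h
      rwa [← cancel_epi (L.map (factorThruImage f)), comp_zero]
    · intro h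
      rw [h, comp_zero]
  have hex : ∀ w, (ShortComplex.mk (L.map f) (L.map g) w).Exact ↔
      L.map (kernel.ι g ≫ cokernel.π f) = 0 := by
    intro w
    rw [ShortComplex.exact_iff_kernel_ι_comp_cokernel_π_zero]
    show kernel.ι (L.map g) ≫ cokernel.π (L.map f) = 0 ↔ _
    have : L.map (kernel.ι g ≫ cokernel.π f) = kernelComparison g L ≫
        (kernel.ι (L.map g) ≫ cokernel.π (L.map f)) ≫ cokernelComparison f L := by
      rw [L.map_comp, ← kernelComparison_comp_ι, ← π_comp_cokernelComparison]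
      simp only [Category.assoc]
    rw [this]
    constructor
    · intro h
      rw [h, zero_comp, comp_zero]
    · intro h
      rwa [← cancel_epi (kernelComparison g L), ← cancel_mono (cokernelComparison f L), comp_zero,
        zero_comp, Category.assoc]
  constructor
  · rintro ⟨w, h⟩
    exact ⟨hz.mp w, (hex w).mp h⟩
  · rintro ⟨h1, h2⟩
    exact ⟨hz.mpr h1, (hex _).mpr h2⟩

end General

variable {I : Type u} [SmallCategory I] [IsCofiltered I] (D : I ⥤ Scheme.{u}) (c : Cone D)
  (hc : IsLimit c) [∀ {i j : I} (f : i ⟶ j), IsAffineHom (D.map f)] (i₀ : I)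

/-- Equality of pulled back morphisms at a stage persists at later stages. -/
theorem pullback_map_eq_of_le {j j' : I} (φ : j ⟶ i₀) (ψ : j' ⟶ j) {F G : (D.obj i₀).Modules}
    {θ θ' : F ⟶ G}
    (h : (Scheme.Modules.pullback (D.map φ)).map θ = (Scheme.Modules.pullback (D.map φ)).map θ') :
    (Scheme.Modules.pullback (D.map (ψ ≫ φ))).map θ =
      (Scheme.Modules.pullback (D.map (ψ ≫ φ))).map θ' :=
  map_eq_of_natIso (transIso D i₀ φ ψ) (by rw [Functor.comp_map, Functor.comp_map, h])

variable [CompactSpace (D.obj i₀)]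

include hc in
/-- Two simultaneous equalities of pulled back morphisms hold on the limit iff at a common stage. -/
theorem pullback_map_eq_and_iff {F G F' G' : (D.obj i₀).Modules} [F.IsQuasicoherent]
    [G.IsQuasicoherent] [F'.IsQuasicoherent] [G'.IsQuasicoherent]
    [SheafOfModules.IsFiniteType (R := (D.obj i₀).ringCatSheaf) F]
    [SheafOfModules.IsFiniteType (R := (D.obj i₀).ringCatSheaf) F']
    (θ₁ θ₂ : F ⟶ G) (θ₁' θ₂' : F' ⟶ G') :
    ((Scheme.Modules.pullback (c.π.app i₀)).map θ₁ = (Scheme.Modules.pullback (c.π.app i₀)).map θ₂ ∧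
      (Scheme.Modules.pullback (c.π.app i₀)).map θ₁' =
        (Scheme.Modules.pullback (c.π.app i₀)).map θ₂') ↔
      ∃ (j : I) (φ : j ⟶ i₀),
        (Scheme.Modules.pullback (D.map φ)).map θ₁ = (Scheme.Modules.pullback (D.map φ)).map θ₂ ∧
        (Scheme.Modules.pullback (D.map φ)).map θ₁' =
          (Scheme.Modules.pullback (D.map φ)).map θ₂' := by
  rw [pullback_map_eq_iff D c hc i₀ θ₁ θ₂, pullback_map_eq_iff D c hc i₀ θ₁' θ₂']
  constructor
  · rintro ⟨⟨j₁, φ₁, h₁⟩, ⟨j₂, φ₂, h₂⟩⟩
    obtain ⟨W, a, b, hab⟩ := IsCofiltered.cospan φ₁ φ₂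
    refine ⟨W, a ≫ φ₁, pullback_map_eq_of_le D i₀ φ₁ a h₁, ?_⟩
    rw [hab]
    exact pullback_map_eq_of_le D i₀ φ₂ b h₂
  · rintro ⟨j, φ, h₁, h₂⟩
    exact ⟨⟨j, φ, h₁⟩, ⟨j, φ, h₂⟩⟩

include hc in
/-- Flat affine transition maps: a pulled back morphism with finite type kernel is a monomorphism on
the limit iff it is one at a finite stage. -/
theorem mono_pullback_map_iff_of_flat (hfl : ∀ (i j : I) (φ : i ⟶ j), Flat (D.map φ))
    {F G : (D.obj i₀).Modules} [F.IsQuasicoherent] [G.IsQuasicoherent] (θ : F ⟶ G)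
    (hker : SheafOfModules.IsFiniteType (R := (D.obj i₀).ringCatSheaf) (kernel θ)) :
    Mono ((Scheme.Modules.pullback (c.π.app i₀)).map θ) ↔
      ∃ (j : I) (φ : j ⟶ i₀), Mono ((Scheme.Modules.pullback (D.map φ)).map θ) := by
  haveI : ∀ (i j : I) (f : i ⟶ j), IsAffineHom (D.map f) := fun _ _ f => inferInstance
  haveI hπ : Flat (c.π.app i₀) := Groth.Agent.S4764.result D c hc i₀ (fun j φ => hfl j i₀ φ)
  haveI := Groth.Agent.H33.SchemeDer.preservesFiniteLimits_pullback_of_flat (c.π.app i₀)
  haveI : (kernel θ).IsQuasicoherent := Groth.Agent.H12.QCohAbelian.isQuasicoherent_kernel θ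
  rw [mono_map_iff, @pullback_map_eq_iff I _ _ D c hc _ i₀ _ (kernel θ) _ _ _ hker (kernel.ι θ) 0]
  refine exists_congr fun j => exists_congr fun φ => ?_
  haveI := hfl j i₀ φ
  haveI := Groth.Agent.H33.SchemeDer.preservesFiniteLimits_pullback_of_flat (D.map φ)
  rw [mono_map_iff]

include hc in
/-- Flat affine transition maps: a pulled back sequence `F ⟶ G ⟶ H` with `im f` and `ker g` of
finite type is exact on the limit iff it is exact at a finite stage. -/
theorem exact_pullback_iff_of_flat (hfl : ∀ (i j : I) (φ : i ⟶ j), Flat (D.map φ))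
    {F G H : (D.obj i₀).Modules} [F.IsQuasicoherent] [G.IsQuasicoherent] [H.IsQuasicoherent]
    (f : F ⟶ G) (g : G ⟶ H)
    (hIm : SheafOfModules.IsFiniteType (R := (D.obj i₀).ringCatSheaf) (Limits.image f))
    (hKer : SheafOfModules.IsFiniteType (R := (D.obj i₀).ringCatSheaf) (kernel g)) :
    (∃ w : (Scheme.Modules.pullback (c.π.app i₀)).map f ≫
        (Scheme.Modules.pullback (c.π.app i₀)).map g = 0, (ShortComplex.mk _ _ w).Exact) ↔
      ∃ (j : I) (φ : j ⟶ i₀) (w : (Scheme.Modules.pullback (D.map φ)).map f ≫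
        (Scheme.Modules.pullback (D.map φ)).map g = 0), (ShortComplex.mk _ _ w).Exact := by
  haveI : ∀ (i j : I) (f : i ⟶ j), IsAffineHom (D.map f) := fun _ _ f => inferInstance
  haveI hπ : Flat (c.π.app i₀) := Groth.Agent.S4764.result D c hc i₀ (fun j φ => hfl j i₀ φ)
  haveI := Groth.Agent.H33.SchemeDer.preservesFiniteLimits_pullback_of_flat (c.π.app i₀)
  haveI hKq : (kernel g).IsQuasicoherent := Groth.Agent.H12.QCohAbelian.isQuasicoherent_kernel g
  haveI hCq : (cokernel f).IsQuasicoherent :=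
    Groth.Agent.H12.QCohAbelian.isQuasicoherent_cokernel f
  haveI hIq : (Limits.image f).IsQuasicoherent :=
    haveI := Groth.Agent.H12.QCohAbelian.isQuasicoherent_image f
    Groth.Agent.H12.QCohAbelian.isQuasicoherent_of_iso (Abelian.imageIsoImage f)
  rw [exact_map_iff, @pullback_map_eq_and_iff I _ _ D c hc _ i₀ _ (Limits.image f) H (kernel g)
    (cokernel f) hIq _ hKq hCq hIm hKer (image.ι f ≫ g) 0 (kernel.ι g ≫ cokernel.π f) 0]
  refine exists_congr fun j => exists_congr fun φ => ?_
  haveI := hfl j i₀ φ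
  haveI := Groth.Agent.H33.SchemeDer.preservesFiniteLimits_pullback_of_flat (D.map φ)
  rw [exact_map_iff]

end Groth.Agent.H24.ModLimMain
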