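import Mathlib.RingTheory.Flat.Equalizer
import Mathlib.RingTheory.Flat.Stability
import Mathlib.LinearAlgebra.TensorProduct.Quotient
import Mathlib.LinearAlgebra.TensorProduct.RightExactness
import Mathlib.LinearAlgebra.TensorProduct.Basis
import Mathlib.RingTheory.TensorProduct.Basic
import Mathlib.RingTheory.Ideal.Maps
import Mathlib.RingTheory.Nilpotent.Lemmas

set_option autoImplicit false
universe u v w

namespace Groth.Agent.H24

open TensorProduct

/-- If `P` is flat and `f : N → P` is surjective, then `ker f ∩ I N ⊆ I (ker f)`.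
(Same statement as `Groth.Agent.H46.mem_smul_ker_of_flat`; reproduced to keep this file
self-contained.) -/
theorem mem_smul_ker_of_flat {R : Type u} {N : Type v} {P : Type w} [CommRing R]
    [AddCommGroup N] [Module R N] [AddCommGroup P] [Module R P] [Module.Flat R P]
    (f : N →ₗ[R] P) (hf : Function.Surjective f) (I : Ideal R) (k : N)
    (hk : k ∈ LinearMap.ker f) (hk' : k ∈ I • (⊤ : Submodule R N)) :
    k ∈ I • LinearMap.ker f := by
  set K := LinearMap.ker f with hK
  have hinj : Function.Injective (K.subtype.lTensor (R ⧸ I)) :=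
    LinearMap.lTensor_injective_of_exact_of_flat f hf K.subtype K.subtype_injective
      (LinearMap.exact_subtype_ker_map f) (R ⧸ I)
  have h0 : (1 : R ⧸ I) ⊗ₜ[R] (⟨k, hk⟩ : K) = 0 := by
    apply hinj
    rw [map_zero, LinearMap.lTensor_tmul, Submodule.subtype_apply]
    apply (TensorProduct.quotTensorEquivQuotSMul N I).injective
    rw [map_zero, TensorProduct.quotTensorEquivQuotSMul_mk_one_tmul]
    exact (Submodule.Quotient.mk_eq_zero _).mpr hk'
  have h1 : (⟨k, hk⟩ : K) ∈ I • (⊤ : Submodule R K) := by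
    have := congrArg (TensorProduct.quotTensorEquivQuotSMul K I) h0
    rw [map_zero, TensorProduct.quotTensorEquivQuotSMul_mk_one_tmul] at this
    exact (Submodule.Quotient.mk_eq_zero _).mp this
  have h2 : K.subtype ⟨k, hk⟩ ∈ (I • (⊤ : Submodule R K)).map K.subtype :=
    Submodule.mem_map_of_mem h1
  rw [Submodule.map_smul'', Submodule.map_subtype_top] at h2
  exact h2

/-- A surjection onto a flat module whose kernel is contained in `I N` for a nilpotent ideal `I`
is injective. -/
theorem injective_of_flat_of_ker_le_smul_top {R : Type u} {N : Type v} {P : Type w} [CommRing R]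
    [AddCommGroup N] [Module R N] [AddCommGroup P] [Module R P] [Module.Flat R P]
    (f : N →ₗ[R] P) (hf : Function.Surjective f) (I : Ideal R) (hI : IsNilpotent I)
    (hker : LinearMap.ker f ≤ I • (⊤ : Submodule R N)) : Function.Injective f := by
  rw [← LinearMap.ker_eq_bot]
  have h1 : LinearMap.ker f ≤ I • LinearMap.ker f := fun k hk =>
    mem_smul_ker_of_flat f hf I k hk (hker hk)
  have h2 : ∀ r : ℕ, LinearMap.ker f ≤ (I ^ r) • LinearMap.ker f := by
    intro r
    induction r with
    | zero => rw [pow_zero, Ideal.one_eq_top, Submodule.top_smul]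
    | succ r ih =>
      calc LinearMap.ker f ≤ I • LinearMap.ker f := h1
        _ ≤ I • ((I ^ r) • LinearMap.ker f) := Submodule.smul_mono le_rfl ih
        _ = (I ^ (r + 1)) • LinearMap.ker f := by rw [← Submodule.mul_smul, ← pow_succ']
  obtain ⟨r, hr⟩ := hI
  have h3 := h2 r
  rw [hr, Ideal.zero_eq_bot, Submodule.bot_smul] at h3
  exact le_bot_iff.mp h3

/-- Nakayama for powers: if `N + I M = M` then `N + I^k M = M`. -/
theorem sup_pow_smul_top_eq_top {R : Type u} {M : Type v} [CommRing R] [AddCommGroup M] [Module R M]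
    (N : Submodule R M) (I : Ideal R) (h : N ⊔ I • (⊤ : Submodule R M) = ⊤) (k : ℕ) :
    N ⊔ (I ^ k) • (⊤ : Submodule R M) = ⊤ := by
  induction k with
  | zero => rw [pow_zero, Ideal.one_eq_top, Submodule.top_smul, sup_top_eq]
  | succ k ih =>
    have h1 : I • (⊤ : Submodule R M) = I • N ⊔ (I ^ (k + 1)) • (⊤ : Submodule R M) := by
      have : I • (⊤ : Submodule R M) = I • (N ⊔ (I ^ k) • (⊤ : Submodule R M)) := by rw [ih]
      rw [this, Submodule.smul_sup, ← Submodule.mul_smul, ← pow_succ']
    have h2 : (⊤ : Submodule R M) ≤ N ⊔ (I • N ⊔ (I ^ (k + 1)) • (⊤ : Submodule R M)) := by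
      rw [← h1, h]
    refine eq_top_iff.mpr (h2.trans ?_)
    refine sup_le le_sup_left (sup_le ?_ le_sup_right)
    exact le_trans Submodule.smul_le_right le_sup_left

/-- Nilpotent Nakayama. -/
theorem eq_top_of_sup_smul_top_eq_top_of_pow_eq_bot {R : Type u} {M : Type v} [CommRing R]
    [AddCommGroup M] [Module R M]
    (N : Submodule R M) (I : Ideal R) (h : N ⊔ I • (⊤ : Submodule R M) = ⊤) (k : ℕ)
    (hk : I ^ k = ⊥) : N = ⊤ := by
  have := sup_pow_smul_top_eq_top N I h k
  rwa [hk, Submodule.bot_smul, sup_bot_eq] at this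

section Core

variable {A : Type u} [CommRing A] {M : Type u} [AddCommGroup M] [Module A M] {Λ : Type u}
  (φ : (Λ →₀ A) →ₗ[A] M)

/-- The ideal generated by all coefficients of all relations among the images of the basis
vectors. -/
def relIdeal : Ideal A := Ideal.span {x | ∃ a ∈ LinearMap.ker φ, ∃ l, a l = x}

theorem coeff_mem_relIdeal {a : Λ →₀ A} (ha : a ∈ LinearMap.ker φ) (l : Λ) :
    a l ∈ relIdeal φ := Ideal.subset_span ⟨a, ha, l, rfl⟩

variable (A' : Type u) [CommRing A'] [Algebra A A']

theorem one_tmul_eq_sum (a : Λ →₀ A) :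
    (1 : A') ⊗ₜ[A] a =
      a.sum (fun l c => algebraMap A A' c • ((1 : A') ⊗ₜ[A] Finsupp.single l (1 : A))) := by
  conv_lhs => rw [← Finsupp.sum_single a]
  rw [Finsupp.sum, TensorProduct.tmul_sum, Finsupp.sum]
  refine Finset.sum_congr rfl fun l _ => ?_
  rw [← Finsupp.smul_single_one, TensorProduct.tmul_smul, algebraMap_smul]

theorem lTensor_subtype_mem (w : A' ⊗[A] LinearMap.ker φ) :
    LinearMap.lTensor A' (LinearMap.ker φ).subtype w ∈
      (Ideal.map (algebraMap A A') (relIdeal φ)) • (⊤ : Submodule A' (A' ⊗[A] (Λ →₀ A))) := by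
  induction w using TensorProduct.induction_on with
  | zero => rw [map_zero]; exact Submodule.zero_mem _
  | add x y hx hy => rw [map_add]; exact Submodule.add_mem _ hx hy
  | tmul b a =>
    rw [LinearMap.lTensor_tmul, Submodule.subtype_apply]
    have h1 : b ⊗ₜ[A] (a : Λ →₀ A) = b • ((1 : A') ⊗ₜ[A] (a : Λ →₀ A)) := by
      rw [TensorProduct.smul_tmul', smul_eq_mul, mul_one]
    rw [h1, one_tmul_eq_sum]
    refine Submodule.smul_mem _ _ (Submodule.sum_mem _ fun l _ => ?_)
    exact Submodule.smul_mem_smul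
      (Ideal.mem_map_of_mem _ (coeff_mem_relIdeal φ a.2 l)) Submodule.mem_top

theorem ker_baseChange_le (hφ : Function.Surjective φ) :
    LinearMap.ker (φ.baseChange A') ≤
      (Ideal.map (algebraMap A A') (relIdeal φ)) • (⊤ : Submodule A' (A' ⊗[A] (Λ →₀ A))) := by
  intro z hz
  have hex := lTensor_exact (M := LinearMap.ker φ) A' (f := (LinearMap.ker φ).subtype) (g := φ)
      (LinearMap.exact_subtype_ker_map φ) hφ
  have hz' : LinearMap.lTensor A' φ z = 0 := by
    have := LinearMap.mem_ker.mp hz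
    rwa [LinearMap.baseChange_eq_ltensor] at this
  obtain ⟨w, rfl⟩ := (hex z).mp hz'
  exact lTensor_subtype_mem φ A' w

theorem baseChange_injective_of_map_relIdeal_eq_bot (hφ : Function.Surjective φ)
    (h : Ideal.map (algebraMap A A') (relIdeal φ) = ⊥) :
    Function.Injective (φ.baseChange A') := by
  rw [← LinearMap.ker_eq_bot, eq_bot_iff]
  refine (ker_baseChange_le φ A' hφ).trans ?_
  rw [h, Submodule.bot_smul]

theorem free_baseChange_of_map_relIdeal_eq_bot (hφ : Function.Surjective φ)
    (h : Ideal.map (algebraMap A A') (relIdeal φ) = ⊥) :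
    Module.Free A' (A' ⊗[A] M) := by
  have hinj := baseChange_injective_of_map_relIdeal_eq_bot φ A' hφ h
  have hsurj : Function.Surjective (φ.baseChange A') := by
    rw [LinearMap.baseChange_eq_ltensor]
    exact LinearMap.lTensor_surjective A' hφ
  exact Module.Free.of_equiv (LinearEquiv.ofBijective (φ.baseChange A') ⟨hinj, hsurj⟩)

theorem map_relIdeal_eq_bot_of_flat (hφ : Function.Surjective φ) (J : Ideal A)
    (hJ : IsNilpotent J) (hK : relIdeal φ ≤ J) [Module.Flat A' (A' ⊗[A] M)] :
    Ideal.map (algebraMap A A') (relIdeal φ) = ⊥ := by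
  have hsurj : Function.Surjective (φ.baseChange A') := by
    rw [LinearMap.baseChange_eq_ltensor]
    exact LinearMap.lTensor_surjective A' hφ
  have hnil : IsNilpotent (Ideal.map (algebraMap A A') J) := by
    obtain ⟨r, hr⟩ := hJ
    refine ⟨r, ?_⟩
    rw [← Ideal.map_pow, hr, Ideal.zero_eq_bot, Ideal.map_bot, Ideal.zero_eq_bot]
  have hker : LinearMap.ker (φ.baseChange A') ≤
      (Ideal.map (algebraMap A A') J) • (⊤ : Submodule A' (A' ⊗[A] (Λ →₀ A))) :=
    (ker_baseChange_le φ A' hφ).trans (Submodule.smul_mono (Ideal.map_mono hK) le_rfl)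
  have hinj := injective_of_flat_of_ker_le_smul_top (φ.baseChange A') hsurj _ hnil hker
  rw [eq_bot_iff, Ideal.map_le_iff_le_comap]
  refine Ideal.span_le.mpr ?_
  rintro _ ⟨a, ha, l, rfl⟩
  change algebraMap A A' (a l) ∈ (⊥ : Ideal A')
  rw [Ideal.mem_bot]
  have h0 : (1 : A') ⊗ₜ[A] a = 0 := by
    apply hinj
    rw [map_zero, LinearMap.baseChange_tmul, LinearMap.mem_ker.mp ha, TensorProduct.tmul_zero]
  have h1 := congrArg (fun z => TensorProduct.rid A A'
    (LinearMap.lTensor A' (Finsupp.lapply l : (Λ →₀ A) →ₗ[A] A) z)) h0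
  simp only [LinearMap.lTensor_tmul, Finsupp.lapply_apply, TensorProduct.rid_tmul, map_zero] at h1
  rwa [Algebra.algebraMap_eq_smul_one]

end Core

end Groth.Agent.H24
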