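import Mathlib.Algebra.Module.Torsion.Basic
import Mathlib.RingTheory.Noetherian.Basic
import Mathlib.RingTheory.Finiteness.Basic
import Mathlib.RingTheory.Ideal.Quotient.Operations

set_option autoImplicit false

namespace Groth.Agent.H24

/-- A finite module over `S` killed by an ideal `c` with `S ⧸ c` Noetherian is Noetherian. -/
theorem isNoetherian_of_isNoetherianRing_quotient {S : Type*} [CommRing S] (c : Ideal S)
    [IsNoetherianRing (S ⧸ c)] (Q : Type*) [AddCommGroup Q] [Module S Q] [Module.Finite S Q]
    (hQ : ∀ s ∈ c, ∀ q : Q, s • q = 0) : IsNoetherian S Q := by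
  have htors : Module.IsTorsionBySet S Q c := fun q s => hQ s.1 s.2 q
  let _ : Module (S ⧸ c) Q := htors.module
  have : IsScalarTower S (S ⧸ c) Q := htors.isScalarTower
  have : Module.Finite (S ⧸ c) Q := Module.Finite.of_restrictScalars_finite S (S ⧸ c) Q
  have : IsNoetherian (S ⧸ c) Q := inferInstance
  constructor
  intro N
  let N' : Submodule (S ⧸ c) Q :=
    { carrier := N
      add_mem' := N.add_mem
      zero_mem' := N.zero_mem
      smul_mem' := by
        intro x q hq
        obtain ⟨x, rfl⟩ := Ideal.Quotient.mk_surjective x
        have : (Ideal.Quotient.mk c x) • q = x • q := htors.mk_smul x q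
        rw [this]
        exact N.smul_mem x hq }
  have hfg : N'.FG := IsNoetherian.noetherian N'
  have := hfg.restrictScalars_of_surjective (R := S) Ideal.Quotient.mk_surjective
  convert this
  ext
  rfl

end Groth.Agent.H24
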