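import Mathlib

/-!
# Base change of a limit of `S`-schemes along `X ⟶ S`

Given a diagram `D : J ⥤ Scheme` with structure maps `t : D ⟶ const S`, a cone `c` with a
compatible structure map `tS : c.pt ⟶ S`, and `f : X ⟶ S`, the schemes `X ×_S D_j` form a diagram
and `X ×_S c.pt` is its limit when `c` is a limit cone and `J` is connected.
-/

set_option autoImplicit false
universe u
open CategoryTheory CategoryTheory.Limits AlgebraicGeometry

namespace Groth.Agent.H24.OverBC

variable {J : Type*} [Category J] (D : J ⥤ Scheme.{u}) {S X : Scheme.{u}}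
  (t : D ⟶ (Functor.const J).obj S) (f : X ⟶ S)

theorem map_t {i j : J} (g : i ⟶ j) : D.map g ≫ t.app j = t.app i := by
  have := t.naturality g
  simpa using this

/-- The transition maps `X ×_S D_i ⟶ X ×_S D_j`. -/
noncomputable def bcMap {i j : J} (g : i ⟶ j) : pullback f (t.app i) ⟶ pullback f (t.app j) :=
  pullback.lift (pullback.fst _ _) (pullback.snd _ _ ≫ D.map g)
    (by rw [Category.assoc, map_t, pullback.condition])

@[reassoc (attr := simp)]
theorem bcMap_fst {i j : J} (g : i ⟶ j) :
    bcMap D t f g ≫ pullback.fst _ _ = pullback.fst _ _ :=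
  pullback.lift_fst _ _ _

@[reassoc (attr := simp)]
theorem bcMap_snd {i j : J} (g : i ⟶ j) :
    bcMap D t f g ≫ pullback.snd _ _ = pullback.snd _ _ ≫ D.map g :=
  pullback.lift_snd _ _ _

theorem isPullback_bcMap {i j : J} (g : i ⟶ j) :
    IsPullback (bcMap D t f g) (pullback.snd _ _) (pullback.snd _ _) (D.map g) := by
  refine IsPullback.of_right ?_ (bcMap_snd D t f g) (IsPullback.of_hasPullback f (t.app j))
  rw [bcMap_fst]
  have := IsPullback.of_hasPullback f (t.app i)
  convert this using 2
  exact map_t D t g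

/-- The diagram `j ↦ X ×_S D_j`. -/
noncomputable def bcDiagram : J ⥤ Scheme.{u} where
  obj j := pullback f (t.app j)
  map g := bcMap D t f g
  map_id j := by
    apply pullback.hom_ext
    · rw [bcMap_fst, Category.id_comp]
    · rw [bcMap_snd, Category.id_comp, D.map_id, Category.comp_id]
  map_comp g g' := by
    apply pullback.hom_ext
    · rw [Category.assoc, bcMap_fst, bcMap_fst, bcMap_fst]
    · rw [Category.assoc, bcMap_snd, bcMap_snd, bcMap_snd_assoc, D.map_comp]

instance {i j : J} (g : i ⟶ j) [IsAffineHom (D.map g)] :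
    IsAffineHom ((bcDiagram D t f).map g) :=
  MorphismProperty.of_isPullback (P := @IsAffineHom) (isPullback_bcMap D t f g).flip inferInstance

/-- The projection to the original diagram. -/
noncomputable def bcDiagramι : bcDiagram D t f ⟶ D where
  app _ := pullback.snd _ _
  naturality _ _ g := bcMap_snd D t f g

variable (c : Cone D) (tS : c.pt ⟶ S) (htS : ∀ j, c.π.app j ≫ t.app j = tS)

/-- The projections from `X ×_S c.pt`. -/
noncomputable def bcπ (j : J) : pullback f tS ⟶ pullback f (t.app j) :=
  pullback.lift (pullback.fst _ _) (pullback.snd _ _ ≫ c.π.app j)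
    (by rw [Category.assoc, htS, pullback.condition])

@[reassoc (attr := simp)]
theorem bcπ_fst (j : J) : bcπ D t f c tS htS j ≫ pullback.fst _ _ = pullback.fst _ _ :=
  pullback.lift_fst _ _ _

@[reassoc (attr := simp)]
theorem bcπ_snd (j : J) :
    bcπ D t f c tS htS j ≫ pullback.snd _ _ = pullback.snd _ _ ≫ c.π.app j :=
  pullback.lift_snd _ _ _

theorem isPullback_bcπ (j : J) :
    IsPullback (bcπ D t f c tS htS j) (pullback.snd _ _) (pullback.snd _ _) (c.π.app j) := by
  refine IsPullback.of_right ?_ (bcπ_snd D t f c tS htS j) (IsPullback.of_hasPullback f (t.app j))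
  rw [bcπ_fst]
  have := IsPullback.of_hasPullback f tS
  convert this using 2
  exact htS j

/-- The cone with point `X ×_S c.pt`. -/
noncomputable def bcCone : Cone (bcDiagram D t f) where
  pt := pullback f tS
  π :=
    { app := fun j => bcπ D t f c tS htS j
      naturality := fun i j g => by
        apply pullback.hom_ext
        · change (𝟙 _ ≫ bcπ D t f c tS htS j) ≫ _ = (bcπ D t f c tS htS i ≫ bcMap D t f g) ≫ _
          rw [Category.id_comp, Category.assoc, bcMap_fst, bcπ_fst, bcπ_fst]
        · change (𝟙 _ ≫ bcπ D t f c tS htS j) ≫ _ = (bcπ D t f c tS htS i ≫ bcMap D t f g) ≫ _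
          rw [Category.id_comp, Category.assoc, bcMap_snd, bcπ_snd, bcπ_snd_assoc, c.w] }

/-- `X ×_S c.pt` is the limit of the `X ×_S D_j`. -/
noncomputable def isLimitBcCone [IsConnected J] (hc : IsLimit c) :
    IsLimit (bcCone D t f c tS htS) :=
  isLimitOfIsPullbackOfIsConnected (bcDiagramι D t f) _ c
    { hom := pullback.snd _ _
      w := fun j => (bcπ_snd D t f c tS htS j).symm }
    (fun j => isPullback_bcπ D t f c tS htS j) hc

section BaseMap

variable {S X T₁ T₂ : Scheme.{u}} (f : X ⟶ S) (a : T₁ ⟶ S) (b : T₂ ⟶ S) (r : T₁ ⟶ T₂)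
  (h : r ≫ b = a)

/-- The canonical map `X ×_S T₁ ⟶ X ×_S T₂` induced by an `S`-morphism `T₁ ⟶ T₂`. -/
noncomputable def baseMap : pullback f a ⟶ pullback f b :=
  pullback.lift (pullback.fst _ _) (pullback.snd _ _ ≫ r)
    (by rw [Category.assoc, h, pullback.condition])

@[reassoc (attr := simp)]
theorem baseMap_fst : baseMap f a b r h ≫ pullback.fst _ _ = pullback.fst _ _ :=
  pullback.lift_fst _ _ _

@[reassoc (attr := simp)]
theorem baseMap_snd : baseMap f a b r h ≫ pullback.snd _ _ = pullback.snd _ _ ≫ r :=
  pullback.lift_snd _ _ _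

theorem isPullback_baseMap :
    IsPullback (baseMap f a b r h) (pullback.snd _ _) (pullback.snd _ _) r := by
  refine IsPullback.of_right ?_ (baseMap_snd f a b r h) (IsPullback.of_hasPullback f b)
  rw [baseMap_fst]
  have := IsPullback.of_hasPullback f a
  convert this using 2

end BaseMap

end Groth.Agent.H24.OverBC
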