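import Mathlib
import Groth.Agent.H24.UnivOpen

/-!
# The system of polynomial algebras on finite sets of variables

For a ring `A` and a type `B` of variables, the polynomial rings `A[x_F]`, `F` a finite subset of
`B`, form a directed system of finitely presented `A`-algebras with colimit `A[x_B]`.
-/

set_option autoImplicit false
universe u
open CategoryTheory CategoryTheory.Limits AlgebraicGeometry

namespace Groth.Agent.H24.PolySystem

variable (A : Type u) [CommRing A] (B : Type u)

variable {B} in
/-- Inclusion of finite sets of variables. -/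
def incl {F F' : Finset B} (h : F ≤ F') : F → F' := fun x => ⟨x.1, h x.2⟩

variable {B} in
/-- The transition maps `A[x_F] ⟶ A[x_F']`. -/
noncomputable abbrev tr {F F' : Finset B} (h : F ≤ F') :
    CommRingCat.of (MvPolynomial F A) ⟶ CommRingCat.of (MvPolynomial F' A) :=
  CommRingCat.ofHom (MvPolynomial.rename (incl h)).toRingHom

variable {B} in
/-- The maps `A[x_F] ⟶ A[x_B]`. -/
noncomputable abbrev toBig (F : Finset B) :
    CommRingCat.of (MvPolynomial F A) ⟶ CommRingCat.of (MvPolynomial B A) :=
  CommRingCat.ofHom (MvPolynomial.rename (Subtype.val : F → B)).toRingHom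

variable {B} in
/-- The structure maps `A ⟶ A[x_F]`. -/
noncomputable abbrev str (F : Finset B) :
    CommRingCat.of A ⟶ CommRingCat.of (MvPolynomial F A) :=
  CommRingCat.ofHom (MvPolynomial.C (σ := F) (R := A))

/-- The structure map `A ⟶ A[x_B]`. -/
noncomputable abbrev strBig : CommRingCat.of A ⟶ CommRingCat.of (MvPolynomial B A) :=
  CommRingCat.ofHom (MvPolynomial.C (σ := B) (R := A))

variable {B}

theorem tr_refl (F : Finset B) : tr A (le_refl F) = 𝟙 _ := by
  refine CommRingCat.hom_ext (RingHom.ext fun x => ?_)
  change MvPolynomial.rename (incl (le_refl F)) x = x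
  have : incl (le_refl F) = id := by ext y; rfl
  rw [this, MvPolynomial.rename_id]
  rfl

theorem tr_trans {F F' F'' : Finset B} (h : F ≤ F') (h' : F' ≤ F'') :
    tr A h ≫ tr A h' = tr A (h.trans h') := by
  refine CommRingCat.hom_ext (RingHom.ext fun x => ?_)
  change MvPolynomial.rename (incl h') (MvPolynomial.rename (incl h) x) = _
  rw [MvPolynomial.rename_rename]
  rfl

theorem tr_toBig {F F' : Finset B} (h : F ≤ F') : tr A h ≫ toBig A F' = toBig A F := by
  refine CommRingCat.hom_ext (RingHom.ext fun x => ?_)
  change MvPolynomial.rename Subtype.val (MvPolynomial.rename (incl h) x) = _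
  rw [MvPolynomial.rename_rename]
  rfl

theorem str_tr {F F' : Finset B} (h : F ≤ F') : str A F ≫ tr A h = str A F' := by
  refine CommRingCat.hom_ext (RingHom.ext fun x => ?_)
  change MvPolynomial.rename (incl h) (MvPolynomial.C x) = _
  rw [MvPolynomial.rename_C]
  rfl

theorem str_toBig (F : Finset B) : str A F ≫ toBig A F = strBig A B := by
  refine CommRingCat.hom_ext (RingHom.ext fun x => ?_)
  change MvPolynomial.rename Subtype.val (MvPolynomial.C x) = _
  rw [MvPolynomial.rename_C]
  rfl

theorem str_finitePresentation (F : Finset B) : (str A F).hom.FinitePresentation := by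
  change (algebraMap A (MvPolynomial F A)).FinitePresentation
  rw [RingHom.finitePresentation_algebraMap]
  infer_instance

variable (B)

/-- The diagram of polynomial rings. -/
noncomputable def diagram : Finset B ⥤ CommRingCat.{u} where
  obj F := CommRingCat.of (MvPolynomial F A)
  map g := tr A (leOfHom g)
  map_id F := tr_refl A F
  map_comp g g' := (tr_trans A _ _).symm

/-- The cocone with point `A[x_B]`. -/
noncomputable def cocone : Cocone (diagram A B) where
  pt := CommRingCat.of (MvPolynomial B A)
  ι := { app := fun F => toBig A F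
         naturality := fun F F' g => (tr_toBig A (leOfHom g)).trans (Category.comp_id _).symm }

theorem isColimit_cocone : Nonempty (IsColimit (cocone A B)) := by
  apply isColimit_commRingCat_of_directed
  · intro (s : MvPolynomial B A)
    obtain ⟨F, q, hq⟩ := MvPolynomial.exists_finset_rename s
    exact ⟨F, q, hq.symm⟩
  · intro F x y hxy
    refine ⟨F, le_refl F, ?_⟩
    have : x = y := MvPolynomial.rename_injective _ Subtype.val_injective hxy
    rw [this]

/-- The system of spectra. -/
noncomputable def specDiagram : (Finset B)ᵒᵖ ⥤ Scheme.{u} := (diagram A B).op ⋙ Scheme.Spec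

/-- The cone `Spec A[x_B] ⟶ Spec A[x_F]`. -/
noncomputable def specCone : Cone (specDiagram A B) := Scheme.Spec.mapCone (cocone A B).op

/-- `Spec A[x_B]` is the limit of the `Spec A[x_F]`. -/
noncomputable def isLimitSpecCone : IsLimit (specCone A B) :=
  isLimitOfPreserves Scheme.Spec (isColimit_cocone A B).some.op

section Eval

variable {A} {B} [CommRing B] (φ : A →+* B)

/-- Evaluation `A[x_F] ⟶ B`, `x_b ↦ b`. -/
noncomputable abbrev ev (F : Finset B) : CommRingCat.of (MvPolynomial F A) ⟶ CommRingCat.of B :=
  CommRingCat.ofHom (MvPolynomial.eval₂Hom φ (Subtype.val : F → B))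

/-- Evaluation `A[x_B] ⟶ B`, `x_b ↦ b`. -/
noncomputable abbrev evBig : CommRingCat.of (MvPolynomial B A) ⟶ CommRingCat.of B :=
  CommRingCat.ofHom (MvPolynomial.eval₂Hom φ (id : B → B))

theorem str_ev (F : Finset B) : str A F ≫ ev φ F = CommRingCat.ofHom φ := by
  refine CommRingCat.hom_ext (RingHom.ext fun x => ?_)
  exact MvPolynomial.eval₂Hom_C _ _ _

theorem strBig_evBig : strBig A B ≫ evBig φ = CommRingCat.ofHom φ := by
  refine CommRingCat.hom_ext (RingHom.ext fun x => ?_)
  exact MvPolynomial.eval₂Hom_C _ _ _

theorem toBig_evBig (F : Finset B) : toBig A F ≫ evBig φ = ev φ F := by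
  refine CommRingCat.hom_ext (RingHom.ext fun x => ?_)
  exact MvPolynomial.eval₂_rename _ _ _ _

theorem evBig_surjective : Function.Surjective (evBig φ).hom := fun b =>
  ⟨MvPolynomial.X b, MvPolynomial.eval₂Hom_X' _ _ _⟩

end Eval

end Groth.Agent.H24.PolySystem
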