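import Mathlib

/-!
# Reducedness of localizations when generators of the nilradical die
-/

set_option autoImplicit false
universe u
open CategoryTheory CategoryTheory.Limits AlgebraicGeometry

namespace Groth.Agent.H24

/-- If the nilradical of `A` is generated by a set `N` all of whose elements map to zero in a
localization `B` of `A`, then `B` is reduced. -/
theorem isReduced_of_isLocalization_of_span_eq_nilradical {A B : Type*} [CommRing A] [CommRing B]
    [Algebra A B] (M : Submonoid A) [IsLocalization M B] (N : Set A)
    (hN : Ideal.span N = nilradical A) (h0 : ∀ n ∈ N, algebraMap A B n = 0) : IsReduced B := by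
  constructor
  intro z hz
  obtain ⟨⟨a, m⟩, hz'⟩ := IsLocalization.surj M z
  simp only at hz'
  have hnil : IsNilpotent (algebraMap A B a) := by
    rw [← hz']
    exact (Commute.all z _).isNilpotent_mul_right hz
  obtain ⟨k, hk⟩ := hnil
  rw [← map_pow, ← map_zero (algebraMap A B)] at hk
  obtain ⟨t, ht⟩ := (IsLocalization.eq_iff_exists M B).mp hk
  have hta : (t : A) * a ∈ nilradical A := by
    rw [mem_nilradical]
    refine ⟨k + 1, ?_⟩
    rw [mul_pow, pow_succ, pow_succ]
    have : (t : A) ^ k * (t : A) * (a ^ k * a) = (t : A) ^ k * a * ((t : A) * a ^ k) := by ring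
    rw [this, ht, mul_zero, mul_zero]
  rw [← hN] at hta
  have hmap : algebraMap A B ((t : A) * a) ∈ Ideal.map (algebraMap A B) (Ideal.span N) :=
    Ideal.mem_map_of_mem _ hta
  rw [Ideal.map_span] at hmap
  have hbot : Ideal.span (⇑(algebraMap A B) '' N) = ⊥ := by
    rw [Ideal.span_eq_bot]
    rintro _ ⟨n, hn, rfl⟩
    exact h0 n hn
  rw [hbot, Ideal.mem_bot, map_mul] at hmap
  have hunit : IsUnit (algebraMap A B (t : A)) := IsLocalization.map_units B t
  have ha0 : algebraMap A B a = 0 := by
    rcases hunit.exists_left_inv with ⟨u, hu⟩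
    calc algebraMap A B a = u * algebraMap A B (t : A) * algebraMap A B a := by rw [hu, one_mul]
      _ = u * (algebraMap A B (t : A) * algebraMap A B a) := by ring
      _ = 0 := by rw [hmap, mul_zero]
  have hm : IsUnit (algebraMap A B (m : A)) := IsLocalization.map_units B m
  rw [ha0] at hz'
  exact (hm.mul_left_eq_zero).mp hz'

theorem comp_app_eq_zero {X Y Z : Scheme.{u}} (f : X ⟶ Y) (g : Y ⟶ Z) (U : Z.Opens)
    (s : Γ(Z, U)) (h : g.app U s = 0) : (f ≫ g).app U s = 0 := by
  change (g.app U ≫ f.app (g ⁻¹ᵁ U)) s = 0
  rw [CommRingCat.comp_apply, h, map_zero]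

set_option backward.isDefEq.respectTransparency.types false in
/-- Let `f : X ⟶ Y` be an open immersion, `U` an affine open of `Y` whose nilradical is generated
by a set `N` of sections all pulling back to zero on `X`. Then the stalks of `X` at points over
`U` are reduced. -/
theorem isReduced_stalk_of_isOpenImmersion_of_app_eq_zero {X Y : Scheme.{u}} (f : X ⟶ Y)
    [IsOpenImmersion f] {U : Y.Opens} (hU : IsAffineOpen U) (N : Set Γ(Y, U))
    (hN : Ideal.span N = nilradical Γ(Y, U)) (h0 : ∀ n ∈ N, f.app U n = 0) (y : X)
    (hy : f y ∈ U) : _root_.IsReduced (X.presheaf.stalk y) := by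
  letI := Y.presheaf.algebra_section_stalk ⟨f y, hy⟩
  have hloc := hU.isLocalization_stalk ⟨f y, hy⟩
  have hred : _root_.IsReduced (Y.presheaf.stalk (f y)) := by
    refine isReduced_of_isLocalization_of_span_eq_nilradical
      (hU.primeIdealOf ⟨f y, hy⟩).asIdeal.primeCompl N hN ?_
    intro n hn
    have hinj : Function.Injective (f.stalkMap y) :=
      ((ConcreteCategory.isIso_iff_bijective (f.stalkMap y)).mp inferInstance).1
    apply hinj
    rw [map_zero]
    change f.stalkMap y (Y.presheaf.germ U (f y) hy n) = 0
    rw [Scheme.Hom.germ_stalkMap_apply, h0 n hn, map_zero]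
  exact isReduced_of_injective (inv (f.stalkMap y)).hom
    ((ConcreteCategory.isIso_iff_bijective (inv (f.stalkMap y))).mp inferInstance).1

end Groth.Agent.H24
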