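import Mathlib

/-!
# Regular elements along flat maps and filtered colimits of Noetherian rings (helper24)
-/

set_option autoImplicit false
universe u
open CategoryTheory CategoryTheory.Limits

namespace Groth.Agent.H24.SchDenseRing

/-- If `φ : A → B` is flat and kills the annihilator of `t`, then `φ t` is a non zero divisor. -/
theorem map_mem_nonZeroDivisors_of_flat {A B : Type*} [CommRing A] [CommRing B] (φ : A →+* B)
    (hφ : φ.Flat) (t : A) (h : ∀ a : A, a * t = 0 → φ a = 0) : φ t ∈ nonZeroDivisors B := by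
  letI := φ.toAlgebra
  haveI : Module.Flat A B := hφ
  rw [mem_nonZeroDivisors_iff_right]
  intro y hy
  have h0 : ∑ i : Fin 1, (fun _ : Fin 1 => t) i • (fun _ : Fin 1 => y) i = 0 := by
    simp only [Finset.univ_unique, Finset.sum_singleton, Algebra.smul_def]
    rw [mul_comm]
    exact hy
  obtain ⟨k, a, y', hy', ha⟩ := Module.Flat.isTrivialRelation_of_sum_smul_eq_zero
    (R := A) (M := B) (f := fun _ : Fin 1 => t) (x := fun _ : Fin 1 => y) h0
  have h1 := hy' 0
  simp only at h1
  rw [h1]
  refine Finset.sum_eq_zero (fun j _ => ?_)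
  have h2 := ha j
  simp only [Finset.univ_unique, Finset.sum_singleton] at h2
  rw [Algebra.smul_def]
  have h3 : φ (a default j) = 0 := h _ (by rw [mul_comm]; exact h2)
  change φ (a 0 j) * y' j = 0
  have : (0 : Fin 1) = default := rfl
  rw [this, h3, zero_mul]

/-- Flat maps preserve non zero divisors. -/
theorem map_mem_nonZeroDivisors_of_flat' {A B : Type*} [CommRing A] [CommRing B] (φ : A →+* B)
    (hφ : φ.Flat) (t : A) (ht : t ∈ nonZeroDivisors A) : φ t ∈ nonZeroDivisors B :=
  map_mem_nonZeroDivisors_of_flat φ hφ t (fun a ha => by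
    rw [(mem_nonZeroDivisors_iff_right.mp ht) a ha, map_zero])

variable {J : Type u} [SmallCategory J] [IsFiltered J] (R : J ⥤ CommRingCat.{u}) (c : Cocone R)
  (hc : IsColimit c)

include hc in
/-- Finitely many elements that vanish in the colimit vanish at a common finite stage. -/
theorem exists_stage_map_eq_zero {j : J} (S : Finset (R.obj j))
    (hS : ∀ x ∈ S, (c.ι.app j).hom x = 0) :
    ∃ (j' : J) (f : j ⟶ j'), ∀ x ∈ S, (R.map f).hom x = 0 := by
  classical
  induction S using Finset.induction_on with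
  | empty => exact ⟨j, 𝟙 j, fun x hx => absurd hx (Finset.notMem_empty x)⟩
  | insert a S _ ih =>
    obtain ⟨j₁, f₁, h₁⟩ := ih (fun x hx => hS x (Finset.mem_insert_of_mem hx))
    have ha : (c.ι.app j).hom a = (c.ι.app j).hom 0 := by
      rw [hS a (Finset.mem_insert_self a S), map_zero]
    obtain ⟨k, f, g, hk⟩ := Concrete.isColimit_exists_of_rep_eq R hc a 0 ha
    have hk' : (R.map f).hom a = 0 := by
      have : (R.map g).hom 0 = 0 := map_zero _
      rw [← this]
      exact hk
    obtain ⟨j', g₁, g₂, hg⟩ := IsFiltered.span f₁ f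
    refine ⟨j', f₁ ≫ g₁, ?_⟩
    intro x hx
    rcases Finset.mem_insert.mp hx with rfl | hx
    · rw [hg, R.map_comp]
      change (R.map g₂).hom ((R.map f).hom x) = 0
      rw [hk', map_zero]
    · rw [R.map_comp]
      change (R.map g₁).hom ((R.map f₁).hom x) = 0
      rw [h₁ x hx, map_zero]

include hc in
/-- In a filtered system of rings with flat transition maps, an element of a Noetherian stage
whose image in the colimit is a non zero divisor becomes a non zero divisor at a finite stage
(and stays so afterwards). -/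
theorem exists_stage_mem_nonZeroDivisors
    (hflat : ∀ {j j' : J} (f : j ⟶ j'), (R.map f).hom.Flat) (j : J) [IsNoetherianRing (R.obj j)]
    (t : R.obj j) (ht : (c.ι.app j).hom t ∈ nonZeroDivisors c.pt) :
    ∃ (j' : J) (f : j ⟶ j'), ∀ (j'' : J) (g : j' ⟶ j''),
      (R.map (f ≫ g)).hom t ∈ nonZeroDivisors (R.obj j'') := by
  classical
  let N : Ideal (R.obj j) := LinearMap.ker (LinearMap.mulRight (R.obj j) t)
  have hN : ∀ a, a ∈ N ↔ a * t = 0 := fun a => by
    simp [N, LinearMap.mem_ker]
  obtain ⟨S, hS⟩ := (isNoetherianRing_iff_ideal_fg (R.obj j)).mp inferInstance N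
  have hS0 : ∀ x ∈ S, (c.ι.app j).hom x = 0 := by
    intro x hx
    have hxN : x ∈ N := hS ▸ Ideal.subset_span hx
    have h1 : (c.ι.app j).hom x * (c.ι.app j).hom t = 0 := by
      rw [← map_mul, (hN x).mp hxN, map_zero]
    exact (mem_nonZeroDivisors_iff_right.mp ht) _ h1
  obtain ⟨j', f, hf⟩ := exists_stage_map_eq_zero R c hc S hS0
  refine ⟨j', f, fun j'' g => ?_⟩
  refine map_mem_nonZeroDivisors_of_flat _ (hflat (f ≫ g)) t (fun a ha => ?_)
  have haN : a ∈ Ideal.span (S : Set (R.obj j)) := hS ▸ (hN a).mpr ha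
  have hle : Ideal.span (S : Set (R.obj j)) ≤ RingHom.ker (R.map (f ≫ g)).hom := by
    rw [Ideal.span_le]
    intro x hx
    rw [SetLike.mem_coe, RingHom.mem_ker, R.map_comp]
    change (R.map g).hom ((R.map f).hom x) = 0
    rw [hf x hx, map_zero]
  exact (RingHom.mem_ker).mp (hle haN)

end Groth.Agent.H24.SchDenseRing
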