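import Mathlib
import Groth.Prelude.Def_CInt
import Groth.Agent.H24.SchDenseRing
import Groth.Agent.H24.ModLimMain
import Groth.Agent.H19.SchDenseAff
import Groth.Agent.H19.SchDense
import Groth.Agent.H90.SchDenseSection
import Groth.Agent.S4764

/-!
# Schematic density of the preimage of an open in a cofiltered limit of Noetherian schemes with
flat affine transition maps descends to a finite stage (helper24)
-/

set_option autoImplicit false
universe u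
open CategoryTheory CategoryTheory.Limits AlgebraicGeometry

namespace Groth.Agent.H24.SchDenseLim

/-- Schematic density is local: it can be checked on the members of an open cover. -/
theorem isSchematicallyDense_of_cover {X : Scheme.{u}} (U : X.Opens) {ι : Type*}
    (W : ι → X.Opens) (hW : ∀ x : X, ∃ k, x ∈ W k)
    (h : ∀ k, CInt.IsSchematicallyDense ((W k).ι ⁻¹ᵁ U)) : CInt.IsSchematicallyDense U := by
  intro V
  rw [injective_iff_map_eq_zero]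
  intro a ha
  refine X.sheaf.eq_of_locally_eq' (fun k => V ⊓ W k) V (fun k => homOfLE inf_le_left) ?_ a 0
    (fun k => ?_)
  · intro x hx
    obtain ⟨k, hk⟩ := hW x
    exact TopologicalSpace.Opens.mem_iSup.mpr ⟨k, hx, hk⟩
  · rw [map_zero]
    let V' : (W k).toScheme.Opens := (W k).ι ⁻¹ᵁ V
    have e : (W k).ι ''ᵁ V' = V ⊓ W k := Groth.Agent.H19.ι_image_preimage_eq (W k) V
    have hle : (W k).ι ''ᵁ V' ≤ V := e.le.trans inf_le_left
    have hinj := h k V'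
    rw [injective_iff_map_eq_zero] at hinj
    have hb : X.presheaf.map (homOfLE hle).op a = 0 := by
      apply hinj
      have hle2 : (W k).ι ''ᵁ (V' ⊓ (W k).ι ⁻¹ᵁ U) ≤ V ⊓ U := by
        rintro _ ⟨y, ⟨hy1, hy2⟩, rfl⟩
        exact ⟨hy1, hy2⟩
      have h1 : (W k).toScheme.presheaf.map
          (homOfLE (inf_le_left : V' ⊓ (W k).ι ⁻¹ᵁ U ≤ V')).op
            (X.presheaf.map (homOfLE hle).op a) =
          X.presheaf.map (homOfLE hle2).op
            (X.presheaf.map (homOfLE (inf_le_left : V ⊓ U ≤ V)).op a) := by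
        change (X.presheaf.map _ ≫ X.presheaf.map _) a = (X.presheaf.map _ ≫ X.presheaf.map _) a
        rw [← Functor.map_comp, ← Functor.map_comp]
        rfl
      rw [h1, ha, map_zero]
      rfl
    have h2 : X.sheaf.obj.map (homOfLE (inf_le_left : V ⊓ W k ≤ V)).op a =
        X.presheaf.map (eqToHom e.symm).op (X.presheaf.map (homOfLE hle).op a) := by
      change X.presheaf.map _ a = (X.presheaf.map _ ≫ X.presheaf.map _) a
      rw [← Functor.map_comp]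
      rfl
    rw [h2, hb, map_zero]
    rfl

section Affine

variable {I : Type u} [SmallCategory I] [IsCofiltered I] (D : I ⥤ Scheme.{u}) (c : Cone D)
  (hc : IsLimit c)

include hc in
/-- Affine Noetherian case. -/
theorem exists_stage_of_isAffine [∀ i, IsAffine (D.obj i)] [∀ i, IsNoetherian (D.obj i)]
    [IsNoetherian c.pt] (hfl : ∀ {i j : I} (f : i ⟶ j), Flat (D.map f)) (i₀ : I)
    (U : (D.obj i₀).Opens) (h : CInt.IsSchematicallyDense (c.π.app i₀ ⁻¹ᵁ U)) :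
    ∃ (i : I) (g : i ⟶ i₀), CInt.IsSchematicallyDense (D.map g ⁻¹ᵁ U) := by
  haveI : ∀ {i j : I} (f : i ⟶ j), IsAffineHom (D.map f) := fun f => inferInstance
  haveI : IsAffine c.pt := Scheme.isAffine_of_isLimit c hc
  obtain ⟨t, ht, htU⟩ := (Groth.Agent.H19.SchDenseAff.main c.pt (Or.inl inferInstance) _).mp h
  obtain ⟨i₁, t₁, rfl⟩ := exists_appTop_π_eq_of_isAffine_of_isLimit D c hc t
  -- the system of rings of global sections
  have hcol : IsColimit (Scheme.Γ.mapCocone c.op) := (nonempty_isColimit_Γ_mapCocone D c hc).some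
  have hflat : ∀ {j j' : Iᵒᵖ} (f : j ⟶ j'), ((D.op ⋙ Scheme.Γ).map f).hom.Flat := by
    intro j j' f
    haveI := hfl f.unop
    haveI : IsAffine (D.obj j.unop) := inferInstance
    haveI : IsAffine (D.obj j'.unop) := inferInstance
    show ((D.map f.unop).appTop).hom.Flat
    exact (HasRingHomProperty.iff_of_isAffine (P := @Flat)).mp inferInstance
  haveI : IsNoetherianRing ((D.op ⋙ Scheme.Γ).obj (Opposite.op i₁)) :=
    IsLocallyNoetherian.component_noetherian ⟨⊤, isAffineOpen_top (D.obj i₁)⟩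
  obtain ⟨j₂, f₂, h₂⟩ := Groth.Agent.H24.SchDenseRing.exists_stage_mem_nonZeroDivisors
    (D.op ⋙ Scheme.Γ) (Scheme.Γ.mapCocone c.op) hcol hflat (Opposite.op i₁) t₁ ht
  obtain ⟨i₃, a, b, -⟩ : ∃ (i₃ : I) (a : i₃ ⟶ j₂.unop) (b : i₃ ⟶ i₀), True :=
    ⟨IsCofiltered.min j₂.unop i₀, IsCofiltered.minToLeft _ _, IsCofiltered.minToRight _ _, trivial⟩
  obtain ⟨t₃, ht₃⟩ : ∃ t₃ : Γ(D.obj i₃, ⊤), t₃ = (D.map (a ≫ f₂.unop)).appTop t₁ := ⟨_, rfl⟩
  have hπ₃ : (c.π.app i₃).appTop t₃ = (c.π.app i₁).appTop t₁ := by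
    rw [ht₃, ← CommRingCat.comp_apply, ← Scheme.Hom.comp_appTop, c.w]
  have hcomp : IsCompact ((D.obj i₃).basicOpen t₃ : Set (D.obj i₃)) :=
    ((isAffineOpen_top (D.obj i₃)).basicOpen t₃).isCompact
  have hle : c.π.app i₃ ⁻¹ᵁ (D.obj i₃).basicOpen t₃ ≤ c.π.app i₃ ⁻¹ᵁ (D.map b ⁻¹ᵁ U) := by
    rw [Scheme.preimage_basicOpen_top, hπ₃, ← Scheme.Hom.comp_preimage, c.w]
    exact htU
  obtain ⟨i₄, f₄, h₄⟩ := exists_map_preimage_le_map_preimage D c hc hcomp hle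
  refine ⟨i₄, f₄ ≫ b, ?_⟩
  refine (Groth.Agent.H19.SchDenseAff.main (D.obj i₄) (Or.inl inferInstance) _).mpr
    ⟨(D.map f₄).appTop t₃, ?_, ?_⟩
  · have h5 := h₂ (Opposite.op i₄) (f₄ ≫ a).op
    have h6 : ((D.op ⋙ Scheme.Γ).map (f₂ ≫ (f₄ ≫ a).op)).hom t₁ = (D.map f₄).appTop t₃ := by
      have e1 : ((D.op ⋙ Scheme.Γ).map (f₂ ≫ (f₄ ≫ a).op)).hom t₁ =
          (D.map ((f₄ ≫ a) ≫ f₂.unop)).appTop t₁ := rfl
      rw [e1, ht₃, ← CommRingCat.comp_apply, ← Scheme.Hom.comp_appTop, ← D.map_comp,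
        Category.assoc]
    rw [← h6]
    exact h5
  · rw [← Scheme.preimage_basicOpen_top, D.map_comp, Scheme.Hom.comp_preimage]
    exact h₄

end Affine

section General

variable {I : Type u} [SmallCategory I] [IsCofiltered I] (D : I ⥤ Scheme.{u}) (c : Cone D)
  (hc : IsLimit c) [∀ {i j : I} (f : i ⟶ j), IsAffineHom (D.map f)]

/-- `(f.resLE U V e)⁻¹ (U.ι⁻¹ O) = V.ι⁻¹ (f⁻¹ O)`. -/
theorem resLE_preimage_ι_preimage {X Y : Scheme.{u}} (f : X ⟶ Y) (U : Y.Opens) (V : X.Opens)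
    (e : V ≤ f ⁻¹ᵁ U) (O : Y.Opens) :
    f.resLE U V e ⁻¹ᵁ (U.ι ⁻¹ᵁ O) = V.ι ⁻¹ᵁ (f ⁻¹ᵁ O) := by
  rw [← Scheme.Hom.comp_preimage, ← Scheme.Hom.comp_preimage, Scheme.Hom.resLE_comp_ι]

include hc in
/-- Schematic density of `π⁻¹ U₀` in the limit gives schematic density at a finite stage. -/
theorem exists_stage [∀ i, IsNoetherian (D.obj i)] [IsNoetherian c.pt]
    (hfl : ∀ {i j : I} (f : i ⟶ j), Flat (D.map f)) (i₀ : I) (U₀ : (D.obj i₀).Opens)
    (h : CInt.IsSchematicallyDense (c.π.app i₀ ⁻¹ᵁ U₀)) :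
    ∃ (i : I) (g : i ⟶ i₀), CInt.IsSchematicallyDense (D.map g ⁻¹ᵁ U₀) := by
  have hPr : ∀ (V : (D.obj i₀).Opens) (_ : IsAffineOpen V), ∃ ψ₁ : Over i₀,
      ∀ (ψ : Over i₀) (_ : ψ ⟶ ψ₁), CInt.IsSchematicallyDense
        ((D.map ψ.hom ⁻¹ᵁ V).ι ⁻¹ᵁ (D.map ψ.hom ⁻¹ᵁ U₀)) := by
    intro V hV
    haveI : ∀ ψ, IsAffine ((opensDiagram D i₀ V).obj ψ) := fun ψ => hV.preimage (D.map ψ.hom)
    haveI : ∀ ψ, IsNoetherian ((opensDiagram D i₀ V).obj ψ) := fun ψ =>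
      haveI : IsLocallyNoetherian ((opensDiagram D i₀ V).obj ψ) :=
        inferInstanceAs (IsLocallyNoetherian (D.map ψ.hom ⁻¹ᵁ V : Scheme.{u}))
      { }
    haveI : IsAffine (opensCone D c i₀ V).pt :=
      Scheme.isAffine_of_isLimit _ (isLimitOpensCone D c hc i₀ V)
    haveI : IsNoetherian (opensCone D c i₀ V).pt := by
      have key : ∀ W : c.pt.Opens, IsAffine (W : Scheme.{u}) → IsNoetherian (W : Scheme.{u}) :=
        fun W hW => { }
      exact key _ ‹IsAffine (opensCone D c i₀ V).pt›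
    have hfl' : ∀ {ψ ψ' : Over i₀} (f : ψ ⟶ ψ'), Flat ((opensDiagram D i₀ V).map f) :=
      fun {ψ ψ'} f => IsZariskiLocalAtSource.resLE _ (hfl f.left)
    let tI : Over i₀ := Over.mk (𝟙 i₀)
    let U' : ((opensDiagram D i₀ V).obj tI).Opens := (D.map (𝟙 i₀) ⁻¹ᵁ V).ι ⁻¹ᵁ U₀
    have h1 : CInt.IsSchematicallyDense ((opensCone D c i₀ V).π.app tI ⁻¹ᵁ U') := by
      have e : (opensCone D c i₀ V).π.app tI ⁻¹ᵁ U' =
          (c.π.app i₀ ⁻¹ᵁ V).ι ⁻¹ᵁ (c.π.app i₀ ⁻¹ᵁ U₀) :=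
        resLE_preimage_ι_preimage (c.π.app i₀) _ _ _ U₀
      rw [e]
      exact Groth.Agent.H90.isSchematicallyDense_preimage_ι _ _ h
    obtain ⟨ψ₁, g, h2⟩ := exists_stage_of_isAffine (opensDiagram D i₀ V) (opensCone D c i₀ V)
      (isLimitOpensCone D c hc i₀ V) hfl' tI U' h1
    refine ⟨ψ₁, fun ψ f => ?_⟩
    haveI := hfl' f
    have h3 := Groth.Agent.H19.isSchematicallyDense_preimage_of_flat
      ((opensDiagram D i₀ V).map f) _ h2
    have e2 : (opensDiagram D i₀ V).map f ⁻¹ᵁ ((opensDiagram D i₀ V).map g ⁻¹ᵁ U') =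
        (D.map ψ.hom ⁻¹ᵁ V).ι ⁻¹ᵁ (D.map ψ.hom ⁻¹ᵁ U₀) := by
      rw [← Scheme.Hom.comp_preimage, ← Functor.map_comp]
      have e3 : (f ≫ g).left = ψ.hom := by
        have := Over.w (f ≫ g)
        simpa [tI] using this
      show (D.map (f ≫ g).left).resLE _ _ _ ⁻¹ᵁ ((D.map (𝟙 i₀) ⁻¹ᵁ V).ι ⁻¹ᵁ U₀) = _
      refine (resLE_preimage_ι_preimage (D.map (f ≫ g).left) _ _ _ U₀).trans ?_
      rw [e3]
    rw [e2] at h3
    exact h3

  obtain ⟨s, hs, ψ, hcov, hψ⟩ := Groth.Agent.H24.ModLimMain.exists_common_stage D i₀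
    (fun V _ ψ => CInt.IsSchematicallyDense
      ((D.map ψ.hom ⁻¹ᵁ V).ι ⁻¹ᵁ (D.map ψ.hom ⁻¹ᵁ U₀))) hPr
  refine ⟨ψ.left, ψ.hom, ?_⟩
  refine isSchematicallyDense_of_cover _ (ι := ↥s) (fun V => D.map ψ.hom ⁻¹ᵁ V.1.1) ?_
    (fun V => hψ V.1 V.2)
  intro x
  obtain ⟨V, hV, hxV⟩ := hcov ((D.map ψ.hom).base x)
  exact ⟨⟨V, hV⟩, hxV⟩

end General

end Groth.Agent.H24.SchDenseLim
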