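import Mathlib.RingTheory.Jacobson.Ideal
import Mathlib.RingTheory.Jacobson.Radical
import Mathlib.RingTheory.Spectrum.Maximal.Basic
import Mathlib.RingTheory.Ideal.Operations

set_option autoImplicit false
universe u

namespace Groth.Agent.H24

/-- In a semi-local ring with nilpotent Jacobson radical, for every maximal ideal `m` there is
`e ∉ m` with `e ∈ (t) e` for all `t ∉ m` (so that `A → A_m` is surjective with kernel `Ann e`). -/
theorem exists_uniform_of_semilocal_nilpotent (A : Type u) [CommRing A]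
    [Finite (MaximalSpectrum A)] (n : ℕ) (hn : (Ring.jacobson A) ^ n = 0)
    (m : Ideal A) [hm : m.IsMaximal] :
    ∃ e : A, e ∉ m ∧ (∀ y ∈ m ^ n, y * e = 0) ∧ ∀ t : A, t ∉ m → ∃ x : A, e = x * t * e := by
  classical
  have := Fintype.ofFinite (MaximalSpectrum A)
  let m₀ : MaximalSpectrum A := ⟨m, hm⟩
  have hI : ¬ (∏ x ∈ Finset.univ.erase m₀, x.asIdeal ^ n) ≤ m := by
    intro h
    obtain ⟨x, hx, hxm⟩ := (Ideal.IsPrime.prod_le hm.isPrime).mp h
    have h1 : x.asIdeal ≤ m := Ideal.IsPrime.le_of_pow_le hxm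
    have h2 : x.asIdeal = m := x.isMaximal.eq_of_le hm.ne_top h1
    have h3 : x = m₀ := MaximalSpectrum.ext h2
    exact (Finset.ne_of_mem_erase hx) h3
  obtain ⟨e, heI, hem⟩ := SetLike.not_le_iff_exists.mp hI
  have hann : ∀ y ∈ m ^ n, y * e = 0 := by
    intro y hy
    have h4 : y * e ∈ m₀.asIdeal ^ n * (∏ x ∈ Finset.univ.erase m₀, x.asIdeal ^ n) :=
      Ideal.mul_mem_mul hy heI
    have h5 : m₀.asIdeal ^ n * (∏ x ∈ Finset.univ.erase m₀, x.asIdeal ^ n) =
        ∏ x : MaximalSpectrum A, x.asIdeal ^ n :=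
      Finset.mul_prod_erase Finset.univ (fun x : MaximalSpectrum A => x.asIdeal ^ n)
        (Finset.mem_univ m₀)
    have h6 : (∏ x : MaximalSpectrum A, x.asIdeal ^ n) ≤ (Ring.jacobson A) ^ n := by
      rw [Finset.prod_pow]
      refine Ideal.pow_right_mono ?_ n
      rw [Ring.jacobson_eq_sInf_isMaximal]
      refine le_sInf fun J hJ => ?_
      exact (Ideal.prod_le_inf.trans
        (Finset.inf_le (Finset.mem_univ (⟨J, hJ⟩ : MaximalSpectrum A))))
    have h7 : y * e ∈ (Ring.jacobson A) ^ n := h6 (h5 ▸ h4)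
    rw [hn] at h7
    exact h7
  refine ⟨e, hem, hann, fun t ht => ?_⟩
  have h1 : Ideal.span {t} ⊔ m = ⊤ := by
    by_contra hne
    have hle : m ≤ Ideal.span {t} ⊔ m := le_sup_right
    have := hm.eq_of_le hne hle
    apply ht
    rw [this]
    exact Ideal.mem_sup_left (Ideal.mem_span_singleton_self t)
  have h2 : Ideal.span {t} ⊔ m ^ n = ⊤ := Ideal.sup_pow_eq_top h1
  have h3 : (1 : A) ∈ Ideal.span {t} ⊔ m ^ n := by rw [h2]; exact Submodule.mem_top
  obtain ⟨x, y, hy, hxy⟩ := Ideal.mem_span_singleton_sup.mp h3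
  have hye : y * e = 0 := hann y hy
  refine ⟨x, ?_⟩
  calc e = 1 * e := (one_mul e).symm
    _ = (x * t + y) * e := by rw [hxy]
    _ = x * t * e + y * e := by ring
    _ = x * t * e := by rw [hye, add_zero]

end Groth.Agent.H24
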