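import Mathlib

/-!
# Lifting ordered pairs of primes: an equational criterion

For a ring map `φ : A →+* B` and primes `q' ≤ q` of `A`, there are primes `p' ≤ p` of `B` over
`q'`, `q` iff no element `φ s' * (φ s + x)` with `s' ∉ q'`, `s ∉ q`, `x ∈ qB` lies in `q'B`.
The criterion passes to filtered colimits.
-/

set_option autoImplicit false
universe u

namespace Groth.Agent.H24.Subtr

variable {A B : Type*} [CommRing A] [CommRing B] (φ : A →+* B)

/-- The pair `q' ≤ q` lifts along `φ`. -/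
def LiftsPair (q q' : Ideal A) : Prop :=
  ∃ p p' : Ideal B, p.IsPrime ∧ p'.IsPrime ∧ p' ≤ p ∧ p.comap φ = q ∧ p'.comap φ = q'

/-- The equational criterion. -/
def NoRel (q q' : Ideal A) : Prop :=
  ∀ s' : A, s' ∉ q' → ∀ s : A, s ∉ q → ∀ x : B, x ∈ q.map φ → φ s' * (φ s + x) ∉ q'.map φ

theorem noRel_of_liftsPair {q q' : Ideal A} (h : LiftsPair φ q q') : NoRel φ q q' := by
  obtain ⟨p, p', hp, hp', hle, hq, hq'⟩ := h
  intro s' hs' s hs x hx hmem
  have h1 : q'.map φ ≤ p' := Ideal.map_le_iff_le_comap.mpr hq'.ge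
  have h2 : q.map φ ≤ p := Ideal.map_le_iff_le_comap.mpr hq.ge
  rcases hp'.mem_or_mem (h1 hmem) with h | h
  · exact hs' (hq' ▸ (show s' ∈ p'.comap φ from h))
  · have : φ s ∈ p := by
      have := p.sub_mem (hle h) (h2 hx)
      simpa using this
    exact hs (hq ▸ (show s ∈ p.comap φ from this))

theorem liftsPair_of_noRel {q q' : Ideal A} [hq : q.IsPrime] [hq' : q'.IsPrime] (hle : q' ≤ q)
    (h : NoRel φ q q') : LiftsPair φ q q' := by
  classical
  -- the multiplicative set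
  let M : Submonoid B :=
    { carrier := {b | ∃ s' : A, s' ∉ q' ∧ ∃ s : A, s ∉ q ∧ ∃ x : B, x ∈ q.map φ ∧
        b = φ s' * (φ s + x)}
      one_mem' := ⟨1, fun h1 => hq'.ne_top ((Ideal.eq_top_iff_one _).mpr h1), 1,
        fun h1 => hq.ne_top ((Ideal.eq_top_iff_one _).mpr h1), 0, Ideal.zero_mem _, by simp⟩
      mul_mem' := by
        rintro a b ⟨s₁', hs₁', s₁, hs₁, x₁, hx₁, rfl⟩ ⟨s₂', hs₂', s₂, hs₂, x₂, hx₂, rfl⟩
        refine ⟨s₁' * s₂', fun hmem => (hq'.mem_or_mem hmem).elim hs₁' hs₂', s₁ * s₂,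
          fun hmem => (hq.mem_or_mem hmem).elim hs₁ hs₂,
          φ s₁ * x₂ + x₁ * φ s₂ + x₁ * x₂, ?_, ?_⟩
        · exact Ideal.add_mem _ (Ideal.add_mem _ (Ideal.mul_mem_left _ _ hx₂)
            (Ideal.mul_mem_right _ _ hx₁)) (Ideal.mul_mem_left _ _ hx₂)
        · simp only [map_mul]; ring }
  have hdisj : Disjoint ((q'.map φ : Ideal B) : Set B) (M : Set B) := by
    rw [Set.disjoint_left]
    rintro b hb ⟨s', hs', s, hs, x, hx, rfl⟩
    exact h s' hs' s hs x hx hb
  obtain ⟨p', hp', hle', hdisj'⟩ := Ideal.exists_le_prime_disjoint (q'.map φ) M hdisj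
  have hcomap' : p'.comap φ = q' := by
    apply le_antisymm
    · intro a ha
      by_contra hcon
      refine Set.disjoint_left.mp hdisj' (show φ a ∈ p' from ha) ?_
      exact ⟨a, hcon, 1, fun h1 => hq.ne_top ((Ideal.eq_top_iff_one _).mpr h1), 0,
        Ideal.zero_mem _, by simp⟩
    · exact Ideal.map_le_iff_le_comap.mp hle'
  -- the second prime
  have hdisj2 : Disjoint ((p' ⊔ q.map φ : Ideal B) : Set B)
      ((q.primeCompl.map φ : Submonoid B) : Set B) := by
    rw [Set.disjoint_left]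
    rintro b hb ⟨s, hs, rfl⟩
    obtain ⟨u, hu, x, hx, hux⟩ := Submodule.mem_sup.mp hb
    refine Set.disjoint_left.mp hdisj' hu ?_
    refine ⟨1, fun h1 => hq'.ne_top ((Ideal.eq_top_iff_one _).mpr h1), s, hs, -x,
      Ideal.neg_mem_iff _ |>.mpr hx, ?_⟩
    simp only [map_one, one_mul]
    change u = φ s + -x
    rw [← hux]; ring
  obtain ⟨p, hp, hlep, hdisjp⟩ := Ideal.exists_le_prime_disjoint _ _ hdisj2
  refine ⟨p, p', hp, hp', le_sup_left.trans hlep, ?_, hcomap'⟩
  apply le_antisymm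
  · intro a ha
    by_contra hcon
    exact Set.disjoint_left.mp hdisjp (show φ a ∈ p from ha) ⟨a, hcon, rfl⟩
  · exact Ideal.map_le_iff_le_comap.mp (le_sup_right.trans hlep)

end Groth.Agent.H24.Subtr

namespace Groth.Agent.H24.Subtr

open CategoryTheory CategoryTheory.Limits

section Colimit

variable {𝒥 : Type u} [Category.{u} 𝒥] [IsFiltered 𝒥]
  {FA FB : 𝒥 ⥤ CommRingCat.{u}} (α : FA ⟶ FB) (cA : Cocone FA) (cB : Cocone FB)
  (hcA : IsColimit cA) (hcB : IsColimit cB) (φ : cA.pt ⟶ cB.pt)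
  (hφ : ∀ j, α.app j ≫ cB.ι.app j = cA.ι.app j ≫ φ)

/-- The contraction of an ideal of the colimit to a stage. -/
abbrev stageIdeal (q : Ideal cA.pt) (j : 𝒥) : Ideal (FA.obj j) := q.comap (cA.ι.app j).hom

include hφ in
theorem φ_ι_apply (j : 𝒥) (a : FA.obj j) :
    φ.hom ((cA.ι.app j).hom a) = (cB.ι.app j).hom ((α.app j).hom a) := by
  have := congrArg (fun k => k.hom a) (hφ j)
  exact this.symm

theorem map_mem_stageIdeal (q : Ideal cA.pt) {j l : 𝒥} (f : j ⟶ l) {a : FA.obj j}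
    (ha : a ∈ stageIdeal cA q j) : (FA.map f).hom a ∈ stageIdeal cA q l := by
  change (cA.ι.app l).hom ((FA.map f).hom a) ∈ q
  have : (cA.ι.app l).hom ((FA.map f).hom a) = (cA.ι.app j).hom a := by
    have := congrArg (fun k => k.hom a) (cA.w f)
    exact this
  rw [this]
  exact ha

theorem map_mem_map_stageIdeal (q : Ideal cA.pt) {j l : 𝒥} (f : j ⟶ l) {b : FB.obj j}
    (hb : b ∈ (stageIdeal cA q j).map (α.app j).hom) :
    (FB.map f).hom b ∈ (stageIdeal cA q l).map (α.app l).hom := by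
  have h1 : ((stageIdeal cA q j).map (α.app j).hom).map (FB.map f).hom ≤
      (stageIdeal cA q l).map (α.app l).hom := by
    rw [Ideal.map_map, Ideal.map_le_iff_le_comap]
    intro a ha
    change (FB.map f).hom ((α.app j).hom a) ∈ (stageIdeal cA q l).map (α.app l).hom
    have : (FB.map f).hom ((α.app j).hom a) = (α.app l).hom ((FA.map f).hom a) := by
      have := congrArg (fun k => k.hom a) (α.naturality f)
      exact this.symm
    rw [this]
    exact Ideal.mem_map_of_mem _ (map_mem_stageIdeal cA q f ha)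
  exact h1 (Ideal.mem_map_of_mem _ hb)

include hcA hcB hφ in
/-- Elements of `qB` come from elements of `q_j B_j` at some stage. -/
theorem exists_mem_map_stageIdeal (q : Ideal cA.pt) (x : cB.pt) (hx : x ∈ q.map φ.hom) :
    ∃ (j : 𝒥) (xj : FB.obj j), xj ∈ (stageIdeal cA q j).map (α.app j).hom ∧
      (cB.ι.app j).hom xj = x := by
  induction hx using Submodule.span_induction with
  | mem x hx =>
    obtain ⟨a, ha, rfl⟩ := hx
    obtain ⟨j, aj, rfl⟩ := Concrete.isColimit_exists_rep FA hcA a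
    exact ⟨j, (α.app j).hom aj, Ideal.mem_map_of_mem _ ha, (φ_ι_apply α cA cB φ hφ j aj).symm⟩
  | zero =>
    exact ⟨IsFiltered.nonempty.some, 0, Ideal.zero_mem _, map_zero _⟩
  | add x y _ _ ihx ihy =>
    obtain ⟨j, xj, hxj, rfl⟩ := ihx
    obtain ⟨k, yk, hyk, rfl⟩ := ihy
    refine ⟨IsFiltered.max j k,
      (FB.map (IsFiltered.leftToMax j k)).hom xj + (FB.map (IsFiltered.rightToMax j k)).hom yk,
      Ideal.add_mem _ (map_mem_map_stageIdeal α cA q _ hxj) (map_mem_map_stageIdeal α cA q _ hyk),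
      ?_⟩
    rw [map_add]
    congr 1
    · exact congrArg (fun k => k.hom xj) (cB.w (IsFiltered.leftToMax j k))
    · exact congrArg (fun k' => k'.hom yk) (cB.w (IsFiltered.rightToMax j k))
  | smul b x _ ihx =>
    obtain ⟨j, xj, hxj, rfl⟩ := ihx
    obtain ⟨k, bk, rfl⟩ := Concrete.isColimit_exists_rep FB hcB b
    refine ⟨IsFiltered.max j k,
      (FB.map (IsFiltered.rightToMax j k)).hom bk * (FB.map (IsFiltered.leftToMax j k)).hom xj,
      Ideal.mul_mem_left _ _ (map_mem_map_stageIdeal α cA q _ hxj), ?_⟩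
    rw [map_mul, smul_eq_mul]
    congr 1
    · exact congrArg (fun k' => k'.hom bk) (cB.w (IsFiltered.rightToMax j k))
    · exact congrArg (fun k => k.hom xj) (cB.w (IsFiltered.leftToMax j k))

include hcA hcB hφ in
/-- Lifting of ordered pairs of primes passes to filtered colimits. -/
theorem liftsPair_colimit (q q' : Ideal cA.pt) [q.IsPrime] [q'.IsPrime] (hle : q' ≤ q)
    (h : ∀ j, LiftsPair (α.app j).hom (stageIdeal cA q j) (stageIdeal cA q' j)) :
    LiftsPair φ.hom q q' := by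
  apply liftsPair_of_noRel φ.hom hle
  intro s' hs' s hs x hx hmem
  obtain ⟨j₁, s'₁, rfl⟩ := Concrete.isColimit_exists_rep FA hcA s'
  obtain ⟨j₂, s₂, rfl⟩ := Concrete.isColimit_exists_rep FA hcA s
  obtain ⟨j₃, x₃, hx₃, rfl⟩ := exists_mem_map_stageIdeal α cA cB hcA hcB φ hφ q x hx
  obtain ⟨j₄, z₄, hz₄, hz₄'⟩ := exists_mem_map_stageIdeal α cA cB hcA hcB φ hφ q' _ hmem
  -- a common stage
  obtain ⟨l, f₁, f₂, f₃, f₄⟩ : ∃ (l : 𝒥) (_ : j₁ ⟶ l) (_ : j₂ ⟶ l) (_ : j₃ ⟶ l), Nonempty (j₄ ⟶ l) :=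
    ⟨IsFiltered.max (IsFiltered.max j₁ j₂) (IsFiltered.max j₃ j₄),
      IsFiltered.leftToMax j₁ j₂ ≫ IsFiltered.leftToMax _ _,
      IsFiltered.rightToMax j₁ j₂ ≫ IsFiltered.leftToMax _ _,
      IsFiltered.leftToMax j₃ j₄ ≫ IsFiltered.rightToMax _ _,
      ⟨IsFiltered.rightToMax j₃ j₄ ≫ IsFiltered.rightToMax _ _⟩⟩
  obtain ⟨f₄⟩ := f₄
  let s'l := (FA.map f₁).hom s'₁
  let sl := (FA.map f₂).hom s₂
  let xl := (FB.map f₃).hom x₃
  let zl := (FB.map f₄).hom z₄
  have hs'l : (cA.ι.app l).hom s'l = (cA.ι.app j₁).hom s'₁ :=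
    congrArg (fun k => k.hom s'₁) (cA.w f₁)
  have hsl : (cA.ι.app l).hom sl = (cA.ι.app j₂).hom s₂ :=
    congrArg (fun k => k.hom s₂) (cA.w f₂)
  have hxl : (cB.ι.app l).hom xl = (cB.ι.app j₃).hom x₃ :=
    congrArg (fun k => k.hom x₃) (cB.w f₃)
  have hzl : (cB.ι.app l).hom zl = (cB.ι.app j₄).hom z₄ :=
    congrArg (fun k => k.hom z₄) (cB.w f₄)
  let wl : FB.obj l := (α.app l).hom s'l * ((α.app l).hom sl + xl)
  have hw : (cB.ι.app l).hom wl = (cB.ι.app l).hom zl := by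
    rw [hzl, hz₄']
    change (cB.ι.app l).hom ((α.app l).hom s'l * ((α.app l).hom sl + xl)) = _
    rw [map_mul, map_add, ← φ_ι_apply α cA cB φ hφ, ← φ_ι_apply α cA cB φ hφ, hs'l, hsl, hxl]
  obtain ⟨n, f, g, hfg⟩ := Concrete.isColimit_exists_of_rep_eq FB hcB wl zl hw
  let e := IsFiltered.coeqHom f g
  have hfe : f ≫ e = g ≫ e := IsFiltered.coeq_condition f g
  let k := f ≫ e
  have hk : (FB.map k).hom wl = (FB.map k).hom zl := by
    change (FB.map (f ≫ e)).hom wl = (FB.map (f ≫ e)).hom zl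
    conv_rhs => rw [hfe]
    rw [FB.map_comp, FB.map_comp]
    change (FB.map e).hom ((FB.map f).hom wl) = (FB.map e).hom ((FB.map g).hom zl)
    rw [hfg]
  -- the relation at stage `m`
  have hno := noRel_of_liftsPair _ (h (IsFiltered.coeq f g))
  have hnat : ∀ a : FA.obj l, (FB.map k).hom ((α.app l).hom a) =
      (α.app _).hom ((FA.map k).hom a) := fun a =>
    (congrArg (fun k' => k'.hom a) (α.naturality k)).symm
  refine hno ((FA.map k).hom s'l) ?_ ((FA.map k).hom sl) ?_ ((FB.map k).hom xl)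
    (map_mem_map_stageIdeal α cA q k (map_mem_map_stageIdeal α cA q f₃ hx₃)) ?_
  · intro hmem'
    apply hs'
    have : (cA.ι.app _).hom ((FA.map k).hom s'l) = (cA.ι.app l).hom s'l :=
      congrArg (fun k' => k'.hom s'l) (cA.w k)
    rw [← hs'l, ← this]
    exact hmem'
  · intro hmem'
    apply hs
    have : (cA.ι.app _).hom ((FA.map k).hom sl) = (cA.ι.app l).hom sl :=
      congrArg (fun k' => k'.hom sl) (cA.w k)
    rw [← hsl, ← this]
    exact hmem'
  · have : (α.app _).hom ((FA.map k).hom s'l) * ((α.app _).hom ((FA.map k).hom sl) +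
        (FB.map k).hom xl) = (FB.map k).hom zl := by
      rw [← hk, ← hnat, ← hnat, ← map_add, ← map_mul]
    rw [this]
    exact map_mem_map_stageIdeal α cA q' k (map_mem_map_stageIdeal α cA q' f₄ hz₄)

end Colimit

end Groth.Agent.H24.Subtr
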