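import Mathlib
import Groth.Agent.H24.Subtr1

/-!
# Lifting ordered pairs of points along morphisms of affine schemes, and limits
-/

set_option autoImplicit false
universe u
open CategoryTheory CategoryTheory.Limits AlgebraicGeometry

namespace Groth.Agent.H24.Subtr

section Affine

/-- The prime ideal of global sections of an affine scheme attached to a point. -/
noncomputable def primeOf {Z : Scheme.{u}} [IsAffine Z] (z : Z) : Ideal Γ(Z, ⊤) :=
  (Z.isoSpec.hom.base z).asIdeal

instance {Z : Scheme.{u}} [IsAffine Z] (z : Z) : (primeOf z).IsPrime :=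
  (Z.isoSpec.hom.base z).isPrime

theorem primeOf_le_iff {Z : Scheme.{u}} [IsAffine Z] (z z' : Z) :
    primeOf z' ≤ primeOf z ↔ z' ⤳ z := by
  rw [← Z.isoSpec.hom.isOpenEmbedding.isInducing.specializes_iff]
  exact PrimeSpectrum.le_iff_specializes (R := Γ(Z, ⊤)) (Z.isoSpec.hom.base z')
    (Z.isoSpec.hom.base z)

theorem primeOf_map {W Z : Scheme.{u}} [IsAffine W] [IsAffine Z] (h : W ⟶ Z) (w : W) :
    primeOf (h.base w) = (primeOf w).comap h.appTop.hom := by
  have := congrArg (fun k => (k.base w).asIdeal) (Scheme.isoSpec_hom_naturality h)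
  exact this.symm

/-- The point attached to a prime ideal of global sections. -/
noncomputable def pointOf {Z : Scheme.{u}} [IsAffine Z] (p : Ideal Γ(Z, ⊤)) [hp : p.IsPrime] : Z :=
  Z.isoSpec.inv.base ⟨p, hp⟩

theorem primeOf_pointOf {Z : Scheme.{u}} [IsAffine Z] (p : Ideal Γ(Z, ⊤)) [hp : p.IsPrime] :
    primeOf (pointOf p) = p := by
  change (Z.isoSpec.hom.base (Z.isoSpec.inv.base ⟨p, hp⟩)).asIdeal = p
  rw [← Scheme.Hom.comp_apply, Iso.inv_hom_id]
  rfl

theorem primeOf_injective {Z : Scheme.{u}} [IsAffine Z] {z z' : Z} (h : primeOf z = primeOf z') :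
    z = z' := by
  apply Z.isoSpec.hom.isOpenEmbedding.injective
  exact PrimeSpectrum.ext h

/-- Lifting pairs of points along a morphism of affine schemes is lifting pairs of primes. -/
theorem exists_pair_iff_liftsPair {W Z : Scheme.{u}} [IsAffine W] [IsAffine Z] (h : W ⟶ Z)
    (z z' : Z) :
    (∃ w w' : W, w' ⤳ w ∧ h.base w = z ∧ h.base w' = z') ↔
      LiftsPair h.appTop.hom (primeOf z) (primeOf z') := by
  constructor
  · rintro ⟨w, w', hww', rfl, rfl⟩
    exact ⟨primeOf w, primeOf w', inferInstance, inferInstance, (primeOf_le_iff w w').mpr hww',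
      (primeOf_map h w).symm, (primeOf_map h w').symm⟩
  · rintro ⟨p, p', hp, hp', hle, hq, hq'⟩
    refine ⟨pointOf p, pointOf p', ?_, ?_, ?_⟩
    · rw [← primeOf_le_iff, primeOf_pointOf, primeOf_pointOf]
      exact hle
    · apply primeOf_injective
      rw [primeOf_map, primeOf_pointOf, hq]
    · apply primeOf_injective
      rw [primeOf_map, primeOf_pointOf, hq']

end Affine

section Limit

variable {J : Type u} [Category.{u} J] [IsCofiltered J] {EX EY : J ⥤ Scheme.{u}} (α : EX ⟶ EY)
  [∀ j, IsAffine (EX.obj j)] [∀ j, IsAffine (EY.obj j)]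
  (cX : Cone EX) (cY : Cone EY) (hcX : IsLimit cX) (hcY : IsLimit cY)
  (F : cX.pt ⟶ cY.pt) (hF : ∀ j, F ≫ cY.π.app j = cX.π.app j ≫ α.app j)

include hcX hcY hF in
/-- Lifting of ordered pairs of points passes to cofiltered limits of affine schemes. -/
theorem exists_pair_of_affine_limit (y y' : cY.pt) (hyy' : y' ⤳ y)
    (h : ∀ j, ∃ x x' : EX.obj j, x' ⤳ x ∧ (α.app j).base x = (cY.π.app j).base y ∧
      (α.app j).base x' = (cY.π.app j).base y') :
    ∃ x x' : cX.pt, x' ⤳ x ∧ F.base x = y ∧ F.base x' = y' := by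
  haveI : IsAffine cX.pt := Scheme.isAffine_of_isLimit _ hcX
  haveI : IsAffine cY.pt := Scheme.isAffine_of_isLimit _ hcY
  rw [exists_pair_iff_liftsPair]
  let FA : Jᵒᵖ ⥤ CommRingCat.{u} := EY.op ⋙ Scheme.Γ
  let FB : Jᵒᵖ ⥤ CommRingCat.{u} := EX.op ⋙ Scheme.Γ
  let β : FA ⟶ FB := Functor.whiskerRight (NatTrans.op α) Scheme.Γ
  let cA : Cocone FA := Scheme.Γ.mapCocone cY.op
  let cB : Cocone FB := Scheme.Γ.mapCocone cX.op
  haveI : ∀ i, IsAffine (EY.op.obj i).unop := fun i => by dsimp; infer_instance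
  haveI : ∀ i, IsAffine (EX.op.obj i).unop := fun i => by dsimp; infer_instance
  have hcA : IsColimit cA := isColimitOfPreserves Scheme.Γ hcY.op
  have hcB : IsColimit cB := isColimitOfPreserves Scheme.Γ hcX.op
  let q : Ideal cA.pt := show Ideal Γ(cY.pt, ⊤) from primeOf y
  let q' : Ideal cA.pt := show Ideal Γ(cY.pt, ⊤) from primeOf y'
  haveI : q.IsPrime := show (primeOf y).IsPrime from inferInstance
  haveI : q'.IsPrime := show (primeOf y').IsPrime from inferInstance
  have hle : q' ≤ q := (primeOf_le_iff _ _).mpr hyy'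
  have key : LiftsPair (show cA.pt ⟶ cB.pt from F.appTop).hom q q' := by
    refine liftsPair_colimit β cA cB hcA hcB (show cA.pt ⟶ cB.pt from F.appTop) ?_ q q' hle ?_
    · intro j
      change (α.app j.unop).appTop ≫ (cX.π.app j.unop).appTop =
        (cY.π.app j.unop).appTop ≫ F.appTop
      rw [← Scheme.Hom.comp_appTop, ← Scheme.Hom.comp_appTop, hF]
    · intro j
      let πj : cY.pt ⟶ EY.obj j.unop := cY.π.app j.unop
      have e1 : stageIdeal cA q j = primeOf (πj.base y) := (primeOf_map πj y).symm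
      have e2 : stageIdeal cA q' j = primeOf (πj.base y') := (primeOf_map πj y').symm
      rw [e1, e2]
      exact (exists_pair_iff_liftsPair _ _ _).mp (h j.unop)
  exact key

end Limit

end Groth.Agent.H24.Subtr
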