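import Mathlib
import Groth.Prelude.Def_W4c2submetdescSubtr
import Groth.Agent.H24.Subtr2

/-!
# S-subtrusive morphisms pass to cofiltered limits with affine transition maps
-/

set_option autoImplicit false
universe u
open CategoryTheory CategoryTheory.Limits AlgebraicGeometry

namespace Groth.Agent.H24.Subtr

variable {J : Type u} [Category.{u} J] [IsCofiltered J] {EX EY : J ⥤ Scheme.{u}} (α : EX ⟶ EY)
  [∀ {i j : J} (f : i ⟶ j), IsAffineHom (EX.map f)]
  [∀ {i j : J} (f : i ⟶ j), IsAffineHom (EY.map f)]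
  [∀ j, QuasiCompact (α.app j)]
  (cX : Cone EX) (cY : Cone EY) (hcX : IsLimit cX) (hcY : IsLimit cY)
  (F : cX.pt ⟶ cY.pt) (hF : ∀ j, F ≫ cY.π.app j = cX.π.app j ≫ α.app j)

theorem α_map_apply {i j : J} (f : i ⟶ j) (x : EX.obj i) :
    (α.app j).base ((EX.map f).base x) = (EY.map f).base ((α.app i).base x) := by
  rw [← Scheme.Hom.comp_apply, ← Scheme.Hom.comp_apply, α.naturality]

theorem cone_map_apply (c : Cone EY) {i j : J} (f : i ⟶ j) (y : c.pt) :
    (EY.map f).base ((c.π.app i).base y) = (c.π.app j).base y := by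
  rw [← Scheme.Hom.comp_apply, c.w]

include hcX hcY hF in
theorem isSSubtrusive_limit (h : ∀ j, Subtr.IsSSubtrusive (α.app j)) : Subtr.IsSSubtrusive F := by
  classical
  intro y y' hyy'
  obtain ⟨j₀⟩ := IsCofiltered.nonempty (C := J)
  obtain ⟨_, ⟨V₀, hV₀, rfl⟩, hyV, -⟩ := (EY.obj j₀).isBasis_affineOpens.exists_subset_of_mem_open
    (Set.mem_univ ((cY.π.app j₀).base y)) isOpen_univ
  have hK : IsCompact ((α.app j₀ ⁻¹ᵁ V₀ : (EX.obj j₀).Opens) : Set (EX.obj j₀)) :=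
    (α.app j₀).isCompact_preimage hV₀.isCompact
  obtain ⟨s, hs, hKs⟩ := isCompact_and_isOpen_iff_finite_and_eq_biUnion_affineOpens.mp
    ⟨hK, (α.app j₀ ⁻¹ᵁ V₀).2⟩
  have hpair : ∀ j : Over j₀, ∃ (x x' : EX.obj j.left), x' ⤳ x ∧
      (α.app j.left).base x = (cY.π.app j.left).base y ∧
      (α.app j.left).base x' = (cY.π.app j.left).base y' := fun j =>
    h j.left (hyy'.map (cY.π.app j.left).continuous)
  have hmemK : ∀ (j : Over j₀) (x : EX.obj j.left),
      (α.app j.left).base x = (cY.π.app j.left).base y →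
      (EX.map j.hom).base x ∈ ((α.app j₀ ⁻¹ᵁ V₀ : (EX.obj j₀).Opens) : Set (EX.obj j₀)) := by
    intro j x hx
    change (α.app j₀).base ((EX.map j.hom).base x) ∈ V₀
    rw [α_map_apply, hx, cone_map_apply]
    exact hyV
  have hpig : ∃ U ∈ s, ∀ j : Over j₀, ∃ (x x' : EX.obj j.left), x' ⤳ x ∧
      (α.app j.left).base x = (cY.π.app j.left).base y ∧
      (α.app j.left).base x' = (cY.π.app j.left).base y' ∧
      (EX.map j.hom).base x ∈ (U : (EX.obj j₀).Opens) := by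
    by_contra hcon
    push_neg at hcon
    haveI : Nonempty (Over j₀) := ⟨Over.mk (𝟙 j₀)⟩
    choose! jU hjU using hcon
    obtain ⟨S, hS⟩ := IsCofiltered.inf_objs_exists (hs.toFinset.image jU)
    obtain ⟨x, x', hxx', hx, hx'⟩ := hpair S
    have hxK := hmemK S x hx
    rw [hKs] at hxK
    simp only [Set.mem_iUnion, exists_prop] at hxK
    obtain ⟨U, hU, hxU⟩ := hxK
    obtain ⟨m⟩ := hS (show jU U ∈ hs.toFinset.image jU from
      Finset.mem_image_of_mem _ (hs.mem_toFinset.mpr hU))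
    refine hjU U hU ((EX.map m.left).base x) ((EX.map m.left).base x')
      (hxx'.map (EX.map m.left).continuous) ?_ ?_ ?_
    · rw [α_map_apply, hx, cone_map_apply]
    · rw [α_map_apply, hx', cone_map_apply]
    · rw [← Scheme.Hom.comp_apply, ← EX.map_comp, Over.w m]
      exact hxU
  obtain ⟨U, hUs, hU⟩ := hpig
  have hUV : (U : (EX.obj j₀).Opens) ≤ α.app j₀ ⁻¹ᵁ V₀ := by
    intro x hx
    change x ∈ ((α.app j₀ ⁻¹ᵁ V₀ : (EX.obj j₀).Opens) : Set (EX.obj j₀))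
    rw [hKs]
    simp only [Set.mem_iUnion, exists_prop]
    exact ⟨U, hUs, hx⟩
  -- the affine systems
  let EX' := opensDiagram EX j₀ U.1
  let EY' := opensDiagram EY j₀ V₀
  let cX' : Cone EX' := opensCone EX cX j₀ U.1
  let cY' : Cone EY' := opensCone EY cY j₀ V₀
  have hcX' : IsLimit cX' := isLimitOpensCone EX cX hcX j₀ U.1
  have hcY' : IsLimit cY' := isLimitOpensCone EY cY hcY j₀ V₀
  have hle : ∀ j : Over j₀, EX.map j.hom ⁻¹ᵁ U.1 ≤ α.app j.left ⁻¹ᵁ (EY.map j.hom ⁻¹ᵁ V₀) := by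
    intro j
    rw [← Scheme.Hom.comp_preimage, ← α.naturality, Scheme.Hom.comp_preimage]
    exact Scheme.Hom.preimage_mono _ hUV
  let α' : EX' ⟶ EY' :=
    { app := fun j => (α.app j.left).resLE (EY.map j.hom ⁻¹ᵁ V₀) (EX.map j.hom ⁻¹ᵁ U.1) (hle j)
      naturality := fun j k m => by
        change (EX.map m.left).resLE _ _ _ ≫ (α.app k.left).resLE _ _ _ =
          (α.app j.left).resLE _ _ _ ≫ (EY.map m.left).resLE _ _ _
        simp only [Scheme.Hom.resLE_comp_resLE, α.naturality] }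
  have hleF : cX.π.app j₀ ⁻¹ᵁ U.1 ≤ F ⁻¹ᵁ (cY.π.app j₀ ⁻¹ᵁ V₀) := by
    rw [← Scheme.Hom.comp_preimage, hF, Scheme.Hom.comp_preimage]
    exact Scheme.Hom.preimage_mono _ hUV
  let F' : cX'.pt ⟶ cY'.pt := F.resLE (cY.π.app j₀ ⁻¹ᵁ V₀) (cX.π.app j₀ ⁻¹ᵁ U.1) hleF
  have hF' : ∀ j, F' ≫ cY'.π.app j = cX'.π.app j ≫ α'.app j := by
    intro j
    change F.resLE _ _ _ ≫ (cY.π.app j.left).resLE _ _ _ =
      (cX.π.app j.left).resLE _ _ _ ≫ (α.app j.left).resLE _ _ _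
    simp only [Scheme.Hom.resLE_comp_resLE, hF]
  haveI : ∀ j, IsAffine (EX'.obj j) := fun j => U.2.preimage (EX.map j.hom)
  haveI : ∀ j, IsAffine (EY'.obj j) := fun j => hV₀.preimage (EY.map j.hom)
  -- the points
  have hy'V : (cY.π.app j₀).base y' ∈ V₀ :=
    (hyy'.map (cY.π.app j₀).continuous).mem_open V₀.2 hyV
  let yt : cY'.pt := ⟨y, hyV⟩
  let yt' : cY'.pt := ⟨y', hy'V⟩
  have hyt : yt' ⤳ yt :=
    (Scheme.Opens.ι (cY.π.app j₀ ⁻¹ᵁ V₀)).isOpenEmbedding.isInducing.specializes_iff.mp hyy'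
  have key := exists_pair_of_affine_limit α' cX' cY' hcX' hcY' F' hF' yt yt' hyt (by
    intro j
    obtain ⟨x, x', hxx', hx, hx', hxU⟩ := hU j
    have hx'U : (EX.map j.hom).base x' ∈ (U : (EX.obj j₀).Opens) :=
      (hxx'.map (EX.map j.hom).continuous).mem_open U.1.2 hxU
    let xt : EX'.obj j := ⟨x, hxU⟩
    let xt' : EX'.obj j := ⟨x', hx'U⟩
    refine ⟨xt, xt', ?_, ?_, ?_⟩
    · exact (Scheme.Opens.ι (EX.map j.hom ⁻¹ᵁ U.1)).isOpenEmbedding.isInducing.specializes_iff.mp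
        hxx'
    · apply (Scheme.Opens.ι (EY.map j.hom ⁻¹ᵁ V₀)).isOpenEmbedding.injective
      have e1 := congrArg (fun k => k.base xt)
        (Scheme.Hom.resLE_comp_ι (α.app j.left) (hle j))
      have e2 := congrArg (fun k => k.base yt)
        (Scheme.Hom.resLE_comp_ι (cY.π.app j.left)
          (show cY.π.app j₀ ⁻¹ᵁ V₀ ≤ cY.π.app j.left ⁻¹ᵁ (EY.map j.hom ⁻¹ᵁ V₀) by
            rw [← Scheme.Hom.comp_preimage, cY.w]))
      exact e1.trans (hx.trans e2.symm)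
    · apply (Scheme.Opens.ι (EY.map j.hom ⁻¹ᵁ V₀)).isOpenEmbedding.injective
      have e1 := congrArg (fun k => k.base xt')
        (Scheme.Hom.resLE_comp_ι (α.app j.left) (hle j))
      have e2 := congrArg (fun k => k.base yt')
        (Scheme.Hom.resLE_comp_ι (cY.π.app j.left)
          (show cY.π.app j₀ ⁻¹ᵁ V₀ ≤ cY.π.app j.left ⁻¹ᵁ (EY.map j.hom ⁻¹ᵁ V₀) by
            rw [← Scheme.Hom.comp_preimage, cY.w]))
      exact e1.trans (hx'.trans e2.symm))
  obtain ⟨xt, xt', hxt, h1, h2⟩ := key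
  refine ⟨(Scheme.Opens.ι _).base xt, (Scheme.Opens.ι _).base xt',
    hxt.map (Scheme.Opens.ι _).continuous, ?_, ?_⟩
  · have e1 := congrArg (fun k => k.base xt) (Scheme.Hom.resLE_comp_ι F hleF)
    have e2 : (Scheme.Opens.ι (cY.π.app j₀ ⁻¹ᵁ V₀)).base (F'.base xt) = y := by rw [h1]; rfl
    exact e1.symm.trans e2
  · have e1 := congrArg (fun k => k.base xt') (Scheme.Hom.resLE_comp_ι F hleF)
    have e2 : (Scheme.Opens.ι (cY.π.app j₀ ⁻¹ᵁ V₀)).base (F'.base xt') = y' := by rw [h2]; rfl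
    exact e1.symm.trans e2

end Groth.Agent.H24.Subtr
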