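import Mathlib
import Groth.Prelude.Def_W4c2submetdescSubtr
import Groth.Agent.H24.Subtr3
import Groth.Agent.H24.OverBC
import Groth.Agent.H24.UnivOpen

/-!
# Universally S-subtrusive morphisms via affine spaces
-/

set_option autoImplicit false
universe u
open CategoryTheory CategoryTheory.Limits AlgebraicGeometry

namespace Groth.Agent.H24.Subtr

/-- S-subtrusive morphisms as a morphism property. -/
def SS : MorphismProperty Scheme.{u} := fun _ _ f => _root_.Subtr.IsSSubtrusive f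

instance : SS.{u}.RespectsIso := by
  apply MorphismProperty.RespectsIso.mk
  · intro X Y Z e f hf y y' hyy'
    obtain ⟨x, x', hxx', hx, hx'⟩ := hf hyy'
    refine ⟨e.inv.base x, e.inv.base x', hxx'.map e.inv.continuous, ?_, ?_⟩
    · rw [← Scheme.Hom.comp_apply, Iso.inv_hom_id_assoc]; exact hx
    · rw [← Scheme.Hom.comp_apply, Iso.inv_hom_id_assoc]; exact hx'
  · intro X Y Z e f hf y y' hyy'
    obtain ⟨x, x', hxx', hx, hx'⟩ := hf (hyy'.map e.inv.continuous)
    refine ⟨x, x', hxx', ?_, ?_⟩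
    · rw [Scheme.Hom.comp_apply, hx, ← Scheme.Hom.comp_apply, Iso.inv_hom_id]; rfl
    · rw [Scheme.Hom.comp_apply, hx', ← Scheme.Hom.comp_apply, Iso.inv_hom_id]; rfl

/-- The base change of an S-subtrusive morphism along a preimmersion is S-subtrusive. -/
theorem isSSubtrusive_of_isPullback_of_isPreimmersion {X' Y' Z W : Scheme.{u}} {p : W ⟶ X'}
    {q : W ⟶ Z} {f' : X' ⟶ Y'} {j : Z ⟶ Y'} (h : IsPullback p q f' j) [IsPreimmersion j]
    (hf' : _root_.Subtr.IsSSubtrusive f') : _root_.Subtr.IsSSubtrusive q := by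
  have hp : IsPreimmersion p := MorphismProperty.of_isPullback h.flip inferInstance
  intro z z' hzz'
  obtain ⟨x, x', hxx', hx, hx'⟩ := hf' (hzz'.map j.continuous)
  obtain ⟨w₀, hw1, hw2⟩ := Scheme.Pullback.exists_preimage_pullback (f := f') (g := j) x z hx
  obtain ⟨w₀', hw1', hw2'⟩ := Scheme.Pullback.exists_preimage_pullback (f := f') (g := j) x' z' hx'
  refine ⟨h.isoPullback.inv.base w₀, h.isoPullback.inv.base w₀', ?_, ?_, ?_⟩
  · rw [← p.isEmbedding.isInducing.specializes_iff]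
    have e1 : p.base (h.isoPullback.inv.base w₀) = x := by
      rw [← Scheme.Hom.comp_apply, h.isoPullback_inv_fst]; exact hw1
    have e2 : p.base (h.isoPullback.inv.base w₀') = x' := by
      rw [← Scheme.Hom.comp_apply, h.isoPullback_inv_fst]; exact hw1'
    rw [e1, e2]
    exact hxx'
  · rw [← Scheme.Hom.comp_apply, h.isoPullback_inv_snd]; exact hw2
  · rw [← Scheme.Hom.comp_apply, h.isoPullback_inv_snd]; exact hw2'

section

variable {X Y : Scheme.{u}} (f : X ⟶ Y)

theorem isSSubtrusive_snd_of_isPreimmersion_affineSpace (n : Type u) {Z : Scheme.{u}}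
    (j : Z ⟶ 𝔸(n; Y)) [IsPreimmersion j]
    (h : _root_.Subtr.IsSSubtrusive (pullback.snd f (𝔸(n; Y) ↘ Y))) :
    _root_.Subtr.IsSSubtrusive (pullback.snd f (j ≫ 𝔸(n; Y) ↘ Y)) :=
  isSSubtrusive_of_isPullback_of_isPreimmersion
    (IsPullback.of_right' (IsPullback.of_hasPullback f (j ≫ 𝔸(n; Y) ↘ Y))
      (IsPullback.of_hasPullback f (𝔸(n; Y) ↘ Y))) h

theorem isSSubtrusive_snd_of_finiteType {A C : CommRingCat.{u}} (ψ : A ⟶ C)
    (hψ : ψ.hom.FiniteType) (u : Spec A ⟶ Y) [IsOpenImmersion u]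
    (h : ∀ n : ℕ, 0 < n →
      _root_.Subtr.IsSSubtrusive (pullback.snd f (𝔸(ULift.{u} (Fin n); Y) ↘ Y))) :
    _root_.Subtr.IsSSubtrusive (pullback.snd f (Spec.map ψ ≫ u)) := by
  have : LocallyOfFiniteType (Spec.map ψ) :=
    (HasRingHomProperty.Spec_iff (P := @LocallyOfFiniteType)).mpr hψ
  obtain ⟨m, b, hb⟩ := exists_isClosedImmersion_homOfVector_fin (Spec.map ψ)
  have hopen : IsOpenImmersion (AffineSpace.map (ULift.{u} (Fin (m + 1))) u) :=
    MorphismProperty.of_isPullback (P := @IsOpenImmersion)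
      (AffineSpace.isPullback_map (n := ULift.{u} (Fin (m + 1))) u).flip inferInstance
  let j := AffineSpace.homOfVector (Spec.map ψ) b ≫ AffineSpace.map (ULift.{u} (Fin (m + 1))) u
  have hj : j ≫ 𝔸(ULift.{u} (Fin (m + 1)); Y) ↘ Y = Spec.map ψ ≫ u := by
    rw [Category.assoc, AffineSpace.map_over, ← Category.assoc, AffineSpace.homOfVector_over]
  have := isSSubtrusive_snd_of_isPreimmersion_affineSpace f (ULift.{u} (Fin (m + 1))) j
    (h (m + 1) (Nat.succ_pos m))
  rwa [hj] at this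

end

end Groth.Agent.H24.Subtr
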