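import Mathlib
import Groth.Prelude.Def_W4c2submetdescSubtr
import Groth.Agent.H24.Subtr4

/-!
# Universally S-subtrusive morphisms via affine spaces: the limit argument
-/

set_option autoImplicit false
universe u
open CategoryTheory CategoryTheory.Limits AlgebraicGeometry

namespace Groth.Agent.H24.Subtr

section

variable {X Y : Scheme.{u}} (f : X ⟶ Y) [QuasiCompact f]

set_option backward.isDefEq.respectTransparency false in
theorem isSSubtrusive_snd_of_spec {A C : CommRingCat.{u}} (φ : A ⟶ C) (u : Spec A ⟶ Y)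
    [IsOpenImmersion u]
    (h : ∀ n : ℕ, 0 < n →
      _root_.Subtr.IsSSubtrusive (pullback.snd f (𝔸(ULift.{u} (Fin n); Y) ↘ Y))) :
    _root_.Subtr.IsSSubtrusive (pullback.snd f (Spec.map φ ≫ u)) := by
  let F := fgSubDiagram φ
  let D : (FGSub φ)ᵒᵖ ⥤ Scheme.{u} := F.op ⋙ Scheme.Spec
  obtain ⟨hc₀⟩ := isColimit_fgSubCocone φ
  let c : Cone D := Scheme.Spec.mapCone (fgSubCocone φ).op
  have hc : IsLimit c := isLimitOfPreserves Scheme.Spec hc₀.op
  have haff : ∀ {i j : (FGSub φ)ᵒᵖ} (g : i ⟶ j), IsAffineHom (D.map g) := fun g => by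
    dsimp [D]; infer_instance
  let t : D ⟶ (Functor.const (FGSub φ)ᵒᵖ).obj Y :=
    { app := fun i => Spec.map (fgSubStr φ i.unop) ≫ u
      naturality := fun i j g => by
        change Spec.map (F.map g.unop) ≫ Spec.map (fgSubStr φ j.unop) ≫ u =
          (Spec.map (fgSubStr φ i.unop) ≫ u) ≫ 𝟙 _
        rw [Category.comp_id, ← Category.assoc, ← Spec.map_comp, fgSubStr_map] }
  have htS : ∀ j, c.π.app j ≫ t.app j = Spec.map φ ≫ u := by
    intro j
    change Spec.map ((fgSubCocone φ).ι.app j.unop) ≫ Spec.map (fgSubStr φ j.unop) ≫ u = _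
    rw [← Category.assoc, ← Spec.map_comp, fgSubStr_ι]
  let EX := OverBC.bcDiagram D t f
  let cX : Cone EX := OverBC.bcCone D t f c (Spec.map φ ≫ u) htS
  haveI : IsConnected (FGSub φ)ᵒᵖ := IsCofiltered.isConnected _
  have hcX : IsLimit cX := OverBC.isLimitBcCone D t f c (Spec.map φ ≫ u) htS hc
  let α : EX ⟶ D := OverBC.bcDiagramι D t f
  have : ∀ {i j : (FGSub φ)ᵒᵖ} (g : i ⟶ j), IsAffineHom (EX.map g) := fun g => by
    dsimp [EX]; infer_instance
  have : ∀ j, QuasiCompact (α.app j) := fun j => by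
    change QuasiCompact (pullback.snd f (t.app j))
    infer_instance
  refine isSSubtrusive_limit α cX c hcX hc (pullback.snd f (Spec.map φ ≫ u)) ?_ ?_
  · intro j
    exact (OverBC.bcπ_snd D t f c (Spec.map φ ≫ u) htS j).symm
  · intro j
    change _root_.Subtr.IsSSubtrusive (pullback.snd f (Spec.map (fgSubStr φ j.unop) ≫ u))
    exact isSSubtrusive_snd_of_finiteType f _ (fgSubStr_finiteType φ j.unop) u h

end

end Groth.Agent.H24.Subtr

namespace Groth.Agent.H24.Subtr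

set_option backward.isDefEq.respectTransparency false in
/-- If the base change of the quasi-compact morphism `f` to `𝔸ⁿ_Y` is S-subtrusive for all
`n > 0`, then `f` is universally S-subtrusive. -/
theorem univSSubtrusive_of_forall_affineSpace {X Y : Scheme.{u}} (f : X ⟶ Y) [QuasiCompact f]
    (h : ∀ n : ℕ, 0 < n →
      _root_.Subtr.IsSSubtrusive (pullback.snd f (𝔸(ULift.{u} (Fin n); Y) ↘ Y))) :
    _root_.Subtr.UnivSSubtrusive f := by
  refine MorphismProperty.universally_mk' SS f fun {Y'} g _ => ?_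
  intro y y' hyy'
  obtain ⟨U, hU, hyU⟩ : ∃ U : Y.Opens, IsAffineOpen U ∧ g y ∈ U := by
    obtain ⟨_, ⟨U, hU, rfl⟩, hy, -⟩ := Y.isBasis_affineOpens.exists_subset_of_mem_open
      (Set.mem_univ (g y)) isOpen_univ
    exact ⟨U, hU, hy⟩
  obtain ⟨W, hW, hyW, hWU⟩ : ∃ W : Y'.Opens, IsAffineOpen W ∧ y ∈ W ∧ W ≤ g ⁻¹ᵁ U := by
    obtain ⟨_, ⟨W, hW, rfl⟩, hy, hWU⟩ := Y'.isBasis_affineOpens.exists_subset_of_mem_open
      (show y ∈ ((g ⁻¹ᵁ U : Y'.Opens) : Set Y') from hyU) (g ⁻¹ᵁ U).2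
    exact ⟨W, hW, hy, hWU⟩
  have hy'W : y' ∈ W := hyy'.mem_open W.2 hyW
  have sq1 : IsPullback ((pullback.fst g f ⁻¹ᵁ W).ι) (pullback.fst g f ∣_ W) (pullback.fst g f) W.ι :=
    (isPullback_morphismRestrict (pullback.fst g f) W).flip
  have sq : IsPullback ((pullback.fst g f ⁻¹ᵁ W).ι ≫ pullback.snd g f) (pullback.fst g f ∣_ W) f
      (W.ι ≫ g) := sq1.paste_horiz (IsPullback.of_hasPullback g f).flip
  have key : hW.isoSpec.hom ≫ (Spec.map (g.appLE U W hWU) ≫ hU.fromSpec) = W.ι ≫ g := by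
    rw [IsAffineOpen.SpecMap_appLE_fromSpec g hU hW hWU, ← Category.assoc,
      IsAffineOpen.isoSpec_hom_fromSpec]
  have hres : _root_.Subtr.IsSSubtrusive (pullback.fst g f ∣_ W) :=
    (prop_iff_of_isPullback SS hW.isoSpec key sq
      (IsPullback.of_hasPullback f _)).mpr (isSSubtrusive_snd_of_spec f _ hU.fromSpec h)
  have hsp : (⟨y', hy'W⟩ : W) ⤳ (⟨y, hyW⟩ : W) := by
    rw [← (Scheme.Opens.ι W).isOpenEmbedding.isInducing.specializes_iff]
    exact hyy'
  obtain ⟨x, x', hxx', hx, hx'⟩ := hres hsp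
  refine ⟨(pullback.fst g f ⁻¹ᵁ W).ι.base x, (pullback.fst g f ⁻¹ᵁ W).ι.base x',
    hxx'.map (Scheme.Hom.continuous _), ?_, ?_⟩
  · rw [← Scheme.Hom.comp_apply, ← morphismRestrict_ι, Scheme.Hom.comp_apply, hx]
    rfl
  · rw [← Scheme.Hom.comp_apply, ← morphismRestrict_ι, Scheme.Hom.comp_apply, hx']
    rfl

end Groth.Agent.H24.Subtr
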