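import Mathlib
import Groth.Agent.H24.UnivOpen

/-!
# Universal openness of a finite algebra via one linear form (helper24)
-/

set_option autoImplicit false
universe u
open CategoryTheory CategoryTheory.Limits AlgebraicGeometry TensorProduct

namespace Groth.Agent.H24

set_option backward.isDefEq.respectTransparency false in
/-- To check universal openness over an affine base, affine base changes suffice. -/
theorem universallyOpen_of_forall_spec {R : CommRingCat.{u}} {X : Scheme.{u}} (f : X ⟶ Spec R)
    (H : ∀ (R' : CommRingCat.{u}) (ψ : R ⟶ R'), IsOpenMap (pullback.snd f (Spec.map ψ))) :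
    UniversallyOpen f := by
  refine ⟨MorphismProperty.universally_mk' _ _ fun {Y'} g _ => ?_⟩
  apply IsZariskiLocalAtTarget.of_forall_exists_morphismRestrict (P := topologically IsOpenMap)
  intro y'
  obtain ⟨W, hW, hyW⟩ : ∃ W : Y'.Opens, IsAffineOpen W ∧ y' ∈ W := by
    obtain ⟨_, ⟨W, hW, rfl⟩, hy, -⟩ := Y'.isBasis_affineOpens.exists_subset_of_mem_open
      (Set.mem_univ y') isOpen_univ
    exact ⟨W, hW, hy⟩
  refine ⟨W, hyW, ?_⟩
  obtain ⟨ψ, hψ⟩ := Spec.map_surjective (hW.fromSpec ≫ g)
  have sq1 : IsPullback ((pullback.fst g f ⁻¹ᵁ W).ι) (pullback.fst g f ∣_ W) (pullback.fst g f) W.ι :=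
    (isPullback_morphismRestrict (pullback.fst g f) W).flip
  have sq : IsPullback ((pullback.fst g f ⁻¹ᵁ W).ι ≫ pullback.snd g f) (pullback.fst g f ∣_ W) f
      (W.ι ≫ g) := sq1.paste_horiz (IsPullback.of_hasPullback g f).flip
  have key : hW.isoSpec.hom ≫ Spec.map ψ = W.ι ≫ g := by
    rw [hψ, ← Category.assoc, IsAffineOpen.isoSpec_hom_fromSpec]
  exact (prop_iff_of_isPullback (topologically IsOpenMap) hW.isoSpec key sq
    (IsPullback.of_hasPullback f _)).mpr (H _ ψ)

end Groth.Agent.H24

namespace Groth.Agent.H24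

section LinearForm

variable {A B : Type u} [CommRing A] [CommRing B] [Algebra A B] {d : ℕ} (b : Fin d → B)

/-- The universal linear form `∑ xᵢ bᵢ`. -/
noncomputable abbrev linForm : MvPolynomial (Fin d) B :=
  ∑ i : Fin d, MvPolynomial.X i * MvPolynomial.C (b i)

theorem exists_sum_tmul_eq (hb : Submodule.span A (Set.range b) = ⊤)
    (A' : Type u) [CommRing A'] [Algebra A A'] (g : A' ⊗[A] B) :
    ∃ a' : Fin d → A', ∑ i, a' i ⊗ₜ[A] b i = g := by
  have h1 : Submodule.span A' (Set.range fun i => (1 : A') ⊗ₜ[A] b i) = ⊤ := by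
    have := Submodule.baseChange_span (R := A) (M := B) A' (Set.range b)
    rw [hb, Submodule.baseChange_top, ← Set.range_comp] at this
    exact this.symm
  have hg : g ∈ Submodule.span A' (Set.range fun i => (1 : A') ⊗ₜ[A] b i) := by
    rw [h1]; trivial
  obtain ⟨c, hc⟩ := (Submodule.mem_span_range_iff_exists_fun A').mp hg
  refine ⟨c, ?_⟩
  rw [← hc]
  refine Finset.sum_congr rfl fun i _ => ?_
  rw [TensorProduct.smul_tmul', smul_eq_mul, mul_one]

end LinearForm

end Groth.Agent.H24

namespace Groth.Agent.H24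

section LinearForm2

variable {A B : Type u} [CommRing A] [CommRing B] [Algebra A B] {d : ℕ} (b : Fin d → B)
  (A' : Type u) [CommRing A'] [Algebra A A'] (a' : Fin d → A')

/-- `A[x] → A'`, `xᵢ ↦ a'ᵢ`. -/
noncomputable abbrev thetaHom : MvPolynomial (Fin d) A →+* A' :=
  (MvPolynomial.aeval a' : MvPolynomial (Fin d) A →ₐ[A] A').toRingHom

/-- `B[x] → A' ⊗ B`, `xᵢ ↦ a'ᵢ ⊗ 1`. -/
noncomputable abbrev ThetaHom : MvPolynomial (Fin d) B →+* A' ⊗[A] B :=
  MvPolynomial.eval₂Hom (Algebra.TensorProduct.includeRight : B →ₐ[A] A' ⊗[A] B).toRingHom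
    (fun i => a' i ⊗ₜ[A] (1 : B))

theorem ThetaHom_linForm : ThetaHom (A := A) A' a' (linForm b) = ∑ i, a' i ⊗ₜ[A] b i := by
  simp [ThetaHom, linForm, Algebra.TensorProduct.tmul_mul_tmul]

attribute [local instance] MvPolynomial.algebraMvPolynomial in
theorem isPushout_theta :
    IsPushout (CommRingCat.ofHom (thetaHom (A := A) A' a'))
      (CommRingCat.ofHom (MvPolynomial.map (σ := Fin d) (algebraMap A B)))
      (CommRingCat.ofHom (Algebra.TensorProduct.includeLeftRingHom : A' →+* A' ⊗[A] B))
      (CommRingCat.ofHom (ThetaHom (A := A) (B := B) A' a')) := by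
  have t := CommRingCat.isPushout_of_isPushout A (MvPolynomial (Fin d) A) B (MvPolynomial (Fin d) B)
  rw [MvPolynomial.algebraMap_def] at t
  have s := CommRingCat.isPushout_tensorProduct A A' B
  have e1 : CommRingCat.ofHom (algebraMap A A') =
      CommRingCat.ofHom (algebraMap A (MvPolynomial (Fin d) A)) ≫
        CommRingCat.ofHom (thetaHom (A := A) A' a') := by
    ext x
    simp [thetaHom]
  have e2 : CommRingCat.ofHom
      (Algebra.TensorProduct.includeRight : B →ₐ[A] A' ⊗[A] B).toRingHom =
      CommRingCat.ofHom (algebraMap B (MvPolynomial (Fin d) B)) ≫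
        CommRingCat.ofHom (ThetaHom (A := A) (B := B) A' a') := by
    ext x
    simp [ThetaHom]
  rw [e1, e2] at s
  refine IsPushout.of_left s ?_ t
  ext x
  · simp [thetaHom, ThetaHom]
  · simp [thetaHom, ThetaHom]

end LinearForm2

end Groth.Agent.H24

namespace Groth.Agent.H24

section LinearForm3

variable {A B : Type u} [CommRing A] [CommRing B] [Algebra A B] {d : ℕ} (b : Fin d → B)

theorem isOpenMap_comap_includeLeft (hb : Submodule.span A (Set.range b) = ⊤)
    (hopen : IsOpen (PrimeSpectrum.comap (MvPolynomial.map (σ := Fin d) (algebraMap A B)) ''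
      (PrimeSpectrum.basicOpen (linForm b) : Set (PrimeSpectrum (MvPolynomial (Fin d) B)))))
    (A' : Type u) [CommRing A'] [Algebra A A'] :
    IsOpenMap (PrimeSpectrum.comap
      (Algebra.TensorProduct.includeLeftRingHom : A' →+* A' ⊗[A] B)) := by
  rw [PrimeSpectrum.isTopologicalBasis_basic_opens.isOpenMap_iff]
  rintro _ ⟨g, rfl⟩
  obtain ⟨a', rfl⟩ := exists_sum_tmul_eq b hb A' g
  have hpb := (isPullback_SpecMap_of_isPushout _ _ _ _
    (isPushout_theta (A := A) (B := B) A' a')).flip
  have himg := Scheme.image_preimage_eq_of_isPullback hpb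
    (PrimeSpectrum.basicOpen (linForm b) : Set (PrimeSpectrum (MvPolynomial (Fin d) B)))
  have e : (PrimeSpectrum.basicOpen (∑ i, a' i ⊗ₜ[A] b i) : Set (PrimeSpectrum (A' ⊗[A] B))) =
      PrimeSpectrum.comap (ThetaHom (A := A) (B := B) A' a') ⁻¹'
        (PrimeSpectrum.basicOpen (linForm b) : Set (PrimeSpectrum (MvPolynomial (Fin d) B))) := by
    rw [← ThetaHom_linForm]
    ext x
    simp
  change IsOpen (PrimeSpectrum.comap Algebra.TensorProduct.includeLeftRingHom ''
    (PrimeSpectrum.basicOpen (∑ i, a' i ⊗ₜ[A] b i) : Set (PrimeSpectrum (A' ⊗[A] B))))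
  rw [e]
  have := hopen.preimage (PrimeSpectrum.continuous_comap (thetaHom (A := A) A' a'))
  convert this using 1
  exact himg

end LinearForm3

end Groth.Agent.H24

namespace Groth.Agent.H24

section LinearForm4

variable {A B : Type u} [CommRing A] [CommRing B] [Algebra A B] {d : ℕ} (b : Fin d → B)

attribute [local instance] MvPolynomial.algebraMvPolynomial in
theorem isOpen_image_linForm_of_universallyOpen
    [UniversallyOpen (Spec.map (CommRingCat.ofHom (algebraMap A B)))] :
    IsOpen (PrimeSpectrum.comap (MvPolynomial.map (σ := Fin d) (algebraMap A B)) ''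
      (PrimeSpectrum.basicOpen (linForm b) : Set (PrimeSpectrum (MvPolynomial (Fin d) B)))) := by
  have t := CommRingCat.isPushout_of_isPushout A (MvPolynomial (Fin d) A) B (MvPolynomial (Fin d) B)
  rw [MvPolynomial.algebraMap_def] at t
  have hpb := isPullback_SpecMap_of_isPushout _ _ _ _ t
  have hopen : IsOpenMap
      (Spec.map (CommRingCat.ofHom (MvPolynomial.map (σ := Fin d) (algebraMap A B)))) :=
    UniversallyOpen.universally_isOpenMap _ _ _ hpb
  exact hopen _ (PrimeSpectrum.basicOpen (linForm b)).2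

set_option backward.isDefEq.respectTransparency false in
theorem universallyOpen_of_isOpen_image_linForm (hb : Submodule.span A (Set.range b) = ⊤)
    (hopen : IsOpen (PrimeSpectrum.comap (MvPolynomial.map (σ := Fin d) (algebraMap A B)) ''
      (PrimeSpectrum.basicOpen (linForm b) : Set (PrimeSpectrum (MvPolynomial (Fin d) B))))) :
    UniversallyOpen (Spec.map (CommRingCat.ofHom (algebraMap A B))) := by
  apply universallyOpen_of_forall_spec
  intro R' ψ
  algebraize [ψ.hom]
  have s := CommRingCat.isPushout_tensorProduct A R' B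
  have hpb := (isPullback_SpecMap_of_isPushout _ _ _ _ s).flip
  have h1 : IsOpenMap (Spec.map (CommRingCat.ofHom
      (Algebra.TensorProduct.includeLeftRingHom : R' →+* R' ⊗[A] B))) :=
    isOpenMap_comap_includeLeft b hb hopen R'
  exact (prop_iff_of_isPullback (topologically IsOpenMap) (Iso.refl _)
    (by rw [Iso.refl_hom, Category.id_comp]; rfl) hpb
    (IsPullback.of_hasPullback (Spec.map (CommRingCat.ofHom (algebraMap A B))) (Spec.map ψ))).mp h1

end LinearForm4

end Groth.Agent.H24
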