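import Mathlib
import Groth.Agent.H24.UnivOpenFinite

/-!
# Universal openness via one linear form, up to a unit (helper24)

`LinGen A b r`: the elements `b i` generate the `A`-algebra `C` as a module up to multiplication by
powers of the unit `r` (this is what Zariski's main theorem provides locally for a quasi-finite
algebra).  Under this hypothesis, `Spec C ⟶ Spec A` is universally open iff the image of the basic
open of the universal linear form `∑ xᵢ bᵢ` in `Spec A[x]` is open; both sides commute with base
change.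
-/

set_option autoImplicit false
universe u
open CategoryTheory CategoryTheory.Limits AlgebraicGeometry TensorProduct

namespace Groth.Agent.H24

section LinGenDef

/-- `b` generates `C` over `A` as a module, up to powers of the unit `r`. -/
structure LinGen (A : Type u) {C : Type u} [CommRing A] [CommRing C] [Algebra A C] {d : ℕ}
    (b : Fin d → C) (r : C) : Prop where
  isUnit : IsUnit r
  gen : ∀ x : C, ∃ n : ℕ, r ^ n * x ∈ Submodule.span A (Set.range b)
  mul_mem : ∀ k, r * b k ∈ Submodule.span A (Set.range b)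

variable {A C : Type u} [CommRing A] [CommRing C] [Algebra A C] {d : ℕ} {b : Fin d → C} {r : C}

theorem LinGen.mul_mem_span (h : LinGen A b r) {m : C}
    (hm : m ∈ Submodule.span A (Set.range b)) : r * m ∈ Submodule.span A (Set.range b) := by
  induction hm using Submodule.span_induction with
  | mem x hx => obtain ⟨k, rfl⟩ := hx; exact h.mul_mem k
  | zero => simp
  | add x y _ _ hx hy => rw [mul_add]; exact add_mem hx hy
  | smul a x _ hx => rw [mul_smul_comm]; exact Submodule.smul_mem _ _ hx

theorem LinGen.exists_basicOpen_eq (h : LinGen A b r) (g : C) :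
    ∃ c : Fin d → A, PrimeSpectrum.basicOpen g = PrimeSpectrum.basicOpen (∑ i, c i • b i) := by
  obtain ⟨n, hn⟩ := h.gen g
  obtain ⟨c, hc⟩ := (Submodule.mem_span_range_iff_exists_fun A).mp hn
  refine ⟨c, ?_⟩
  rw [hc]
  ext x
  simp only [SetLike.mem_coe, PrimeSpectrum.mem_basicOpen]
  rw [x.2.mul_mem_iff_mem_or_mem]
  have hu : r ^ n ∉ x.asIdeal := fun hmem =>
    x.2.ne_top (Ideal.eq_top_of_isUnit_mem _ hmem (h.isUnit.pow n))
  tauto

theorem LinGen.baseChange (h : LinGen A b r) (A' : Type u) [CommRing A'] [Algebra A A'] :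
    LinGen A' (fun i => (1 : A') ⊗ₜ[A] b i) ((1 : A') ⊗ₜ[A] r) := by
  set N := Submodule.span A' (Set.range fun i => (1 : A') ⊗ₜ[A] b i) with hNdef
  have hN : ∀ m ∈ Submodule.span A (Set.range b), ∀ x : A', x ⊗ₜ[A] m ∈ N := by
    intro m hm
    induction hm using Submodule.span_induction with
    | mem y hy =>
      obtain ⟨k, rfl⟩ := hy
      intro x
      have : x ⊗ₜ[A] b k = x • ((1 : A') ⊗ₜ[A] b k) := by
        rw [TensorProduct.smul_tmul', smul_eq_mul, mul_one]
      rw [this]
      exact Submodule.smul_mem _ _ (Submodule.subset_span ⟨k, rfl⟩)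
    | zero => intro x; simp
    | add y z _ _ hy hz => intro x; rw [TensorProduct.tmul_add]; exact add_mem (hy x) (hz x)
    | smul a y _ hy => intro x; rw [← TensorProduct.smul_tmul]; exact hy (a • x)
  have hmulN : ∀ n ∈ N, ((1 : A') ⊗ₜ[A] r) * n ∈ N := by
    intro n hn
    induction hn using Submodule.span_induction with
    | mem y hy =>
      obtain ⟨k, rfl⟩ := hy
      change ((1 : A') ⊗ₜ[A] r) * ((1 : A') ⊗ₜ[A] b k) ∈ N
      rw [Algebra.TensorProduct.tmul_mul_tmul, mul_one]
      exact hN _ (h.mul_mem k) 1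
    | zero => simp
    | add y z _ _ hy hz => rw [mul_add]; exact add_mem hy hz
    | smul a y _ hy => rw [mul_smul_comm]; exact Submodule.smul_mem _ _ hy
  have hpow : ∀ (k : ℕ), ∀ n ∈ N, ((1 : A') ⊗ₜ[A] r) ^ k * n ∈ N := by
    intro k
    induction k with
    | zero => intro n hn; simpa using hn
    | succ k ih => intro n hn; rw [pow_succ', mul_assoc]; exact hmulN _ (ih n hn)
  refine ⟨?_, ?_, fun k => hmulN _ (Submodule.subset_span ⟨k, rfl⟩)⟩
  · have := h.isUnit.map (Algebra.TensorProduct.includeRight : C →ₐ[A] A' ⊗[A] C)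
    simpa using this
  · intro g
    induction g using TensorProduct.induction_on with
    | zero => exact ⟨0, by simp⟩
    | tmul x y =>
      obtain ⟨n, hn⟩ := h.gen y
      refine ⟨n, ?_⟩
      rw [Algebra.TensorProduct.tmul_pow, one_pow, Algebra.TensorProduct.tmul_mul_tmul, one_mul]
      exact hN _ hn x
    | add g₁ g₂ h₁ h₂ =>
      obtain ⟨n₁, hn₁⟩ := h₁
      obtain ⟨n₂, hn₂⟩ := h₂
      refine ⟨n₁ + n₂, ?_⟩
      rw [mul_add]
      refine add_mem ?_ ?_
      · rw [add_comm, pow_add, mul_assoc]; exact hpow _ _ hn₁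
      · rw [pow_add, mul_assoc]; exact hpow _ _ hn₂

end LinGenDef

end Groth.Agent.H24

namespace Groth.Agent.H24

section ImageLinForm

variable (A : Type u) {C : Type u} [CommRing A] [CommRing C] [Algebra A C] {d : ℕ} (b : Fin d → C)

/-- The image in `Spec A[x]` of the basic open of the universal linear form `∑ xᵢ bᵢ`. -/
def imageLinForm : Set (PrimeSpectrum (MvPolynomial (Fin d) A)) :=
  PrimeSpectrum.comap (MvPolynomial.map (σ := Fin d) (algebraMap A C)) ''
    (PrimeSpectrum.basicOpen (linForm b) : Set (PrimeSpectrum (MvPolynomial (Fin d) C)))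

variable {A b} {r : C}

theorem LinGen.isOpenMap_comap_includeLeft (h : LinGen A b r) (hopen : IsOpen (imageLinForm A b))
    (A' : Type u) [CommRing A'] [Algebra A A'] :
    IsOpenMap (PrimeSpectrum.comap
      (Algebra.TensorProduct.includeLeftRingHom : A' →+* A' ⊗[A] C)) := by
  rw [PrimeSpectrum.isTopologicalBasis_basic_opens.isOpenMap_iff]
  rintro _ ⟨g, rfl⟩
  obtain ⟨a', ha'⟩ := (h.baseChange A').exists_basicOpen_eq g
  have hsum : ∑ i, a' i • ((1 : A') ⊗ₜ[A] b i) = ∑ i, a' i ⊗ₜ[A] b i := by
    refine Finset.sum_congr rfl fun i _ => ?_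
    rw [TensorProduct.smul_tmul', smul_eq_mul, mul_one]
  rw [hsum] at ha'
  have hpb := (isPullback_SpecMap_of_isPushout _ _ _ _
    (isPushout_theta (A := A) (B := C) A' a')).flip
  have himg := Scheme.image_preimage_eq_of_isPullback hpb
    (PrimeSpectrum.basicOpen (linForm b) : Set (PrimeSpectrum (MvPolynomial (Fin d) C)))
  have e : (PrimeSpectrum.basicOpen (∑ i, a' i ⊗ₜ[A] b i) : Set (PrimeSpectrum (A' ⊗[A] C))) =
      PrimeSpectrum.comap (ThetaHom (A := A) (B := C) A' a') ⁻¹'
        (PrimeSpectrum.basicOpen (linForm b) : Set (PrimeSpectrum (MvPolynomial (Fin d) C))) := by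
    rw [← ThetaHom_linForm]
    ext x
    simp
  change IsOpen (PrimeSpectrum.comap Algebra.TensorProduct.includeLeftRingHom ''
    (PrimeSpectrum.basicOpen g : Set (PrimeSpectrum (A' ⊗[A] C))))
  rw [ha', e]
  have := hopen.preimage (PrimeSpectrum.continuous_comap (thetaHom (A := A) A' a'))
  convert this using 1
  exact himg

set_option backward.isDefEq.respectTransparency false in
theorem LinGen.universallyOpen_iff (h : LinGen A b r) :
    UniversallyOpen (Spec.map (CommRingCat.ofHom (algebraMap A C))) ↔
      IsOpen (imageLinForm A b) := by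
  constructor
  · intro _
    exact isOpen_image_linForm_of_universallyOpen b
  · intro hopen
    apply universallyOpen_of_forall_spec
    intro R' ψ
    algebraize [ψ.hom]
    have s := CommRingCat.isPushout_tensorProduct A R' C
    have hpb := (isPullback_SpecMap_of_isPushout _ _ _ _ s).flip
    have h1 : IsOpenMap (Spec.map (CommRingCat.ofHom
        (Algebra.TensorProduct.includeLeftRingHom : R' →+* R' ⊗[A] C))) :=
      h.isOpenMap_comap_includeLeft hopen R'
    exact (prop_iff_of_isPullback (topologically IsOpenMap) (Iso.refl _)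
      (by rw [Iso.refl_hom, Category.id_comp]; rfl) hpb
      (IsPullback.of_hasPullback (Spec.map (CommRingCat.ofHom (algebraMap A C))) (Spec.map ψ))).mp h1

end ImageLinForm

end Groth.Agent.H24

namespace Groth.Agent.H24

section BaseChangeImage

variable {A C : Type u} [CommRing A] [CommRing C] [Algebra A C] {d : ℕ} (b : Fin d → C)
  (A' : Type u) [CommRing A'] [Algebra A A']

attribute [local instance] MvPolynomial.algebraMvPolynomial in
theorem isPushout_mvPolynomial_tensor :
    IsPushout (CommRingCat.ofHom (MvPolynomial.map (σ := Fin d) (algebraMap A A')))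
      (CommRingCat.ofHom (MvPolynomial.map (σ := Fin d) (algebraMap A C)))
      (CommRingCat.ofHom (MvPolynomial.map (σ := Fin d)
        (Algebra.TensorProduct.includeLeftRingHom : A' →+* A' ⊗[A] C)))
      (CommRingCat.ofHom (MvPolynomial.map (σ := Fin d)
        (Algebra.TensorProduct.includeRight : C →ₐ[A] A' ⊗[A] C).toRingHom)) := by
  have tC := CommRingCat.isPushout_of_isPushout A (MvPolynomial (Fin d) A) C (MvPolynomial (Fin d) C)
  rw [MvPolynomial.algebraMap_def] at tC
  have s := CommRingCat.isPushout_tensorProduct A A' C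
  have t' := CommRingCat.isPushout_of_isPushout A' (MvPolynomial (Fin d) A') (A' ⊗[A] C)
    (MvPolynomial (Fin d) (A' ⊗[A] C))
  rw [MvPolynomial.algebraMap_def] at t'
  have big := s.paste_horiz t'
  have e1 : CommRingCat.ofHom (algebraMap A A') ≫
      CommRingCat.ofHom (algebraMap A' (MvPolynomial (Fin d) A')) =
      CommRingCat.ofHom (algebraMap A (MvPolynomial (Fin d) A)) ≫
        CommRingCat.ofHom (MvPolynomial.map (σ := Fin d) (algebraMap A A')) := by
    ext x
    simp
  have e2 : CommRingCat.ofHom
      (Algebra.TensorProduct.includeRight : C →ₐ[A] A' ⊗[A] C).toRingHom ≫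
      CommRingCat.ofHom (algebraMap (A' ⊗[A] C) (MvPolynomial (Fin d) (A' ⊗[A] C))) =
      CommRingCat.ofHom (algebraMap C (MvPolynomial (Fin d) C)) ≫
        CommRingCat.ofHom (MvPolynomial.map (σ := Fin d)
          (Algebra.TensorProduct.includeRight : C →ₐ[A] A' ⊗[A] C).toRingHom) := by
    ext x
    simp
  rw [e1, e2] at big
  refine IsPushout.of_left big ?_ tC
  ext x
  · simp
  · simp

theorem imageLinForm_baseChange :
    imageLinForm A' (fun i => (1 : A') ⊗ₜ[A] b i) =
      PrimeSpectrum.comap (MvPolynomial.map (σ := Fin d) (algebraMap A A')) ⁻¹'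
        imageLinForm A b := by
  have hpb := (isPullback_SpecMap_of_isPushout _ _ _ _
    (isPushout_mvPolynomial_tensor (A := A) (C := C) (d := d) A')).flip
  have himg := Scheme.image_preimage_eq_of_isPullback hpb
    (PrimeSpectrum.basicOpen (linForm b) : Set (PrimeSpectrum (MvPolynomial (Fin d) C)))
  have e : (PrimeSpectrum.basicOpen (linForm fun i => (1 : A') ⊗ₜ[A] b i) :
      Set (PrimeSpectrum (MvPolynomial (Fin d) (A' ⊗[A] C)))) =
      PrimeSpectrum.comap (MvPolynomial.map (σ := Fin d)
        (Algebra.TensorProduct.includeRight : C →ₐ[A] A' ⊗[A] C).toRingHom) ⁻¹'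
        (PrimeSpectrum.basicOpen (linForm b) : Set (PrimeSpectrum (MvPolynomial (Fin d) C))) := by
    have : linForm (fun i => (1 : A') ⊗ₜ[A] b i) = MvPolynomial.map (σ := Fin d)
        (Algebra.TensorProduct.includeRight : C →ₐ[A] A' ⊗[A] C).toRingHom (linForm b) := by
      simp [linForm]
    rw [this]
    ext x
    simp
  unfold imageLinForm
  rw [e]
  exact himg

end BaseChangeImage

end Groth.Agent.H24
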