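import Mathlib
import Groth.Agent.H24.UOQF1
import Groth.Agent.H24.LimitMono

/-!
# Universal openness of a base change of a `LinGen` chart (helper24)
-/

set_option autoImplicit false
universe u
open CategoryTheory CategoryTheory.Limits AlgebraicGeometry TensorProduct

namespace Groth.Agent.H24

variable {A C : Type u} [CommRing A] [CommRing C] [Algebra A C] {d : ℕ} {b : Fin d → C} {r : C}

attribute [local instance] MvPolynomial.algebraMvPolynomial in
set_option backward.isDefEq.respectTransparency false in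
/-- For a `LinGen` chart `Spec C ⟶ Spec A`, the base change along `Spec R' ⟶ Spec A` is universally
open iff the preimage of `imageLinForm A b` in `Spec R'[x]` is open.  Stated for arbitrary pullback
squares. -/
theorem LinGen.universallyOpen_iff_of_isPullback (h : LinGen A b r) {R' : CommRingCat.{u}}
    (ψ : CommRingCat.of A ⟶ R') {P1 P2 : Scheme.{u}}
    {c₁ : P1 ⟶ Spec (CommRingCat.of C)} {a₁ : P1 ⟶ Spec R'}
    (h1 : IsPullback c₁ a₁ (Spec.map (CommRingCat.ofHom (algebraMap A C))) (Spec.map ψ))
    {c₂ : P2 ⟶ Spec (CommRingCat.of (MvPolynomial (Fin d) A))} {a₂ : P2 ⟶ Spec R'}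
    (h2 : IsPullback c₂ a₂
      (Spec.map (CommRingCat.ofHom (algebraMap A (MvPolynomial (Fin d) A)))) (Spec.map ψ)) :
    UniversallyOpen a₁ ↔ IsOpen (c₂ ⁻¹' (imageLinForm A b)) := by
  algebraize [ψ.hom]
  have s := CommRingCat.isPushout_tensorProduct A R' C
  have hpb1 := (isPullback_SpecMap_of_isPushout _ _ _ _ s).flip
  have hUO : UniversallyOpen a₁ ↔ UniversallyOpen (Spec.map (CommRingCat.ofHom
      (Algebra.TensorProduct.includeLeftRingHom : R' →+* R' ⊗[A] C))) :=
    prop_iff_of_isPullback @UniversallyOpen (Iso.refl _)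
      (by rw [Iso.refl_hom, Category.id_comp]; rfl) h1 hpb1
  rw [hUO]
  have h3 := (h.baseChange R').universallyOpen_iff
  rw [imageLinForm_baseChange] at h3
  refine h3.trans ?_
  have tR := CommRingCat.isPushout_of_isPushout A (MvPolynomial (Fin d) A) R'
    (MvPolynomial (Fin d) R')
  rw [MvPolynomial.algebraMap_def] at tR
  have hpb2 := isPullback_SpecMap_of_isPushout _ _ _ _ tR
  have hpb2' : IsPullback (Spec.map (CommRingCat.ofHom (MvPolynomial.map (σ := Fin d)
      (algebraMap A R')))) (Spec.map (CommRingCat.ofHom (algebraMap R' (MvPolynomial (Fin d) R'))))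
      (Spec.map (CommRingCat.ofHom (algebraMap A (MvPolynomial (Fin d) A)))) (Spec.map ψ) := hpb2
  let e₂ := h2.isoIsPullback _ _ hpb2'
  have he₂ : e₂.hom ≫ Spec.map (CommRingCat.ofHom (MvPolynomial.map (σ := Fin d)
      (algebraMap A R'))) = c₂ := IsPullback.isoIsPullback_hom_fst _ _ h2 hpb2'
  rw [← he₂]
  have hcomp : (⇑(e₂.hom ≫ Spec.map (CommRingCat.ofHom (MvPolynomial.map (σ := Fin d)
      (algebraMap A R')))) ⁻¹' imageLinForm A b) = e₂.hom.homeomorph ⁻¹'
      (PrimeSpectrum.comap (MvPolynomial.map (σ := Fin d) (algebraMap A R')) ⁻¹'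
        imageLinForm A b) := by
    ext x
    simp only [Set.mem_preimage, Scheme.Hom.comp_apply]
    rfl
  rw [hcomp, Homeomorph.isOpen_preimage]

end Groth.Agent.H24
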