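import Mathlib
import Groth.Agent.H24.UOQF2
import Groth.Agent.H24.LimitCons
import Groth.Agent.H24.LimitBaseChange

/-!
# Universal openness of a `LinGen` chart descends to a stage (helper24)
-/

set_option autoImplicit false
universe u
open CategoryTheory CategoryTheory.Limits AlgebraicGeometry TensorProduct Topology

namespace Groth.Agent.H24

section Constructible

variable (A : Type u) {C : Type u} [CommRing A] [CommRing C] [Algebra A C] {d : ℕ} (b : Fin d → C)

attribute [local instance] MvPolynomial.algebraMvPolynomial in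
set_option backward.isDefEq.respectTransparency false in
theorem isConstructible_imageLinForm
    [LocallyOfFinitePresentation (Spec.map (CommRingCat.ofHom (algebraMap A C)))] :
    IsConstructible (imageLinForm A b) := by
  have tC := CommRingCat.isPushout_of_isPushout A (MvPolynomial (Fin d) A) C (MvPolynomial (Fin d) C)
  rw [MvPolynomial.algebraMap_def] at tC
  have hpb := (isPullback_SpecMap_of_isPushout _ _ _ _ tC).flip
  have hfp : LocallyOfFinitePresentation (Spec.map (CommRingCat.ofHom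
      (MvPolynomial.map (σ := Fin d) (algebraMap A C)))) :=
    MorphismProperty.of_isPullback (P := @LocallyOfFinitePresentation) hpb inferInstance
  exact Scheme.Hom.isConstructible_image (Spec.map (CommRingCat.ofHom
      (MvPolynomial.map (σ := Fin d) (algebraMap A C))))
    (PrimeSpectrum.isConstructible_basicOpen (f := linForm b))

end Constructible

section Key

variable {A C : Type u} [CommRing A] [CommRing C] [Algebra A C] {d : ℕ} {b : Fin d → C} {r : C}

set_option backward.isDefEq.respectTransparency false in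
/-- Abstract-affine version of `LinGen.universallyOpen_iff_of_isPullback`. -/
theorem LinGen.universallyOpen_fst_iff (h : LinGen A b r) {S W : Scheme.{u}}
    (ε : S ≅ Spec (CommRingCat.of A)) (ω : W ≅ Spec (CommRingCat.of C)) (F : W ⟶ S)
    (hF : F ≫ ε.hom = ω.hom ≫ Spec.map (CommRingCat.ofHom (algebraMap A C)))
    {S' : Scheme.{u}} [IsAffine S'] (u : S' ⟶ S) :
    UniversallyOpen (pullback.fst u F) ↔
      IsOpen ((pullback.snd u (Spec.map (CommRingCat.ofHom
        (algebraMap A (MvPolynomial (Fin d) A))) ≫ ε.inv)) ⁻¹' (imageLinForm A b)) := by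
  obtain ⟨ψ, hψ⟩ := Spec.map_surjective (S'.isoSpec.inv ≫ u ≫ ε.hom)
  have h1 : IsPullback (pullback.snd u F ≫ ω.hom) (pullback.fst u F ≫ S'.isoSpec.hom)
      (Spec.map (CommRingCat.ofHom (algebraMap A C))) (Spec.map ψ) := by
    refine IsPullback.of_iso (IsPullback.of_hasPullback u F).flip (Iso.refl _) ω S'.isoSpec ε
      ?_ ?_ ?_ ?_
    · simp
    · simp
    · exact hF
    · rw [hψ]; simp
  have h2 : IsPullback (pullback.snd u (Spec.map (CommRingCat.ofHom
        (algebraMap A (MvPolynomial (Fin d) A))) ≫ ε.inv))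
      (pullback.fst u (Spec.map (CommRingCat.ofHom
        (algebraMap A (MvPolynomial (Fin d) A))) ≫ ε.inv) ≫ S'.isoSpec.hom)
      (Spec.map (CommRingCat.ofHom (algebraMap A (MvPolynomial (Fin d) A)))) (Spec.map ψ) := by
    refine IsPullback.of_iso (IsPullback.of_hasPullback u _).flip (Iso.refl _) (Iso.refl _)
      S'.isoSpec ε ?_ ?_ ?_ ?_
    · simp
    · simp
    · simp
    · rw [hψ]; simp
  rw [← h.universallyOpen_iff_of_isPullback ψ h1 h2]
  exact (MorphismProperty.cancel_right_of_respectsIso @UniversallyOpen _ _).symm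

end Key

end Groth.Agent.H24

namespace Groth.Agent.H24

section Descent

variable {J : Type u} [Category.{u} J] [IsCofiltered J] (D : J ⥤ Scheme.{u}) (c : Cone D)
  [∀ {i j} (f : i ⟶ j), IsAffineHom (D.map f)] (j₀ : J) [∀ j, IsAffine (D.obj j)]
  {A C : Type u} [CommRing A] [CommRing C] [Algebra A C] {d : ℕ} {b : Fin d → C} {r : C}

set_option backward.isDefEq.respectTransparency false in
/-- **Chart lemma.** Universal openness of the base change to the limit of a finitely presented
`LinGen` chart descends to a stage. -/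
theorem LinGen.exists_universallyOpen_fst (h : LinGen A b r) (hc : IsLimit c)
    [LocallyOfFinitePresentation (Spec.map (CommRingCat.ofHom (algebraMap A C)))]
    {W : Scheme.{u}} (ε : D.obj j₀ ≅ Spec (CommRingCat.of A)) (ω : W ≅ Spec (CommRingCat.of C))
    (F : W ⟶ D.obj j₀)
    (hF : F ≫ ε.hom = ω.hom ≫ Spec.map (CommRingCat.ofHom (algebraMap A C)))
    (hUO : UniversallyOpen (pullback.fst (c.π.app j₀) F)) :
    ∃ ψ : Over j₀, UniversallyOpen (pullback.fst (D.map ψ.hom) F) := by
  have hcaff : IsAffine c.pt := Scheme.isAffine_of_isLimit c hc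
  have hcaff' : IsAffine (((Functor.const J).obj c.pt).obj j₀) := hcaff
  let 𝒯 : Spec (CommRingCat.of (MvPolynomial (Fin d) A)) ⟶ D.obj j₀ :=
    Spec.map (CommRingCat.ofHom (algebraMap A (MvPolynomial (Fin d) A))) ≫ ε.inv
  let E : Set (Spec (CommRingCat.of (MvPolynomial (Fin d) A))) := imageLinForm A b
  have hE : IsConstructible E := isConstructible_imageLinForm A b
  let FT := pullbackDiagram D j₀ 𝒯
  let cT := pullbackCone D c j₀ 𝒯
  have hcT : IsLimit cT := isLimitPullbackCone D c j₀ 𝒯 hc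
  have hFTaff : ∀ {φ ψ : Over j₀} (f : φ ⟶ ψ), IsAffineHom (FT.map f) := fun f =>
    MorphismProperty.of_isPullback (P := @IsAffineHom)
      (isPullback_pullbackDiagram_map D j₀ 𝒯 f).flip inferInstance
  have hFTa : ∀ ψ, IsAffine (FT.obj ψ) := fun ψ =>
    inferInstanceAs (IsAffine (pullback (D.map ψ.hom) 𝒯))
  let Eψ : ∀ ψ : Over j₀, Set (FT.obj ψ) := fun ψ => (pullback.snd (D.map ψ.hom) 𝒯) ⁻¹' E
  have hEψ : ∀ ψ, IsConstructible (Eψ ψ) := fun ψ => Scheme.Hom.isConstructible_preimage _ hE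
  have hEmap : ∀ {φ ψ : Over j₀} (f : φ ⟶ ψ), (FT.map f) ⁻¹' (Eψ ψ) = Eψ φ := by
    intro φ ψ f
    have key : FT.map f ≫ pullback.snd (D.map ψ.hom) 𝒯 = pullback.snd (D.map φ.hom) 𝒯 :=
      pullbackDiagram_map_snd D j₀ 𝒯 f
    ext x
    change (pullback.snd (D.map ψ.hom) 𝒯) ((FT.map f) x) ∈ E ↔
      (pullback.snd (D.map φ.hom) 𝒯) x ∈ E
    rw [← key]
    rfl
  have hElim : ∀ ψ : Over j₀, (cT.π.app ψ) ⁻¹' (Eψ ψ) = (pullback.snd (c.π.app j₀) 𝒯) ⁻¹' E := by
    intro ψ
    have key : cT.π.app ψ ≫ pullback.snd (D.map ψ.hom) 𝒯 = pullback.snd (c.π.app j₀) 𝒯 :=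
      pullbackCone_π_snd D c j₀ 𝒯 ψ
    ext x
    change (pullback.snd (D.map ψ.hom) 𝒯) ((cT.π.app ψ) x) ∈ E ↔
      (pullback.snd (c.π.app j₀) 𝒯) x ∈ E
    rw [← key]
    rfl
  have hopen : IsOpen ((pullback.snd (c.π.app j₀) 𝒯) ⁻¹' E) :=
    (h.universallyOpen_fst_iff ε ω F hF (c.π.app j₀)).mp hUO
  let ψ₀ : Over j₀ := Over.mk (𝟙 j₀)
  have hcompact : IsCompact ((pullback.snd (c.π.app j₀) 𝒯) ⁻¹' E) := by
    have := isCompact_preimage_inter_of_isConstructible FT cT hcT (hEψ ψ₀) ⊤ isCompact_univ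
    rw [TopologicalSpace.Opens.coe_top, Set.inter_univ, hElim] at this
    exact this
  obtain ⟨ψ₁, V₁, hV₁c, hV₁⟩ := exists_preimage_eq FT cT hcT ⟨_, hopen⟩ hcompact
  obtain ⟨ψ₂, f, hf⟩ := exists_preimage_eq_sdiff_of_isConstructible FT cT hcT (i := ψ₁) (hEψ ψ₁)
    V₁ ⊥ hV₁c (by simp) (by
      rw [hElim, TopologicalSpace.Opens.coe_bot, Set.sdiff_empty]
      exact (congrArg (fun U : cT.pt.Opens => (U : Set cT.pt)) hV₁).symm)
  refine ⟨ψ₂, (h.universallyOpen_fst_iff ε ω F hF (D.map ψ₂.hom)).mpr ?_⟩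
  change IsOpen (Eψ ψ₂)
  rw [← hEmap f, hf, TopologicalSpace.Opens.coe_bot, Set.sdiff_empty]
  exact V₁.2.preimage (FT.map f).continuous

end Descent

end Groth.Agent.H24
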