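import Mathlib
import Groth.Agent.H24.UOQF1

/-!
# `LinGen` charts for quasi-finite algebras from Zariski's main theorem (helper24)
-/

set_option autoImplicit false
universe u
open CategoryTheory CategoryTheory.Limits AlgebraicGeometry TensorProduct

namespace Groth.Agent.H24

section Charts

variable {A B : Type u} [CommRing A] [CommRing B] [Algebra A B]

theorem exists_linGen_away [Algebra.FiniteType A B] [Algebra.QuasiFinite A B]
    (q : Ideal B) [q.IsPrime] :
    ∃ s : B, s ∉ q ∧ ∃ (d : ℕ) (b : Fin d → Localization.Away s) (r : Localization.Away s),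
      LinGen A b r := by
  obtain ⟨S', hfg, r, hrq, hbij⟩ :=
    Algebra.QuasiFiniteAt.exists_fg_and_exists_notMem_and_awayMap_bijective (R := A) q
  obtain ⟨d, b₀, hb₀⟩ := Submodule.fg_iff_exists_fin_generating_family.mp hfg
  refine ⟨r.1, hrq, d, fun i => algebraMap B _ (b₀ i), algebraMap B _ r.1, ?_⟩
  have hmem : ∀ m : B, m ∈ S' → algebraMap B (Localization.Away r.1) m ∈
      Submodule.span A (Set.range fun i => algebraMap B (Localization.Away r.1) (b₀ i)) := by
    intro m hm
    have hm' : m ∈ Submodule.span A (Set.range b₀) := by rw [hb₀]; exact hm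
    have := Submodule.apply_mem_span_image_of_mem_span
      (IsScalarTower.toAlgHom A B (Localization.Away r.1)).toLinearMap hm'
    rw [← Set.range_comp] at this
    exact this
  have hb₀mem : ∀ k, b₀ k ∈ S' := fun k => by
    rw [← Subalgebra.mem_toSubmodule, ← hb₀]
    exact Submodule.subset_span ⟨k, rfl⟩
  refine ⟨IsLocalization.Away.algebraMap_isUnit r.1, ?_, ?_⟩
  · intro x
    let ψ : Localization.Away r →+* Localization.Away r.1 :=
      Localization.awayMap S'.val.toRingHom r
    have hsurj : Function.Surjective ψ := hbij.2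
    obtain ⟨y, rfl⟩ := hsurj x
    obtain ⟨n, a, hna⟩ := IsLocalization.Away.surj r y
    refine ⟨n, ?_⟩
    have hψalg : ∀ a : S', ψ (algebraMap S' (Localization.Away r) a) =
        algebraMap B (Localization.Away r.1) a.1 := by
      intro a
      have := IsLocalization.map_eq (S := Localization.Away r)
        (Q := Localization.Away (S'.val.toRingHom r)) (g := S'.val.toRingHom)
        (M := Submonoid.powers r) (T := Submonoid.powers (S'.val.toRingHom r))
        (by rintro _ ⟨m, rfl⟩; exact ⟨m, by simp⟩) a
      exact this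
    have key : algebraMap B (Localization.Away r.1) r.1 ^ n * ψ y =
        algebraMap B (Localization.Away r.1) a.1 := by
      rw [← hψalg r, ← hψalg a, ← hna, map_mul, map_pow, mul_comm]
    exact key ▸ hmem _ a.2
  · intro k
    change algebraMap B (Localization.Away r.1) r.1 * algebraMap B (Localization.Away r.1) (b₀ k) ∈ _
    rw [← map_mul]
    exact hmem _ (S'.mul_mem r.2 (hb₀mem k))

theorem exists_finset_linGen [Algebra.FiniteType A B] [Algebra.QuasiFinite A B] :
    ∃ t : Finset B, Ideal.span (t : Set B) = ⊤ ∧ ∀ s ∈ t,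
      ∃ (d : ℕ) (b : Fin d → Localization.Away s) (r : Localization.Away s), LinGen A b r := by
  let Sset : Set B := {s | ∃ (d : ℕ) (b : Fin d → Localization.Away s) (r : Localization.Away s),
    LinGen A b r}
  have hspan : Ideal.span Sset = ⊤ := by
    by_contra hne
    obtain ⟨m, hm, hle⟩ := Ideal.exists_le_maximal _ hne
    have := hm.isPrime
    obtain ⟨s, hsm, hs⟩ := exists_linGen_away (A := A) m
    exact hsm (hle (Ideal.subset_span hs))
  obtain ⟨t, htS, ht⟩ := (Ideal.span_eq_top_iff_finite Sset).mp hspan
  exact ⟨t, ht, fun s hs => htS hs⟩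

end Charts

end Groth.Agent.H24
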