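import Mathlib
import Groth.Agent.H24.UOQF3
import Groth.Agent.H24.UOQF4

/-!
# Universal openness of a quasi-finite morphism descends to a stage: all-affine case (helper24)
-/

set_option autoImplicit false
universe u
open CategoryTheory CategoryTheory.Limits AlgebraicGeometry TensorProduct Topology

namespace Groth.Agent.H24

section QFUO

variable {J : Type u} [Category.{u} J] [IsCofiltered J] (D : J ⥤ Scheme.{u}) (c : Cone D)
  [∀ {i j} (f : i ⟶ j), IsAffineHom (D.map f)] (j₁ : J) [∀ j, IsAffine (D.obj j)]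

set_option backward.isDefEq.respectTransparency false in
theorem exists_universallyOpen_fst_of_locallyQuasiFinite (hc : IsLimit c)
    {X₁ : Scheme.{u}} [IsAffine X₁] (h₁ : X₁ ⟶ D.obj j₁) [LocallyOfFinitePresentation h₁]
    [LocallyQuasiFinite h₁]
    (hUO : UniversallyOpen (pullback.fst (c.π.app j₁) h₁)) :
    ∃ ψ : Over j₁, UniversallyOpen (pullback.fst (D.map ψ.hom) h₁) := by
  classical
  let φ := h₁.appTop
  algebraize [φ.hom]
  have hfp : Algebra.FinitePresentation Γ(D.obj j₁, ⊤) Γ(X₁, ⊤) :=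
    (HasRingHomProperty.iff_of_isAffine (P := @LocallyOfFinitePresentation)).mp inferInstance
  have hqf : Algebra.QuasiFinite Γ(D.obj j₁, ⊤) Γ(X₁, ⊤) :=
    (HasRingHomProperty.iff_of_isAffine (P := @LocallyQuasiFinite)).mp inferInstance
  obtain ⟨t, ht, hlin⟩ := exists_finset_linGen (A := Γ(D.obj j₁, ⊤)) (B := Γ(X₁, ⊤))
  let sfun : t → Γ(X₁, ⊤) := fun k => k.1
  have hs : Ideal.span (Set.range sfun) = ⊤ := by
    have : Set.range sfun = (t : Set Γ(X₁, ⊤)) := Subtype.range_coe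
    rw [this]; exact ht
  let 𝒰 : X₁.OpenCover :=
    (Scheme.affineOpenCoverOfSpanRangeEqTop sfun hs).openCover.pushforwardIso X₁.isoSpec.inv
  have hchart : ∀ k : t, ∃ ψ : Over j₁,
      UniversallyOpen (pullback.fst (D.map ψ.hom) (𝒰.f k ≫ h₁)) := by
    intro k
    obtain ⟨d, b, r, hL⟩ := hlin k.1 k.2
    have hUOk : UniversallyOpen (pullback.fst (c.π.app j₁) (𝒰.f k ≫ h₁)) := by
      have e : pullback.fst (c.π.app j₁) (𝒰.f k ≫ h₁) =
          (Scheme.Pullback.openCoverOfRight 𝒰 (c.π.app j₁) h₁).f k ≫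
            pullback.fst (c.π.app j₁) h₁ := by simp
      rw [e]; infer_instance
    have hφ : CommRingCat.ofHom (algebraMap Γ(D.obj j₁, ⊤) (Localization.Away k.1)) =
        φ ≫ CommRingCat.ofHom (algebraMap Γ(X₁, ⊤) (Localization.Away k.1)) := by
      ext x
      simp [IsScalarTower.algebraMap_apply Γ(D.obj j₁, ⊤) Γ(X₁, ⊤) (Localization.Away k.1)]
      rfl
    have hSpecφ : Spec.map φ = X₁.isoSpec.inv ≫ h₁ ≫ (D.obj j₁).isoSpec.hom := by
      rw [← Scheme.isoSpec_hom_naturality, Iso.inv_hom_id_assoc]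
    have hF : (𝒰.f k ≫ h₁) ≫ (D.obj j₁).isoSpec.hom = (Iso.refl _).hom ≫
        Spec.map (CommRingCat.ofHom (algebraMap Γ(D.obj j₁, ⊤) (Localization.Away k.1))) := by
      rw [hφ, Spec.map_comp, hSpecφ, Iso.refl_hom, Category.id_comp]
      change ((Spec.map _ ≫ X₁.isoSpec.inv) ≫ h₁) ≫ _ = _
      simp only [Category.assoc]
      rfl
    have hfpφ : LocallyOfFinitePresentation (Spec.map φ) := by
      rw [hSpecφ]; infer_instance
    have hfpk : LocallyOfFinitePresentation (Spec.map (CommRingCat.ofHom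
        (algebraMap Γ(D.obj j₁, ⊤) (Localization.Away k.1)))) := by
      rw [hφ, Spec.map_comp]; infer_instance
    exact hL.exists_universallyOpen_fst D c j₁ hc (D.obj j₁).isoSpec (Iso.refl _) (𝒰.f k ≫ h₁)
      hF hUOk
  choose ψ hψ using hchart
  obtain ⟨ψ', T⟩ := IsCofiltered.inf_objs_exists (Finset.univ.image ψ)
  have bk : ∀ k : t, ψ' ⟶ ψ k := fun k =>
    (T (Finset.mem_image_of_mem ψ (Finset.mem_univ k))).some
  refine ⟨ψ', ?_⟩
  apply IsZariskiLocalAtSource.of_openCover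
    (Scheme.Pullback.openCoverOfRight 𝒰 (D.map ψ'.hom) h₁)
  intro k
  have e : (Scheme.Pullback.openCoverOfRight 𝒰 (D.map ψ'.hom) h₁).f k ≫
      pullback.fst (D.map ψ'.hom) h₁ = pullback.fst (D.map ψ'.hom) (𝒰.f k ≫ h₁) := by simp
  rw [e]
  have e2 : D.map ψ'.hom = D.map (bk k).left ≫ D.map (ψ k).hom := by
    rw [← D.map_comp, Over.w]
  rw [e2, ← (MorphismProperty.cancel_left_of_respectsIso @UniversallyOpen
    (pullbackRightPullbackFstIso (D.map (ψ k).hom) (𝒰.f k ≫ h₁) (D.map (bk k).left)).hom),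
    pullbackRightPullbackFstIso_hom_fst]
  have := hψ k
  infer_instance

end QFUO

end Groth.Agent.H24
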