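import Mathlib
import Groth.Agent.H24.UOQF5
import Groth.Agent.H24.LimitQuasiFinite
import Groth.Agent.H24.LimitLocusSmooth
import Groth.Agent.H24.LimitLocusIff

/-!
# Locally quasi-finite + universally open descends to a stage (helper24)
-/

set_option autoImplicit false
universe u
open CategoryTheory CategoryTheory.Limits AlgebraicGeometry

namespace Groth.Agent.H24

/-- Universally open and locally quasi-finite. -/
def UOQF : MorphismProperty Scheme.{u} := fun _ _ f => UniversallyOpen f ∧ LocallyQuasiFinite f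

instance : UOQF.{u}.IsStableUnderBaseChange :=
  ⟨fun sq hg => ⟨MorphismProperty.of_isPullback (P := @UniversallyOpen) sq hg.1,
    MorphismProperty.of_isPullback (P := @LocallyQuasiFinite) sq hg.2⟩⟩

instance : UOQF.{u}.IsStableUnderComposition :=
  ⟨fun f g hf hg => ⟨MorphismProperty.comp_mem @UniversallyOpen f g hf.1 hg.1,
    MorphismProperty.comp_mem @LocallyQuasiFinite f g hf.2 hg.2⟩⟩

instance : IsZariskiLocalAtSource UOQF.{u} := by
  have : IsZariskiLocalAtSource @LocallyQuasiFinite.{u} :=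
    HasRingHomProperty.instIsZariskiLocalAtSource
  apply IsZariskiLocalAtSource.mk'
  · intro X Y f U hf
    exact ⟨IsZariskiLocalAtSource.comp (P := @UniversallyOpen) hf.1 _,
      IsZariskiLocalAtSource.comp (P := @LocallyQuasiFinite) hf.2 _⟩
  · intro X Y f ι U hU h
    exact ⟨(IsZariskiLocalAtSource.iff_of_iSup_eq_top (P := @UniversallyOpen) U hU).mpr
        fun i => (h i).1,
      (IsZariskiLocalAtSource.iff_of_iSup_eq_top (P := @LocallyQuasiFinite) U hU).mpr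
        fun i => (h i).2⟩

theorem prop_fst_comp_iff (P : MorphismProperty Scheme.{u}) [P.RespectsIso]
    {T S₁ S₀ X : Scheme.{u}} (t : T ⟶ S₁) (a : S₁ ⟶ S₀) (h₀ : X ⟶ S₀) (t' : T ⟶ S₀)
    (e : t ≫ a = t') :
    P (pullback.fst t' h₀) ↔ P (pullback.fst t (pullback.fst a h₀)) := by
  subst e
  rw [← pullbackRightPullbackFstIso_hom_fst, P.cancel_left_of_respectsIso]

set_option backward.isDefEq.respectTransparency false in
theorem coreDescent_UOQF : CoreDescent UOQF.{u} := by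
  intro J _ _ D' _ c' hc' j₀ _ X₀' _ h₀ _ hlim
  obtain ⟨hUO, hQF⟩ := (prop_limMap_id_iff_fst D' c' j₀ h₀ UOQF).mp hlim
  obtain ⟨ψ₁, hψ₁⟩ : ∃ ψ₁ : Over j₀, LocallyQuasiFinite (pullback.fst (D'.map ψ₁.hom) h₀) := by
    haveI : ∀ (i j : J) (f : i ⟶ j), IsAffineHom (D'.map f) := fun _ _ f => inferInstance
    have hY : IsPullback (c'.π.app j₀) (𝟙 c'.pt) (𝟙 (D'.obj j₀)) (c'.π.app j₀) := by
      haveI : IsIso (𝟙 c'.pt) := IsIso.id _
      haveI : IsIso (𝟙 (D'.obj j₀)) := IsIso.id _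
      exact IsPullback.of_vert_isIso ⟨by simp⟩
    obtain ⟨ψ, hψ⟩ := exists_locallyQuasiFinite_stageMap D' c' hc' j₀ h₀ (𝟙 _)
      (pullback.fst (c'.π.app j₀) h₀) (𝟙 _) (c'.π.app j₀) (pullback.snd (c'.π.app j₀) h₀) hY
      (IsPullback.of_hasPullback (c'.π.app j₀) h₀).flip
    exact ⟨ψ, (prop_stageMap_id_iff_fst D' j₀ h₀ @LocallyQuasiFinite ψ).mp hψ⟩
  have hfp₁ : LocallyOfFinitePresentation (pullback.fst (D'.map ψ₁.hom) h₀) := inferInstance
  have hX₁ : IsAffine (pullback (D'.map ψ₁.hom) h₀) := inferInstance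
  have hUO₁ : UniversallyOpen (pullback.fst (c'.π.app ψ₁.left)
      (pullback.fst (D'.map ψ₁.hom) h₀)) :=
    (prop_fst_comp_iff @UniversallyOpen (c'.π.app ψ₁.left) (D'.map ψ₁.hom) h₀ (c'.π.app j₀)
      (c'.w ψ₁.hom)).mp hUO
  obtain ⟨ψ₂, hψ₂⟩ := exists_universallyOpen_fst_of_locallyQuasiFinite D' c' ψ₁.left hc'
    (pullback.fst (D'.map ψ₁.hom) h₀) hUO₁
  refine ⟨Over.mk (ψ₂.hom ≫ ψ₁.hom), (prop_stageMap_id_iff_fst D' j₀ h₀ UOQF _).mpr ?_⟩
  refine (prop_fst_comp_iff UOQF (D'.map ψ₂.hom) (D'.map ψ₁.hom) h₀ _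
    (D'.map_comp _ _).symm).mpr ⟨hψ₂, inferInstance⟩

end Groth.Agent.H24
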