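import Groth.Agent.H24.LimitDescent
import Groth.Agent.H24.DiagonalBC
import Groth.Agent.H50.LfpCancel

/-!
# Universal injectivity of a base change, as emptiness of a preimage (helper24)

For a cartesian square `X' = X₀ ×_{Y₀} Y'`, `f' : X' ⟶ Y'` is universally injective iff the preimage
in `Y'` of `T = q₀ ((range Δ_{f₀})ᶜ)` is empty, where `q₀ : X₀ ×_{Y₀} X₀ ⟶ Y₀`.  `T` is
pro-constructible when `f₀` is quasi-compact, quasi-separated and locally of finite presentation.
-/

set_option autoImplicit false
universe u
open CategoryTheory CategoryTheory.Limits AlgebraicGeometry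

namespace Groth.Agent.H24

variable {X₀ Y₀ X' Y' : Scheme.{u}} {pX : X' ⟶ X₀} {f' : X' ⟶ Y'} {f₀ : X₀ ⟶ Y₀} {pY : Y' ⟶ Y₀}

/-- The set of points of `Y₀` over which `f₀` is not universally injective. -/
def nonUnivInjLocus (f₀ : X₀ ⟶ Y₀) : Set Y₀ :=
  (pullback.fst f₀ f₀ ≫ f₀).base '' (Set.range (pullback.diagonal f₀).base)ᶜ

theorem universallyInjective_iff_preimage_eq_empty (h : IsPullback pX f' f₀ pY) :
    UniversallyInjective f' ↔ pY.base ⁻¹' nonUnivInjLocus f₀ = ∅ := by
  rw [UniversallyInjective.iff_diagonal, surjective_iff, ← Set.range_eq_univ]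
  have r1 : Set.range (pullback.diagonal f').base =
      (diagMap h).base ⁻¹' Set.range (pullback.diagonal f₀).base :=
    range_eq_preimage_range_of_isPullback (isPullback_diagonal h).flip
  have r2 : Set.range (diagMap h).base =
      (pullback.fst f₀ f₀ ≫ f₀).base ⁻¹' Set.range pY.base :=
    range_eq_preimage_range_of_isPullback (isPullback_diagMap_comp h).flip
  rw [r1]
  constructor
  · intro hu
    rw [Set.eq_empty_iff_forall_notMem]
    rintro y ⟨z, hz, hzy⟩
    have hz' : z ∈ Set.range (diagMap h).base := by
      rw [r2]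
      exact ⟨y, hzy.symm⟩
    obtain ⟨w, rfl⟩ := hz'
    have : w ∈ (diagMap h).base ⁻¹' Set.range (pullback.diagonal f₀).base := by
      rw [hu]; trivial
    exact hz this
  · intro he
    rw [Set.eq_univ_iff_forall]
    intro w
    by_contra hw
    have hmem : (pullback.fst f₀ f₀ ≫ f₀).base ((diagMap h).base w) ∈ Set.range pY.base := by
      have : (diagMap h).base w ∈ Set.range (diagMap h).base := ⟨w, rfl⟩
      rw [r2] at this
      exact this
    obtain ⟨y, hy⟩ := hmem
    have : y ∈ pY.base ⁻¹' nonUnivInjLocus f₀ := ⟨(diagMap h).base w, hw, hy.symm⟩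
    rw [he] at this
    exact this

theorem isProConstructible_nonUnivInjLocus (f₀ : X₀ ⟶ Y₀) [LocallyOfFinitePresentation f₀]
    [QuasiCompact f₀] [QuasiSeparated f₀] :
    ProCons.IsProConstructible (nonUnivInjLocus f₀) := by
  have hΔqc : QuasiCompact (pullback.diagonal f₀) := QuasiSeparated.quasiCompact_diagonal
  have hΔfp : LocallyOfFinitePresentation (pullback.diagonal f₀) := by
    have hid : pullback.diagonal f₀ ≫ pullback.fst f₀ f₀ = 𝟙 X₀ := pullback.diagonal_fst f₀
    have : LocallyOfFinitePresentation (pullback.diagonal f₀ ≫ pullback.fst f₀ f₀) := by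
      rw [hid]; infer_instance
    exact Groth.Agent.H50.locallyOfFinitePresentation_of_comp (pullback.diagonal f₀)
      (pullback.fst f₀ f₀) this inferInstance
  apply isProConstructible_of_isLocallyConstructible
  have h1 : Topology.IsLocallyConstructible (Set.range (pullback.diagonal f₀).base)ᶜ := by
    have := (pullback.diagonal f₀).isLocallyConstructible_image (s := Set.univ)
      Topology.IsLocallyConstructible.univ
    rw [Set.image_univ] at this
    exact isLocallyConstructible_compl this
  exact (pullback.fst f₀ f₀ ≫ f₀).isLocallyConstructible_image h1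

end Groth.Agent.H24
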